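import Groth.Agent.H37.GalPts
import Mathlib

/-! Closed points = Galois orbits of `K`-points (continued). -/

set_option autoImplicit false
universe u

open CategoryTheory CategoryTheory.Limits AlgebraicGeometry

namespace Groth.Agent.H37

variable {k : Type u} [Field k] {X : Scheme.{u}} (f : X ⟶ Spec (CommRingCat.of k))

theorem resStr_eq (x : X) :
    resStr f x = CommRingCat.ofHom (algebraMap (CommRingCat.of k) (f x).asIdeal.ResidueField) ≫
      (Scheme.Spec.residueFieldIso (CommRingCat.of k) (f x)).inv ≫ f.residueFieldMap x := by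
  apply Spec.map_injective
  rw [SpecMap_resStr, Spec.map_comp, Spec.map_comp, Category.assoc,
    Scheme.Spec.map_residueFieldIso_inv_eq_fromSpecResidueField,
    Scheme.Hom.SpecMap_residueFieldMap_fromSpecResidueField]

theorem essFiniteType_resStr [LocallyOfFiniteType f] (x : X) :
    (resStr f x).hom.EssFiniteType := by
  rw [resStr_eq, CommRingCat.hom_comp, CommRingCat.hom_comp]
  refine RingHom.EssFiniteType.comp ?_ (RingHom.EssFiniteType.comp ?_ ?_)
  · have : Algebra.EssFiniteType (CommRingCat.of k) (f x).asIdeal.ResidueField := inferInstance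
    rw [CommRingCat.hom_ofHom]
    exact RingHom.essFiniteType_algebraMap.mpr this
  · exact (RingHom.FiniteType.of_surjective _ (ConcreteCategory.bijective_of_isIso
      (Scheme.Spec.residueFieldIso (CommRingCat.of k) (f x)).inv).surjective).essFiniteType
  · exact (LocallyOfFiniteType.stalkMap f x).residueFieldMap

theorem same_point_iff_galois (K : Type u) [Field K] [Algebra k K] [IsAlgClosure k K]
    (p q : Spec (CommRingCat.of K) ⟶ X)
    (hp : p ≫ f = Spec.map (CommRingCat.ofHom (algebraMap k K)))
    (hq : q ≫ f = Spec.map (CommRingCat.ofHom (algebraMap k K))) :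
    p.base (IsLocalRing.closedPoint K) = q.base (IsLocalRing.closedPoint K) ↔
      ∃ σ : K ≃ₐ[k] K, q = Spec.map (CommRingCat.ofHom σ.toRingHom) ≫ p := by
  constructor
  · intro hpq
    obtain ⟨x₁, ι₁, hx₁, rfl⟩ := exists_rep_of_point p
    obtain ⟨x₂, ι₂, hx₂, rfl⟩ := exists_rep_of_point q
    have hx : x₁ = x₂ := by rw [hx₁, hx₂]; exact hpq
    subst hx
    have h1 := resStr_comp_of_over f x₁ ι₁ hp
    have h2 := resStr_comp_of_over f x₁ ι₂ hq
    letI : Algebra k (X.residueField x₁) := (resStr f x₁).hom.toAlgebra
    let ι₁' : X.residueField x₁ →ₐ[k] K :=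
      { ι₁.hom with commutes' := fun r => congr($(h1).hom r) }
    let ι₂' : X.residueField x₁ →ₐ[k] K :=
      { ι₂.hom with commutes' := fun r => congr($(h2).hom r) }
    obtain ⟨σ, hσ⟩ := exists_algEquiv_comp_eq ι₁' ι₂'
    refine ⟨σ, ?_⟩
    rw [← Category.assoc, ← Spec.map_comp]
    congr 2
    ext a
    exact (hσ a).symm
  · rintro ⟨σ, rfl⟩
    change p.base _ = p.base ((Spec.map (CommRingCat.ofHom σ.toRingHom)).base _)
    congr 1
    exact Subsingleton.elim _ _

theorem isClosed_of_point [LocallyOfFiniteType f] (K : Type u) [Field K] [Algebra k K]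
    [Algebra.IsAlgebraic k K] (p : Spec (CommRingCat.of K) ⟶ X)
    (hp : p ≫ f = Spec.map (CommRingCat.ofHom (algebraMap k K))) :
    IsClosed ({p.base (IsLocalRing.closedPoint K)} : Set X) := by
  obtain ⟨x, ι, hx, rfl⟩ := exists_rep_of_point p
  rw [← hx]
  have h1 := resStr_comp_of_over f x ι hp
  haveI : JacobsonSpace ↥X := LocallyOfFiniteType.jacobsonSpace f
  rw [isClosed_singleton_iff_locallyOfFiniteType]
  -- `κ(x)` is finite over `k`
  letI : Algebra k (X.residueField x) := (resStr f x).hom.toAlgebra
  let ι' : X.residueField x →ₐ[k] K := { ι.hom with commutes' := fun r => congr($(h1).hom r) }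
  haveI : Algebra.IsAlgebraic k (X.residueField x) :=
    Algebra.IsAlgebraic.of_injective ι' ι'.injective
  -- essentially of finite type
  have hess : (resStr f x).hom.EssFiniteType := essFiniteType_resStr f x
  haveI : Algebra.EssFiniteType k (X.residueField x) := hess
  haveI : Module.Finite k (X.residueField x) := Algebra.finite_of_essFiniteType_of_isAlgebraic
  have hfin : (resStr f x).hom.Finite := this
  haveI : LocallyOfFiniteType (X.fromSpecResidueField x ≫ f) := by
    rw [← SpecMap_resStr]
    have : IsFinite (Spec.map (resStr f x)) := (IsFinite.SpecMap_iff _).mpr hfin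
    infer_instance
  exact locallyOfFiniteType_of_comp (X.fromSpecResidueField x) f

theorem exists_point_of_isClosed [LocallyOfFiniteType f] (K : Type u) [Field K] [Algebra k K]
    [IsAlgClosed K] (x : X) (hx : IsClosed ({x} : Set X)) :
    ∃ p : Spec (CommRingCat.of K) ⟶ X, p ≫ f = Spec.map (CommRingCat.ofHom (algebraMap k K)) ∧
      p.base (IsLocalRing.closedPoint K) = x := by
  haveI : JacobsonSpace ↥X := LocallyOfFiniteType.jacobsonSpace f
  haveI : LocallyOfFiniteType (X.fromSpecResidueField x) :=
    isClosed_singleton_iff_locallyOfFiniteType.mp hx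
  have h1 : LocallyOfFiniteType (Spec.map (resStr f x)) := by
    rw [SpecMap_resStr]; infer_instance
  have h2 : (resStr f x).hom.FiniteType :=
    (HasRingHomProperty.Spec_iff (P := @LocallyOfFiniteType)).mp h1
  letI : Algebra k (X.residueField x) := (resStr f x).hom.toAlgebra
  haveI : Algebra.FiniteType k (X.residueField x) := h2
  haveI : Module.Finite k (X.residueField x) := finite_of_finite_type_of_isJacobsonRing _ _
  let ι' : X.residueField x →ₐ[k] K := IsAlgClosed.lift
  refine ⟨Spec.map (CommRingCat.ofHom ι'.toRingHom) ≫ X.fromSpecResidueField x, ?_, ?_⟩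
  · rw [Category.assoc, ← SpecMap_resStr, ← Spec.map_comp]
    congr 1
    ext r
    exact ι'.commutes r
  · exact Scheme.fromSpecResidueField_apply x _

end Groth.Agent.H37
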