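import Groth.Agent.H37.AffStage
import Groth.Agent.H20.NA.FiniteFP

/-!
# An integral morphism to a qcqs scheme is a directed limit of finite morphisms of finite
presentation (Stacks 09YZ)

* `SubSys`: given a diagram `D'`, a limit cone `c'`, and for every index a subobject
  `ι₀ j : E₀ j ↪ D'.obj j` stable under the transition maps and through which the cone factors,
  the `E₀ j` form a diagram with the same limit.
* `IntLim`: `X → S` integral, `X = lim X_k` with `X_k → S` affine of finite presentation; the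
  finite-type ideal sheaves `I ⊆ ker (X → X_k)` with `V(I) → S` finite form a directed system
  with limit `X`.
-/

set_option autoImplicit false
universe u

open CategoryTheory Limits Opposite AlgebraicGeometry

namespace Groth.Agent.H37.SubSys

universe v₁ u₁ v₂ u₂

variable {J : Type u₁} [Category.{v₁} J] {C : Type u₂} [Category.{v₂} C] (D' : J ⥤ C)
  (E₀ : J → C) (ι₀ : ∀ j, E₀ j ⟶ D'.obj j) [∀ j, Mono (ι₀ j)]
  (h : ∀ {j j' : J} (a : j ⟶ j'), ∃ u : E₀ j ⟶ E₀ j', u ≫ ι₀ j' = ι₀ j ≫ D'.map a)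

/-- the diagram of subobjects. -/
noncomputable def subFunctor : J ⥤ C where
  obj := E₀
  map a := (h a).choose
  map_id j := by
    rw [← cancel_mono (ι₀ j), (h (𝟙 j)).choose_spec, D'.map_id, Category.comp_id, Category.id_comp]
  map_comp a b := by
    rw [← cancel_mono (ι₀ _), (h (a ≫ b)).choose_spec, Category.assoc, (h b).choose_spec,
      ← Category.assoc, (h a).choose_spec, Category.assoc, D'.map_comp]

/-- the inclusion of the diagram of subobjects. -/
noncomputable def subι : subFunctor D' E₀ ι₀ h ⟶ D' where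
  app := ι₀
  naturality _ _ a := (h a).choose_spec

variable (c' : Cone D') (hv : ∀ j, ∃ v : c'.pt ⟶ E₀ j, v ≫ ι₀ j = c'.π.app j)

/-- the cone over the diagram of subobjects. -/
noncomputable def subCone : Cone (subFunctor D' E₀ ι₀ h) where
  pt := c'.pt
  π :=
    { app := fun j => (hv j).choose
      naturality := fun j j' a => by
        apply (cancel_mono (ι₀ j')).mp
        change (𝟙 c'.pt ≫ (hv j').choose) ≫ ι₀ j' = ((hv j).choose ≫ (h a).choose) ≫ ι₀ j'
        rw [Category.id_comp, (hv j').choose_spec, Category.assoc, (h a).choose_spec,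
          ← Category.assoc, (hv j).choose_spec, c'.w] }

/-- the cone over the diagram of subobjects is a limit cone. -/
noncomputable def subIsLimit (hc' : IsLimit c') : IsLimit (subCone D' E₀ ι₀ h c' hv) where
  lift s := hc'.lift ((Cone.postcompose (subι D' E₀ ι₀ h)).obj s)
  fac s j := by
    apply (cancel_mono (ι₀ j)).mp
    change (hc'.lift ((Cone.postcompose (subι D' E₀ ι₀ h)).obj s) ≫ (hv j).choose) ≫ ι₀ j = _
    rw [Category.assoc, (hv j).choose_spec, hc'.fac]
    rfl
  uniq s m hm := by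
    apply hc'.uniq ((Cone.postcompose (subι D' E₀ ι₀ h)).obj s)
    intro j
    change m ≫ c'.π.app j = s.π.app j ≫ ι₀ j
    rw [← hm j, ← (hv j).choose_spec]
    exact (Category.assoc _ _ _).symm

end Groth.Agent.H37.SubSys

namespace Groth.Agent.H37.IntLim

open Groth.Agent.H20.IdealDirected Scheme.IdealSheafData

/-- the scheme-theoretic image of an integral morphism is integral over the base. -/
theorem isIntegralHom_imageι_comp {X Y S : Scheme.{u}} (g : X ⟶ Y) (t : Y ⟶ S) [IsAffineHom t]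
    [IsIntegralHom (g ≫ t)] : IsIntegralHom (g.imageι ≫ t) := by
  haveI : IsIntegralHom g := IsIntegralHom.of_comp g t
  haveI : IsIntegralHom (g.toImage ≫ g.imageι) := by rw [g.toImage_imageι]; infer_instance
  haveI : IsIntegralHom g.toImage := IsIntegralHom.of_comp g.toImage g.imageι
  haveI : Surjective g.toImage := inferInstance
  haveI : UniversallyClosed (g.toImage ≫ (g.imageι ≫ t)) := by
    rw [← Category.assoc, g.toImage_imageι]; infer_instance
  haveI : UniversallyClosed (g.imageι ≫ t) := UniversallyClosed.of_comp_surjective g.toImage _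
  exact IsIntegralHom.iff_universallyClosed_and_isAffineHom.mpr ⟨inferInstance, inferInstance⟩

theorem isFT_comap {X Y : Scheme.{u}} (I : Y.IdealSheafData) (hI : IsFT I) (g : X ⟶ Y) :
    IsFT (I.comap g) := by
  intro U
  haveI : LocallyOfFinitePresentation I.subschemeι :=
    Groth.Agent.H20.IdealFP.locallyOfFinitePresentation_subschemeι _ hI
  haveI : LocallyOfFinitePresentation (pullback.fst g I.subschemeι) :=
    inferInstance
  exact Groth.Agent.H20.IdealFP.ker_ideal_fg (pullback.fst g I.subschemeι) U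

theorem comap_le_ker {X Y Z : Scheme.{u}} (I : Z.IdealSheafData) (p : X ⟶ Y) (g : Y ⟶ Z)
    (h : I ≤ (p ≫ g).ker) : I.comap g ≤ p.ker := by
  rw [Scheme.Hom.ker_comp] at h
  exact le_map_iff_comap_le.mp h

section sys

variable {S : Scheme.{u}} {K : Type u} [Preorder K] (D : Kᵒᵖ ⥤ Over S) (c : Cone D)

/-- the stages. -/
abbrev Xk (k : K) : Scheme.{u} := (D.obj (op k)).left
/-- the structure maps. -/
abbrev tk (k : K) : Xk D k ⟶ S := (D.obj (op k)).hom
/-- the projections. -/
abbrev πk (k : K) : c.pt.left ⟶ Xk D k := (c.π.app (op k)).left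
/-- the transition maps. -/
abbrev τ {k k' : K} (h : k ≤ k') : Xk D k' ⟶ Xk D k := (D.map (homOfLE h).op).left

theorem τ_tk {k k' : K} (h : k ≤ k') : τ D h ≫ tk D k = tk D k' := Over.w _

theorem πk_tk (k : K) : πk D c k ≫ tk D k = c.pt.hom := Over.w _

theorem πk_τ {k k' : K} (h : k ≤ k') : πk D c k' ≫ τ D h = πk D c k := by
  have := c.w (homOfLE h).op
  exact congrArg (fun m => m.left) this

theorem τ_refl (k : K) : τ D (le_refl k) = 𝟙 _ := by
  change (D.map (𝟙 (op k))).left = _
  rw [D.map_id]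
  rfl

theorem τ_trans {k k' k'' : K} (h : k ≤ k') (h' : k' ≤ k'') :
    τ D (h.trans h') = τ D h' ≫ τ D h := by
  change (D.map ((homOfLE h').op ≫ (homOfLE h).op)).left = _
  rw [D.map_comp]
  rfl

/-- the index set: finite type ideal sheaves on a stage, contained in the kernel of the projection,
whose closed subscheme is finite over the base. -/
structure Idx2 where
  k : K
  I : (Xk D k).IdealSheafData
  le_ker : I ≤ (πk D c k).ker
  ft : IsFT I
  fin : IsFinite (I.subschemeι ≫ tk D k)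

instance : Preorder (Idx2 D c) where
  le b b' := ∃ h : b.k ≤ b'.k, b.I.comap (τ D h) ≤ b'.I
  le_refl b := ⟨le_rfl, by rw [τ_refl, comap_id]⟩
  le_trans b b' b'' := fun ⟨h, e⟩ ⟨h', e'⟩ => ⟨h.trans h', by
    rw [τ_trans D h h', comap_comp]
    exact (comap_mono _ e).trans e'⟩

variable [CompactSpace S] [QuasiSeparatedSpace S]
  (haffD : ∀ k, IsAffineHom (D.obj k).hom)
  (hfpD : ∀ k, LocallyOfFinitePresentation (D.obj k).hom)
  [IsIntegralHom c.pt.hom]

include haffD hfpD in
theorem exists_adm (k : K) : ∃ b : Idx2 D c, b.k = k := by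
  haveI : IsAffineHom (tk D k) := haffD _
  haveI : LocallyOfFinitePresentation (tk D k) := hfpD _
  haveI : IsIntegralHom (πk D c k ≫ tk D k) := by rw [πk_tk]; infer_instance
  haveI : CompactSpace (Xk D k) := QuasiCompact.compactSpace_of_compactSpace (tk D k)
  haveI : QuasiSeparatedSpace (Xk D k) := quasiSeparatedSpace_of_quasiSeparated (tk D k)
  haveI := isIntegralHom_imageι_comp (πk D c k) (tk D k)
  obtain ⟨i, hi⟩ := Groth.Agent.H20.NA.exists_stage_isFinite (πk D c k).imageι (tk D k)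
  refine ⟨⟨k, i.1, ?_, i.2.2, hi⟩, rfl⟩
  exact i.2.1.trans (le_of_eq (ker_subschemeι _))

include haffD hfpD in
theorem idx2_directed [IsDirected K (· ≤ ·)] : IsDirected (Idx2 D c) (· ≤ ·) := by
  refine ⟨fun b b' => ?_⟩
  obtain ⟨k, h1, h2⟩ := exists_ge_ge b.k b'.k
  obtain ⟨b₀, rfl⟩ := exists_adm D c haffD hfpD k
  have hJ : b₀.I ≤ b.I.comap (τ D h1) ⊔ b'.I.comap (τ D h2) ⊔ b₀.I := le_sup_right
  refine ⟨⟨b₀.k, b.I.comap (τ D h1) ⊔ b'.I.comap (τ D h2) ⊔ b₀.I, ?_, ?_, ?_⟩,
    ⟨h1, le_sup_of_le_left le_sup_left⟩, ⟨h2, le_sup_of_le_left le_sup_right⟩⟩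
  · refine sup_le (sup_le ?_ ?_) b₀.le_ker
    · apply comap_le_ker
      rw [πk_τ]
      exact b.le_ker
    · apply comap_le_ker
      rw [πk_τ]
      exact b'.le_ker
  · exact isFT_sup (isFT_sup (isFT_comap _ b.ft _) (isFT_comap _ b'.ft _)) b₀.ft
  · have e : inclusion hJ ≫ (b₀.I.subschemeι ≫ tk D b₀.k) =
        (b.I.comap (τ D h1) ⊔ b'.I.comap (τ D h2) ⊔ b₀.I).subschemeι ≫ tk D b₀.k := by
      rw [inclusion_subschemeι_assoc]
    rw [← e]
    haveI := b₀.fin
    haveI := Groth.Agent.H20.NA.isClosedImmersion_inclusion hJ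
    infer_instance

/-- the projection to the original index set. -/
def κ : Idx2 D c ⥤ K :=
  Monotone.functor (f := fun b : Idx2 D c => b.k) (fun _ _ h => h.1)

include haffD hfpD in
theorem idx2_nonempty [Nonempty K] : Nonempty (Idx2 D c) :=
  (exists_adm D c haffD hfpD (Classical.arbitrary K)).elim fun b _ => ⟨b⟩

include haffD hfpD in
theorem κ_final [IsDirected K (· ≤ ·)] [Nonempty K] : (κ D c).Final := by
  haveI := idx2_directed D c haffD hfpD
  haveI := idx2_nonempty D c haffD hfpD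
  haveI : IsFiltered (Idx2 D c) := isFiltered_of_directed_le_nonempty _
  apply Functor.final_of_exists_of_isFiltered
  · intro k
    obtain ⟨b, hb⟩ := exists_adm D c haffD hfpD k
    exact ⟨b, ⟨homOfLE hb.ge⟩⟩
  · intro d c s s'
    exact ⟨c, 𝟙 _, Subsingleton.elim _ _⟩

/-- the closed subschemes, as objects over the base. -/
noncomputable def E₀ (b : (Idx2 D c)ᵒᵖ) : Over S :=
  Over.mk (b.unop.I.subschemeι ≫ tk D b.unop.k)

/-- the inclusions. -/
noncomputable def ι₀ (b : (Idx2 D c)ᵒᵖ) : E₀ D c b ⟶ ((κ D c).op ⋙ D).obj b :=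
  Over.homMk (U := Over.mk (b.unop.I.subschemeι ≫ tk D b.unop.k)) (V := D.obj (op b.unop.k))
    b.unop.I.subschemeι rfl

omit [CompactSpace S] [QuasiSeparatedSpace S] [IsIntegralHom c.pt.hom] in
theorem ι₀_left (b : (Idx2 D c)ᵒᵖ) : (ι₀ D c b).left = b.unop.I.subschemeι := rfl

instance (b : (Idx2 D c)ᵒᵖ) : Mono (ι₀ D c b) := by
  haveI : Mono (ι₀ D c b).left := inferInstanceAs (Mono b.unop.I.subschemeι)
  exact Over.mono_of_mono_left _

omit [CompactSpace S] [QuasiSeparatedSpace S] [IsIntegralHom c.pt.hom] in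
theorem exists_u {b b' : (Idx2 D c)ᵒᵖ} (a : b ⟶ b') :
    ∃ u : E₀ D c b ⟶ E₀ D c b', u ≫ ι₀ D c b' = ι₀ D c b ≫ ((κ D c).op ⋙ D).map a := by
  obtain ⟨h, e⟩ := leOfHom a.unop
  let u₀ : b.unop.I.subscheme ⟶ b'.unop.I.subscheme :=
    IsClosedImmersion.lift b'.unop.I.subschemeι (b.unop.I.subschemeι ≫ τ D h)
      (by rw [ker_subschemeι]; exact le_map_iff_comap_le.mpr e)
  have hu₀ : u₀ ≫ b'.unop.I.subschemeι = b.unop.I.subschemeι ≫ τ D h :=
    IsClosedImmersion.lift_fac _ _ _
  refine ⟨Over.homMk (U := Over.mk (b.unop.I.subschemeι ≫ tk D b.unop.k))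
    (V := Over.mk (b'.unop.I.subschemeι ≫ tk D b'.unop.k)) u₀ ?_, ?_⟩
  · change u₀ ≫ (b'.unop.I.subschemeι ≫ tk D b'.unop.k) = b.unop.I.subschemeι ≫ tk D b.unop.k
    rw [← Category.assoc, hu₀, Category.assoc, τ_tk]
  · ext1
    exact hu₀

omit [CompactSpace S] [QuasiSeparatedSpace S] [IsIntegralHom c.pt.hom] in
theorem exists_v (b : (Idx2 D c)ᵒᵖ) :
    ∃ v : (c.whisker (κ D c).op).pt ⟶ E₀ D c b,
      v ≫ ι₀ D c b = (c.whisker (κ D c).op).π.app b := by
  let v₀ : c.pt.left ⟶ b.unop.I.subscheme :=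
    IsClosedImmersion.lift b.unop.I.subschemeι (πk D c b.unop.k)
      (by rw [ker_subschemeι]; exact b.unop.le_ker)
  have hv₀ : v₀ ≫ b.unop.I.subschemeι = πk D c b.unop.k := IsClosedImmersion.lift_fac _ _ _
  refine ⟨Over.homMk (U := c.pt) (V := Over.mk (b.unop.I.subschemeι ≫ tk D b.unop.k)) v₀ ?_, ?_⟩
  · change v₀ ≫ (b.unop.I.subschemeι ≫ tk D b.unop.k) = c.pt.hom
    rw [← Category.assoc, hv₀, πk_tk]
  · ext1
    exact hv₀

end sys

section main

/-- an affine morphism of qcqs schemes as a directed limit of affine morphisms of finite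
presentation (preorder-indexed version of `AffStage.isAffineHom_iff_limit`). -/
theorem exists_affine_system {X Y : Scheme.{u}} (f : Y ⟶ X) [IsAffineHom f]
    [CompactSpace X] [QuasiSeparatedSpace X] [CompactSpace Y] [QuasiSeparatedSpace Y] :
    ∃ (K : Type u) (_ : Preorder K) (_ : IsDirected K (fun a b => a ≤ b)) (_ : Nonempty K)
      (D : Kᵒᵖ ⥤ Over X) (c : Limits.Cone D) (_ : Limits.IsLimit c),
      (∀ k, IsAffineHom (D.obj k).hom ∧ LocallyOfFinitePresentation (D.obj k).hom) ∧
      Nonempty (c.pt ≅ Over.mk f) := by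
  obtain ⟨K, _, _, _, D, c, hc, hprops, haff, ⟨e⟩⟩ := RelApx.exists_relative f
  haveI : IsAffineHom c.pt.hom := by
    have e1 : e.hom.left ≫ f = c.pt.hom := Over.w e.hom
    rw [← e1]
    haveI : IsIso e.hom.left := (Over.forget X).map_isIso e.hom
    exact AffStage.affine_comp _ _ inferInstance ‹_›
  obtain ⟨k₀, hk₀⟩ := AffStage.exists_affine_stage D c hc (fun k => (hprops k).2.1)
    (fun k => by
      haveI := (hprops k).2.2
      exact quasiSeparatedSpace_of_quasiSeparated (D.obj k).hom) haff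
  exact ⟨AffStage.Tail k₀, inferInstance, inferInstance, inferInstance, AffStage.tailι k₀ ⋙ D,
    c.whisker (AffStage.tailι k₀), AffStage.tailIsLimit k₀ D c hc,
    fun i => ⟨hk₀ i.unop.1 i.unop.2, (hprops _).1⟩, ⟨e⟩⟩

theorem integral_comp {X Y Z : Scheme.{u}} (f : X ⟶ Y) (g : Y ⟶ Z) (hf : IsIntegralHom f)
    (hg : IsIntegralHom g) : IsIntegralHom (f ≫ g) := by infer_instance

/-- **An integral morphism to a qcqs scheme is a directed limit of finite morphisms of finite
presentation** (Stacks 09YZ). -/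
theorem exists_limit_finite_fp {X S : Scheme.{u}} (f : X ⟶ S) [IsIntegralHom f]
    [CompactSpace S] [QuasiSeparatedSpace S] :
    ∃ (I : Type u) (_ : Preorder I) (_ : IsDirected I (fun a b => a ≤ b)) (_ : Nonempty I)
      (D : Iᵒᵖ ⥤ Over S) (c : Limits.Cone D) (_ : Limits.IsLimit c),
      (∀ i, IsFinite (D.obj i).hom ∧ LocallyOfFinitePresentation (D.obj i).hom) ∧
      Nonempty (c.pt ≅ Over.mk f) := by
  haveI : CompactSpace X := QuasiCompact.compactSpace_of_compactSpace f
  haveI : QuasiSeparatedSpace X := quasiSeparatedSpace_of_quasiSeparated f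
  obtain ⟨K, _, _, _, D, c, hc, hD, ⟨e⟩⟩ := exists_affine_system f
  haveI : IsIntegralHom c.pt.hom := by
    have e1 : e.hom.left ≫ f = c.pt.hom := Over.w e.hom
    rw [← e1]
    haveI : IsIso e.hom.left := (Over.forget S).map_isIso e.hom
    exact integral_comp _ _ inferInstance ‹_›
  have haffD := fun k => (hD k).1
  have hfpD := fun k => (hD k).2
  haveI := κ_final D c haffD hfpD
  refine ⟨Idx2 D c, inferInstance, idx2_directed D c haffD hfpD, idx2_nonempty D c haffD hfpD,
    SubSys.subFunctor ((κ D c).op ⋙ D) (E₀ D c) (ι₀ D c) (exists_u D c),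
    SubSys.subCone _ _ _ _ (c.whisker (κ D c).op) (exists_v D c),
    SubSys.subIsLimit _ _ _ _ _ _
      ((Functor.Initial.isLimitWhiskerEquiv (κ D c).op c).symm hc), ?_, ⟨e⟩⟩
  intro b
  refine ⟨b.unop.fin, ?_⟩
  haveI : LocallyOfFinitePresentation b.unop.I.subschemeι :=
    Groth.Agent.H20.IdealFP.locallyOfFinitePresentation_subschemeι _ b.unop.ft
  haveI : LocallyOfFinitePresentation (tk D b.unop.k) := hfpD _
  change LocallyOfFinitePresentation (b.unop.I.subschemeι ≫ tk D b.unop.k)
  infer_instance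

end main

end Groth.Agent.H37.IntLim
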