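import Groth.Agent.H37.OrbitLC
import Mathlib

/-! Locally closed orbits without quasi-compactness of `X`; existence of closed orbits. -/

set_option autoImplicit false
universe u

open Topology CategoryTheory CategoryTheory.Limits AlgebraicGeometry MonoidalCategory
  CartesianMonoidalCategory MonObj
open scoped Set.Notation

namespace Groth.Agent.H37

section topo

variable {X : Type*} [TopologicalSpace X]

/-- a nonempty locally constructible set contains a nonempty open subset of its closure -/
theorem exists_open_inter_closure_subset' {E : Set X} (hE : IsLocallyConstructible E)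
    (hne : E.Nonempty) :
    ∃ U : Set X, IsOpen U ∧ (U ∩ closure E).Nonempty ∧ U ∩ closure E ⊆ E := by
  obtain ⟨e, he⟩ := hne
  obtain ⟨W, hWe, hW, hcons⟩ := hE e
  have heW : e ∈ W := mem_of_mem_nhds hWe
  have hne' : (W ↓∩ E).Nonempty := ⟨⟨e, heW⟩, he⟩
  obtain ⟨U', hU', hU'ne, hU'sub⟩ := exists_open_inter_closure_subset hcons hne'
  have himg : (Subtype.val '' (W ↓∩ E) : Set X) = W ∩ E := Subtype.image_preimage_coe W E
  refine ⟨Subtype.val '' U', hW.isOpenMap_subtype_val _ hU', ?_, ?_⟩
  · obtain ⟨z, hzU, hzcl⟩ := hU'ne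
    refine ⟨z.1, ⟨z, hzU, rfl⟩, ?_⟩
    rw [closure_subtype, himg] at hzcl
    exact closure_mono Set.inter_subset_right hzcl
  · rintro _ ⟨⟨z, hzU, rfl⟩, hzcl⟩
    have h1 : z ∈ closure (W ↓∩ E) := by
      rw [closure_subtype, himg]
      exact hW.inter_closure ⟨z.2, hzcl⟩
    exact hU'sub ⟨hzU, h1⟩

end topo

section general

variable {S : Scheme.{u}} {G X : Over S} [GrpObj G]

/-- an invariant set containing the image of `x` contains the orbit of `x` -/
theorem orbitSet_subset_of_isInvariantSet (a : AlgGrp.Action G X) (x : 𝟙_ (Over S) ⟶ X)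
    {W : Set X.left} (hW : NRQuot.IsInvariantSet a W) (hx : ∀ s, x.left.base s ∈ W) :
    orbitSet a x ⊆ W := by
  rintro _ ⟨g, rfl⟩
  have h1 : (a.orbitMap x).left.base g =
      a.act.left.base ((lift (𝟙 G) (toUnit G ≫ x)).left.base g) := rfl
  rw [h1]
  apply hW
  have h2 := congrArg (fun m => m.left) (lift_snd (𝟙 G) (toUnit G ≫ x))
  simp only [Over.comp_left] at h2
  have h3 := congr($(h2).base g)
  simp only [Scheme.Hom.comp_base, TopCat.hom_comp, ContinuousMap.comp_apply] at h3
  rw [h3]
  exact hx _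

theorem isInvariantSet_sInter (a : AlgGrp.Action G X) (c : Set (Set X.left))
    (hc : ∀ C ∈ c, NRQuot.IsInvariantSet a C) : NRQuot.IsInvariantSet a (⋂₀ c) := by
  intro p hp C hC
  exact hc C hC p (hp C hC)

theorem isInvariantSet_inter (a : AlgGrp.Action G X) {W₁ W₂ : Set X.left}
    (h₁ : NRQuot.IsInvariantSet a W₁) (h₂ : NRQuot.IsInvariantSet a W₂) :
    NRQuot.IsInvariantSet a (W₁ ∩ W₂) := by
  intro p hp
  exact ⟨h₁ p hp.1, h₂ p hp.2⟩

end general

section field

variable {k : Type u} [Field k]

/-- orbits of rational points are locally closed (`X` only locally of finite type) -/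
theorem isLocallyClosed_orbitSet' (G X : Over (Spec (CommRingCat.of k))) [GrpObj G]
    [LocallyOfFiniteType G.hom] [QuasiCompact G.hom]
    [LocallyOfFiniteType X.hom] (a : AlgGrp.Action G X)
    (x : 𝟙_ (Over (Spec (CommRingCat.of k))) ⟶ X) :
    IsLocallyClosed (orbitSet a x) := by
  haveI : IsLocallyNoetherian X.left := LocallyOfFiniteType.isLocallyNoetherian X.hom
  haveI : CompactSpace G.left := QuasiCompact.compactSpace_of_compactSpace G.hom
  let o := (a.orbitMap x).left
  have ho : o ≫ X.hom = G.hom := Over.w (a.orbitMap x)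
  haveI : LocallyOfFiniteType (o ≫ X.hom) := by rw [ho]; infer_instance
  haveI : LocallyOfFiniteType o := locallyOfFiniteType_of_comp o X.hom
  haveI : QuasiCompact o := inferInstance
  have hcons : IsLocallyConstructible (orbitSet a x) := by
    have h := o.isLocallyConstructible_image (s := Set.univ) IsLocallyConstructible.univ
    rwa [Set.image_univ] at h
  have hne : (orbitSet a x).Nonempty :=
    ⟨_, mem_orbitSet_self a x (Classical.arbitrary _)⟩
  obtain ⟨U, hU, hUne, hUsub⟩ := exists_open_inter_closure_subset' hcons hne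
  exact isLocallyClosed_orbitSet_of a x (isOpenMap_snd_of_field G X)
    (exists_pair_point G G) U hU hUne hUsub

/-- every nonempty compact closed invariant subset contains a closed orbit of a rational point -/
theorem exists_isClosed_orbitSet [IsAlgClosed k] (G X : Over (Spec (CommRingCat.of k))) [GrpObj G]
    [LocallyOfFiniteType G.hom] [QuasiCompact G.hom]
    [LocallyOfFiniteType X.hom] (a : AlgGrp.Action G X)
    (F : Set X.left) (hFc : IsClosed F) (hFk : IsCompact F) (hFi : NRQuot.IsInvariantSet a F)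
    (hFne : F.Nonempty) :
    ∃ x : 𝟙_ (Over (Spec (CommRingCat.of k))) ⟶ X,
      (∀ s, x.left.base s ∈ F) ∧ IsClosed (orbitSet a x) := by
  have hopen := isOpenMap_snd_of_field G X
  let 𝒮 : Set (Set X.left) :=
    {C | IsClosed C ∧ C.Nonempty ∧ NRQuot.IsInvariantSet a C ∧ C ⊆ F}
  have hF𝒮 : F ∈ 𝒮 := ⟨hFc, hFne, hFi, subset_rfl⟩
  obtain ⟨M, -, hM⟩ := zorn_superset_nonempty 𝒮 (by
    intro c hc𝒮 hchain hcne
    refine ⟨⋂₀ c, ⟨?_, ?_, ?_, ?_⟩, fun C hC => Set.sInter_subset_of_mem hC⟩
    · exact isClosed_sInter fun C hC => (hc𝒮 hC).1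
    · haveI : Nonempty c := hcne.to_subtype
      apply IsCompact.nonempty_sInter_of_directed_nonempty_isCompact_isClosed
      · intro A hA B hB
        rcases hchain.total hA hB with h | h
        · exact ⟨A, hA, subset_rfl, h⟩
        · exact ⟨B, hB, h, subset_rfl⟩
      · exact fun C hC => (hc𝒮 hC).2.1
      · exact fun C hC => hFk.of_isClosed_subset (hc𝒮 hC).1 (hc𝒮 hC).2.2.2
      · exact fun C hC => (hc𝒮 hC).1
    · exact isInvariantSet_sInter a c fun C hC => (hc𝒮 hC).2.2.1
    · obtain ⟨C, hC⟩ := hcne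
      exact (Set.sInter_subset_of_mem hC).trans (hc𝒮 hC).2.2.2) F hF𝒮
  obtain ⟨⟨hMc, hMne, hMi, hMF⟩, hMmin⟩ := hM
  haveI : JacobsonSpace X.left := LocallyOfFiniteType.jacobsonSpace X.hom
  have hcp : (M ∩ closedPoints X.left).Nonempty := by
    by_contra hcon
    rw [Set.not_nonempty_iff_eq_empty] at hcon
    have := closure_inter_closedPoints hMc
    rw [hcon, closure_empty] at this
    exact hMne.ne_empty this.symm
  obtain ⟨z, hzM, hz⟩ := hcp
  let x : 𝟙_ (Over (Spec (CommRingCat.of k))) ⟶ X :=
    Over.homMk (pointOfClosedPoint X.hom z hz) (pointOfClosedPoint_comp X.hom z hz)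
  have hxz : ∀ s, x.left.base s = z := fun s => pointOfClosedPoint_apply X.hom z hz s
  refine ⟨x, fun s => hMF (by rw [hxz]; exact hzM), ?_⟩
  have hOM : orbitSet a x ⊆ M :=
    orbitSet_subset_of_isInvariantSet a x hMi (fun s => by rw [hxz]; exact hzM)
  have hzO : z ∈ orbitSet a x := by
    have := mem_orbitSet_self a x (Classical.arbitrary _)
    rwa [hxz] at this
  have hclM : closure (orbitSet a x) ⊆ M := closure_minimal hOM hMc
  have hlc := isLocallyClosed_orbitSet' G X a x
  have hDc : IsClosed (closure (orbitSet a x) \ orbitSet a x) := by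
    have := hlc.isOpen_coborder
    rw [coborder] at this
    exact isOpen_compl_iff.mp this
  have hDi : NRQuot.IsInvariantSet a (closure (orbitSet a x) \ orbitSet a x) :=
    isInvariantSet_inter a (isInvariantSet_closure a hopen (isInvariantSet_orbitSet a x))
      (isInvariantSet_compl a (isInvariantSet_orbitSet a x))
  have hDe : closure (orbitSet a x) \ orbitSet a x = ∅ := by
    by_contra hcon
    have hDne : (closure (orbitSet a x) \ orbitSet a x).Nonempty :=
      Set.nonempty_iff_ne_empty.mpr hcon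
    have hD𝒮 : closure (orbitSet a x) \ orbitSet a x ∈ 𝒮 :=
      ⟨hDc, hDne, hDi, (Set.sdiff_subset.trans hclM).trans hMF⟩
    have := hMmin hD𝒮 (Set.sdiff_subset.trans hclM) hzM
    exact this.2 hzO
  rw [Set.sdiff_eq_empty] at hDe
  exact closure_subset_iff_isClosed.mp hDe

end field

end Groth.Agent.H37
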