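import Mathlib

set_option autoImplicit false

universe u

namespace Groth.Agent.H37.AIC

open Polynomial IsLocalRing

/-- every monic polynomial of positive degree has a root -/
def HasRoots (A : Type*) [CommRing A] : Prop :=
  ∀ f : A[X], f.Monic → f.natDegree ≠ 0 → ∃ a : A, f.IsRoot a

section integral

variable {A D : Type*} [CommRing A] [CommRing D] [IsDomain D] [Algebra A D]

/-- over a ring in which monic polynomials have roots, integral elements of a domain are in the
image -/
theorem mem_range_of_isIntegral (hA : HasRoots A) (d : D) (hd : IsIntegral A d) :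
    d ∈ (algebraMap A D).range := by
  obtain ⟨f, hf, hfd⟩ := hd
  induction' hn : f.natDegree using Nat.strong_induction_on with n ih generalizing f
  by_cases h0 : f.natDegree = 0
  · exfalso
    have : f = 1 := eq_one_of_monic_natDegree_zero hf h0
    rw [this] at hfd
    simp at hfd
  · obtain ⟨a, ha⟩ := hA f hf h0
    have hdiv : (X - C a) * (f /ₘ (X - C a)) = f := mul_divByMonic_eq_iff_isRoot.mpr ha
    set f₁ := f /ₘ (X - C a) with hf₁
    haveI : Nontrivial A := (algebraMap A D).domain_nontrivial
    have hf₁m : f₁.Monic := Monic.of_mul_monic_left (monic_X_sub_C a) (hdiv.symm ▸ hf)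
    have hdeg : f₁.natDegree < f.natDegree := by
      rw [hf₁, natDegree_divByMonic f (monic_X_sub_C a), natDegree_X_sub_C]
      omega
    have hev : (d - algebraMap A D a) * eval₂ (algebraMap A D) d f₁ = 0 := by
      rw [← hdiv, eval₂_mul] at hfd
      simpa using hfd
    rcases mul_eq_zero.mp hev with h1 | h1
    · exact ⟨a, (sub_eq_zero.mp h1).symm⟩
    · exact ih f₁.natDegree (hn ▸ hdeg) f₁ hf₁m h1 rfl

end integral

section retraction

variable (A C : Type*) [CommRing A] [IsDomain A] [IsLocalRing A] [CommRing C] [Algebra A C]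
  [Module.Flat A C] [Algebra.FiniteType A C] [Algebra.QuasiFinite A C]

/-- a flat, finite type, quasi-finite algebra over a local domain in which monic polynomials have
roots, with a prime over the maximal ideal, has a retraction -/
theorem exists_algHom (hA : HasRoots A) (r : Ideal C) [r.IsPrime]
    (hr : r.comap (algebraMap A C) = maximalIdeal A) : Nonempty (C →ₐ[A] A) := by
  haveI : r.LiesOver (maximalIdeal A) := ⟨hr.symm⟩
  haveI : (⊥ : Ideal A).IsPrime := Ideal.isPrime_bot
  obtain ⟨p, hpr, hp, hpo⟩ := Ideal.exists_ideal_le_liesOver_of_le (p := (⊥ : Ideal A))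
    (q := maximalIdeal A) r bot_le
  let D := C ⧸ p
  haveI : IsDomain D := Ideal.Quotient.isDomain p
  have hinj : Function.Injective (algebraMap A D) := by
    rw [injective_iff_map_eq_zero]
    intro a ha
    have h1 : algebraMap A C a ∈ p := by
      rw [← Ideal.Quotient.eq_zero_iff_mem]
      exact ha
    have h2 : a ∈ p.under A := h1
    rw [← hpo.over] at h2
    simpa using h2
  let rbar : Ideal D := Ideal.map (Ideal.Quotient.mk p) r
  haveI hrbar : rbar.IsPrime := Ideal.map_isPrime_of_surjective Ideal.Quotient.mk_surjective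
    (by rw [Ideal.mk_ker]; exact hpr)
  have hrbar_mem : ∀ c : C, Ideal.Quotient.mk p c ∈ rbar → c ∈ r := by
    intro c hc
    have := Ideal.mem_map_iff_of_surjective (Ideal.Quotient.mk p)
      Ideal.Quotient.mk_surjective |>.mp hc
    obtain ⟨c', hc', hcc'⟩ := this
    have h3 : c' - c ∈ p := by
      rw [← Ideal.Quotient.eq_zero_iff_mem, map_sub, hcc', sub_self]
    have h4 : c = c' - (c' - c) := by ring
    rw [h4]
    exact r.sub_mem hc' (hpr h3)
  obtain ⟨t, htr, htint, ht⟩ := Algebra.zariskisMainProperty_iff.mp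
    (Algebra.ZariskisMainProperty.of_finiteType (R := A) rbar)
  obtain ⟨a₀, ha₀⟩ := mem_range_of_isIntegral hA t htint
  have ha₀u : IsUnit a₀ := by
    by_contra hnu
    have hm : a₀ ∈ maximalIdeal A := (IsLocalRing.mem_maximalIdeal a₀).mpr hnu
    rw [← hr] at hm
    apply htr
    rw [← ha₀]
    exact Ideal.mem_map_of_mem _ hm
  have hsurj : Function.Surjective (algebraMap A D) := by
    intro x
    obtain ⟨m, hm⟩ := ht x
    obtain ⟨b, hb⟩ := mem_range_of_isIntegral hA _ hm
    obtain ⟨u, rfl⟩ := ha₀u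
    refine ⟨(↑(u⁻¹ ^ m) : A) * b, ?_⟩
    rw [map_mul, hb, ← ha₀, ← mul_assoc, ← map_pow, ← map_mul]
    have : (↑(u⁻¹ ^ m) : A) * (↑u : A) ^ m = 1 := by
      rw [← Units.val_pow_eq_pow_val, ← Units.val_mul, inv_pow, inv_mul_cancel, Units.val_one]
    rw [this, map_one, one_mul]
  let e : A ≃ₐ[A] D := AlgEquiv.ofBijective (Algebra.ofId A D) ⟨hinj, hsurj⟩
  exact ⟨e.symm.toAlgHom.comp (Ideal.Quotient.mkₐ A p)⟩

end retraction

section pi

variable {ι : Type*} {K : ι → Type*} [∀ i, Field (K i)]
  {R : Type*} [CommRing R] [Algebra R (∀ i, K i)]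

theorem hasRoots_integralClosure [∀ i, IsAlgClosed (K i)] : HasRoots (integralClosure R (∀ i, K i)) := by
  intro f hf hdeg
  let φ : integralClosure R (∀ i, K i) →+* (∀ i, K i) :=
    (integralClosure R (∀ i, K i)).val.toRingHom
  have hroot : ∀ i, ∃ ρ : K i, (f.map ((Pi.evalRingHom K i).comp φ)).IsRoot ρ := by
    intro i
    apply IsAlgClosed.exists_root
    rw [Polynomial.degree_eq_natDegree (hf.map _).ne_zero, (hf.natDegree_map _)]
    exact_mod_cast hdeg
  choose ρ hρ using hroot
  have hev : eval₂ φ ρ f = 0 := by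
    funext i
    have h1 := hρ i
    rw [IsRoot, eval_map] at h1
    have h2 : (Pi.evalRingHom K i) (eval₂ φ ρ f) = eval₂ ((Pi.evalRingHom K i).comp φ) (ρ i) f :=
      Polynomial.hom_eval₂ f φ (Pi.evalRingHom K i) ρ
    exact h2.trans h1
  have hint : IsIntegral (integralClosure R (∀ i, K i)) (ρ : ∀ i, K i) := ⟨f, hf, hev⟩
  have hρB : ρ ∈ integralClosure R (∀ i, K i) :=
    isIntegral_trans (R := R) (A := integralClosure R (∀ i, K i)) ρ hint
  refine ⟨⟨ρ, hρB⟩, ?_⟩
  rw [IsRoot]
  apply Subtype.val_injective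
  have h3 : φ (eval (⟨ρ, hρB⟩ : integralClosure R (∀ i, K i)) f) = eval₂ φ (φ ⟨ρ, hρB⟩) f := by
    rw [← eval₂_id, Polynomial.hom_eval₂]; simp
  exact h3.trans hev

open Classical in
/-- the support idempotent of an element of a product of fields -/
noncomputable def supp (x : ∀ i, K i) : ∀ i, K i := fun i => if x i = 0 then 0 else 1

theorem supp_mem (x : ∀ i, K i) : supp x ∈ integralClosure R (∀ i, K i) := by
  refine ⟨(X - C 0) * (X - C 1), (monic_X_sub_C 0).mul (monic_X_sub_C 1), ?_⟩
  rw [eval₂_mul]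
  funext i
  by_cases h : x i = 0 <;> simp [supp, h]

theorem mul_one_sub_supp (x : ∀ i, K i) : x * (1 - supp x) = 0 := by
  funext i
  by_cases h : x i = 0 <;> simp [supp, h]

theorem mul_supp (x : ∀ i, K i) : x * supp x = x := by
  funext i
  by_cases h : x i = 0 <;> simp [supp, h]

theorem supp_mul_eq_zero (w b c : ∀ i, K i) (h : w * (b * c) = 0) :
    supp w * (supp b * supp c) = 0 := by
  funext i
  have hi : w i * (b i * c i) = 0 := congrFun h i
  by_cases hw : w i = 0
  · simp [supp, hw]
  by_cases hb : b i = 0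
  · simp [supp, hb]
  by_cases hc : c i = 0
  · simp [supp, hc]
  exact absurd hi (mul_ne_zero hw (mul_ne_zero hb hc))

end pi

section loc

variable {ι : Type*} {K : ι → Type*} [∀ i, Field (K i)]
  {R : Type*} [CommRing R] [Algebra R (∀ i, K i)]

/-- the localizations of the integral closure in a product of fields at primes are domains -/
theorem isDomain_of_isLocalization_atPrime (q : Ideal (integralClosure R (∀ i, K i))) [q.IsPrime]
    (L : Type*) [CommRing L] [Algebra (integralClosure R (∀ i, K i)) L]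
    [IsLocalization.AtPrime L q] : IsDomain L := by
  haveI : IsLocalRing L := IsLocalization.AtPrime.isLocalRing L q
  have key : ∀ b : integralClosure R (∀ i, K i),
      (⟨supp b.1, supp_mem b.1⟩ : integralClosure R (∀ i, K i)) ∈ q →
        algebraMap (integralClosure R (∀ i, K i)) L b = 0 := by
    intro b hb
    have hnot : (1 - ⟨supp b.1, supp_mem b.1⟩ : integralClosure R (∀ i, K i)) ∉ q := by
      intro h1
      have : (1 : integralClosure R (∀ i, K i)) ∈ q := by
        have := q.add_mem h1 hb
        simpa using this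
      exact (Ideal.ne_top_iff_one q).mp (Ideal.IsPrime.ne_top ‹_›) this
    rw [IsLocalization.map_eq_zero_iff q.primeCompl]
    refine ⟨⟨_, hnot⟩, ?_⟩
    apply Subtype.val_injective
    have := mul_one_sub_supp b.1
    rw [mul_comm] at this
    exact this
  haveI : NoZeroDivisors L := by
    constructor
    intro x y hxy
    obtain ⟨b, u, rfl⟩ := IsLocalization.exists_mk'_eq q.primeCompl x
    obtain ⟨c, v, rfl⟩ := IsLocalization.exists_mk'_eq q.primeCompl y
    rw [← IsLocalization.mk'_mul, IsLocalization.mk'_eq_zero_iff] at hxy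
    obtain ⟨w, hw⟩ := hxy
    have hw' : w.1.1 * (b.1 * c.1) = 0 := congrArg Subtype.val hw
    have h3 := supp_mul_eq_zero _ _ _ hw'
    have h4 : (⟨supp w.1.1, supp_mem w.1.1⟩ : integralClosure R (∀ i, K i)) *
        (⟨supp b.1, supp_mem b.1⟩ * ⟨supp c.1, supp_mem c.1⟩) ∈ q := by
      have : (⟨supp w.1.1, supp_mem w.1.1⟩ : integralClosure R (∀ i, K i)) *
        (⟨supp b.1, supp_mem b.1⟩ * ⟨supp c.1, supp_mem c.1⟩) = 0 := Subtype.val_injective h3
      rw [this]; exact q.zero_mem
    have hwq : (⟨supp w.1.1, supp_mem w.1.1⟩ : integralClosure R (∀ i, K i)) ∉ q := by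
      intro hmem
      apply w.2
      have : w.1 = w.1 * ⟨supp w.1.1, supp_mem w.1.1⟩ :=
        Subtype.val_injective (mul_supp w.1.1).symm
      rw [this]
      exact q.mul_mem_left _ hmem
    have h5 := (Ideal.IsPrime.mem_or_mem ‹q.IsPrime› h4).resolve_left hwq
    rcases Ideal.IsPrime.mem_or_mem ‹q.IsPrime› h5 with h6 | h6
    · left
      rw [IsLocalization.mk'_eq_mul_mk'_one, key b h6, zero_mul]
    · right
      rw [IsLocalization.mk'_eq_mul_mk'_one, key c h6, zero_mul]
  exact ⟨⟩

end loc

section locRoots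

variable {B L : Type*} [CommRing B] [CommRing L] [Algebra B L]

/-- having roots of monic polynomials passes to localizations -/
theorem hasRoots_of_isLocalization (M : Submonoid B) [IsLocalization M L] (hB : HasRoots B) :
    HasRoots L := by
  intro f hf hdeg
  obtain ⟨u, hu⟩ := IsLocalization.exist_integer_multiples M (Finset.range (f.natDegree + 1))
    f.coeff
  set ub : L := algebraMap B L u with hub
  have hunit : IsUnit ub := IsLocalization.map_units L u
  have hlifts : scaleRoots f ub ∈ lifts (algebraMap B L) := by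
    rw [lifts_iff_coeff_lifts]
    intro i
    rw [coeff_scaleRoots]
    rcases lt_trichotomy i f.natDegree with hi | hi | hi
    · obtain ⟨b, hb⟩ := hu i (Finset.mem_range.mpr (by omega))
      refine ⟨b * (u : B) ^ (f.natDegree - i - 1), ?_⟩
      rw [map_mul, hb, map_pow, Algebra.smul_def, ← hub]
      have : f.natDegree - i = (f.natDegree - i - 1) + 1 := by omega
      rw [this, pow_succ]
      simp only [Nat.add_sub_cancel]
      ring
    · subst hi
      refine ⟨1, ?_⟩
      rw [map_one, Nat.sub_self, pow_zero, mul_one]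
      exact hf.symm
    · refine ⟨0, ?_⟩
      rw [map_zero, coeff_eq_zero_of_natDegree_lt hi, zero_mul]
  have hmonic : (scaleRoots f ub).Monic := (monic_scaleRoots_iff ub).mpr hf
  obtain ⟨g, hg, hgdeg, hgm⟩ := lifts_and_natDegree_eq_and_monic hlifts hmonic
  have hgdeg' : g.natDegree ≠ 0 := by
    rw [hgdeg, natDegree_scaleRoots]; exact hdeg
  obtain ⟨ρ, hρ⟩ := hB g hgm hgdeg'
  obtain ⟨v, hv⟩ := hunit
  refine ⟨(↑v⁻¹ : L) * algebraMap B L ρ, ?_⟩
  have h1 : eval (algebraMap B L ρ) (scaleRoots f ub) = 0 := by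
    rw [← hg, eval_map, eval₂_at_apply, hρ, map_zero]
  have h2 := scaleRoots_eval_mul f ((↑v⁻¹ : L) * algebraMap B L ρ) ub
  have h3 : ub * ((↑v⁻¹ : L) * algebraMap B L ρ) = algebraMap B L ρ := by
    rw [← hv, ← mul_assoc, Units.mul_inv, one_mul]
  rw [h3, h1] at h2
  have h4 : IsUnit (ub ^ f.natDegree) := (hv ▸ v.isUnit).pow _
  exact (h4.mul_right_eq_zero.mp h2.symm)

theorem HasRoots.of_ringEquiv {A A' : Type*} [CommRing A] [CommRing A'] (e : A ≃+* A')
    (h : HasRoots A) : HasRoots A' := by
  intro f hf hdeg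
  have hinj : Function.Injective (e.symm : A' →+* A) := e.symm.injective
  obtain ⟨a, ha⟩ := h (f.map (e.symm : A' →+* A)) (hf.map _)
    (by rw [natDegree_map_eq_of_injective hinj]; exact hdeg)
  refine ⟨e a, ?_⟩
  rw [IsRoot, eval_map] at ha
  have h1 : (e : A →+* A') (eval₂ (e.symm : A' →+* A) a f) =
      eval₂ ((e : A →+* A').comp (e.symm : A' →+* A)) (e a) f :=
    Polynomial.hom_eval₂ f (e.symm : A' →+* A) (e : A →+* A') a
  rw [ha, map_zero] at h1
  have h2 : (e : A →+* A').comp (e.symm : A' →+* A) = RingHom.id A' := by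
    ext x; simp
  rw [h2, eval₂_id] at h1
  exact h1.symm

end locRoots

end Groth.Agent.H37.AIC
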