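import Mathlib
import Groth.Agent.H37.AIC

set_option autoImplicit false

universe u

namespace Groth.Agent.H37.AICSch

open CategoryTheory Limits AlgebraicGeometry Opposite TopologicalSpace

section pi

variable {X : Type*} (Kf : X → Type*) [∀ x, Field (Kf x)]

/-- restriction of functions on a subset -/
def resPi {s t : Set X} (h : t ⊆ s) : (∀ x : s, Kf x.1) →+* (∀ x : t, Kf x.1) :=
  RingHom.pi (fun x => Pi.evalRingHom (fun x : s => Kf x.1) ⟨x.1, h x.2⟩)

theorem isLocalization_away_resPi {s t : Set X} (h : t ⊆ s) (r : ∀ x : s, Kf x.1)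
    (hr : ∀ x : s, r x ≠ 0 ↔ x.1 ∈ t) :
    letI := (resPi Kf h).toAlgebra
    IsLocalization.Away r (∀ x : t, Kf x.1) := by
  letI := (resPi Kf h).toAlgebra
  classical
  rw [IsLocalization.Away, isLocalization_iff]
  refine ⟨?_, ?_, ?_⟩
  · rintro ⟨_, n, rfl⟩
    rw [Pi.isUnit_iff]
    intro x
    exact IsUnit.mk0 _ (pow_ne_zero n ((hr ⟨x.1, h x.2⟩).mpr x.2))
  · intro z
    let zt : ∀ x : s, Kf x.1 := fun x => if hx : x.1 ∈ t then z ⟨x.1, hx⟩ else 0
    refine ⟨(zt, 1), ?_⟩
    funext x
    simp only [OneMemClass.coe_one, map_one, mul_one]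
    change z x = zt ⟨x.1, h x.2⟩
    simp [zt, x.2]
  · intro a b hab
    refine ⟨⟨r, 1, pow_one r⟩, ?_⟩
    funext x
    by_cases hx : x.1 ∈ t
    · have := congrFun hab ⟨x.1, hx⟩
      change a x = b x at this
      simp [this]
    · have : r x = 0 := by
        by_contra h0
        exact hx ((hr x).mp h0)
      simp [this]

end pi

section presheaf

variable (S : Scheme.{u})

/-- algebraic closure of the residue field at a point -/
abbrev Kf (s : S) : Type u := AlgebraicClosure (S.residueField s)

/-- the product of the algebraically closed fields over the points of an open -/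
abbrev P (U : S.Opens) : Type u := ∀ s : (U : Set S), Kf S s.1

/-- evaluation of functions -/
noncomputable def ev (U : S.Opens) : Γ(S, U) →+* P S U :=
  RingHom.pi (fun s => (algebraMap (S.residueField s.1) (Kf S s.1)).comp
    (S.evaluation U s.1 s.2).hom)

/-- restriction -/
noncomputable def res {U V : S.Opens} (h : V ≤ U) : P S U →+* P S V :=
  resPi (Kf S) (fun _ hx => h hx)

theorem res_ev {U V : S.Opens} (h : V ≤ U) :
    (ev S V).comp (S.presheaf.map (homOfLE h).op).hom = (res S h).comp (ev S U) := by
  ext f s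
  change (algebraMap (S.residueField s.1) (Kf S s.1))
      ((S.evaluation V s.1 s.2).hom ((S.presheaf.map (homOfLE h).op).hom f)) =
    (algebraMap (S.residueField s.1) (Kf S s.1)) ((S.evaluation U s.1 (h s.2)).hom f)
  congr 1
  change ((S.presheaf.map (homOfLE h).op) ≫ S.presheaf.germ V s.1 s.2 ≫ S.residue s.1) f =
    (S.presheaf.germ U s.1 (h s.2) ≫ S.residue s.1) f
  rw [← Category.assoc, S.presheaf.germ_res]

/-- the presheaf of integral closures -/
noncomputable def diag : S.Opensᵒᵖ ⥤ CommRingCat.{u} where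
  obj U :=
    letI := (ev S U.unop).toAlgebra
    .of (integralClosure Γ(S, U.unop) (P S U.unop))
  map {V U} i :=
    letI := (ev S U.unop).toAlgebra
    letI := (ev S V.unop).toAlgebra
    CommRingCat.ofHom ((res S i.unop.le).restrict _ _ fun x hx =>
      IsIntegral.map_of_comp_eq (S.presheaf.map i).hom (res S i.unop.le)
        (res_ev S i.unop.le) hx)
  map_id U := by rfl
  map_comp i j := by rfl

/-- the structure map -/
noncomputable def diagMap : S.presheaf ⟶ diag S where
  app U :=
    letI := (ev S U.unop).toAlgebra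
    CommRingCat.ofHom (algebraMap Γ(S, U.unop) (integralClosure Γ(S, U.unop) (P S U.unop)))
  naturality {U V} i := by
    ext x
    apply Subtype.ext
    exact congrArg (fun φ : Γ(S, U.unop) →+* P S V.unop => φ x) (res_ev S i.unop.le)

open Scheme.AffineZariskiSite in
theorem coequifibered_diagMap :
    ((toOpensFunctor S).op.whiskerLeft (diagMap S)).Coequifibered := by
  refine coequifibered_iff_forall_isLocalizationAway.mpr fun U r => ?_
  letI : Algebra Γ(S, U.1) (P S U.1) := (ev S U.1).toAlgebra
  letI : Algebra Γ(S, S.basicOpen r) (P S (S.basicOpen r)) := (ev S (S.basicOpen r)).toAlgebra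
  letI : Algebra (integralClosure Γ(S, U.1) (P S U.1))
      (integralClosure Γ(S, S.basicOpen r) (P S (S.basicOpen r))) :=
    ((diag S).map (homOfLE (S.basicOpen_le r)).op).hom.toAlgebra
  letI inst : Algebra (P S U.1) (P S (S.basicOpen r)) := (res S (S.basicOpen_le r)).toAlgebra
  letI : Algebra Γ(S, U.1) Γ(S, S.basicOpen r) :=
    (S.presheaf.map (homOfLE (S.basicOpen_le r)).op).hom.toAlgebra
  have : IsLocalization.Away r Γ(S, S.basicOpen r) := U.2.isLocalization_basicOpen _
  have : IsLocalization.Away (algebraMap Γ(S, U.1) (P S U.1) r) (P S (S.basicOpen r)) := by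
    refine isLocalization_away_resPi (Kf S) (fun _ hx => S.basicOpen_le r hx) (ev S U.1 r) ?_
    intro x
    have h1 := S.evaluation_ne_zero_iff_mem_basicOpen x.1 x.2 r
    change (algebraMap (S.residueField x.1) (Kf S x.1)) ((S.evaluation U.1 x.1 x.2).hom r) ≠ 0 ↔
      x.1 ∈ S.basicOpen r
    rw [map_ne_zero_iff _ (algebraMap (S.residueField x.1) (Kf S x.1)).injective]
    exact h1
  change IsLocalization.Away ((algebraMap Γ(S, U.1) (integralClosure Γ(S, U.1) (P S U.1))) r)
    (integralClosure Γ(S, S.basicOpen r) (P S (S.basicOpen r)))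
  letI : Algebra Γ(S, U.1) (P S (S.basicOpen r)) :=
    ((res S (S.basicOpen_le r)).comp (ev S U.1)).toAlgebra
  have : IsScalarTower Γ(S, U.1) (P S U.1) (P S (S.basicOpen r)) := .of_algebraMap_eq' rfl
  have : IsScalarTower Γ(S, U.1) Γ(S, S.basicOpen r) (P S (S.basicOpen r)) :=
    .of_algebraMap_eq' (res_ev S (S.basicOpen_le r)).symm
  have : IsScalarTower (integralClosure Γ(S, U.1) (P S U.1))
    (integralClosure Γ(S, S.basicOpen r) (P S (S.basicOpen r)))
    (P S (S.basicOpen r)) := .of_algebraMap_eq' rfl
  have : IsScalarTower Γ(S, U.1) (integralClosure Γ(S, U.1) (P S U.1))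
    (integralClosure Γ(S, S.basicOpen r) (P S (S.basicOpen r))) := .of_algebraMap_eq' rfl
  exact IsLocalization.Away.integralClosure r

end presheaf

section glue

variable (S : Scheme.{u})

open Scheme.AffineZariskiSite

/-- the relative gluing datum -/
noncomputable def glueData : (directedCover S).RelativeGluingData :=
  relativeGluingData (coequifibered_diagMap S)

noncomputable instance : ((glueData S).functor ⋙ Scheme.forget).IsLocallyDirected :=
  Scheme.Cover.RelativeGluingData.instIsLocallyDirectedI₀CompFunctorForgetOfIsThin ..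

/-- the "absolute integral closure" of `S` -/
noncomputable def T : Scheme.{u} := (glueData S).glued

/-- the affine charts of `T` -/
noncomputable def cover : (T S).OpenCover := (glueData S).cover

/-- the structure morphism -/
noncomputable def π : T S ⟶ S := (glueData S).toBase

lemma ι_π (U : S.affineOpens) :
    (cover S).f U ≫ π S = Spec.map ((diagMap S).app (op U.1)) ≫ U.2.fromSpec :=
  colimit.ι_desc _ _

set_option backward.isDefEq.respectTransparency.types false in
lemma π_preimage (U : S.affineOpens) : π S ⁻¹ᵁ U = ((cover S).f U).opensRange := by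
  simpa using! (glueData S).toBase_preimage_eq_opensRange_ι U

instance (U : S.affineOpens) : IsOpenImmersion ((cover S).f U) := (cover S).map_prop U

set_option backward.isDefEq.respectTransparency false in
instance : IsIntegralHom (π S) := by
  rw [IsZariskiLocalAtTarget.iff_of_iSup_eq_top (P := @IsIntegralHom) _
    (iSup_affineOpens_eq_top _)]
  intro U
  let e := IsOpenImmersion.isoOfRangeEq (π S ⁻¹ᵁ U).ι ((cover S).f U)
      (by simpa using congr($(π_preimage S U).1))
  rw [← MorphismProperty.cancel_left_of_respectsIso @IsIntegralHom e.inv,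
    ← MorphismProperty.cancel_right_of_respectsIso @IsIntegralHom _ U.2.isoSpec.hom]
  have : ((diagMap S).app (.op U)).hom.IsIntegral := by
    letI := (ev S U).toAlgebra
    change (algebraMap Γ(S, U) (integralClosure Γ(S, U) (P S U))).IsIntegral
    exact algebraMap_isIntegral_iff.mpr inferInstance
  convert! IsIntegralHom.SpecMap_iff.mpr this
  rw [← cancel_mono U.2.fromSpec]
  simp [IsAffineOpen.isoSpec_hom, e, ι_π]

theorem surjective_π : Function.Surjective (π S) := by
  intro s
  obtain ⟨U, hsU⟩ := TopologicalSpace.Opens.mem_iSup.mp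
    ((iSup_affineOpens_eq_top S).ge (Set.mem_univ s))
  letI := (ev S U.1).toAlgebra
  let χ : integralClosure Γ(S, U.1) (P S U.1) →+* Kf S s :=
    (Pi.evalRingHom (fun x : (U.1 : Set S) => Kf S x.1) ⟨s, hsU⟩).comp
      (integralClosure Γ(S, U.1) (P S U.1)).val.toRingHom
  let χ' : (diag S).obj (op U.1) ⟶ CommRingCat.of (Kf S s) := CommRingCat.ofHom χ
  let a : S.residueField s ⟶ CommRingCat.of (Kf S s) :=
    CommRingCat.ofHom (algebraMap (S.residueField s) (Kf S s))
  have h1 : (diagMap S).app (op U.1) ≫ χ' = S.evaluation U.1 s hsU ≫ a := rfl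
  have h0 : Spec.map (S.evaluation U.1 s hsU) ≫ U.2.fromSpec = S.fromSpecResidueField s := by
    have e1 : S.fromSpecResidueField s = Spec.map (S.residue s) ≫ S.fromSpecStalk s := rfl
    have e2 : U.2.fromSpecStalk hsU = Spec.map (S.presheaf.germ _ s hsU) ≫ U.2.fromSpec := rfl
    rw [e1, ← U.2.fromSpecStalk_eq_fromSpecStalk hsU, e2, ← Spec.map_comp_assoc]
    rfl
  have h2 : Spec.map χ' ≫ ((cover S).f U ≫ π S) = Spec.map a ≫ S.fromSpecResidueField s := by
    calc Spec.map χ' ≫ ((cover S).f U ≫ π S)
        = Spec.map χ' ≫ (Spec.map ((diagMap S).app (op U.1)) ≫ U.2.fromSpec) :=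
          congrArg (fun φ => Spec.map χ' ≫ φ) (ι_π S U)
      _ = Spec.map ((diagMap S).app (op U.1) ≫ χ') ≫ U.2.fromSpec := by
          rw [Spec.map_comp, Category.assoc]
      _ = Spec.map a ≫ S.fromSpecResidueField s := by
          rw [h1, Spec.map_comp, Category.assoc, h0]
  let z : Spec (CommRingCat.of (Kf S s)) := (⟨⊥, Ideal.isPrime_bot⟩ : PrimeSpectrum (Kf S s))
  refine ⟨((cover S).f U) (Spec.map χ' z), ?_⟩
  have h3 := congrArg (fun φ : Spec (CommRingCat.of (Kf S s)) ⟶ S => φ z) h2
  simp only [Scheme.Hom.comp_apply] at h3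
  exact h3.trans (Scheme.fromSpecResidueField_apply _ _)

/-- the stalks of `T S` are domains in which every monic polynomial has a root -/
theorem stalk_props (t : T S) :
    IsDomain ((T S).presheaf.stalk t) ∧ AIC.HasRoots ((T S).presheaf.stalk t) := by
  obtain ⟨U, q, rfl⟩ := (cover S).exists_eq t
  letI := (ev S U.1).toAlgebra
  let B := integralClosure Γ(S, U.1) (P S U.1)
  let q' : PrimeSpectrum B := q
  let L := (Spec (CommRingCat.of B)).presheaf.stalk q'
  letI k : Algebra B L := StructureSheaf.stalkAlgebra B q'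
  haveI : IsLocalization.AtPrime L q'.asIdeal := StructureSheaf.IsLocalization.to_stalk B q'
  have hdom : IsDomain L := AIC.isDomain_of_isLocalization_atPrime (R := Γ(S, U.1))
    (K := fun x : (U.1 : Set S) => Kf S x.1) q'.asIdeal L
  have hroots : AIC.HasRoots L :=
    AIC.hasRoots_of_isLocalization q'.asIdeal.primeCompl
      (AIC.hasRoots_integralClosure (R := Γ(S, U.1)) (K := fun x : (U.1 : Set S) => Kf S x.1))
  let e : (T S).presheaf.stalk (((cover S).f U) q) ≃+* L :=
    (asIso (((cover S).f U).stalkMap q)).commRingCatIsoToRingEquiv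
  exact ⟨e.toMulEquiv.isDomain L, hroots.of_ringEquiv e.symm⟩

end glue

end Groth.Agent.H37.AICSch
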