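import Mathlib
import Groth.Agent.H37.AICSch
import Groth.Agent.H6.SpreadLfp
import Groth.Agent.S1375

set_option autoImplicit false

universe u

namespace Groth.Agent.H37.AICSec

open CategoryTheory Limits AlgebraicGeometry Opposite TopologicalSpace IsLocalRing

theorem exists_retraction_of_affine {A C : CommRingCat.{u}} [IsDomain A] [IsLocalRing A]
    (hA : AIC.HasRoots A) (φ : A ⟶ C) (hflat : φ.hom.Flat) (hft : φ.hom.FiniteType)
    (hqf : φ.hom.QuasiFinite) (x : Spec C) (hx : Spec.map φ x = closedPoint A) :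
    ∃ σ : C ⟶ A, φ ≫ σ = 𝟙 A := by
  letI := φ.hom.toAlgebra
  haveI : Module.Flat A C := hflat
  haveI : Algebra.FiniteType A C := hft
  haveI : Algebra.QuasiFinite A C := hqf
  let x' : PrimeSpectrum C := x
  haveI : x'.asIdeal.IsPrime := x'.isPrime
  have hr : x'.asIdeal.comap (algebraMap A C) = maximalIdeal A :=
    congrArg PrimeSpectrum.asIdeal hx
  obtain ⟨σ₀⟩ := AIC.exists_algHom A C hA x'.asIdeal hr
  refine ⟨CommRingCat.ofHom σ₀.toRingHom, ?_⟩
  ext a
  exact σ₀.commutes a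

/-- an fppf cover of the spectrum of a local domain in which monic polynomials have roots has a
section -/
theorem exists_section {A : CommRingCat.{u}} [IsDomain A] [IsLocalRing A] (hA : AIC.HasRoots A)
    {Y : Scheme.{u}} (h : Y ⟶ Spec A) [Flat h] [LocallyOfFinitePresentation h] [Surjective h] :
    ∃ σ : Spec A ⟶ Y, σ ≫ h = 𝟙 _ := by
  obtain ⟨T', h', hfl, hfp, hqf, hsurj, hloc⟩ := Groth.Agent.S1375.result h
  obtain ⟨y', hy'⟩ := hsurj.surj (closedPoint A)
  obtain ⟨V, r, hy'V, hr⟩ := hloc y'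
  obtain ⟨W, hW, hy'W, hWV⟩ := exists_isAffineOpen_mem_and_subset (X := T') (x := y') (U := V) hy'V
  let C : CommRingCat.{u} := Γ(T', W)
  let q : Spec C ⟶ Spec A := hW.fromSpec ≫ h'
  haveI : Flat q := inferInstance
  haveI : LocallyOfFinitePresentation q := inferInstance
  haveI : LocallyQuasiFinite q := inferInstance
  let φ : A ⟶ C := Spec.preimage q
  have hφ : Spec.map φ = q := Spec.map_preimage q
  have h1 : φ.hom.Flat := by
    rw [← HasRingHomProperty.Spec_iff (P := @Flat), hφ]; infer_instance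
  have h2 : φ.hom.FiniteType := by
    haveI : LocallyOfFiniteType q := inferInstance
    rw [← HasRingHomProperty.Spec_iff (P := @LocallyOfFiniteType), hφ]; infer_instance
  have h3 : φ.hom.QuasiFinite := by
    rw [← HasRingHomProperty.Spec_iff (P := @LocallyQuasiFinite), hφ]; infer_instance
  let x : Spec C := hW.primeIdealOf ⟨y', hy'W⟩
  have hx : Spec.map φ x = closedPoint A := by
    rw [hφ, Scheme.Hom.comp_apply, hW.fromSpec_primeIdealOf ⟨y', hy'W⟩]
    exact hy'
  obtain ⟨σ₀, hσ₀⟩ := exists_retraction_of_affine hA φ h1 h2 h3 x hx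
  have hrange : Set.range hW.fromSpec ⊆ Set.range V.ι := by
    rw [hW.range_fromSpec, Scheme.Opens.range_ι]
    exact hWV
  let l : Spec C ⟶ (V : Scheme.{u}) := IsOpenImmersion.lift V.ι hW.fromSpec hrange
  have hl : l ≫ V.ι = hW.fromSpec := IsOpenImmersion.lift_fac _ _ _
  refine ⟨Spec.map σ₀ ≫ l ≫ r, ?_⟩
  rw [Category.assoc, Category.assoc, hr, ← Category.assoc l, hl]
  change Spec.map σ₀ ≫ q = _
  rw [← hφ, ← Spec.map_comp, hσ₀, Spec.map_id]

/-- **fppf covers are dominated, Zariski locally, by a surjective integral morphism.** -/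
theorem main {S' S : Scheme.{u}} (g : S' ⟶ S) [Flat g] [LocallyOfFinitePresentation g]
    [Surjective g] :
    ∃ (T : Scheme.{u}) (π : T ⟶ S), Surjective π ∧ IsIntegralHom π ∧
      ∀ t : ↑T, ∃ (V : T.Opens) (r : ↑V ⟶ S'), t ∈ V ∧ r ≫ g = V.ι ≫ π := by
  refine ⟨AICSch.T S, AICSch.π S, ⟨AICSch.surjective_π S⟩, inferInstance, ?_⟩
  intro t
  obtain ⟨hdom, hroots⟩ := AICSch.stalk_props S t
  let A : CommRingCat.{u} := (AICSch.T S).presheaf.stalk t
  haveI : IsDomain A := hdom
  let b : Spec A ⟶ S := (AICSch.T S).fromSpecStalk t ≫ AICSch.π S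
  obtain ⟨σ, hσ⟩ := exists_section (A := A) hroots (pullback.snd g b)
  let φ : Spec A ⟶ S' := σ ≫ pullback.fst g b
  have hφ : φ ≫ g = (AICSch.T S).fromSpecStalk t ≫ AICSch.π S := by
    rw [Category.assoc, pullback.condition, ← Category.assoc, hσ, Category.id_comp]
  obtain ⟨U, hxU, f, -, hf⟩ := Groth.Agent.H6.SpreadLfp.spread_out_of_lfp' (AICSch.π S) g φ hφ
  exact ⟨U, f, hxU, hf⟩

end Groth.Agent.H37.AICSec
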