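import Groth.Agent.H37.Seminormal2
import Mathlib.Algebra.CharP.Lemmas
import Mathlib.Data.Nat.Choose.Dvd

set_option autoImplicit false
universe u

namespace Groth.Agent.H37

variable {A : Type u} [CommRing A]

/-- in a reduced ring, `a` is determined by `a^p` and `p * a` (`p` prime) -/
theorem eq_of_pow_eq_mul_eq [IsReduced A] {p : ℕ} (hp : p.Prime) {a b : A}
    (h1 : a ^ p = b ^ p) (h2 : (p : A) * a = (p : A) * b) : a = b := by
  have hd : (p : A) * (a - b) = 0 := by linear_combination h2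
  obtain ⟨r, hr⟩ := exists_add_pow_prime_eq hp b (a - b)
  have e : (a - b) ^ p = 0 := by
    have : b + (a - b) = a := by ring
    rw [this] at hr
    linear_combination h1 - hr - b * r * hd
  have := IsNilpotent.eq_zero ⟨p, e⟩
  exact sub_eq_zero.mp this

theorem isAWNRing_iff :
    HTop.IsAWNRing A ↔
      IsReduced A ∧ (∀ x y : A, x ^ 3 = y ^ 2 → ∃ a : A, x = a ^ 2 ∧ y = a ^ 3) ∧
        ∀ p : ℕ, p.Prime → ∀ x y : A, (p : A) ^ p * x = y ^ p →
          ∃ a : A, x = a ^ p ∧ y = (p : A) * a := by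
  constructor
  · rintro ⟨h1, h2⟩
    rw [isSeminormalRing_iff] at h1
    exact ⟨h1.1, h1.2, fun p hp x y hxy => (h2 p hp x y hxy).exists⟩
  · rintro ⟨hred, h1, h2⟩
    refine ⟨isSeminormalRing_iff.mpr ⟨hred, h1⟩, ?_⟩
    intro p hp x y hxy
    obtain ⟨a, ha1, ha2⟩ := h2 p hp x y hxy
    refine ⟨a, ⟨ha1, ha2⟩, ?_⟩
    rintro b ⟨hb1, hb2⟩
    exact eq_of_pow_eq_mul_eq hp (by rw [← hb1, ← ha1]) (by rw [← hb2, ← ha2])

/-- existence of "`P`-twisted `n`-th roots" passes to localizations -/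
theorem root_of_isLocalization (M : Submonoid A) (B : Type u) [CommRing B] [Algebra A B]
    [IsLocalization M B] (P : A) (q : ℕ)
    (hA : ∀ x y : A, P ^ (q + 1) * x = y ^ (q + 1) → ∃ a : A, x = a ^ (q + 1) ∧ y = P * a)
    (x y : B) (hxy : algebraMap A B P ^ (q + 1) * x = y ^ (q + 1)) :
    ∃ a : B, x = a ^ (q + 1) ∧ y = algebraMap A B P * a := by
  obtain ⟨⟨a, s⟩, hx⟩ := IsLocalization.surj M x
  obtain ⟨⟨b, t⟩, hy⟩ := IsLocalization.surj M y
  simp only at hx hy
  set σ := algebraMap A B s with hσ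
  set τ := algebraMap A B t with hτ
  set ρ := algebraMap A B P with hρ
  have hσu : IsUnit σ := IsLocalization.map_units B s
  have hτu : IsUnit τ := IsLocalization.map_units B t
  -- a₁ = a s^q t^(q+1), b₁ = b s
  have e1 : algebraMap A B (P ^ (q + 1) * (a * s ^ q * t ^ (q + 1))) =
      algebraMap A B ((b * s) ^ (q + 1)) := by
    simp only [map_mul, map_pow]
    rw [← hx, ← hy, ← hσ, ← hτ, ← hρ]
    linear_combination (σ ^ (q + 1) * τ ^ (q + 1)) * hxy
  obtain ⟨v, hv⟩ := (IsLocalization.eq_iff_exists M B).mp e1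
  obtain ⟨c, hc1, hc2⟩ := hA ((v : A) ^ (q + 1) * (a * s ^ q * t ^ (q + 1))) ((v : A) * (b * s)) (by
    linear_combination ((v : A) ^ q) * hv)
  have hνu : IsUnit (algebraMap A B v) := IsLocalization.map_units B v
  set ν := algebraMap A B v with hν
  have hwu : IsUnit (ν * σ * τ) := (hνu.mul hσu).mul hτu
  obtain ⟨w, hw⟩ := hwu
  have hc1' : algebraMap A B c ^ (q + 1) = ν ^ (q + 1) * (x * σ * σ ^ q * τ ^ (q + 1)) := by
    rw [← map_pow, ← hc1, hx]
    simp only [map_mul, map_pow]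
    rfl
  have hc2' : ρ * algebraMap A B c = ν * (y * τ * σ) := by
    rw [hρ, ← map_mul, ← hc2, hy]
    simp only [map_mul]
    rfl
  refine ⟨algebraMap A B c * ↑w⁻¹, ?_, ?_⟩
  · have h1 : x * (w : B) ^ (q + 1) = algebraMap A B c ^ (q + 1) := by
      rw [hc1', hw]; ring
    rw [mul_pow, ← h1, mul_assoc, ← mul_pow, Units.mul_inv, one_pow, mul_one]
  · have h1 : y * (w : B) = ρ * algebraMap A B c := by
      rw [hc2', hw]; ring
    rw [← mul_assoc, ← h1, mul_assoc, Units.mul_inv, mul_one]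

/-- localizations of absolutely weakly normal rings are absolutely weakly normal -/
theorem isAWNRing_of_isLocalization (M : Submonoid A) (B : Type u) [CommRing B] [Algebra A B]
    [IsLocalization M B] (hA : HTop.IsAWNRing A) : HTop.IsAWNRing B := by
  have hsn : HTop.IsSeminormalRing B := isSeminormalRing_of_isLocalization M B hA.1
  rw [isAWNRing_iff] at hA ⊢
  rw [isSeminormalRing_iff] at hsn
  refine ⟨hsn.1, hsn.2, ?_⟩
  intro p hp x y hxy
  obtain ⟨q, rfl⟩ : ∃ q, p = q + 1 := ⟨p - 1, (Nat.sub_add_cancel hp.pos).symm⟩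
  have hP : algebraMap A B ((q + 1 : ℕ) : A) = ((q + 1 : ℕ) : B) := map_natCast _ _
  rw [← hP] at hxy ⊢
  exact root_of_isLocalization M B _ q (hA.2.2 (q + 1) hp) x y hxy

/-- the ideal of "denominators" `r` for which `r^p x`, `r y` have a common `p`-root -/
def denomIdealP [IsReduced A] (p : ℕ) (hp : p.Prime) (x y : A) (hxy : (p : A) ^ p * x = y ^ p) :
    Ideal A where
  carrier := {r | ∃ b, b ^ p = r ^ p * x ∧ (p : A) * b = r * y}
  zero_mem' := ⟨0, by simp [hp.ne_zero], by simp⟩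
  add_mem' := by
    rintro r r' ⟨b, h1, h2⟩ ⟨b', h1', h2'⟩
    refine ⟨b + b', ?_, by linear_combination h2 + h2'⟩
    rw [add_pow, add_pow, Finset.sum_mul]
    apply Finset.sum_congr rfl
    intro m hm
    have hmp : m ≤ p := Nat.lt_succ_iff.mp (Finset.mem_range.mp hm)
    -- F = b^m b'^(p-m) - r^m r'^(p-m) x satisfies p F = 0
    have hF : (p : A) * (b ^ m * b' ^ (p - m) - r ^ m * r' ^ (p - m) * x) = 0 := by
      have h0 : (p : A) ^ p * (b ^ m * b' ^ (p - m) - r ^ m * r' ^ (p - m) * x) = 0 := by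
        have e : (p : A) ^ p = (p : A) ^ m * (p : A) ^ (p - m) := by
          rw [← pow_add, Nat.add_sub_cancel' hmp]
        have e2 : y ^ p = y ^ m * y ^ (p - m) := by
          rw [← pow_add, Nat.add_sub_cancel' hmp]
        calc (p : A) ^ p * (b ^ m * b' ^ (p - m) - r ^ m * r' ^ (p - m) * x)
            = ((p : A) * b) ^ m * ((p : A) * b') ^ (p - m)
                - r ^ m * r' ^ (p - m) * ((p : A) ^ p * x) := by
              rw [mul_pow, mul_pow, mul_sub, e]; ring
          _ = 0 := by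
              rw [h2, h2', hxy, e2, mul_pow, mul_pow]; ring
      apply IsNilpotent.eq_zero
      refine ⟨p, ?_⟩
      obtain ⟨q, rfl⟩ : ∃ q, p = q + 1 := ⟨p - 1, (Nat.sub_add_cancel hp.pos).symm⟩
      rw [mul_pow, pow_succ (b ^ m * b' ^ (q + 1 - m) - r ^ m * r' ^ (q + 1 - m) * x), ← mul_assoc,
        mul_comm _ (_ ^ q), mul_assoc, h0, mul_zero]
    by_cases hm0 : m = 0
    · subst hm0
      simp only [pow_zero, one_mul, Nat.sub_zero, Nat.choose_zero_right, Nat.cast_one, mul_one]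
      rw [h1']
    by_cases hmp' : m = p
    · subst hmp'
      simp only [Nat.sub_self, pow_zero, mul_one, Nat.choose_self, Nat.cast_one]
      rw [h1]
    · have hdvd : p ∣ p.choose m :=
        hp.dvd_choose_self hm0 (lt_of_le_of_ne hmp hmp')
      obtain ⟨c, hc⟩ := hdvd
      rw [hc, Nat.cast_mul]
      linear_combination (c : A) * hF
  smul_mem' := by
    rintro c r ⟨b, h1, h2⟩
    refine ⟨c * b, ?_, ?_⟩
    · rw [smul_eq_mul, mul_pow, mul_pow, h1]; ring
    · rw [smul_eq_mul]; linear_combination c * h2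

theorem mem_denomIdealP [IsReduced A] {p : ℕ} {hp : p.Prime} {x y : A}
    {hxy : (p : A) ^ p * x = y ^ p} {r : A} :
    r ∈ denomIdealP p hp x y hxy ↔ ∃ b, b ^ p = r ^ p * x ∧ (p : A) * b = r * y := Iff.rfl

/-- absolute weak normality can be checked on a finite cover by localizations -/
theorem isAWNRing_of_span (s : Finset A) (hs : Ideal.span (s : Set A) = ⊤)
    (h : ∀ f ∈ s, HTop.IsAWNRing (Localization.Away f)) : HTop.IsAWNRing A := by
  have hsn : HTop.IsSeminormalRing A := isSeminormalRing_of_span s hs (fun f hf => (h f hf).1)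
  rw [isAWNRing_iff]
  rw [isSeminormalRing_iff] at hsn
  have hred : IsReduced A := hsn.1
  refine ⟨hsn.1, hsn.2, ?_⟩
  intro p hp x y hxy
  have hJ : denomIdealP p hp x y hxy = ⊤ := by
    apply ideal_eq_top_of_pow_mem _ s hs
    intro f hf
    obtain ⟨a, ⟨ha1, ha2⟩, -⟩ := (h f hf).2 p hp (algebraMap A _ x) (algebraMap A _ y) (by
      rw [← map_pow, ← map_natCast (algebraMap A (Localization.Away f)) p, ← map_pow, ← map_mul, hxy])
    obtain ⟨⟨c, ⟨_, k, rfl⟩⟩, hc⟩ := IsLocalization.surj (Submonoid.powers f) a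
    simp only at hc
    obtain ⟨q, rfl⟩ : ∃ q, p = q + 1 := ⟨p - 1, (Nat.sub_add_cancel hp.pos).symm⟩
    have e1 : algebraMap A (Localization.Away f) (c ^ (q + 1)) =
        algebraMap A (Localization.Away f) (x * f ^ (k * (q + 1))) := by
      rw [map_pow, ← hc, map_mul, ha1, map_pow, map_pow]
      ring
    have e2 : algebraMap A (Localization.Away f) (((q + 1 : ℕ) : A) * c) =
        algebraMap A (Localization.Away f) (y * f ^ k) := by
      rw [map_mul, ← hc, map_mul, ha2, map_natCast, map_pow]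
      ring
    rw [IsLocalization.eq_iff_exists (Submonoid.powers f)] at e1 e2
    obtain ⟨⟨_, m, rfl⟩, hm⟩ := e1
    obtain ⟨⟨_, m', rfl⟩, hm'⟩ := e2
    simp only at hm hm'
    refine ⟨k + (m + m'), ?_⟩
    rw [mem_denomIdealP]
    refine ⟨f ^ (m + m') * c, ?_, ?_⟩
    · linear_combination (f ^ (m * q + m' * (q + 1))) * hm
    · linear_combination (f ^ m) * hm'
  have h1 : (1 : A) ∈ denomIdealP p hp x y hxy := by rw [hJ]; trivial
  obtain ⟨b, hb1, hb2⟩ := h1
  exact ⟨b, by rw [hb1]; ring, by rw [hb2]; ring⟩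

end Groth.Agent.H37
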