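import Groth.Agent.H37.UHBasic
import Mathlib.AlgebraicGeometry.Morphisms.Affine
import Mathlib.AlgebraicGeometry.Morphisms.Separated
import Mathlib.AlgebraicGeometry.Morphisms.Proper

/-! Universal homeomorphisms of schemes are affine/integral; two-out-of-three. -/

set_option autoImplicit false
universe u

open CategoryTheory AlgebraicGeometry MorphismProperty

namespace Groth.Agent.H37

variable {X Y Z : Scheme.{u}}

theorem isHomeomorph_of_isUnivHomeo' {f : X ⟶ Y} (h : FlatMor.IsUnivHomeo f) :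
    IsHomeomorph f :=
  h _ _ _ IsPullback.of_id_snd

theorem isAffineHom_of_isUnivHomeo {f : X ⟶ Y} (h : FlatMor.IsUnivHomeo f) : IsAffineHom f := by
  have hh := isHomeomorph_of_isUnivHomeo' h
  apply isAffineHom_of_isInducing
  · exact hh.isInducing
  · rw [hh.surjective.range_eq]
    exact isClosed_univ

theorem isIntegralHom_of_isUnivHomeo {f : X ⟶ Y} (h : FlatMor.IsUnivHomeo f) :
    IsIntegralHom f := by
  rw [IsIntegralHom.iff_universallyClosed_and_isAffineHom]
  exact ⟨((isUnivHomeo_iff f).mp h).1, isAffineHom_of_isUnivHomeo h⟩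

theorem isUnivHomeo_iff_isIntegralHom (f : X ⟶ Y) :
    FlatMor.IsUnivHomeo f ↔ IsIntegralHom f ∧ UniversallyInjective f ∧ Surjective f := by
  constructor
  · intro h
    exact ⟨isIntegralHom_of_isUnivHomeo h, ((isUnivHomeo_iff f).mp h).2⟩
  · rintro ⟨h1, h2, h3⟩
    rw [isUnivHomeo_iff]
    rw [IsIntegralHom.iff_universallyClosed_and_isAffineHom] at h1
    exact ⟨h1.1, h2, h3⟩

end Groth.Agent.H37

namespace Groth.Agent.H37

open CategoryTheory AlgebraicGeometry MorphismProperty Limits

variable {X Y Z : Scheme.{u}}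

theorem isUnivHomeo_of_comp_left (g : X ⟶ Y) (h : Y ⟶ Z)
    (hgh : FlatMor.IsUnivHomeo (g ≫ h)) (hg : FlatMor.IsUnivHomeo g) : FlatMor.IsUnivHomeo h := by
  intro X' Y' i₁ i₂ f' H
  have h1 : IsHomeomorph (pullback.fst i₁ g ≫ f') :=
    hgh _ _ _ ((IsPullback.of_hasPullback i₁ g).paste_horiz H)
  have h2 : IsHomeomorph (pullback.fst i₁ g) :=
    hg _ _ _ (IsPullback.of_hasPullback i₁ g)
  have h3 : (f' : X' → Y') = (pullback.fst i₁ g ≫ f') ∘ (h2.homeomorph).symm := by
    funext x
    obtain ⟨y, rfl⟩ := h2.surjective x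
    have e : (h2.homeomorph).symm ((pullback.fst i₁ g) y) = y :=
      (h2.homeomorph).symm_apply_apply y
    rw [Function.comp_apply, e]
    rfl
  show IsHomeomorph (f' : X' → Y')
  rw [h3]
  exact h1.comp (h2.homeomorph).symm.isHomeomorph

theorem universallyInjective_of_comp (g : X ⟶ Y) (h : Y ⟶ Z)
    (hgh : UniversallyInjective (g ≫ h)) : UniversallyInjective g := by
  have h1 := (tfae_universallyInjective (f := g ≫ h)).out 0 1
  have h2 := (tfae_universallyInjective (f := g)).out 0 1
  rw [h2]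
  intro K _ a b hab
  apply (h1.mp hgh K)
  show a ≫ g ≫ h = b ≫ g ≫ h
  have : a ≫ g = b ≫ g := hab
  rw [← Category.assoc, this, Category.assoc]

theorem isUnivHomeo_of_comp_right (g : X ⟶ Y) (h : Y ⟶ Z)
    (hgh : FlatMor.IsUnivHomeo (g ≫ h)) (hh : FlatMor.IsUnivHomeo h) : FlatMor.IsUnivHomeo g := by
  rw [isUnivHomeo_iff] at hgh ⊢
  obtain ⟨h1, h2, h3⟩ := hgh
  haveI := isAffineHom_of_isUnivHomeo hh
  refine ⟨?_, universallyInjective_of_comp g h h2, ?_⟩
  · exact MorphismProperty.of_postcomp (W := @UniversallyClosed) (W' := @IsSeparated) g h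
      inferInstance h1
  · constructor
    intro y
    obtain ⟨x, hx⟩ := h3.surj (h y)
    refine ⟨x, ?_⟩
    apply (isHomeomorph_of_isUnivHomeo' hh).injective
    rw [← hx]
    rfl

end Groth.Agent.H37

namespace Groth.Agent.H37

open CategoryTheory AlgebraicGeometry MorphismProperty Limits

theorem isUnivHomeo_eq_inf :
    (FlatMor.IsUnivHomeo : MorphismProperty Scheme.{u}) =
      Min.min (α := MorphismProperty Scheme.{u})
        (Min.min (α := MorphismProperty Scheme.{u}) @UniversallyClosed @UniversallyInjective)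
        @Surjective := by
  ext X Y f
  rw [isUnivHomeo_iff]
  exact ⟨fun h => ⟨⟨h.1, h.2.1⟩, h.2.2⟩, fun h => ⟨h.1.1, h.1.2, h.2⟩⟩

instance isUnivHomeo_isZariskiLocalAtTarget :
    IsZariskiLocalAtTarget (FlatMor.IsUnivHomeo : MorphismProperty Scheme.{u}) := by
  rw [isUnivHomeo_eq_inf]
  infer_instance

instance isUnivHomeo_respectsIso :
    (FlatMor.IsUnivHomeo : MorphismProperty Scheme.{u}).RespectsIso := by
  rw [isUnivHomeo_eq_inf]
  infer_instance

instance isUnivHomeo_isStableUnderBaseChange :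
    (FlatMor.IsUnivHomeo : MorphismProperty Scheme.{u}).IsStableUnderBaseChange := by
  rw [isUnivHomeo_eq_inf]
  infer_instance

instance isUnivHomeo_isStableUnderComposition :
    (FlatMor.IsUnivHomeo : MorphismProperty Scheme.{u}).IsStableUnderComposition := by
  rw [isUnivHomeo_eq_inf]
  infer_instance

/-- a property local at the target holds if it holds for base changes over an open cover -/
theorem of_isPullback_cover {P : MorphismProperty Scheme.{u}} [IsZariskiLocalAtTarget P]
    {X Y : Scheme.{u}} (f : X ⟶ Y) (𝒰 : Y.OpenCover)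
    (V : 𝒰.I₀ → Scheme.{u}) (g : ∀ i, V i ⟶ X) (f' : ∀ i, V i ⟶ 𝒰.X i)
    (h : ∀ i, IsPullback (f' i) (g i) (𝒰.f i) f) (hf' : ∀ i, P (f' i)) : P f := by
  apply IsZariskiLocalAtTarget.of_openCover 𝒰
  intro i
  have h1 : P ((h i).flip.isoPullback.inv ≫ f' i) :=
    (MorphismProperty.cancel_left_of_respectsIso P _ _).mpr (hf' i)
  have e : pullback.snd f (𝒰.f i) = (h i).flip.isoPullback.inv ≫ f' i := by
    rw [Iso.eq_inv_comp]
    exact (h i).flip.isoPullback_hom_snd
  have h2 : P (pullback.snd f (𝒰.f i)) := by rw [e]; exact h1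
  exact h2

end Groth.Agent.H37
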