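import Groth.Agent.H37.UHAwn3
import Groth.Agent.H37.UHScheme
import Mathlib.AlgebraicGeometry.Sites.SmallAffineZariski
import Mathlib.AlgebraicGeometry.RelativeGluing

/-! The absolute weak normalization of a scheme, by relative gluing. -/

set_option autoImplicit false
universe u

open CategoryTheory Limits AlgebraicGeometry AlgebraicGeometry.Scheme

namespace Groth.Agent.H37

variable (X : Scheme.{u})

/-- the presheaf of absolute weak normalizations of the rings of sections -/
noncomputable def awnPresheaf : X.Opensᵒᵖ ⥤ CommRingCat.{u} where
  obj U := CommRingCat.of (AWNz Γ(X, U.unop))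
  map i := CommRingCat.ofHom (awnMap (X.presheaf.map i).hom)
  map_id U := by
    rw [X.presheaf.map_id]
    apply CommRingCat.hom_ext
    exact awnMap_id _
  map_comp i j := by
    rw [X.presheaf.map_comp]
    apply CommRingCat.hom_ext
    exact awnMap_comp _ _

/-- the structure map to the presheaf of absolute weak normalizations -/
noncomputable def awnPresheafMap : X.presheaf ⟶ awnPresheaf X where
  app U := CommRingCat.ofHom (awnι Γ(X, U.unop))
  naturality U V i := by
    apply CommRingCat.hom_ext
    exact (awnMap_comp_awnι (X.presheaf.map i).hom).symm

theorem coequifibered_awnPresheafMap :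
    ((AffineZariskiSite.toOpensFunctor X).op.whiskerLeft (awnPresheafMap X)).Coequifibered := by
  refine AffineZariskiSite.coequifibered_iff_forall_isLocalizationAway.mpr fun U r ↦ ?_
  exact isLocalization_awnMap (X.presheaf.map (homOfLE (X.basicOpen_le r)).op).hom r
    (U.2.isLocalization_of_eq_basicOpen r (homOfLE (X.basicOpen_le r)) rfl)

/-- the relative gluing data of the absolute weak normalization -/
noncomputable def awnGlueData :=
  AffineZariskiSite.relativeGluingData (coequifibered_awnPresheafMap X)

instance : ((awnGlueData X).functor ⋙ Scheme.forget).IsLocallyDirected :=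
  Cover.RelativeGluingData.instIsLocallyDirectedI₀CompFunctorForgetOfIsThin ..

/-- the absolute weak normalization of a scheme -/
noncomputable def awnScheme : Scheme.{u} := (awnGlueData X).glued

/-- the cover of the absolute weak normalization by the spectra of the absolute weak
normalizations of the rings of sections over affine opens -/
noncomputable def awnOpenCover : (awnScheme X).OpenCover := (awnGlueData X).cover

/-- the structure morphism of the absolute weak normalization -/
noncomputable def awnν : awnScheme X ⟶ X := (awnGlueData X).toBase

theorem ι_awnν (U : X.affineOpens) :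
    (awnOpenCover X).f U ≫ awnν X =
      Spec.map ((awnPresheafMap X).app (.op U.1)) ≫ U.2.fromSpec :=
  colimit.ι_desc _ _

theorem isPullback_awnν (U : X.affineOpens) :
    IsPullback ((awnGlueData X).natTrans.app U) ((awnOpenCover X).f U) U.1.ι (awnν X) :=
  (awnGlueData X).isPullback_natTrans_ι_toBase U

theorem isUnivHomeo_awnν : FlatMor.IsUnivHomeo (awnν X) := by
  refine of_isPullback_cover (P := FlatMor.IsUnivHomeo) (awnν X)
    (AffineZariskiSite.directedCover X) _ _ _ (fun U => isPullback_awnν X U) ?_
  intro U
  have h1 : FlatMor.IsUnivHomeo (Spec.map ((awnPresheafMap X).app (.op U.1))) :=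
    (isUnivHomeo_SpecMap_iff' _).mpr ringUH_AWNz
  have h2 : FlatMor.IsUnivHomeo
      (Spec.map ((awnPresheafMap X).app (.op U.1)) ≫ U.2.isoSpec.inv) :=
    (MorphismProperty.cancel_right_of_respectsIso FlatMor.IsUnivHomeo _ _).mpr h1
  exact h2

end Groth.Agent.H37
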