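import Groth.Agent.H37.AWNGlue

/-! The universal property of the absolute weak normalization of a scheme. -/

set_option autoImplicit false
universe u

open CategoryTheory Limits AlgebraicGeometry AlgebraicGeometry.Scheme

namespace Groth.Agent.H37

variable {X Y : Scheme.{u}}

/-- a universal homeomorphism induces universal homeomorphisms on rings of sections over affine
opens -/
theorem ringUH_app (π : Y ⟶ X) (hπ : FlatMor.IsUnivHomeo π) {U : X.Opens} (hU : IsAffineOpen U) :
    RingUH (π.app U).hom := by
  haveI := isAffineHom_of_isUnivHomeo hπ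
  have hV : IsAffineOpen (π ⁻¹ᵁ U) := hU.preimage π
  have h1 : FlatMor.IsUnivHomeo (π ∣_ U) := IsZariskiLocalAtTarget.restrict hπ U
  have h2 : Spec.map (π.app U) = hV.isoSpec.inv ≫ π ∣_ U ≫ hU.isoSpec.hom := by
    rw [Iso.eq_inv_comp]
    exact Scheme.Opens.toSpecΓ_naturality π U
  have h3 : FlatMor.IsUnivHomeo (Spec.map (π.app U)) := by
    rw [h2]
    exact (MorphismProperty.cancel_left_of_respectsIso FlatMor.IsUnivHomeo _ _).mpr
      ((MorphismProperty.cancel_right_of_respectsIso FlatMor.IsUnivHomeo _ _).mpr h1)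
  exact (isUnivHomeo_SpecMap_iff' _).mp h3

end Groth.Agent.H37

namespace Groth.Agent.H37

open CategoryTheory Limits AlgebraicGeometry AlgebraicGeometry.Scheme

variable {X Y : Scheme.{u}}

set_option backward.defeqAttrib.useBackward true in
set_option backward.isDefEq.respectTransparency false in
/-- the canonical morphism from the absolute weak normalization to a universal homeomorphism -/
noncomputable def awnDesc (π : Y ⟶ X) (hπ : FlatMor.IsUnivHomeo π) : awnScheme X ⟶ Y := by
  haveI := isAffineHom_of_isUnivHomeo hπ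
  refine colimit.desc _
    { pt := Y
      ι :=
        { app := fun U => Spec.map (CommRingCat.ofHom (awnLift (π.app U.1).hom (ringUH_app π hπ U.2))) ≫
            (U.2.preimage π).fromSpec
          naturality := ?_ } }
  intro U V i
  dsimp [awnGlueData, AffineZariskiSite.relativeGluingData]
  rw [Category.comp_id, ← Spec.map_comp_assoc,
    ← (V.2.preimage π).map_fromSpec (U.2.preimage π)
      (homOfLE (π.preimage_mono (AffineZariskiSite.toOpens_mono i.le))).op,
    ← Spec.map_comp_assoc]
  congr 2
  apply CommRingCat.hom_ext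
  exact awnLift_naturality (π.app V.1).hom (ringUH_app π hπ V.2) (π.app U.1).hom
    (ringUH_app π hπ U.2) _ _ (by
      have := π.naturality (homOfLE (AffineZariskiSite.toOpens_mono i.le)).op
      exact congrArg CommRingCat.Hom.hom this.symm)

end Groth.Agent.H37

namespace Groth.Agent.H37

open CategoryTheory Limits AlgebraicGeometry AlgebraicGeometry.Scheme

variable {X Y : Scheme.{u}}

set_option backward.defeqAttrib.useBackward true in
set_option backward.isDefEq.respectTransparency false in
theorem ι_awnDesc (π : Y ⟶ X) (hπ : FlatMor.IsUnivHomeo π) (U : X.affineOpens) :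
    haveI := isAffineHom_of_isUnivHomeo hπ
    (awnOpenCover X).f U ≫ awnDesc π hπ =
      Spec.map (CommRingCat.ofHom (awnLift (π.app U.1).hom (ringUH_app π hπ U.2))) ≫
        (U.2.preimage π).fromSpec :=
  colimit.ι_desc _ _

set_option backward.defeqAttrib.useBackward true in
set_option backward.isDefEq.respectTransparency false in
theorem awnDesc_comp (π : Y ⟶ X) (hπ : FlatMor.IsUnivHomeo π) : awnDesc π hπ ≫ π = awnν X := by
  haveI := isAffineHom_of_isUnivHomeo hπ
  refine (awnOpenCover X).hom_ext _ _ fun U => ?_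
  have h1 := ι_awnDesc π hπ U
  have h2 := ι_awnν X U
  rw [h2, ← Category.assoc, h1, Category.assoc,
    ← IsAffineOpen.SpecMap_appLE_fromSpec π U.2 (U.2.preimage π) le_rfl,
    ← Spec.map_comp_assoc]
  congr 2
  apply CommRingCat.hom_ext
  rw [← Scheme.Hom.app_eq_appLE]
  exact awnLift_comp (π.app U.1).hom (ringUH_app π hπ U.2)

end Groth.Agent.H37

namespace Groth.Agent.H37

open CategoryTheory Limits AlgebraicGeometry AlgebraicGeometry.Scheme

variable {X Y : Scheme.{u}}

set_option backward.defeqAttrib.useBackward true in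
set_option backward.isDefEq.respectTransparency false in
theorem awnDesc_unique (π : Y ⟶ X) (hπ : FlatMor.IsUnivHomeo π) (h : awnScheme X ⟶ Y)
    (hh : h ≫ π = awnν X) : h = awnDesc π hπ := by
  haveI := isAffineHom_of_isUnivHomeo hπ
  refine (awnOpenCover X).hom_ext _ _ fun U => ?_
  rw [ι_awnDesc π hπ U]
  have hV : IsAffineOpen (π ⁻¹ᵁ U.1) := U.2.preimage π
  set g := (awnOpenCover X).f U ≫ h with hg
  have hgπ : g ≫ π = Spec.map ((awnPresheafMap X).app (.op U.1)) ≫ U.2.fromSpec := by
    rw [hg, Category.assoc, hh, ι_awnν]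
  have hrange : Set.range g ⊆ Set.range hV.fromSpec := by
    rw [hV.range_fromSpec]
    rintro _ ⟨x, rfl⟩
    show π (g x) ∈ U.1
    rw [← Scheme.Hom.comp_apply, hgπ, Scheme.Hom.comp_apply]
    have : U.2.fromSpec (Spec.map ((awnPresheafMap X).app (.op U.1)) x) ∈
        Set.range U.2.fromSpec := ⟨_, rfl⟩
    rw [U.2.range_fromSpec] at this
    exact this
  set g' := IsOpenImmersion.lift hV.fromSpec g hrange with hg'
  have hfac : g' ≫ hV.fromSpec = g := IsOpenImmersion.lift_fac _ _ _
  set φ := Spec.preimage g' with hφ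
  have hφg : Spec.map φ = g' := Spec.map_preimage g'
  have hcomp : π.app U.1 ≫ φ = (awnPresheafMap X).app (.op U.1) := by
    apply Spec.map_injective
    rw [← cancel_mono U.2.fromSpec, Spec.map_comp, Category.assoc,
      Scheme.Hom.app_eq_appLE, IsAffineOpen.SpecMap_appLE_fromSpec π U.2 hV le_rfl,
      hφg, ← Category.assoc, hfac, hgπ]
  have hlift : φ.hom = awnLift (π.app U.1).hom (ringUH_app π hπ U.2) :=
    awnLift_unique _ _ _ (congrArg CommRingCat.Hom.hom hcomp)
  rw [← hfac, ← hφg]
  congr 2
  apply CommRingCat.hom_ext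
  exact hlift

end Groth.Agent.H37

namespace Groth.Agent.H37

open CategoryTheory Limits AlgebraicGeometry AlgebraicGeometry.Scheme

theorem isAWNormalization_awnν (X : Scheme.{u}) : HTop.IsAWNormalization (awnν X) :=
  ⟨isUnivHomeo_awnν X, fun _ π hπ =>
    ⟨awnDesc π hπ, awnDesc_comp π hπ, fun h hh => awnDesc_unique π hπ h hh⟩⟩

end Groth.Agent.H37
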