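import Groth.Agent.H37.AWN
import Mathlib.AlgebraicGeometry.AffineScheme

set_option autoImplicit false
universe u

open CategoryTheory AlgebraicGeometry

namespace Groth.Agent.H37

theorem isSeminormalRing_of_ringEquiv {A B : Type u} [CommRing A] [CommRing B] (e : A ≃+* B)
    (hA : HTop.IsSeminormalRing A) : HTop.IsSeminormalRing B := by
  intro x y hxy
  obtain ⟨a, ⟨ha1, ha2⟩, huniq⟩ := hA (e.symm x) (e.symm y) (by rw [← map_pow, ← map_pow, hxy])
  refine ⟨e a, ⟨?_, ?_⟩, ?_⟩
  · rw [← map_pow, ← ha1, e.apply_symm_apply]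
  · rw [← map_pow, ← ha2, e.apply_symm_apply]
  · rintro b ⟨hb1, hb2⟩
    have := huniq (e.symm b) ⟨by rw [← map_pow, ← hb1], by rw [← map_pow, ← hb2]⟩
    rw [← this, e.apply_symm_apply]

theorem isAWNRing_of_ringEquiv {A B : Type u} [CommRing A] [CommRing B] (e : A ≃+* B)
    (hA : HTop.IsAWNRing A) : HTop.IsAWNRing B := by
  refine ⟨isSeminormalRing_of_ringEquiv e hA.1, ?_⟩
  intro p hp x y hxy
  obtain ⟨a, ⟨ha1, ha2⟩, huniq⟩ := hA.2 p hp (e.symm x) (e.symm y) (by
    rw [← map_pow, ← hxy, map_mul, map_pow, map_natCast])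
  refine ⟨e a, ⟨?_, ?_⟩, ?_⟩
  · rw [← map_pow, ← ha1, e.apply_symm_apply]
  · rw [← map_natCast e, ← map_mul, ← ha2, e.apply_symm_apply]
  · rintro b ⟨hb1, hb2⟩
    have := huniq (e.symm b) ⟨by rw [← map_pow, ← hb1], by
      rw [hb2, map_mul, map_natCast]⟩
    rw [← this, e.apply_symm_apply]

/-- A ring property that is iso-invariant, passes to `A_f` and can be checked on a finite
standard cover is "affine-local": it holds on some affine neighbourhood of every point iff it
holds on all affine opens. -/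
theorem affine_local_of_ringProp (Q : ∀ (A : Type u) [CommRing A], Prop)
    (hiso : ∀ (A B : Type u) [CommRing A] [CommRing B], (A ≃+* B) → Q A → Q B)
    (hloc : ∀ (A : Type u) [CommRing A] (f : A), Q A → Q (Localization.Away f))
    (hspan : ∀ (A : Type u) [CommRing A] (s : Finset A), Ideal.span (s : Set A) = ⊤ →
      (∀ f ∈ s, Q (Localization.Away f)) → Q A)
    (X : Scheme.{u}) :
    (∀ x : X, ∃ U : X.affineOpens, x ∈ (U : X.Opens) ∧ Q Γ(X, U)) ↔
      ∀ U : X.affineOpens, Q Γ(X, U) := by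
  constructor
  · intro h V
    choose U hxU hQU using h
    refine of_affine_open_cover (P := fun W : X.affineOpens => Q Γ(X, W)) U ?_ V ?_ ?_ hQU
    · rw [eq_top_iff]
      intro x _
      exact TopologicalSpace.Opens.mem_iSup.mpr ⟨x, hxU x⟩
    · intro W f hQ
      have := W.2.isLocalization_basicOpen f
      exact hiso _ _ (IsLocalization.algEquiv (Submonoid.powers f) (Localization.Away f)
        Γ(X, X.basicOpen f)).toRingEquiv (hloc _ f hQ)
    · intro W s hs h
      refine hspan _ s hs (fun f hf => ?_)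
      have := W.2.isLocalization_basicOpen f
      exact hiso _ _ (IsLocalization.algEquiv (Submonoid.powers f) (Localization.Away f)
        Γ(X, X.basicOpen f)).symm.toRingEquiv (h ⟨f, hf⟩)
  · intro h x
    obtain ⟨_, ⟨W, hW, rfl⟩, hxW, -⟩ :=
      X.isBasis_affineOpens.exists_subset_of_mem_open (Set.mem_univ x) isOpen_univ
    exact ⟨⟨W, hW⟩, hxW, h ⟨W, hW⟩⟩

end Groth.Agent.H37
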