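import Groth.Agent.H37.AWNGlue2
import Groth.Agent.S7420
import Mathlib.AlgebraicGeometry.Morphisms.IsIso

/-! Properties of the absolute weak normalization of a scheme. -/

set_option autoImplicit false
universe u

open CategoryTheory Limits AlgebraicGeometry AlgebraicGeometry.Scheme

namespace Groth.Agent.H37

theorem isAWN_iff_forall (X : Scheme.{u}) :
    HTop.IsAWN X ↔ ∀ U : X.affineOpens, HTop.IsAWNRing Γ(X, U) :=
  (Groth.Agent.S7420.result X).2

/-- being absolutely weakly normal is invariant under isomorphism -/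
theorem isAWN_of_iso {Y Y' : Scheme.{u}} (e : Y ≅ Y') (h : HTop.IsAWN Y) : HTop.IsAWN Y' := by
  intro y'
  obtain ⟨U, hyU, hU⟩ := h (e.inv y')
  refine ⟨⟨e.inv ⁻¹ᵁ U.1, U.2.preimage_of_isIso e.inv⟩, hyU, ?_⟩
  exact isAWNRing_of_ringEquiv (asIso (e.inv.app U.1)).commRingCatIsoToRingEquiv hU

instance isAffine_awnOpenCover_X (X : Scheme.{u}) (U : (awnOpenCover X).I₀) :
    IsAffine ((awnOpenCover X).X U) :=
  inferInstanceAs (IsAffine (Spec (CommRingCat.of (AWNz Γ(X, U.1)))))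

/-- the absolute weak normalization of a scheme is absolutely weakly normal -/
theorem isAWN_awnScheme (X : Scheme.{u}) : HTop.IsAWN (awnScheme X) := by
  intro x
  obtain ⟨U, y, hy⟩ := (awnOpenCover X).exists_eq x
  have haff : IsAffineOpen (((awnOpenCover X).f U) ''ᵁ ⊤) :=
    (isAffineOpen_top _).image_of_isOpenImmersion ((awnOpenCover X).f U)
  refine ⟨⟨_, haff⟩, ⟨y, trivial, hy⟩, ?_⟩
  have e : Γ(awnScheme X, ((awnOpenCover X).f U) ''ᵁ ⊤) ≅
      CommRingCat.of (AWNz Γ(X, U.1)) :=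
    ((awnOpenCover X).f U).appIso ⊤ ≪≫ Scheme.ΓSpecIso _
  exact isAWNRing_of_ringEquiv e.commRingCatIsoToRingEquiv.symm
    (isAWNRing_of_isRingAWN isRingAWN_AWNz)

instance isReduced_awnScheme (X : Scheme.{u}) : IsReduced (awnScheme X) := by
  have (i : _) : IsReduced ((awnOpenCover X).X i) := by
    have : _root_.IsReduced (AWNz Γ(X, i.1)) := inferInstance
    show IsReduced (Spec (CommRingCat.of (AWNz Γ(X, i.1))))
    infer_instance
  exact .of_openCover _ (awnOpenCover X)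

/-- a universal homeomorphism from a reduced scheme to an absolutely weakly normal scheme is an
isomorphism -/
theorem isIso_of_isUnivHomeo_of_isAWN {Z Y : Scheme.{u}} (h : Z ⟶ Y)
    (hh : FlatMor.IsUnivHomeo h) (hY : HTop.IsAWN Y) [IsReduced Z] : IsIso h := by
  haveI := isAffineHom_of_isUnivHomeo hh
  have hY' := (isAWN_iff_forall Y).mp hY
  have key : ∀ U : Y.affineOpens, IsIso (h ∣_ U.1) := by
    intro U
    have hb := bijective_of_ringUH_of_isAWNRing (h.app U.1).hom (ringUH_app h hh U.2) (hY' U)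
    have h1 : IsIso (h.app U.1) := (ConcreteCategory.isIso_iff_bijective _).mpr hb
    exact (isIso_morphismRestrict_iff_isIso_app (f := h) U.2).mpr h1
  exact (IsZariskiLocalAtTarget.iff_of_iSup_eq_top (P := MorphismProperty.isomorphisms Scheme)
    (fun U : Y.affineOpens => U.1) (iSup_affineOpens_eq_top Y)).mpr key

end Groth.Agent.H37

namespace Groth.Agent.H37

open CategoryTheory Limits AlgebraicGeometry AlgebraicGeometry.Scheme

variable {X X₁ X₂ Y : Scheme.{u}}

/-- two absolute weak normalizations are uniquely isomorphic -/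
theorem exists_iso_of_isAWNormalization {ν₁ : X₁ ⟶ X} {ν₂ : X₂ ⟶ X}
    (h₁ : HTop.IsAWNormalization ν₁) (h₂ : HTop.IsAWNormalization ν₂) :
    ∃ e : X₁ ≅ X₂, e.hom ≫ ν₂ = ν₁ := by
  obtain ⟨a, ha, -⟩ := h₁.2 X₂ ν₂ h₂.1
  obtain ⟨b, hb, -⟩ := h₂.2 X₁ ν₁ h₁.1
  obtain ⟨c, -, hc⟩ := h₁.2 X₁ ν₁ h₁.1
  obtain ⟨d, -, hd⟩ := h₂.2 X₂ ν₂ h₂.1
  have e1 : a ≫ b = 𝟙 X₁ := by
    rw [hc (a ≫ b) (by show (a ≫ b) ≫ ν₁ = ν₁; rw [Category.assoc, hb, ha]),
      hc (𝟙 X₁) (Category.id_comp _)]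
  have e2 : b ≫ a = 𝟙 X₂ := by
    rw [hd (b ≫ a) (by show (b ≫ a) ≫ ν₂ = ν₂; rw [Category.assoc, ha, hb]),
      hd (𝟙 X₂) (Category.id_comp _)]
  exact ⟨⟨a, b, e1, e2⟩, ha⟩

theorem isAWNormalization_of_iso {X' X'' : Scheme.{u}} {ν : X' ⟶ X} (e : X'' ≅ X')
    (hν : HTop.IsAWNormalization ν) : HTop.IsAWNormalization (e.hom ≫ ν) := by
  refine ⟨(MorphismProperty.cancel_left_of_respectsIso FlatMor.IsUnivHomeo _ _).mpr hν.1, ?_⟩
  intro Y π hπ
  obtain ⟨h, hh, huniq⟩ := hν.2 Y π hπ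
  refine ⟨e.hom ≫ h, by show (e.hom ≫ h) ≫ π = e.hom ≫ ν; rw [Category.assoc, hh], ?_⟩
  intro h' hh'
  have : e.inv ≫ h' = h := huniq _ (by
    show (e.inv ≫ h') ≫ π = ν
    rw [Category.assoc, hh', Iso.inv_hom_id_assoc])
  rw [← this, Iso.hom_inv_id_assoc]

/-- an absolute weak normalization is absolutely weakly normal -/
theorem isAWN_of_isAWNormalization {X' : Scheme.{u}} {ν : X' ⟶ X}
    (hν : HTop.IsAWNormalization ν) : HTop.IsAWN X' := by
  obtain ⟨e, -⟩ := exists_iso_of_isAWNormalization hν (isAWNormalization_awnν X)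
  exact isAWN_of_iso e.symm (isAWN_awnScheme X)

theorem isReduced_of_isAWNormalization {X' : Scheme.{u}} {ν : X' ⟶ X}
    (hν : HTop.IsAWNormalization ν) : IsReduced X' := by
  obtain ⟨e, -⟩ := exists_iso_of_isAWNormalization hν (isAWNormalization_awnν X)
  exact isReduced_of_isOpenImmersion e.hom

theorem isIso_iff_isAWN {X' : Scheme.{u}} (ν : X' ⟶ X) (hν : HTop.IsAWNormalization ν)
    (π : Y ⟶ X) (hπ : FlatMor.IsUnivHomeo π) (h : X' ⟶ Y) (hh : h ≫ π = ν) :
    IsIso h ↔ HTop.IsAWN Y := by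
  constructor
  · intro hiso
    exact isAWN_of_iso (asIso h) (isAWN_of_isAWNormalization hν)
  · intro hY
    haveI := isReduced_of_isAWNormalization hν
    have hU : FlatMor.IsUnivHomeo h := isUnivHomeo_of_comp_right h π (by rw [hh]; exact hν.1) hπ
    exact isIso_of_isUnivHomeo_of_isAWN h hU hY

theorem isAWN_iff_isAWNormalization_id (X : Scheme.{u}) :
    HTop.IsAWN X ↔ HTop.IsAWNormalization (𝟙 X) := by
  constructor
  · intro hX
    haveI : IsIso (awnν X) := isIso_of_isUnivHomeo_of_isAWN _ (isUnivHomeo_awnν X) hX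
    have := isAWNormalization_of_iso (asIso (awnν X)).symm (isAWNormalization_awnν X)
    simpa using this
  · intro h
    exact isAWN_of_isAWNormalization h

theorem isAWN_iff_forall_isIso (X : Scheme.{u}) :
    HTop.IsAWN X ↔ ∀ (Y : Scheme.{u}) (π : Y ⟶ X), FlatMor.IsUnivHomeo π →
      AlgebraicGeometry.IsReduced Y → IsIso π := by
  constructor
  · intro hX Y π hπ hY
    exact isIso_of_isUnivHomeo_of_isAWN π hπ hX
  · intro h
    haveI : IsIso (awnν X) := h _ (awnν X) (isUnivHomeo_awnν X) inferInstance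
    exact isAWN_of_iso (asIso (awnν X)) (isAWN_awnScheme X)

end Groth.Agent.H37
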