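import Mathlib
import Groth.Agent.H24.FlatSurjSections

/-! fpqc descent of sections of the structure sheaf, and flat base change of injectivity on
sections. -/

set_option autoImplicit false
universe u

open CategoryTheory CategoryTheory.Limits AlgebraicGeometry

namespace Groth.Agent.H37

section ring
open TensorProduct

/-- In a pushout square of commutative rings with `ψ` flat and `φ` injective, the map `β`
opposite to `φ` is injective. -/
theorem injective_of_isPushout_flat {B A B' A' : CommRingCat.{u}} {φ : B ⟶ A} {ψ : B ⟶ B'}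
    {α : A ⟶ A'} {β : B' ⟶ A'} (H : IsPushout φ ψ α β) (hψ : ψ.hom.Flat)
    (hinj : Function.Injective φ.hom) : Function.Injective β.hom := by
  algebraize [φ.hom, ψ.hom]
  let e : A ⊗[B] B' ≃+* A' :=
    ((CommRingCat.isPushout_tensorProduct B A B').isoIsPushout A B' H).commRingCatIsoToRingEquiv
  have he2 : ∀ b : B', e (1 ⊗ₜ b) = β.hom b := by
    intro b
    have := congr($((CommRingCat.isPushout_tensorProduct B A B').inr_isoIsPushout_hom A B' H).hom b)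
    exact this
  have hψ' : Module.Flat B B' := hψ
  have h1 : Function.Injective ((Algebra.linearMap B A).rTensor B') :=
    Module.Flat.rTensor_preserves_injective_linearMap _ hinj
  intro x y hxy
  rw [← he2, ← he2] at hxy
  have h2 := e.injective hxy
  have h3 : ∀ b : B', (1 : A) ⊗ₜ[B] b =
      (Algebra.linearMap B A).rTensor B' ((TensorProduct.lid B B').symm b) := by
    intro b; simp
  rw [h3, h3] at h2
  exact (TensorProduct.lid B B').symm.injective (h1 h2)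

end ring

section descent

/-- fpqc descent for global sections, with the cocycle condition tested on all pairs of
morphisms equalised by `α`. -/
theorem exists_appTop_eq_of_fpqc {Y' Y : Scheme.{u}} (α : Y' ⟶ Y) [Flat α] [Surjective α]
    [QuasiCompact α] (t : Γ(Y', ⊤))
    (ht : ∀ {Z : Scheme.{u}} (g₁ g₂ : Z ⟶ Y'), g₁ ≫ α = g₂ ≫ α →
      g₁.appTop.hom t = g₂.appTop.hom t) :
    ∃ s : Γ(Y, ⊤), α.appTop.hom s = t := by
  let E := AffineSpace.toSpecMvPolyIntEquiv (X := Y') PUnit.{u+1}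
  let τ : Y' ⟶ _ := E.symm (fun _ => t)
  have hτ : ∀ {Z : Scheme.{u}} (g₁ g₂ : Z ⟶ Y'), g₁ ≫ α = g₂ ≫ α → g₁ ≫ τ = g₂ ≫ τ := by
    intro Z g₁ g₂ h
    apply (AffineSpace.toSpecMvPolyIntEquiv (X := Z) PUnit.{u+1}).injective
    funext i
    rw [AffineSpace.toSpecMvPolyIntEquiv_comp, AffineSpace.toSpecMvPolyIntEquiv_comp]
    have h1 : AffineSpace.toSpecMvPolyIntEquiv PUnit.{u+1} τ i = t := by
      change E (E.symm (fun _ => t)) i = t
      rw [E.apply_symm_apply]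
    rw [h1]
    exact ht g₁ g₂ h
  let d := EffectiveEpi.desc α τ (fun g₁ g₂ h => hτ g₁ g₂ h)
  have hd : α ≫ d = τ := EffectiveEpi.fac α τ _
  refine ⟨AffineSpace.toSpecMvPolyIntEquiv PUnit.{u+1} d PUnit.unit, ?_⟩
  have h2 := AffineSpace.toSpecMvPolyIntEquiv_comp PUnit.{u+1} α d PUnit.unit
  rw [hd] at h2
  have h1 : AffineSpace.toSpecMvPolyIntEquiv PUnit.{u+1} τ PUnit.unit = t := by
    change E (E.symm (fun _ => t)) _ = t
    rw [E.apply_symm_apply]
  rw [h1] at h2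
  exact h2.symm

/-- sections of an open subscheme, pulled back along a morphism into it -/
theorem appTop_topIso_inv {Y : Scheme.{u}} (U : Y.Opens) {Z : Scheme.{u}} (g : Z ⟶ U.toScheme)
    (t : Γ(Y, U)) :
    g.appTop.hom (U.topIso.inv.hom t) =
      ((g ≫ U.ι).appLE U ⊤ (by
        rw [Scheme.Hom.comp_preimage]
        have : U.ι ⁻¹ᵁ U = ⊤ := by simp
        rw [this]; simp)).hom t := by
  have h1 : U.ι.appLE U ⊤ (by simp) = U.topIso.inv := by
    rw [Scheme.Opens.topIso_inv]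
    rw [Scheme.Hom.appLE]
    simp only [Scheme.Opens.ι_app, Scheme.Opens.toScheme_presheaf_map]
    refine (Y.presheaf.map_comp _ _).symm.trans ?_
    congr 1
  have h2 := Scheme.Hom.appLE_comp_appLE g U.ι U ⊤ ⊤ (by simp) (by simp)
  rw [h1] at h2
  have h3 : g.appLE ⊤ ⊤ (by simp) = g.appTop := by
    simp [Scheme.Hom.appLE, Scheme.Hom.appTop]
  rw [h3] at h2
  exact congrArg (fun θ => CommRingCat.Hom.hom θ t) h2

theorem fst_preimage_le_snd_preimage {Y' Y : Scheme.{u}} (α : Y' ⟶ Y) (U : Y.Opens) :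
    (pullback.fst α α) ⁻¹ᵁ (α ⁻¹ᵁ U) ≤ (pullback.snd α α) ⁻¹ᵁ (α ⁻¹ᵁ U) := by
  rw [← Scheme.Hom.comp_preimage, ← Scheme.Hom.comp_preimage, pullback.condition]

theorem appLE_congr_hom' {X Y : Scheme.{u}} {f f' : X ⟶ Y} (h : f = f') (U : Y.Opens)
    (V : X.Opens) (e : V ≤ f ⁻¹ᵁ U) : f.appLE U V e = f'.appLE U V (h ▸ e) := by
  subst h; rfl

/-- fpqc descent for sections of the structure sheaf over an open. -/
theorem exists_app_eq_of_fpqc {Y' Y : Scheme.{u}} (α : Y' ⟶ Y) [Flat α] [Surjective α]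
    [QuasiCompact α] (U : Y.Opens) (t : Γ(Y', α ⁻¹ᵁ U))
    (ht : ((pullback.fst α α).appLE (α ⁻¹ᵁ U) ((pullback.fst α α) ⁻¹ᵁ (α ⁻¹ᵁ U)) le_rfl).hom t =
      ((pullback.snd α α).appLE (α ⁻¹ᵁ U) ((pullback.fst α α) ⁻¹ᵁ (α ⁻¹ᵁ U))
        (fst_preimage_le_snd_preimage α U)).hom t) :
    ∃ s : Γ(Y, U), (α.app U).hom s = t := by
  have hflat : Flat (α ∣_ U) := IsZariskiLocalAtTarget.restrict ‹_› U
  have hsurj : Surjective (α ∣_ U) := IsZariskiLocalAtTarget.restrict ‹_› U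
  have hqc : QuasiCompact (α ∣_ U) := IsZariskiLocalAtTarget.restrict ‹_› U
  let V := α ⁻¹ᵁ U
  let W := (pullback.fst α α) ⁻¹ᵁ V
  obtain ⟨sU, hsU⟩ := exists_appTop_eq_of_fpqc (α ∣_ U) (V.topIso.inv.hom t) (by
    intro Z g₁ g₂ hg
    have hcond : (g₁ ≫ V.ι) ≫ α = (g₂ ≫ V.ι) ≫ α := by
      rw [Category.assoc, Category.assoc, ← morphismRestrict_ι, reassoc_of% hg]
    let m : Z ⟶ pullback α α := pullback.lift (g₁ ≫ V.ι) (g₂ ≫ V.ι) hcond
    have hm1 : m ≫ pullback.fst α α = g₁ ≫ V.ι := pullback.lift_fst _ _ _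
    have hm2 : m ≫ pullback.snd α α = g₂ ≫ V.ι := pullback.lift_snd _ _ _
    rw [appTop_topIso_inv, appTop_topIso_inv]
    have hmW : (⊤ : Z.Opens) ≤ m ⁻¹ᵁ W := by
      intro z _
      change (m ≫ pullback.fst α α) z ∈ V
      rw [hm1]
      exact (g₁ z).2
    have e1 := Scheme.Hom.appLE_comp_appLE m (pullback.fst α α) V W ⊤ le_rfl hmW
    have e2 := Scheme.Hom.appLE_comp_appLE m (pullback.snd α α) V W ⊤
      (fst_preimage_le_snd_preimage α U) hmW
    have e3 := appLE_congr_hom' hm1 V ⊤ (hmW.trans (m.preimage_mono le_rfl))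
    have e4 := appLE_congr_hom' hm2 V ⊤
      (hmW.trans (m.preimage_mono (fst_preimage_le_snd_preimage α U)))
    rw [← e3, ← e4, ← e1, ← e2]
    simp only [CommRingCat.hom_comp, RingHom.coe_comp, Function.comp_apply]
    exact congrArg _ ht)
  refine ⟨U.topIso.hom.hom sU, ?_⟩
  have hw := (arrowResLEAppIso α U V le_rfl).hom.w
  simp only [arrowResLEAppIso, Arrow.isoMk_hom_left, Arrow.isoMk_hom_right, Arrow.mk_hom,
    Arrow.mk_left, Arrow.mk_right] at hw
  have h1 : α.resLE U V le_rfl = α ∣_ U := Scheme.Hom.resLE_eq_morphismRestrict ..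
  rw [h1] at hw
  have h2 := congrArg (fun θ => CommRingCat.Hom.hom θ sU) hw
  simp only [CommRingCat.hom_comp, RingHom.coe_comp, Function.comp_apply] at h2
  have h3 : α.appLE U V le_rfl = α.app U := by simp [Scheme.Hom.appLE, V]
  rw [h3, hsU] at h2
  rw [h2]
  change (V.topIso.inv ≫ V.topIso.hom).hom t = t
  rw [Iso.inv_hom_id]; rfl

end descent

section flatBC

variable {X' Y' Z XZ : Scheme.{u}} {φ' : X' ⟶ Y'} {p : Z ⟶ Y'} {g : XZ ⟶ X'} {π : XZ ⟶ Z}

/-- affine-local core of `app_injective_of_isPullback_flat` -/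
theorem app_injective_of_isPullback_flat_affine (H : IsPullback g π φ' p) [Flat p]
    [QuasiCompact φ']
    (hinj : ∀ V : Y'.Opens, Function.Injective (φ'.app V).hom)
    {V : Y'.Opens} (hV : IsAffineOpen V) {W₀ : Z.Opens} (hW₀ : IsAffineOpen W₀)
    (hle : W₀ ≤ p ⁻¹ᵁ V) : Function.Injective (π.app W₀).hom := by
  have hUX : IsCompact (X := X') (φ' ⁻¹ᵁ V) := QuasiCompact.isCompact_preimage (f := φ') _ V.2
    hV.isCompact
  have hmono := mono_pushoutSection_of_isCompact_of_flat_right H (US := V) (UT := W₀)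
    (UX := φ' ⁻¹ᵁ V) hle le_rfl (UY := g ⁻¹ᵁ (φ' ⁻¹ᵁ V) ⊓ π ⁻¹ᵁ W₀) rfl hV hW₀ hUX
  have hflat : (p.appLE V W₀ hle).hom.Flat := p.flat_appLE hV hW₀ hle
  have hinj' : Function.Injective (φ'.appLE V (φ' ⁻¹ᵁ V) le_rfl).hom := by
    have : φ'.appLE V (φ' ⁻¹ᵁ V) le_rfl = φ'.app V := by simp [Scheme.Hom.appLE]
    rw [this]; exact hinj V
  have hinr : Function.Injective
      (pushout.inr (φ'.appLE V (φ' ⁻¹ᵁ V) le_rfl) (p.appLE V W₀ hle)).hom :=
    injective_of_isPushout_flat (IsPushout.of_hasPushout _ _) hflat hinj'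
  have hps : Function.Injective (pushoutSection H (US := V) (UT := W₀)
      (UX := φ' ⁻¹ᵁ V) hle le_rfl (UY := g ⁻¹ᵁ (φ' ⁻¹ᵁ V) ⊓ π ⁻¹ᵁ W₀) rfl).hom :=
    (ConcreteCategory.mono_iff_injective_of_preservesPullback _).mp hmono
  have hcomp : pushout.inr (φ'.appLE V (φ' ⁻¹ᵁ V) le_rfl) (p.appLE V W₀ hle) ≫
      pushoutSection H (US := V) (UT := W₀) (UX := φ' ⁻¹ᵁ V) hle le_rfl
        (UY := g ⁻¹ᵁ (φ' ⁻¹ᵁ V) ⊓ π ⁻¹ᵁ W₀) rfl =
      π.appLE W₀ (g ⁻¹ᵁ (φ' ⁻¹ᵁ V) ⊓ π ⁻¹ᵁ W₀) inf_le_right := pushout.inr_desc _ _ _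
  have hLE : Function.Injective
      (π.appLE W₀ (g ⁻¹ᵁ (φ' ⁻¹ᵁ V) ⊓ π ⁻¹ᵁ W₀) inf_le_right).hom := by
    rw [← hcomp]
    simp only [CommRingCat.hom_comp, RingHom.coe_comp]
    exact hps.comp hinr
  have hfac : π.appLE W₀ (g ⁻¹ᵁ (φ' ⁻¹ᵁ V) ⊓ π ⁻¹ᵁ W₀) inf_le_right =
      π.app W₀ ≫ XZ.presheaf.map (homOfLE (inf_le_right :
        g ⁻¹ᵁ (φ' ⁻¹ᵁ V) ⊓ π ⁻¹ᵁ W₀ ≤ π ⁻¹ᵁ W₀)).op := rfl
  rw [hfac] at hLE
  simp only [CommRingCat.hom_comp, RingHom.coe_comp] at hLE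
  exact Function.Injective.of_comp hLE

/-- **Flat base change of injectivity on sections.** If `φ'` is quasi-compact and injective on
sections over every open, the same holds for any flat base change. -/
theorem app_injective_of_isPullback_flat (H : IsPullback g π φ' p) [Flat p]
    [QuasiCompact φ']
    (hinj : ∀ V : Y'.Opens, Function.Injective (φ'.app V).hom) (W : Z.Opens) :
    Function.Injective (π.app W).hom := by
  rw [injective_iff_map_eq_zero]
  intro s hs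
  refine TopCat.Presheaf.section_ext Z.sheaf W s 0 fun z hz => ?_
  -- affine neighbourhoods
  obtain ⟨V, hV, hpzV⟩ : ∃ V : Y'.Opens, IsAffineOpen V ∧ p z ∈ V := by
    obtain ⟨_, ⟨V, hV, rfl⟩, hzV, -⟩ := Y'.isBasis_affineOpens.exists_subset_of_mem_open
      (Set.mem_univ (p z)) isOpen_univ
    exact ⟨V, hV, hzV⟩
  obtain ⟨W₀, hW₀, hzW₀, hW₀le⟩ : ∃ W₀ : Z.Opens, IsAffineOpen W₀ ∧ z ∈ W₀ ∧
      W₀ ≤ W ⊓ p ⁻¹ᵁ V := by
    obtain ⟨_, ⟨W₀, hW₀, rfl⟩, hzW₀, hsub⟩ := Z.isBasis_affineOpens.exists_subset_of_mem_open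
      (show z ∈ ((W ⊓ p ⁻¹ᵁ V : Z.Opens) : Set Z) from ⟨hz, hpzV⟩) (W ⊓ p ⁻¹ᵁ V).2
    exact ⟨W₀, hW₀, hzW₀, hsub⟩
  have hW₀W : W₀ ≤ W := hW₀le.trans inf_le_left
  have hinj₀ := app_injective_of_isPullback_flat_affine H hinj hV hW₀ (hW₀le.trans inf_le_right)
  -- `s` restricted to `W₀` is zero
  have hres : (Z.presheaf.map (homOfLE hW₀W).op).hom s = 0 := by
    apply hinj₀
    rw [map_zero]
    have hnat := π.naturality (homOfLE hW₀W).op
    have h1 := congrArg (fun θ => CommRingCat.Hom.hom θ s) hnat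
    simp only [CommRingCat.hom_comp, RingHom.coe_comp, Function.comp_apply] at h1
    rw [h1]
    have : (π.app W).hom s = 0 := hs
    rw [this, map_zero]
  have hg1 : Z.presheaf.germ W z hz s =
      Z.presheaf.germ W₀ z hzW₀ ((Z.presheaf.map (homOfLE hW₀W).op).hom s) :=
    (TopCat.Presheaf.germ_res_apply Z.presheaf (homOfLE hW₀W) z hzW₀ s).symm
  change Z.presheaf.germ W z hz s = Z.presheaf.germ W z hz 0
  rw [hg1, hres, map_zero, map_zero]

end flatBC

end Groth.Agent.H37
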