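import Groth.Agent.H15.QuotDesc
import Mathlib

/-!
# A general descent lemma for morphisms along an "epi-like" morphism
(surjective, injective on sections), after helper15's `QuotDesc`.
-/

set_option autoImplicit false
set_option linter.style.haveILetI false

universe u

open CategoryTheory AlgebraicGeometry

namespace Groth.Agent.H37

open Groth.Agent.H15.Quot

variable {X Y W : Scheme.{u}} {p : X ⟶ Y}

theorem descGen_affine (hinj : ∀ V : Y.Opens, Function.Injective (p.app V).hom) (u : X ⟶ W)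
    (W' : W.Opens) (hW : IsAffineOpen W') (V' : Y.Opens) (hVW : p ⁻¹ᵁ V' ≤ u ⁻¹ᵁ W')
    (hrange : ∀ s : Γ(W, W'), (u.appLE W' (p ⁻¹ᵁ V') hVW).hom s ∈ Set.range (p.app V').hom) :
    ∃ f : V'.toScheme ⟶ W, p.resLE V' (p ⁻¹ᵁ V') le_rfl ≫ f = (p ⁻¹ᵁ V').ι ≫ u := by
  obtain ⟨ψ, hψ⟩ := exists_ringHom_lift (p.app V').hom (hinj V')
    (u.appLE W' (p ⁻¹ᵁ V') hVW).hom hrange
  refine ⟨V'.toSpecΓ ≫ Spec.map (CommRingCat.ofHom ψ) ≫ hW.fromSpec, ?_⟩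
  have h1 : CommRingCat.ofHom ψ ≫ p.app V' = u.appLE W' (p ⁻¹ᵁ V') hVW := by
    apply CommRingCat.hom_ext
    exact hψ
  rw [Scheme.Hom.resLE_eq_morphismRestrict, ← Scheme.Opens.toSpecΓ_naturality_assoc,
    ← Spec.map_comp_assoc, h1, Scheme.Opens.toSpecΓ_SpecMap_appLE_assoc,
    IsAffineOpen.toSpecΓ_fromSpec, Scheme.Hom.resLE_comp_ι]

/-- **General descent**: `u : X ⟶ W` factors through the epi-like `p : X ⟶ Y` as soon as `Y`
is covered by opens `V'` with `p⁻¹V' ⊆ u⁻¹W'` for an affine open `W'` of `W`, and sections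
of `W` pulled back to such `p⁻¹V'` come from `V'`. -/
theorem descGen_exists (hp : EpiLike p) (u : X ⟶ W)
    (hcov : ∀ y : Y, ∃ (V' : Y.Opens) (W' : W.Opens), y ∈ V' ∧ IsAffineOpen W' ∧
      p ⁻¹ᵁ V' ≤ u ⁻¹ᵁ W')
    (hrange : ∀ (W' : W.Opens) (V' : Y.Opens) (hle : p ⁻¹ᵁ V' ≤ u ⁻¹ᵁ W') (s : Γ(W, W')),
      (u.appLE W' (p ⁻¹ᵁ V') hle).hom s ∈ Set.range (p.app V').hom) :
    ∃ v : Y ⟶ W, p ≫ v = u := by
  let ι := {P : Y.Opens × W.Opens // IsAffineOpen P.2 ∧ p ⁻¹ᵁ P.1 ≤ u ⁻¹ᵁ P.2}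
  let V' : ι → Y.Opens := fun i => i.1.1
  have hcover : TopologicalSpace.IsOpenCover V' := by
    rw [TopologicalSpace.IsOpenCover, eq_top_iff]
    intro y _
    obtain ⟨V₀, W₀, hy, hW₀, hle⟩ := hcov y
    exact TopologicalSpace.Opens.mem_iSup.mpr ⟨⟨(V₀, W₀), hW₀, hle⟩, hy⟩
  choose f hf using fun i : ι =>
    descGen_affine hp.inj u i.1.2 i.2.1 i.1.1 i.2.2 (hrange i.1.2 i.1.1 i.2.2)
  have key : ∀ (i : ι) (V'' : Y.Opens) (hle : V'' ≤ V' i),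
      p.resLE V'' (p ⁻¹ᵁ V'') le_rfl ≫ Y.homOfLE hle ≫ f i = (p ⁻¹ᵁ V'').ι ≫ u := by
    intro i V'' hle
    have hle' : p ⁻¹ᵁ V'' ≤ p ⁻¹ᵁ V' i := fun x hx => hle hx
    rw [Scheme.Hom.resLE_map_assoc, ← Scheme.Hom.map_resLE_assoc p le_rfl hle', hf i,
      Scheme.homOfLE_ι_assoc]
  obtain ⟨g, hg⟩ := exists_glue V' hcover f (fun i j => by
    apply (hp.resLE (V' i ⊓ V' j)).eq_of_comp_eq
    rw [key i _ inf_le_left, key j _ inf_le_right])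
  refine ⟨g, ?_⟩
  refine Scheme.hom_ext_of_forall _ _ fun x => ?_
  obtain ⟨V₀, W₀, hy, hW₀, hle⟩ := hcov (p.base x)
  let i : ι := ⟨(V₀, W₀), hW₀, hle⟩
  refine ⟨p ⁻¹ᵁ V' i, hy, ?_⟩
  rw [← Scheme.Hom.resLE_comp_ι_assoc p (le_refl (p ⁻¹ᵁ V' i)), hg, hf]

/-- Covering hypothesis of `descGen_exists` from: `p` a topological quotient map and `u` constant on
the fibres of `p`. -/
theorem descGen_cover_of_isQuotientMap (hsurj : Function.Surjective p.base)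
    (hq : Topology.IsQuotientMap p.base) (u : X ⟶ W)
    (hu : ∀ x y : X, p.base x = p.base y → u.base x = u.base y) :
    ∀ y : Y, ∃ (V' : Y.Opens) (W' : W.Opens), y ∈ V' ∧ IsAffineOpen W' ∧
      p ⁻¹ᵁ V' ≤ u ⁻¹ᵁ W' := by
  intro y
  obtain ⟨x, rfl⟩ := hsurj y
  obtain ⟨_, ⟨W', hW' : IsAffineOpen W', rfl⟩, hxW, -⟩ :=
    W.isBasis_affineOpens.exists_subset_of_mem_open (Set.mem_univ (u.base x)) isOpen_univ
  have hpre : p.base ⁻¹' (p.base '' (u ⁻¹ᵁ W' : Set X)) = (u ⁻¹ᵁ W' : Set X) := by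
    apply Set.Subset.antisymm
    · rintro x' ⟨s, hs, hsx⟩
      change u.base x' ∈ W'
      rw [← hu s x' hsx]
      exact hs
    · exact Set.subset_preimage_image _ _
  have hopen : IsOpen (p.base '' (u ⁻¹ᵁ W' : Set X)) := by
    rw [← hq.isOpen_preimage, hpre]
    exact (u ⁻¹ᵁ W').isOpen
  refine ⟨⟨_, hopen⟩, W', ⟨x, hxW, rfl⟩, hW', ?_⟩
  intro x' hx'
  exact Set.ext_iff.mp hpre x' |>.mp hx'

end Groth.Agent.H37
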