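import Groth.Agent.H37.QuotLoc4
import Mathlib

/-! `Y/H ≅ X/G` when `X` is the disjoint union of the translates of the open `Y` over `G/H`. -/

set_option autoImplicit false
universe u

open CategoryTheory Limits AlgebraicGeometry

namespace Groth.Agent.H37

/-- An open of an affine open which is relatively closed is affine. -/
theorem isAffineOpen_of_isClosed_in {X : Scheme.{u}} {U W : X.Opens} (hW : IsAffineOpen W)
    (hUW : U ≤ W) (C : Set X) (hC : IsClosed C) (hU : (U : Set X) = (W : Set X) ∩ C) :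
    IsAffineOpen U := by
  have hcl : IsClosed (Set.range (X.homOfLE hUW)) := by
    have : Set.range (X.homOfLE hUW) = (Subtype.val : W → X) ⁻¹' C := by
      ext w
      constructor
      · rintro ⟨u, rfl⟩
        have h1 : ((X.homOfLE hUW) u).1 = u.1 := Scheme.homOfLE_apply hUW u
        change ((X.homOfLE hUW) u).1 ∈ C
        rw [h1]
        have : u.1 ∈ (U : Set X) := u.2
        rw [hU] at this
        exact this.2
      · intro hw
        have hwU : w.1 ∈ (U : Set X) := by rw [hU]; exact ⟨w.2, hw⟩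
        refine ⟨⟨w.1, hwU⟩, ?_⟩
        apply Subtype.ext
        exact Scheme.homOfLE_apply hUW ⟨w.1, hwU⟩
    rw [this]
    exact hC.preimage continuous_subtype_val
  haveI : IsClosedImmersion (X.homOfLE hUW) := IsClosedImmersion.of_isPreimmersion _ hcl
  haveI : IsAffine W.toScheme := hW
  exact isAffine_of_isAffineHom (X.homOfLE hUW)

theorem id_appLE' {X : Scheme.{u}} (U : X.Opens) (e : U ≤ (𝟙 X : X ⟶ X) ⁻¹ᵁ U)
    (t : Γ(X, U)) : ((𝟙 X : X ⟶ X).appLE U U e).hom t = t := by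
  rw [Groth.Agent.H15.Quot.id_appLE]
  have : X.presheaf.map (homOfLE e).op = 𝟙 _ := X.presheaf.map_id _
  rw [this]; rfl

section coset

variable {G : Type u} [Group G] {X XG : Scheme.{u}} (ρ : G →* Aut X)

theorem rho_mul (a b : G) : (ρ (a * b)).hom = (ρ b).hom ≫ (ρ a).hom := by
  rw [map_mul]; rfl

theorem rho_one : (ρ 1).hom = 𝟙 X := by
  rw [map_one]; rfl

theorem rho_inv_apply (g : G) (x : X) : (ρ g⁻¹).hom ((ρ g).hom x) = x := by
  rw [← Scheme.Hom.comp_apply, ← rho_mul, inv_mul_cancel, rho_one]; rfl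

theorem isQuot_restrict_open_of_coset_decomposition [Finite G] (p : X ⟶ XG)
    (hP : SGA1.IsQuot ρ p) (H : Subgroup G) (Y : X.Opens)
    (hcov : ∀ x : X, ∃ g : G, x ∈ (ρ g).hom.base '' (Y : Set X))
    (hdisj : ∀ g : G, g ∉ H → Disjoint ((ρ g).hom.base '' (Y : Set X)) (Y : Set X))
    (ρY : H →* Aut (Y : Scheme.{u})) (hρY : ∀ h : H, (ρY h).hom ≫ Y.ι = Y.ι ≫ (ρ (h : G)).hom) :
    SGA1.IsQuot ρY (Y.ι ≫ p) := by
  -- basic facts
  have hHY : ∀ h : H, ∀ x : X, x ∈ Y → (ρ (h : G)).hom x ∈ Y := by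
    intro h x hx
    have h1 := congrArg (fun φ : (Y : Scheme.{u}) ⟶ X => φ ⟨x, hx⟩) (hρY h)
    simp only [Scheme.Hom.comp_apply] at h1
    have h2 : (Y.ι ((ρY h).hom ⟨x, hx⟩) : X) ∈ Y := ((ρY h).hom ⟨x, hx⟩).2
    rw [h1] at h2
    exact h2
  have hH : ∀ k : G, ∀ y : X, y ∈ Y → (ρ k).hom y ∈ Y → k ∈ H := by
    intro k y hy hky
    by_contra hk
    exact (Set.disjoint_left.mp (hdisj k hk)) ⟨y, hy, rfl⟩ hky
  have hpinv : ∀ (g : G) (x : X), p ((ρ g).hom x) = p x := by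
    intro g x
    rw [← Scheme.Hom.comp_apply, hP.inv]
  have hinv : ∀ h : H, (ρY h).hom ≫ (Y.ι ≫ p) = Y.ι ≫ p := by
    intro h
    rw [← Category.assoc, hρY, Category.assoc, hP.inv]
  -- membership in the relevant opens
  have hmem : ∀ (V : XG.Opens) (x : X), x ∈ Y.ι ''ᵁ ((Y.ι ≫ p) ⁻¹ᵁ V) ↔ x ∈ Y ∧ p x ∈ V := by
    intro V x
    constructor
    · rintro ⟨y, hy, rfl⟩
      exact ⟨y.2, hy⟩
    · rintro ⟨hx, hpx⟩
      exact ⟨⟨x, hx⟩, hpx, rfl⟩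
  haveI := hP.affine
  have haff : IsAffineHom (Y.ι ≫ p) := by
    refine ⟨fun V hV => ?_⟩
    rw [← Y.ι.isAffineOpen_iff_of_isOpenImmersion]
    refine isAffineOpen_of_isClosed_in (hV.preimage p) (fun x hx => ((hmem V x).mp hx).2)
      (⋃ g ∈ {g : G | g ∉ H}, (ρ g).hom.base '' (Y : Set X))ᶜ ?_ ?_
    · rw [isClosed_compl_iff]
      refine isOpen_biUnion fun g _ => ?_
      exact (ρ g).hom.isOpenEmbedding.isOpenMap _ Y.2
    · ext x
      simp only [SetLike.mem_coe, Set.mem_inter_iff, Set.mem_compl_iff, Set.mem_iUnion,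
        Set.mem_ofPred_eq, exists_prop, not_exists, not_and]
      rw [hmem V x]
      constructor
      · rintro ⟨hx, hpx⟩
        exact ⟨hpx, fun g hg hxg => (Set.disjoint_left.mp (hdisj g hg)) hxg hx⟩
      · rintro ⟨hpx, hx⟩
        obtain ⟨g, y, hy, rfl⟩ := hcov x
        have hg : g ∈ H := by
          by_contra hg
          exact hx g hg ⟨y, hy, rfl⟩
        exact ⟨hHY ⟨g, hg⟩ y hy, hpx⟩
  refine isQuot_of_quotAt haff hinv fun V => ?_
  -- notation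
  set W : X.Opens := p ⁻¹ᵁ V with hWdef
  set W₀ : X.Opens := Y.ι ''ᵁ ((Y.ι ≫ p) ⁻¹ᵁ V) with hW₀def
  have hW₀W : W₀ ≤ W := fun x hx => ((hmem V x).mp hx).2
  have hW₀Y : W₀ ≤ Y := fun x hx => ((hmem V x).mp hx).1
  have hleW : ∀ g : G, W ≤ (ρ g).hom ⁻¹ᵁ W := fun g => SGA1.preimage_le_of_inv ρ p hP.inv g V
  have hUW : ∀ g : G, (ρ g).hom ⁻¹ᵁ W₀ ≤ W := by
    intro g x hx
    have : p ((ρ g).hom x) ∈ V := ((hmem V _).mp hx).2
    rwa [hpinv] at this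
  have hcover : W ≤ ⨆ g : G, (ρ g).hom ⁻¹ᵁ W₀ := by
    intro x hx
    obtain ⟨g, y, hy, rfl⟩ := hcov x
    refine TopologicalSpace.Opens.mem_iSup.mpr ⟨g⁻¹, ?_⟩
    change (ρ g⁻¹).hom ((ρ g).hom y) ∈ W₀
    rw [rho_inv_apply]
    refine (hmem V y).mpr ⟨hy, ?_⟩
    have : p ((ρ g).hom y) ∈ V := hx
    rwa [hpinv] at this
  have hleH : ∀ h : H, W₀ ≤ (ρ (h : G)).hom ⁻¹ᵁ W₀ := by
    intro h x hx
    refine (hmem V _).mpr ⟨hHY h x (hW₀Y hx), ?_⟩
    rw [hpinv]; exact hW₀W hx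
  -- the action of `H` on sections over `W₀`
  have hactH : ∀ h : H, (ρY h).hom.appLE ((Y.ι ≫ p) ⁻¹ᵁ V) ((Y.ι ≫ p) ⁻¹ᵁ V)
      (SGA1.preimage_le_of_inv ρY (Y.ι ≫ p) hinv h V) =
      (ρ (h : G)).hom.appLE W₀ W₀ (hleH h) := fun h =>
    appLE_of_comp_ι (ρY h).hom (ρ (h : G)).hom (hρY h) _ _ _
  -- the quotient map on sections
  have happ : (Y.ι ≫ p).appLE V ((Y.ι ≫ p) ⁻¹ᵁ V) le_rfl = p.appLE V W₀ hW₀W := by
    rw [← Scheme.Hom.appLE_comp_appLE Y.ι p V W ((Y.ι ≫ p) ⁻¹ᵁ V) le_rfl le_rfl,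
      Scheme.Opens.ι_appLE]
    exact Scheme.Hom.appLE_map p (le_refl W) (homOfLE hW₀W).op
  have hPV := QuotAt.of_isQuot hP V
  -- invariant sections over `W` are determined by their restriction to `W₀`
  have hres : ∀ (g : G) (s : Γ(X, W)), (∀ γ, ((ρ γ).hom.appLE W W (hleW γ)).hom s = s) →
      X.presheaf.map (homOfLE (hUW g)).op s =
        ((ρ g).hom.appLE W₀ ((ρ g).hom ⁻¹ᵁ W₀) le_rfl).hom
          (X.presheaf.map (homOfLE hW₀W).op s) := by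
    intro g s hs
    have h1 := Scheme.Hom.appLE_map (ρ g).hom (hleW g) (homOfLE (hUW g)).op
    have h2 := Scheme.Hom.map_appLE (ρ g).hom (le_refl ((ρ g).hom ⁻¹ᵁ W₀)) (homOfLE hW₀W).op
    have h3 := h1.trans h2.symm
    have h4 := congrArg (fun φ => CommRingCat.Hom.hom φ s) h3
    simp only [CommRingCat.hom_comp, RingHom.comp_apply] at h4
    rw [hs g] at h4
    exact h4
  refine ⟨rfl, fun h => SGA1.preimage_le_of_inv ρY (Y.ι ≫ p) hinv h V, ?_, fun t => ⟨?_, ?_⟩⟩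
  · -- injectivity
    rw [happ]
    intro a a' haa
    apply hPV.injective
    apply X.sheaf.eq_of_locally_eq' (fun g : G => (ρ g).hom ⁻¹ᵁ W₀) W (fun g => homOfLE (hUW g))
      hcover
    intro g
    have e1 := hres g ((p.appLE V W le_rfl).hom a)
      (fun γ => appLE_appLE_of_inv hP.inv V W le_rfl γ (hleW γ) a)
    have e2 := hres g ((p.appLE V W le_rfl).hom a')
      (fun γ => appLE_appLE_of_inv hP.inv V W le_rfl γ (hleW γ) a')
    have e3 : ∀ b : Γ(XG, V), X.presheaf.map (homOfLE hW₀W).op ((p.appLE V W le_rfl).hom b) =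
        (p.appLE V W₀ hW₀W).hom b := fun b =>
      congrArg (fun φ => CommRingCat.Hom.hom φ b)
        (Scheme.Hom.appLE_map p (le_refl W) (homOfLE hW₀W).op)
    change X.presheaf.map (homOfLE (hUW g)).op _ = X.presheaf.map (homOfLE (hUW g)).op _
    rw [e1, e2, e3, e3]
    exact congrArg _ haa
  · rintro ⟨a, rfl⟩ h
    exact appLE_appLE_of_inv hinv V _ le_rfl h _ a
  · intro ht
    rw [happ]
    have htH : ∀ h : H, ((ρ (h : G)).hom.appLE W₀ W₀ (hleH h)).hom t = t := by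
      intro h
      have := ht h
      rw [hactH h] at this
      exact this
    -- the translates of `t`
    set sfam : ∀ g : G, Γ(X, (ρ g).hom ⁻¹ᵁ W₀) := fun g =>
      ((ρ g).hom.appLE W₀ ((ρ g).hom ⁻¹ᵁ W₀) le_rfl).hom t with hsfam
    have hsfam_res : ∀ (g : G) (U' : X.Opens) (e : U' ≤ (ρ g).hom ⁻¹ᵁ W₀),
        X.presheaf.map (homOfLE e).op (sfam g) = ((ρ g).hom.appLE W₀ U' e).hom t := by
      intro g U' e
      exact congrArg (fun φ => CommRingCat.Hom.hom φ t)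
        (Scheme.Hom.appLE_map (ρ g).hom (le_refl ((ρ g).hom ⁻¹ᵁ W₀)) (homOfLE e).op)
    have hcompat : TopCat.Presheaf.IsCompatible X.presheaf (fun g : G => (ρ g).hom ⁻¹ᵁ W₀)
        sfam := by
      intro g g'
      change X.presheaf.map (homOfLE inf_le_left).op (sfam g) =
        X.presheaf.map (homOfLE inf_le_right).op (sfam g')
      rw [hsfam_res, hsfam_res]
      by_cases hne : ((((ρ g).hom ⁻¹ᵁ W₀) ⊓ ((ρ g').hom ⁻¹ᵁ W₀) : X.Opens) : Set X).Nonempty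
      · obtain ⟨x, hx, hx'⟩ := hne
        have hkg : g' * g⁻¹ * g = g' := by group
        have hg' : (ρ g').hom = (ρ g).hom ≫ (ρ (g' * g⁻¹)).hom := by
          rw [← rho_mul, hkg]
        have hk : g' * g⁻¹ ∈ H := by
          refine hH _ ((ρ g).hom x) (hW₀Y hx) ?_
          rw [← Scheme.Hom.comp_apply, ← hg']
          exact hW₀Y hx'
        have h1 := appLE_congr_hom hg' W₀ (((ρ g).hom ⁻¹ᵁ W₀) ⊓ ((ρ g').hom ⁻¹ᵁ W₀)) inf_le_right
        have h2 := Scheme.Hom.appLE_comp_appLE (ρ g).hom (ρ (g' * g⁻¹)).hom W₀ W₀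
          (((ρ g).hom ⁻¹ᵁ W₀) ⊓ ((ρ g').hom ⁻¹ᵁ W₀)) (hleH ⟨_, hk⟩) inf_le_left
        have h3 : ((ρ g').hom.appLE W₀ (((ρ g).hom ⁻¹ᵁ W₀) ⊓ ((ρ g').hom ⁻¹ᵁ W₀))
            inf_le_right).hom t =
            ((ρ g).hom.appLE W₀ (((ρ g).hom ⁻¹ᵁ W₀) ⊓ ((ρ g').hom ⁻¹ᵁ W₀)) inf_le_left).hom
              (((ρ (g' * g⁻¹)).hom.appLE W₀ W₀ (hleH ⟨_, hk⟩)).hom t) := by
          rw [h1, ← h2]; rfl
        rw [h3, htH ⟨_, hk⟩]
      · apply X.sheaf.eq_of_locally_eq' (fun i : PEmpty.{1} => (⊥ : X.Opens)) _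
          (fun i => i.elim) ?_ _ _ (fun i => i.elim)
        intro x hx
        exact (hne ⟨x, hx⟩).elim
    obtain ⟨s, hs, -⟩ := X.sheaf.existsUnique_gluing' (fun g : G => (ρ g).hom ⁻¹ᵁ W₀) W
      (fun g => homOfLE (hUW g)) hcover sfam hcompat
    have hs' : ∀ g : G, X.presheaf.map (homOfLE (hUW g)).op s = sfam g := hs
    -- `s` is invariant
    have hsinv : ∀ γ : G, ((ρ γ).hom.appLE W W (hleW γ)).hom s = s := by
      intro γ
      apply X.sheaf.eq_of_locally_eq' (fun g : G => (ρ g).hom ⁻¹ᵁ W₀) W (fun g => homOfLE (hUW g))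
        hcover
      intro g
      change X.presheaf.map (homOfLE (hUW g)).op _ = X.presheaf.map (homOfLE (hUW g)).op s
      rw [hs' g]
      have hgγ : g * γ⁻¹ * γ = g := by group
      have hcomp : (ρ γ).hom ≫ (ρ (g * γ⁻¹)).hom = (ρ g).hom := by rw [← rho_mul, hgγ]
      have e : (ρ g).hom ⁻¹ᵁ W₀ ≤ (ρ γ).hom ⁻¹ᵁ ((ρ (g * γ⁻¹)).hom ⁻¹ᵁ W₀) := by
        intro x hx
        change (ρ (g * γ⁻¹)).hom ((ρ γ).hom x) ∈ W₀
        rw [← Scheme.Hom.comp_apply, hcomp]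
        exact hx
      have h1 := Scheme.Hom.appLE_map (ρ γ).hom (hleW γ) (homOfLE (hUW g)).op
      have h2 := Scheme.Hom.map_appLE (ρ γ).hom e (homOfLE (hUW (g * γ⁻¹))).op
      have h3 : X.presheaf.map (homOfLE (hUW g)).op (((ρ γ).hom.appLE W W (hleW γ)).hom s) =
          ((ρ γ).hom.appLE ((ρ (g * γ⁻¹)).hom ⁻¹ᵁ W₀) ((ρ g).hom ⁻¹ᵁ W₀) e).hom
            (X.presheaf.map (homOfLE (hUW (g * γ⁻¹))).op s) :=
        congrArg (fun φ => CommRingCat.Hom.hom φ s) (h1.trans h2.symm)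
      rw [h3, hs' (g * γ⁻¹)]
      have h4 := Scheme.Hom.appLE_comp_appLE (ρ γ).hom (ρ (g * γ⁻¹)).hom W₀
        ((ρ (g * γ⁻¹)).hom ⁻¹ᵁ W₀) ((ρ g).hom ⁻¹ᵁ W₀) le_rfl e
      have h5 := appLE_congr_hom hcomp W₀ ((ρ g).hom ⁻¹ᵁ W₀)
        (e.trans ((ρ γ).hom.preimage_mono (le_refl _)))
      have h6 : ((ρ γ).hom.appLE ((ρ (g * γ⁻¹)).hom ⁻¹ᵁ W₀) ((ρ g).hom ⁻¹ᵁ W₀) e).hom
          (((ρ (g * γ⁻¹)).hom.appLE W₀ ((ρ (g * γ⁻¹)).hom ⁻¹ᵁ W₀) le_rfl).hom t) =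
          ((ρ g).hom.appLE W₀ ((ρ g).hom ⁻¹ᵁ W₀) le_rfl).hom t := by
        rw [← h5, ← h4]; rfl
      exact h6
    obtain ⟨a, ha⟩ := (hPV.range_iff s).mpr hsinv
    refine ⟨a, ?_⟩
    have h1 : (p.appLE V W₀ hW₀W).hom a = X.presheaf.map (homOfLE hW₀W).op s := by
      rw [← ha]
      exact (congrArg (fun φ => CommRingCat.Hom.hom φ a)
        (Scheme.Hom.appLE_map p (le_refl W) (homOfLE hW₀W).op)).symm
    refine h1.trans ?_
    have hW₀U : W₀ ≤ (ρ 1).hom ⁻¹ᵁ W₀ := by rw [rho_one]; exact le_rfl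
    rw [← quot_res_res (homOfLE (hUW 1)) (homOfLE hW₀U) (homOfLE hW₀W) s, hs' 1, hsfam_res]
    have h2 := appLE_congr_hom (rho_one ρ) W₀ W₀ hW₀U
    rw [h2]
    exact id_appLE' W₀ _ t

end coset

end Groth.Agent.H37
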