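import Groth.Prelude.Def_W4bk4git07Quot
import Groth.Agent.H37.DescGen
import Groth.Agent.H37.QuotLoc5
import Mathlib

/-! A geometric quotient is a categorical quotient. -/

set_option autoImplicit false
universe u

open CategoryTheory CategoryTheory.Limits AlgebraicGeometry MonoidalCategory
  CartesianMonoidalCategory

namespace Groth.Agent.H37

open Groth.Agent.H15.Quot

variable {S : Scheme.{u}} {G X Y : Over S} [GrpObj G]

/-- Pulling back a section along an invariant morphism gives an invariant section. -/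
theorem isInvSection_appLE (a : AlgGrp.Action G X) (φ : X ⟶ Y) {Z : Over S} (ψ : X ⟶ Z)
    (hψ : GIT.IsInvariant a ψ) (W' : Z.left.Opens) (V' : Y.left.Opens)
    (hle : φ.left ⁻¹ᵁ V' ≤ ψ.left ⁻¹ᵁ W') (s : Γ(Z.left, W')) :
    GIT.IsInvSection a φ V' ((ψ.left.appLE W' (φ.left ⁻¹ᵁ V') hle).hom s) := by
  unfold GIT.IsInvSection
  have h1 := Scheme.Hom.appLE_comp_appLE a.act.left ψ.left W' (φ.left ⁻¹ᵁ V')
    (a.act.left ⁻¹ᵁ (φ.left ⁻¹ᵁ V') ⊓ (snd G X).left ⁻¹ᵁ (φ.left ⁻¹ᵁ V')) hle inf_le_left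
  have h2 := Scheme.Hom.appLE_comp_appLE (snd G X).left ψ.left W' (φ.left ⁻¹ᵁ V')
    (a.act.left ⁻¹ᵁ (φ.left ⁻¹ᵁ V') ⊓ (snd G X).left ⁻¹ᵁ (φ.left ⁻¹ᵁ V')) hle inf_le_right
  have h3 := appLE_congr_hom hψ.left W'
    (a.act.left ⁻¹ᵁ (φ.left ⁻¹ᵁ V') ⊓ (snd G X).left ⁻¹ᵁ (φ.left ⁻¹ᵁ V'))
    (inf_le_left.trans (a.act.left.preimage_mono hle))
  have h4 := h1.trans (h3.trans h2.symm)
  exact congrArg (fun θ => CommRingCat.Hom.hom θ s) h4

theorem isCatQuot_of_isGeomQuot (a : AlgGrp.Action G X) (φ : X ⟶ Y) (h : GIT.IsGeomQuot a φ) :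
    GIT.IsCatQuot a φ := by
  refine ⟨h.inv, fun Z ψ hψ => ?_⟩
  have hepi : EpiLike φ.left := ⟨h.surj, fun U => (h.sections U).1⟩
  have hq : Topology.IsQuotientMap φ.left.base :=
    MorphismProperty.universally_le (P := topologically @Topology.IsQuotientMap) _ h.subm
  have hconst : ∀ x y : X.left, φ.left.base x = φ.left.base y → ψ.left.base x = ψ.left.base y := by
    intro x y hxy
    obtain ⟨z, hz1, hz2⟩ :=
      Scheme.Pullback.exists_preimage_pullback (f := φ.left) (g := φ.left) x y hxy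
    obtain ⟨t, rfl⟩ := h.orbit z
    have e1 : (GIT.PsiY a φ h.inv) ≫ pullback.fst φ.left φ.left = a.act.left :=
      pullback.lift_fst _ _ _
    have e2 : (GIT.PsiY a φ h.inv) ≫ pullback.snd φ.left φ.left = (snd G X).left :=
      pullback.lift_snd _ _ _
    have hx : a.act.left.base t = x := by rw [← e1]; exact hz1
    have hy : (snd G X).left.base t = y := by rw [← e2]; exact hz2
    rw [← hx, ← hy]
    exact congr($(hψ.left).base t)
  obtain ⟨v, hv⟩ := descGen_exists hepi ψ.left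
    (descGen_cover_of_isQuotientMap h.surj hq ψ.left hconst)
    (fun W' V' hle s => by
      have := isInvSection_appLE a φ ψ hψ W' V' hle s
      have h2 := (h.sections V').2
      exact (Set.ext_iff.mp h2 _).mpr this)
  have hv' : v ≫ Z.hom = Y.hom := by
    apply hepi.eq_of_comp_eq
    rw [← Category.assoc, hv, Over.w, Over.w]
  refine ⟨Over.homMk v hv', ?_, fun χ hχ => ?_⟩
  · ext
    exact hv
  · ext
    apply hepi.eq_of_comp_eq
    have hχ' : φ ≫ χ = ψ := hχ
    change φ.left ≫ χ.left = φ.left ≫ v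
    rw [hv, ← Over.comp_left, hχ']

end Groth.Agent.H37
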