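import Groth.Prelude.Def_W4bk4git07Quot
import Groth.Agent.H37.FpqcSec
import Groth.Agent.H37.GeomCatQuot
import Mathlib

/-! Geometric quotients descend along fpqc base change. -/

set_option autoImplicit false
universe u

open CategoryTheory CategoryTheory.Limits AlgebraicGeometry MonoidalCategory
  CartesianMonoidalCategory

namespace Groth.Agent.H37

section schemeLevel

variable {X Y X' Y' GX GX' : Scheme.{u}} {φ : X ⟶ Y} {α : Y' ⟶ Y} {pr : X' ⟶ X} {φ' : X' ⟶ Y'}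

theorem preimage_eq_of_isPullback (H : IsPullback pr φ' φ α) (U : Y.Opens) :
    pr ⁻¹ᵁ (φ ⁻¹ᵁ U) = φ' ⁻¹ᵁ (α ⁻¹ᵁ U) := by
  rw [← Scheme.Hom.comp_preimage, ← Scheme.Hom.comp_preimage, H.w]

theorem app_comp_eq_of_isPullback (H : IsPullback pr φ' φ α) (U : Y.Opens) :
    φ.app U ≫ pr.appLE (φ ⁻¹ᵁ U) (φ' ⁻¹ᵁ (α ⁻¹ᵁ U)) (preimage_eq_of_isPullback H U).ge =
      α.app U ≫ φ'.app (α ⁻¹ᵁ U) := by
  have e1 := Scheme.Hom.appLE_comp_appLE pr φ U (φ ⁻¹ᵁ U) (φ' ⁻¹ᵁ (α ⁻¹ᵁ U)) le_rfl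
    (preimage_eq_of_isPullback H U).ge
  have e2 := Scheme.Hom.appLE_comp_appLE φ' α U (α ⁻¹ᵁ U) (φ' ⁻¹ᵁ (α ⁻¹ᵁ U)) le_rfl le_rfl
  have e3 := appLE_congr_hom' H.w U (φ' ⁻¹ᵁ (α ⁻¹ᵁ U))
    ((preimage_eq_of_isPullback H U).ge.trans (pr.preimage_mono le_rfl))
  have h1 : φ.appLE U (φ ⁻¹ᵁ U) le_rfl = φ.app U := by simp [Scheme.Hom.appLE]
  have h2 : α.appLE U (α ⁻¹ᵁ U) le_rfl = α.app U := by simp [Scheme.Hom.appLE]
  have h3 : φ'.appLE (α ⁻¹ᵁ U) (φ' ⁻¹ᵁ (α ⁻¹ᵁ U)) le_rfl = φ'.app (α ⁻¹ᵁ U) := by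
    simp [Scheme.Hom.appLE]
  rw [h1] at e1
  rw [h2, h3] at e2
  rw [e1, e2, e3]

/-- injectivity on sections descends along an fpqc base change -/
theorem app_injective_descend (H : IsPullback pr φ' φ α) [Flat α] [Surjective α]
    (U : Y.Opens) (hinj' : Function.Injective (φ'.app (α ⁻¹ᵁ U)).hom) :
    Function.Injective (φ.app U).hom := by
  have h1 : Function.Injective (α.app U ≫ φ'.app (α ⁻¹ᵁ U)).hom := by
    simp only [CommRingCat.hom_comp, RingHom.coe_comp]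
    exact hinj'.comp (Groth.Agent.H24.app_injective_of_flat_of_surjective α U)
  rw [← app_comp_eq_of_isPullback H U] at h1
  simp only [CommRingCat.hom_comp, RingHom.coe_comp] at h1
  exact Function.Injective.of_comp h1

/-- The invariant sections descend along an fpqc base change. -/
theorem invariant_sections_descend (H : IsPullback pr φ' φ α) [Flat α] [Surjective α]
    [QuasiCompact α] [QuasiCompact φ]
    (σ p₂ : GX ⟶ X) (σ' p₂' : GX' ⟶ X') (w : GX' ⟶ GX)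
    (hσ : σ' ≫ pr = w ≫ σ) (hp : p₂' ≫ pr = w ≫ p₂)
    (U : Y.Opens)
    (hinj' : ∀ V : Y'.Opens, Function.Injective (φ'.app V).hom)
    (hrange' : ∀ f' : Γ(X', φ' ⁻¹ᵁ (α ⁻¹ᵁ U)),
      (σ'.appLE (φ' ⁻¹ᵁ (α ⁻¹ᵁ U))
          (σ' ⁻¹ᵁ (φ' ⁻¹ᵁ (α ⁻¹ᵁ U)) ⊓ p₂' ⁻¹ᵁ (φ' ⁻¹ᵁ (α ⁻¹ᵁ U))) inf_le_left).hom f' =
        (p₂'.appLE (φ' ⁻¹ᵁ (α ⁻¹ᵁ U))
          (σ' ⁻¹ᵁ (φ' ⁻¹ᵁ (α ⁻¹ᵁ U)) ⊓ p₂' ⁻¹ᵁ (φ' ⁻¹ᵁ (α ⁻¹ᵁ U))) inf_le_right).hom f' →
      f' ∈ Set.range (φ'.app (α ⁻¹ᵁ U)).hom)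
    (f : Γ(X, φ ⁻¹ᵁ U))
    (hf : (σ.appLE (φ ⁻¹ᵁ U) (σ ⁻¹ᵁ (φ ⁻¹ᵁ U) ⊓ p₂ ⁻¹ᵁ (φ ⁻¹ᵁ U)) inf_le_left).hom f =
      (p₂.appLE (φ ⁻¹ᵁ U) (σ ⁻¹ᵁ (φ ⁻¹ᵁ U) ⊓ p₂ ⁻¹ᵁ (φ ⁻¹ᵁ U)) inf_le_right).hom f) :
    f ∈ Set.range (φ.app U).hom := by
  haveI : QuasiCompact φ' := MorphismProperty.of_isPullback (P := @QuasiCompact) H ‹_›
  haveI : Flat pr := MorphismProperty.of_isPullback (P := @Flat) H.flip ‹_›
  haveI : Surjective pr := MorphismProperty.of_isPullback (P := @Surjective) H.flip ‹_›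
  let V : X.Opens := φ ⁻¹ᵁ U
  let U' : Y'.Opens := α ⁻¹ᵁ U
  let V' : X'.Opens := φ' ⁻¹ᵁ U'
  have hVV' : V' ≤ pr ⁻¹ᵁ V := (preimage_eq_of_isPullback H U).ge
  let I : GX.Opens := σ ⁻¹ᵁ V ⊓ p₂ ⁻¹ᵁ V
  let I' : GX'.Opens := σ' ⁻¹ᵁ V' ⊓ p₂' ⁻¹ᵁ V'
  have hII' : I' ≤ w ⁻¹ᵁ I := by
    intro z hz
    refine ⟨?_, ?_⟩
    · change (w ≫ σ) z ∈ V
      rw [← hσ]
      exact hVV' hz.1
    · change (w ≫ p₂) z ∈ V
      rw [← hp]
      exact hVV' hz.2
  -- Step 1: the pulled back section is invariant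
  let f' : Γ(X', V') := (pr.appLE V V' hVV').hom f
  have hf' : (σ'.appLE V' I' inf_le_left).hom f' = (p₂'.appLE V' I' inf_le_right).hom f' := by
    have a1 := Scheme.Hom.appLE_comp_appLE σ' pr V V' I' hVV' inf_le_left
    have a2 := Scheme.Hom.appLE_comp_appLE p₂' pr V V' I' hVV' inf_le_right
    have b1 := Scheme.Hom.appLE_comp_appLE w σ V I I' inf_le_left hII'
    have b2 := Scheme.Hom.appLE_comp_appLE w p₂ V I I' inf_le_right hII'
    have c1 := appLE_congr_hom' hσ V I' (inf_le_left.trans (σ'.preimage_mono hVV'))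
    have c2 := appLE_congr_hom' hp V I' (inf_le_right.trans (p₂'.preimage_mono hVV'))
    have d1 : (σ'.appLE V' I' inf_le_left).hom f' =
        (w.appLE I I' hII').hom ((σ.appLE V I inf_le_left).hom f) := by
      have := a1.trans (c1.trans b1.symm)
      exact congrArg (fun θ => CommRingCat.Hom.hom θ f) this
    have d2 : (p₂'.appLE V' I' inf_le_right).hom f' =
        (w.appLE I I' hII').hom ((p₂.appLE V I inf_le_right).hom f) := by
      have := a2.trans (c2.trans b2.symm)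
      exact congrArg (fun θ => CommRingCat.Hom.hom θ f) this
    rw [d1, d2]
    exact congrArg _ hf
  -- Step 2: descend to `Y'`
  obtain ⟨t, ht⟩ := hrange' f' hf'
  -- Step 3: cocycle condition
  let q₁ := pullback.fst α α
  let q₂ := pullback.snd α α
  let W₁ := q₁ ⁻¹ᵁ U'
  let g₁ := pullback.fst φ' q₁
  let π := pullback.snd φ' q₁
  have H₁ : IsPullback g₁ π φ' q₁ := IsPullback.of_hasPullback φ' q₁
  have hcond : (g₁ ≫ pr) ≫ φ = (π ≫ q₂) ≫ α := by
    rw [Category.assoc, H.w, ← Category.assoc, H₁.w, Category.assoc, Category.assoc,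
      pullback.condition]
  let g₂ : pullback φ' q₁ ⟶ X' := H.lift (g₁ ≫ pr) (π ≫ q₂) hcond
  have hg₂pr : g₂ ≫ pr = g₁ ≫ pr := H.lift_fst _ _ _
  have hg₂φ : g₂ ≫ φ' = π ≫ q₂ := H.lift_snd _ _ _
  have hπinj : Function.Injective (π.app W₁).hom :=
    app_injective_of_isPullback_flat H₁ hinj' W₁
  have hW₁2 : W₁ ≤ q₂ ⁻¹ᵁ U' := fst_preimage_le_snd_preimage α U
  have hle1 : π ⁻¹ᵁ W₁ ≤ g₁ ⁻¹ᵁ V' := by
    intro z hz
    change (g₁ ≫ φ') z ∈ U'
    rw [H₁.w]
    exact hz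
  have hle2 : π ⁻¹ᵁ W₁ ≤ g₂ ⁻¹ᵁ V' := by
    intro z hz
    change (g₂ ≫ φ') z ∈ U'
    rw [hg₂φ]
    exact hW₁2 hz
  have hcocycle : (q₁.appLE U' W₁ le_rfl).hom t = (q₂.appLE U' W₁ hW₁2).hom t := by
    apply hπinj
    -- both sides equal `(g_i ≫ pr)^♯ f`
    have k1 := Scheme.Hom.appLE_comp_appLE π q₁ U' W₁ (π ⁻¹ᵁ W₁) le_rfl le_rfl
    have k2 := Scheme.Hom.appLE_comp_appLE π q₂ U' W₁ (π ⁻¹ᵁ W₁) hW₁2 le_rfl
    have l1 := Scheme.Hom.appLE_comp_appLE g₁ φ' U' V' (π ⁻¹ᵁ W₁) le_rfl hle1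
    have l2 := Scheme.Hom.appLE_comp_appLE g₂ φ' U' V' (π ⁻¹ᵁ W₁) le_rfl hle2
    have m1 := appLE_congr_hom' H₁.w U' (π ⁻¹ᵁ W₁) (hle1.trans (g₁.preimage_mono le_rfl))
    have m2 := appLE_congr_hom' hg₂φ U' (π ⁻¹ᵁ W₁) (hle2.trans (g₂.preimage_mono le_rfl))
    have n1 := Scheme.Hom.appLE_comp_appLE g₁ pr V V' (π ⁻¹ᵁ W₁) hVV' hle1
    have n2 := Scheme.Hom.appLE_comp_appLE g₂ pr V V' (π ⁻¹ᵁ W₁) hVV' hle2
    have o := appLE_congr_hom' hg₂pr V (π ⁻¹ᵁ W₁) (hle2.trans (g₂.preimage_mono hVV'))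
    have hπapp : π.appLE W₁ (π ⁻¹ᵁ W₁) le_rfl = π.app W₁ := by simp [Scheme.Hom.appLE]
    have hφ'app : φ'.appLE U' V' le_rfl = φ'.app U' := by simp [Scheme.Hom.appLE, V']
    rw [hπapp] at k1 k2
    rw [hφ'app] at l1 l2
    have r1 : (π.app W₁).hom ((q₁.appLE U' W₁ le_rfl).hom t) =
        ((g₁ ≫ pr).appLE V (π ⁻¹ᵁ W₁) (hle1.trans (g₁.preimage_mono hVV'))).hom f := by
      have e := congrArg (fun θ => CommRingCat.Hom.hom θ t) (k1.trans (m1.symm.trans l1.symm))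
      simp only [CommRingCat.hom_comp, RingHom.coe_comp, Function.comp_apply] at e
      rw [e, ht]
      exact congrArg (fun θ => CommRingCat.Hom.hom θ f) n1
    have r2 : (π.app W₁).hom ((q₂.appLE U' W₁ hW₁2).hom t) =
        ((g₂ ≫ pr).appLE V (π ⁻¹ᵁ W₁) (hle2.trans (g₂.preimage_mono hVV'))).hom f := by
      have e := congrArg (fun θ => CommRingCat.Hom.hom θ t) (k2.trans (m2.symm.trans l2.symm))
      simp only [CommRingCat.hom_comp, RingHom.coe_comp, Function.comp_apply] at e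
      rw [e, ht]
      exact congrArg (fun θ => CommRingCat.Hom.hom θ f) n2
    rw [r1, r2, o]
  -- Step 4: descend and conclude
  obtain ⟨s, hs⟩ := exists_app_eq_of_fpqc α U t hcocycle
  refine ⟨s, ?_⟩
  have hprinj : Function.Injective (pr.appLE V V' hVV').hom := by
    have h1 : pr.appLE V V' hVV' = pr.app V ≫ X'.presheaf.map (homOfLE hVV').op := rfl
    rw [h1]
    have hiso : IsIso (X'.presheaf.map (homOfLE hVV').op) := by
      have : homOfLE hVV' = eqToHom (preimage_eq_of_isPullback H U).symm := rfl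
      rw [this]; infer_instance
    simp only [CommRingCat.hom_comp, RingHom.coe_comp]
    exact (ConcreteCategory.bijective_of_isIso _).injective.comp
      (Groth.Agent.H24.app_injective_of_flat_of_surjective pr V)
  apply hprinj
  have e := congrArg (fun θ => CommRingCat.Hom.hom θ s) (app_comp_eq_of_isPullback H U)
  simp only [CommRingCat.hom_comp, RingHom.coe_comp, Function.comp_apply] at e
  rw [e, hs, ht]

end schemeLevel

section overLevel

variable {S : Scheme.{u}} {G X Y X' Y' : Over S} [GrpObj G]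

/-- **Geometric quotients descend along fpqc base change.** -/
theorem isGeomQuot_of_fpqc_baseChange
    (a : AlgGrp.Action G X) (φ : X ⟶ Y) (hinv : GIT.IsInvariant a φ) [QuasiCompact φ.left]
    (α : Y' ⟶ Y) [Flat α.left] [Surjective α.left] [QuasiCompact α.left]
    (pr : X' ⟶ X) (φ' : X' ⟶ Y') (hpb : IsPullback pr φ' φ α)
    (a' : AlgGrp.Action G X') (heq : a'.act ≫ pr = (G ◁ pr) ≫ a.act)
    (h : GIT.IsGeomQuot a' φ') : GIT.IsGeomQuot a φ := by
  have H : IsPullback pr.left φ'.left φ.left α.left := hpb.map (Over.forget S)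
  have hσ : a'.act.left ≫ pr.left = (G ◁ pr).left ≫ a.act.left := by
    rw [← Over.comp_left, ← Over.comp_left, heq]
  have hp : (snd G X').left ≫ pr.left = (G ◁ pr).left ≫ (snd G X).left := by
    rw [← Over.comp_left, ← Over.comp_left, whiskerLeft_snd]
  haveI : Surjective pr.left := MorphismProperty.of_isPullback (P := @Surjective) H.flip ‹_›
  refine ⟨hinv, ?_, ?_, ?_, ?_⟩
  · -- surjectivity
    intro y
    obtain ⟨y', rfl⟩ := α.left.surjective y
    obtain ⟨x', rfl⟩ := h.surj y'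
    refine ⟨pr.left.base x', ?_⟩
    exact congr($(H.w).base x')
  · -- orbits
    let q₁ := pullback.fst φ'.left φ'.left
    let q₂ := pullback.snd φ'.left φ'.left
    let pr₁ := pullback.fst φ.left φ.left
    let pr₂ := pullback.snd φ.left φ.left
    let m : pullback φ'.left φ'.left ⟶ pullback φ.left φ.left :=
      pullback.map φ'.left φ'.left φ.left φ.left pr.left pr.left α.left H.w.symm H.w.symm
    have hm1 : m ≫ pr₁ = q₁ ≫ pr.left := pullback.lift_fst _ _ _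
    have hm2 : m ≫ pr₂ = q₂ ≫ pr.left := pullback.lift_snd _ _ _
    have sqR : IsPullback m q₂ pr₂ pr.left := by
      refine IsPullback.of_right ?_ hm2 (IsPullback.of_hasPullback φ.left φ.left)
      rw [hm1, H.w]
      exact (IsPullback.of_hasPullback φ'.left φ'.left).paste_horiz H
    haveI : Surjective m := MorphismProperty.of_isPullback (P := @Surjective) sqR.flip ‹_›
    have hΨ : GIT.PsiY a' φ' h.inv ≫ m = (G ◁ pr).left ≫ GIT.PsiY a φ hinv := by
      apply pullback.hom_ext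
      · rw [Category.assoc, Category.assoc]
        change _ ≫ m ≫ pr₁ = _
        rw [hm1]
        unfold GIT.PsiY
        rw [pullback.lift_fst_assoc, pullback.lift_fst, hσ]
      · rw [Category.assoc, Category.assoc]
        change _ ≫ m ≫ pr₂ = _
        rw [hm2]
        unfold GIT.PsiY
        rw [pullback.lift_snd_assoc, pullback.lift_snd, hp]
    intro z
    obtain ⟨z', rfl⟩ := m.surjective z
    obtain ⟨gx', rfl⟩ := h.orbit z'
    refine ⟨(G ◁ pr).left.base gx', ?_⟩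
    exact (congr($(hΨ).base gx')).symm
  · -- universally submersive
    intro XT T i₁ i₂ φT sq
    let pT := pullback.fst i₂ α.left
    let gT := pullback.snd i₂ α.left
    let u := pullback.fst φT pT
    let φT' := pullback.snd φT pT
    have hk : (u ≫ i₁) ≫ φ.left = (φT' ≫ gT) ≫ α.left := by
      rw [Category.assoc, ← sq.w, ← Category.assoc, pullback.condition, Category.assoc,
        Category.assoc, pullback.condition]
    let k := H.lift (u ≫ i₁) (φT' ≫ gT) hk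
    have hk1 : k ≫ pr.left = u ≫ i₁ := H.lift_fst _ _ _
    have hk2 : k ≫ φ'.left = φT' ≫ gT := H.lift_snd _ _ _
    have big : IsPullback φT' (k ≫ pr.left) (gT ≫ α.left) φ.left := by
      rw [hk1, ← pullback.condition]
      exact (IsPullback.of_hasPullback φT pT).flip.paste_vert sq
    have sq' : IsPullback φT' k gT φ'.left := IsPullback.of_bot big hk2.symm H.flip
    have hq' : Topology.IsQuotientMap φT'.base := h.subm k gT φT' sq'
    have hpT : Topology.IsQuotientMap pT.base := Flat.isQuotientMap_of_surjective pT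
    have hcomp : Topology.IsQuotientMap (φT.base ∘ u.base) := by
      have h1 : (φT.base ∘ u.base : _ → _) = (pT.base ∘ φT'.base : _ → _) := by
        have := congr($(pullback.condition (f := φT) (g := pT)).base)
        ext z
        exact congr($this z)
      rw [h1]
      exact hpT.comp hq'
    exact Topology.IsQuotientMap.of_comp u.continuous φT.continuous hcomp
  · -- sections
    intro U
    refine ⟨app_injective_descend H U (h.sections (α.left ⁻¹ᵁ U)).1, ?_⟩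
    ext f
    constructor
    · rintro ⟨s, rfl⟩
      have := isInvSection_appLE a φ φ hinv U U le_rfl s
      have h1 : φ.left.appLE U (φ.left ⁻¹ᵁ U) le_rfl = φ.left.app U := by
        simp [Scheme.Hom.appLE]
      rw [h1] at this
      exact this
    · intro hf
      refine invariant_sections_descend H a.act.left (snd G X).left a'.act.left
        (snd G X').left (G ◁ pr).left hσ hp U (fun V => (h.sections V).1) ?_ f hf
      intro f' hf'
      have h2 := (h.sections (α.left ⁻¹ᵁ U)).2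
      rw [h2]
      exact hf'

end overLevel

end Groth.Agent.H37
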