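import Groth.Prelude.Def_W4bk4git07Quot
import Groth.Agent.H37.GeomQuotFpqc
import Mathlib

/-! The induced action on a base change of an invariant morphism, and descent of universal
geometric quotients along fpqc base change. -/

set_option autoImplicit false
universe u

open CategoryTheory CategoryTheory.Limits AlgebraicGeometry MonoidalCategory
  CartesianMonoidalCategory MonObj

namespace Groth.Agent.H37

section

variable {S : Scheme.{u}} {G X Y Y' : Over S} [GrpObj G]

/-- the action morphism on `X ×_Y Y'` induced by an action on `X` leaving `φ : X ⟶ Y` invariant -/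
noncomputable def pbAct (a : AlgGrp.Action G X) (φ : X ⟶ Y) (hinv : GIT.IsInvariant a φ)
    (α : Y' ⟶ Y) : G ⊗ pullback φ α ⟶ pullback φ α :=
  pullback.lift ((G ◁ pullback.fst φ α) ≫ a.act) (snd G (pullback φ α) ≫ pullback.snd φ α) (by
    rw [Category.assoc, hinv, whiskerLeft_snd_assoc, pullback.condition, Category.assoc])

/-- the action on `X ×_Y Y'` induced by an action on `X` leaving `φ : X ⟶ Y` invariant -/
noncomputable def pullbackAction (a : AlgGrp.Action G X) (φ : X ⟶ Y) (hinv : GIT.IsInvariant a φ)
    (α : Y' ⟶ Y) : AlgGrp.Action G (pullback φ α) where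
  act := pbAct a φ hinv α
  one_act := by
    apply pullback.hom_ext
    · simp only [pbAct, Category.assoc, pullback.lift_fst]
      rw [← whisker_exchange_assoc, a.one_act]
      simp
    · simp only [pbAct, Category.assoc, pullback.lift_snd]
      simp [leftUnitor_hom]
  mul_act := by
    apply pullback.hom_ext
    · simp only [pbAct, Category.assoc, pullback.lift_fst]
      rw [← whisker_exchange_assoc, a.mul_act]
      rw [← MonoidalCategory.whiskerLeft_comp_assoc, pullback.lift_fst]
      simp
    · simp only [pbAct, Category.assoc, pullback.lift_snd]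
      rw [whiskerLeft_snd_assoc, pullback.lift_snd]
      simp

theorem pullbackAction_act_fst (a : AlgGrp.Action G X) (φ : X ⟶ Y) (hinv : GIT.IsInvariant a φ)
    (α : Y' ⟶ Y) :
    (pullbackAction a φ hinv α).act ≫ pullback.fst φ α = (G ◁ pullback.fst φ α) ≫ a.act :=
  pullback.lift_fst _ _ _

theorem pullbackAction_invariant (a : AlgGrp.Action G X) (φ : X ⟶ Y) (hinv : GIT.IsInvariant a φ)
    (α : Y' ⟶ Y) : GIT.IsInvariant (pullbackAction a φ hinv α) (pullback.snd φ α) :=
  pullback.lift_snd _ _ _

end

section

variable {S : Scheme.{u}} {G X Y X' Y' : Over S} [GrpObj G]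

/-- **Universal geometric quotients descend along fpqc base change.** -/
theorem isUnivGeomQuot_of_fpqc_baseChange
    (a : AlgGrp.Action G X) (φ : X ⟶ Y) (hinv : GIT.IsInvariant a φ) [QuasiCompact φ.left]
    (α : Y' ⟶ Y) [Flat α.left] [Surjective α.left] [QuasiCompact α.left]
    (pr : X' ⟶ X) (φ' : X' ⟶ Y') (hpb : IsPullback pr φ' φ α)
    (a' : AlgGrp.Action G X') (heq : a'.act ≫ pr = (G ◁ pr) ≫ a.act)
    (hinv' : GIT.IsInvariant a' φ')
    (h : GIT.IsUnivGeomQuot a' φ') : GIT.IsUnivGeomQuot a φ := by
  refine ⟨isGeomQuot_of_fpqc_baseChange a φ hinv α pr φ' hpb a' heq h.1, ?_⟩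
  intro XT T prT φT g _ hpbT aT heqT hinvT
  let αT : pullback g α ⟶ T := pullback.fst g α
  let gT : pullback g α ⟶ Y' := pullback.snd g α
  let prT' := pullback.fst φT αT
  let φT' := pullback.snd φT αT
  let aT' := pullbackAction aT φT hinvT αT
  have HαT : IsPullback αT.left gT.left g.left α.left :=
    (IsPullback.of_hasPullback g α).map (Over.forget S)
  haveI : Flat αT.left := MorphismProperty.of_isPullback (P := @Flat) HαT.flip ‹_›
  haveI : Surjective αT.left := MorphismProperty.of_isPullback (P := @Surjective) HαT.flip ‹_›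
  haveI : QuasiCompact αT.left :=
    MorphismProperty.of_isPullback (P := @QuasiCompact) HαT.flip ‹_›
  have HφT : IsPullback prT.left φT.left φ.left g.left := hpbT.map (Over.forget S)
  haveI : QuasiCompact φT.left := MorphismProperty.of_isPullback (P := @QuasiCompact) HφT ‹_›
  refine isGeomQuot_of_fpqc_baseChange aT φT hinvT αT prT' φT'
    (IsPullback.of_hasPullback φT αT) aT' (pullbackAction_act_fst aT φT hinvT αT) ?_
  -- the base change to `T'` is also a base change of `φ'`
  have hk : (prT' ≫ prT) ≫ φ = (φT' ≫ gT) ≫ α := by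
    rw [Category.assoc, hpbT.w, ← Category.assoc, pullback.condition, Category.assoc,
      Category.assoc, pullback.condition]
  let kT : pullback φT αT ⟶ X' := hpb.lift (prT' ≫ prT) (φT' ≫ gT) hk
  have hk1 : kT ≫ pr = prT' ≫ prT := hpb.lift_fst _ _ _
  have hk2 : kT ≫ φ' = φT' ≫ gT := hpb.lift_snd _ _ _
  have sq' : IsPullback kT φT' φ' gT := by
    refine IsPullback.of_right ?_ hk2 hpb
    rw [hk1, ← pullback.condition]
    exact (IsPullback.of_hasPullback φT αT).paste_horiz hpbT
  have hinv'' : GIT.IsInvariant aT' φT' := pullbackAction_invariant aT φT hinvT αT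
  have heq'' : aT'.act ≫ kT = (G ◁ kT) ≫ a'.act := by
    apply hpb.hom_ext
    · rw [Category.assoc, hk1, ← Category.assoc, pullbackAction_act_fst, Category.assoc, heqT,
        Category.assoc, heq, ← MonoidalCategory.whiskerLeft_comp_assoc,
        ← MonoidalCategory.whiskerLeft_comp_assoc, hk1]
    · rw [Category.assoc, hk2, ← Category.assoc, hinv'', Category.assoc, Category.assoc, hinv',
        whiskerLeft_snd_assoc, hk2]
  exact h.2 kT φT' gT trivial sq' aT' heq'' hinv''

end

end Groth.Agent.H37
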