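import Groth.Agent.H37.Dn

set_option autoImplicit false
set_option linter.unusedVariables false
set_option linter.unnecessarySeqFocus false
set_option linter.unreachableTactic false
set_option linter.unusedTactic false
open Finset

namespace Groth.Agent.H37

namespace M2Config

variable {r : ℕ}

/-- Classification of `D8`. -/
theorem d8 (C : M2Config 8) (h01 : C.A 0 1 ≠ 0) (h12 : C.A 1 2 ≠ 0) (h23 : C.A 2 3 ≠ 0) (h34 : C.A 3 4 ≠ 0) (h45 : C.A 4 5 ≠ 0) (h56 : C.A 5 6 ≠ 0) (h57 : C.A 5 7 ≠ 0) :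
    C.W 0 = C.W 5 ∧
    C.W 1 = C.W 5 ∧
    C.W 2 = C.W 5 ∧
    C.W 3 = C.W 5 ∧
    C.W 4 = C.W 5 ∧
    C.W 6 = C.W 5 ∧
    C.W 7 = C.W 5 ∧
    C.A 0 1 = C.W 5 ∧
    C.A 1 2 = C.W 5 ∧
    C.A 2 3 = C.W 5 ∧
    C.A 3 4 = C.W 5 ∧
    C.A 4 5 = C.W 5 ∧
    C.A 5 6 = C.W 5 ∧
    C.A 5 7 = C.W 5 ∧
    C.A 0 2 = 0 ∧
    C.A 0 3 = 0 ∧
    C.A 0 4 = 0 ∧
    C.A 0 5 = 0 ∧
    C.A 0 6 = 0 ∧
    C.A 0 7 = 0 ∧
    C.A 1 3 = 0 ∧
    C.A 1 4 = 0 ∧
    C.A 1 5 = 0 ∧
    C.A 1 6 = 0 ∧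
    C.A 1 7 = 0 ∧
    C.A 2 4 = 0 ∧
    C.A 2 5 = 0 ∧
    C.A 2 6 = 0 ∧
    C.A 2 7 = 0 ∧
    C.A 3 5 = 0 ∧
    C.A 3 6 = 0 ∧
    C.A 3 7 = 0 ∧
    C.A 4 6 = 0 ∧
    C.A 4 7 = 0 ∧
    C.A 6 7 = 0 := by
  have hw0 := C.W_pos 0
  have hw1 := C.W_pos 1
  have hw2 := C.W_pos 2
  have hw3 := C.W_pos 3
  have hw4 := C.W_pos 4
  have hw5 := C.W_pos 5
  have hw6 := C.W_pos 6
  have hw7 := C.W_pos 7
  have n0_1 := C.A_nonneg 0 1 (by decide)
  have y1_0 := C.A_symm 1 0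
  have n0_2 := C.A_nonneg 0 2 (by decide)
  have y2_0 := C.A_symm 2 0
  have n0_3 := C.A_nonneg 0 3 (by decide)
  have y3_0 := C.A_symm 3 0
  have n0_4 := C.A_nonneg 0 4 (by decide)
  have y4_0 := C.A_symm 4 0
  have n0_5 := C.A_nonneg 0 5 (by decide)
  have y5_0 := C.A_symm 5 0
  have n0_6 := C.A_nonneg 0 6 (by decide)
  have y6_0 := C.A_symm 6 0
  have n0_7 := C.A_nonneg 0 7 (by decide)
  have y7_0 := C.A_symm 7 0
  have n1_2 := C.A_nonneg 1 2 (by decide)
  have y2_1 := C.A_symm 2 1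
  have n1_3 := C.A_nonneg 1 3 (by decide)
  have y3_1 := C.A_symm 3 1
  have n1_4 := C.A_nonneg 1 4 (by decide)
  have y4_1 := C.A_symm 4 1
  have n1_5 := C.A_nonneg 1 5 (by decide)
  have y5_1 := C.A_symm 5 1
  have n1_6 := C.A_nonneg 1 6 (by decide)
  have y6_1 := C.A_symm 6 1
  have n1_7 := C.A_nonneg 1 7 (by decide)
  have y7_1 := C.A_symm 7 1
  have n2_3 := C.A_nonneg 2 3 (by decide)
  have y3_2 := C.A_symm 3 2
  have n2_4 := C.A_nonneg 2 4 (by decide)
  have y4_2 := C.A_symm 4 2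
  have n2_5 := C.A_nonneg 2 5 (by decide)
  have y5_2 := C.A_symm 5 2
  have n2_6 := C.A_nonneg 2 6 (by decide)
  have y6_2 := C.A_symm 6 2
  have n2_7 := C.A_nonneg 2 7 (by decide)
  have y7_2 := C.A_symm 7 2
  have n3_4 := C.A_nonneg 3 4 (by decide)
  have y4_3 := C.A_symm 4 3
  have n3_5 := C.A_nonneg 3 5 (by decide)
  have y5_3 := C.A_symm 5 3
  have n3_6 := C.A_nonneg 3 6 (by decide)
  have y6_3 := C.A_symm 6 3
  have n3_7 := C.A_nonneg 3 7 (by decide)
  have y7_3 := C.A_symm 7 3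
  have n4_5 := C.A_nonneg 4 5 (by decide)
  have y5_4 := C.A_symm 5 4
  have n4_6 := C.A_nonneg 4 6 (by decide)
  have y6_4 := C.A_symm 6 4
  have n4_7 := C.A_nonneg 4 7 (by decide)
  have y7_4 := C.A_symm 7 4
  have n5_6 := C.A_nonneg 5 6 (by decide)
  have y6_5 := C.A_symm 6 5
  have n5_7 := C.A_nonneg 5 7 (by decide)
  have y7_5 := C.A_symm 7 5
  have n6_7 := C.A_nonneg 6 7 (by decide)
  have y7_6 := C.A_symm 7 6
  have l0_1 := C.W_le_left (s := 0) (t := 1) (by decide) h01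
  have r0_1 := C.W_le_right (s := 0) (t := 1) (by decide) h01
  have l1_2 := C.W_le_left (s := 1) (t := 2) (by decide) h12
  have r1_2 := C.W_le_right (s := 1) (t := 2) (by decide) h12
  have l2_3 := C.W_le_left (s := 2) (t := 3) (by decide) h23
  have r2_3 := C.W_le_right (s := 2) (t := 3) (by decide) h23
  have l3_4 := C.W_le_left (s := 3) (t := 4) (by decide) h34
  have r3_4 := C.W_le_right (s := 3) (t := 4) (by decide) h34
  have l4_5 := C.W_le_left (s := 4) (t := 5) (by decide) h45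
  have r4_5 := C.W_le_right (s := 4) (t := 5) (by decide) h45
  have l5_6 := C.W_le_left (s := 5) (t := 6) (by decide) h56
  have r5_6 := C.W_le_right (s := 5) (t := 6) (by decide) h56
  have l5_7 := C.W_le_left (s := 5) (t := 7) (by decide) h57
  have r5_7 := C.W_le_right (s := 5) (t := 7) (by decide) h57
  obtain ⟨w1, w2, w3, w4, w6, w7, a1_2, a2_3, a3_4, a4_5, a5_6, a5_7, z1_3, z1_4, z1_5, z1_6, z1_7, z2_4, z2_5, z2_6, z2_7, z3_5, z3_6, z3_7, z4_6, z4_7, z6_7⟩ :=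
    C.d7' (a := 1) (b := 2) (c := 3) (d := 4) (e := 5) (f := 6) (g := 7) (by decide) (by decide) (by decide) (by decide) (by decide) (by decide) (by decide) (by decide) (by decide) (by decide) (by decide) (by decide) (by decide) (by decide) (by decide) (by decide) (by decide) (by decide) (by decide) (by decide) (by decide) h12 h23 h34 h45 h56 h57
  obtain ⟨z0_2, hc⟩ := C.chain3' (a := 0) (b := 1) (c := 2) (by decide) (by decide) (by decide) h01 h12
  have main : C.W 0 = C.W 5 ∧ C.A 0 1 = C.W 5 := by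
    rcases hc with ⟨e1, e2, e3, e4⟩ | ⟨e1, e2, e3, e4⟩ | ⟨e1, e2, e3, e4⟩ | ⟨e1, e2, e3, e4⟩ |
      ⟨e1, e2, e3, e4⟩
    · constructor <;> linarith
    · exfalso; linarith
    · exfalso; linarith
    · exfalso
      apply C.no_sub ![1, 2, 2, 2, 2, 2, 1, 1]
      · intro s; fin_cases s <;> simp
      · intro h; have := congrFun h 0; simp at this
      · intro s; fin_cases s <;> simp [Fin.sum_univ_succ, C.A_diag] <;> linarith
    · exfalso
      apply C.no_sub ![2, 2, 2, 2, 2, 2, 1, 1]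
      · intro s; fin_cases s <;> simp
      · intro h; have := congrFun h 0; simp at this
      · intro s; fin_cases s <;> simp [Fin.sum_univ_succ, C.A_diag] <;> linarith
  have z0_3 : C.A 0 3 = 0 := by
    by_contra hne
    have l0_3 := C.W_le_left (s := 0) (t := 3) (by decide) hne
    have r0_3 := C.W_le_right (s := 0) (t := 3) (by decide) hne
    apply C.no_sub ![1, 1, 1, 1, 0, 0, 0, 0]
    · intro s; fin_cases s <;> simp
    · intro h; have := congrFun h 0; simp at this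
    · intro s; fin_cases s <;> simp [Fin.sum_univ_succ, C.A_diag] <;> linarith
  have z0_4 : C.A 0 4 = 0 := by
    by_contra hne
    have l0_4 := C.W_le_left (s := 0) (t := 4) (by decide) hne
    have r0_4 := C.W_le_right (s := 0) (t := 4) (by decide) hne
    apply C.no_sub ![1, 1, 1, 1, 1, 0, 0, 0]
    · intro s; fin_cases s <;> simp
    · intro h; have := congrFun h 0; simp at this
    · intro s; fin_cases s <;> simp [Fin.sum_univ_succ, C.A_diag] <;> linarith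
  have z0_5 : C.A 0 5 = 0 := by
    by_contra hne
    have l0_5 := C.W_le_left (s := 0) (t := 5) (by decide) hne
    have r0_5 := C.W_le_right (s := 0) (t := 5) (by decide) hne
    apply C.no_sub ![1, 1, 1, 1, 1, 1, 0, 0]
    · intro s; fin_cases s <;> simp
    · intro h; have := congrFun h 0; simp at this
    · intro s; fin_cases s <;> simp [Fin.sum_univ_succ, C.A_diag] <;> linarith
  have z0_6 : C.A 0 6 = 0 := by
    by_contra hne
    have l0_6 := C.W_le_left (s := 0) (t := 6) (by decide) hne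
    have r0_6 := C.W_le_right (s := 0) (t := 6) (by decide) hne
    apply C.no_sub ![1, 1, 1, 1, 1, 1, 1, 0]
    · intro s; fin_cases s <;> simp
    · intro h; have := congrFun h 0; simp at this
    · intro s; fin_cases s <;> simp [Fin.sum_univ_succ, C.A_diag] <;> linarith
  have z0_7 : C.A 0 7 = 0 := by
    by_contra hne
    have l0_7 := C.W_le_left (s := 0) (t := 7) (by decide) hne
    have r0_7 := C.W_le_right (s := 0) (t := 7) (by decide) hne
    apply C.no_sub ![1, 1, 1, 1, 1, 1, 0, 1]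
    · intro s; fin_cases s <;> simp
    · intro h; have := congrFun h 0; simp at this
    · intro s; fin_cases s <;> simp [Fin.sum_univ_succ, C.A_diag] <;> linarith
  exact ⟨main.1, w1, w2, w3, w4, w6, w7, main.2, a1_2, a2_3, a3_4, a4_5, a5_6, a5_7, z0_2, z0_3, z0_4, z0_5, z0_6, z0_7, z1_3, z1_4, z1_5, z1_6, z1_7, z2_4, z2_5, z2_6, z2_7, z3_5, z3_6, z3_7, z4_6, z4_7, z6_7⟩

theorem inj8 {a b c d e f g h : Fin r} (hab : a ≠ b) (hac : a ≠ c) (had : a ≠ d) (hae : a ≠ e) (haf : a ≠ f) (hag : a ≠ g) (hah : a ≠ h) (hbc : b ≠ c) (hbd : b ≠ d) (hbe : b ≠ e) (hbf : b ≠ f) (hbg : b ≠ g) (hbh : b ≠ h) (hcd : c ≠ d) (hce : c ≠ e) (hcf : c ≠ f) (hcg : c ≠ g) (hch : c ≠ h) (hde : d ≠ e) (hdf : d ≠ f) (hdg : d ≠ g) (hdh : d ≠ h) (hef : e ≠ f) (heg : e ≠ g) (heh : e ≠ h) (hfg : f ≠ g) (hfh : f ≠ h) (hgh : g ≠ h) :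
    Function.Injective ![a, b, c, d, e, f, g, h] := by
  intro s t hst
  fin_cases s <;> fin_cases t <;> simp_all

/-- `D8` (inside a configuration) -/
theorem d8' (C : M2Config r) {a b c d e f g h : Fin r} (hab : a ≠ b) (hac : a ≠ c) (had : a ≠ d) (hae : a ≠ e) (haf : a ≠ f) (hag : a ≠ g) (hah : a ≠ h) (hbc : b ≠ c) (hbd : b ≠ d) (hbe : b ≠ e) (hbf : b ≠ f) (hbg : b ≠ g) (hbh : b ≠ h) (hcd : c ≠ d) (hce : c ≠ e) (hcf : c ≠ f) (hcg : c ≠ g) (hch : c ≠ h) (hde : d ≠ e) (hdf : d ≠ f) (hdg : d ≠ g) (hdh : d ≠ h) (hef : e ≠ f) (heg : e ≠ g) (heh : e ≠ h) (hfg : f ≠ g) (hfh : f ≠ h) (hgh : g ≠ h)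
    (k01 : C.A a b ≠ 0) (k12 : C.A b c ≠ 0) (k23 : C.A c d ≠ 0) (k34 : C.A d e ≠ 0) (k45 : C.A e f ≠ 0) (k56 : C.A f g ≠ 0) (k57 : C.A f h ≠ 0) :
    C.W a = C.W f ∧
    C.W b = C.W f ∧
    C.W c = C.W f ∧
    C.W d = C.W f ∧
    C.W e = C.W f ∧
    C.W g = C.W f ∧
    C.W h = C.W f ∧
    C.A a b = C.W f ∧
    C.A b c = C.W f ∧
    C.A c d = C.W f ∧
    C.A d e = C.W f ∧
    C.A e f = C.W f ∧
    C.A f g = C.W f ∧
    C.A f h = C.W f ∧
    C.A a c = 0 ∧
    C.A a d = 0 ∧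
    C.A a e = 0 ∧
    C.A a f = 0 ∧
    C.A a g = 0 ∧
    C.A a h = 0 ∧
    C.A b d = 0 ∧
    C.A b e = 0 ∧
    C.A b f = 0 ∧
    C.A b g = 0 ∧
    C.A b h = 0 ∧
    C.A c e = 0 ∧
    C.A c f = 0 ∧
    C.A c g = 0 ∧
    C.A c h = 0 ∧
    C.A d f = 0 ∧
    C.A d g = 0 ∧
    C.A d h = 0 ∧
    C.A e g = 0 ∧
    C.A e h = 0 ∧
    C.A g h = 0 :=
  (C.restrict ![a, b, c, d, e, f, g, h] (inj8 hab hac had hae haf hag hah hbc hbd hbe hbf hbg hbh hcd hce hcf hcg hch hde hdf hdg hdh hef heg heh hfg hfh hgh)).d8 k01 k12 k23 k34 k45 k56 k57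

/-- No completed `E6`. -/
theorem no_aff_e6 (C : M2Config 7) (h01 : C.A 0 1 ≠ 0) (h12 : C.A 1 2 ≠ 0) (h34 : C.A 3 4 ≠ 0) (h42 : C.A 4 2 ≠ 0) (h56 : C.A 5 6 ≠ 0) (h62 : C.A 6 2 ≠ 0) : False := by
  have hw0 := C.W_pos 0
  have hw1 := C.W_pos 1
  have hw2 := C.W_pos 2
  have hw3 := C.W_pos 3
  have hw4 := C.W_pos 4
  have hw5 := C.W_pos 5
  have hw6 := C.W_pos 6
  have n0_1 := C.A_nonneg 0 1 (by decide)
  have y1_0 := C.A_symm 1 0
  have n0_2 := C.A_nonneg 0 2 (by decide)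
  have y2_0 := C.A_symm 2 0
  have n0_3 := C.A_nonneg 0 3 (by decide)
  have y3_0 := C.A_symm 3 0
  have n0_4 := C.A_nonneg 0 4 (by decide)
  have y4_0 := C.A_symm 4 0
  have n0_5 := C.A_nonneg 0 5 (by decide)
  have y5_0 := C.A_symm 5 0
  have n0_6 := C.A_nonneg 0 6 (by decide)
  have y6_0 := C.A_symm 6 0
  have n1_2 := C.A_nonneg 1 2 (by decide)
  have y2_1 := C.A_symm 2 1
  have n1_3 := C.A_nonneg 1 3 (by decide)
  have y3_1 := C.A_symm 3 1
  have n1_4 := C.A_nonneg 1 4 (by decide)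
  have y4_1 := C.A_symm 4 1
  have n1_5 := C.A_nonneg 1 5 (by decide)
  have y5_1 := C.A_symm 5 1
  have n1_6 := C.A_nonneg 1 6 (by decide)
  have y6_1 := C.A_symm 6 1
  have n2_3 := C.A_nonneg 2 3 (by decide)
  have y3_2 := C.A_symm 3 2
  have n2_4 := C.A_nonneg 2 4 (by decide)
  have y4_2 := C.A_symm 4 2
  have n2_5 := C.A_nonneg 2 5 (by decide)
  have y5_2 := C.A_symm 5 2
  have n2_6 := C.A_nonneg 2 6 (by decide)
  have y6_2 := C.A_symm 6 2
  have n3_4 := C.A_nonneg 3 4 (by decide)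
  have y4_3 := C.A_symm 4 3
  have n3_5 := C.A_nonneg 3 5 (by decide)
  have y5_3 := C.A_symm 5 3
  have n3_6 := C.A_nonneg 3 6 (by decide)
  have y6_3 := C.A_symm 6 3
  have n4_5 := C.A_nonneg 4 5 (by decide)
  have y5_4 := C.A_symm 5 4
  have n4_6 := C.A_nonneg 4 6 (by decide)
  have y6_4 := C.A_symm 6 4
  have n5_6 := C.A_nonneg 5 6 (by decide)
  have y6_5 := C.A_symm 6 5
  obtain ⟨p0_0, p0_1, p0_2, p0_3, p0_4, p0_5, p0_6, p0_7, p0_8, p0_9, p0_10, p0_11, p0_12, p0_13⟩ :=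
    C.d5' (a := 0) (b := 1) (c := 2) (d := 4) (e := 6) (by decide) (by decide) (by decide) (by decide) (by decide) (by decide) (by decide) (by decide) (by decide) (by decide) h01 h12 (by rw [C.A_symm 2 4]; exact h42) (by rw [C.A_symm 2 6]; exact h62)
  obtain ⟨p1_0, p1_1, p1_2, p1_3, p1_4, p1_5, p1_6, p1_7, p1_8, p1_9, p1_10, p1_11, p1_12, p1_13⟩ :=
    C.d5' (a := 3) (b := 4) (c := 2) (d := 1) (e := 6) (by decide) (by decide) (by decide) (by decide) (by decide) (by decide) (by decide) (by decide) (by decide) (by decide) h34 h42 (by rw [C.A_symm 2 1]; exact h12) (by rw [C.A_symm 2 6]; exact h62)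
  obtain ⟨p2_0, p2_1, p2_2, p2_3, p2_4, p2_5, p2_6, p2_7, p2_8, p2_9, p2_10, p2_11, p2_12, p2_13⟩ :=
    C.d5' (a := 5) (b := 6) (c := 2) (d := 1) (e := 4) (by decide) (by decide) (by decide) (by decide) (by decide) (by decide) (by decide) (by decide) (by decide) (by decide) h56 h62 (by rw [C.A_symm 2 1]; exact h12) (by rw [C.A_symm 2 4]; exact h42)
  have w0 : C.W 0 = C.W 2 := by assumption
  have w1 : C.W 1 = C.W 2 := by assumption
  have w3 : C.W 3 = C.W 2 := by assumption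
  have w4 : C.W 4 = C.W 2 := by assumption
  have w5 : C.W 5 = C.W 2 := by assumption
  have w6 : C.W 6 = C.W 2 := by assumption
  have a0_1 : C.A 0 1 = C.W 2 := by first | assumption | (rw [← y1_0]; assumption)
  have a1_2 : C.A 1 2 = C.W 2 := by first | assumption | (rw [← y2_1]; assumption)
  have a3_4 : C.A 3 4 = C.W 2 := by first | assumption | (rw [← y4_3]; assumption)
  have a2_4 : C.A 2 4 = C.W 2 := by first | assumption | (rw [← y4_2]; assumption)
  have a5_6 : C.A 5 6 = C.W 2 := by first | assumption | (rw [← y6_5]; assumption)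
  have a2_6 : C.A 2 6 = C.W 2 := by first | assumption | (rw [← y6_2]; assumption)
  apply C.no_sub ![1, 2, 3, 1, 2, 1, 2]
  · intro s; fin_cases s <;> simp
  · intro h; have := congrFun h 0; simp at this
  · intro s; fin_cases s <;> simp [Fin.sum_univ_succ, C.A_diag] <;> linarith

/-- No completed `E7`. -/
theorem no_aff_e7 (C : M2Config 8) (h01 : C.A 0 1 ≠ 0) (h12 : C.A 1 2 ≠ 0) (h23 : C.A 2 3 ≠ 0) (h34 : C.A 3 4 ≠ 0) (h45 : C.A 4 5 ≠ 0) (h56 : C.A 5 6 ≠ 0) (h73 : C.A 7 3 ≠ 0) : False := by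
  have hw0 := C.W_pos 0
  have hw1 := C.W_pos 1
  have hw2 := C.W_pos 2
  have hw3 := C.W_pos 3
  have hw4 := C.W_pos 4
  have hw5 := C.W_pos 5
  have hw6 := C.W_pos 6
  have hw7 := C.W_pos 7
  have n0_1 := C.A_nonneg 0 1 (by decide)
  have y1_0 := C.A_symm 1 0
  have n0_2 := C.A_nonneg 0 2 (by decide)
  have y2_0 := C.A_symm 2 0
  have n0_3 := C.A_nonneg 0 3 (by decide)
  have y3_0 := C.A_symm 3 0
  have n0_4 := C.A_nonneg 0 4 (by decide)
  have y4_0 := C.A_symm 4 0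
  have n0_5 := C.A_nonneg 0 5 (by decide)
  have y5_0 := C.A_symm 5 0
  have n0_6 := C.A_nonneg 0 6 (by decide)
  have y6_0 := C.A_symm 6 0
  have n0_7 := C.A_nonneg 0 7 (by decide)
  have y7_0 := C.A_symm 7 0
  have n1_2 := C.A_nonneg 1 2 (by decide)
  have y2_1 := C.A_symm 2 1
  have n1_3 := C.A_nonneg 1 3 (by decide)
  have y3_1 := C.A_symm 3 1
  have n1_4 := C.A_nonneg 1 4 (by decide)
  have y4_1 := C.A_symm 4 1
  have n1_5 := C.A_nonneg 1 5 (by decide)
  have y5_1 := C.A_symm 5 1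
  have n1_6 := C.A_nonneg 1 6 (by decide)
  have y6_1 := C.A_symm 6 1
  have n1_7 := C.A_nonneg 1 7 (by decide)
  have y7_1 := C.A_symm 7 1
  have n2_3 := C.A_nonneg 2 3 (by decide)
  have y3_2 := C.A_symm 3 2
  have n2_4 := C.A_nonneg 2 4 (by decide)
  have y4_2 := C.A_symm 4 2
  have n2_5 := C.A_nonneg 2 5 (by decide)
  have y5_2 := C.A_symm 5 2
  have n2_6 := C.A_nonneg 2 6 (by decide)
  have y6_2 := C.A_symm 6 2
  have n2_7 := C.A_nonneg 2 7 (by decide)
  have y7_2 := C.A_symm 7 2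
  have n3_4 := C.A_nonneg 3 4 (by decide)
  have y4_3 := C.A_symm 4 3
  have n3_5 := C.A_nonneg 3 5 (by decide)
  have y5_3 := C.A_symm 5 3
  have n3_6 := C.A_nonneg 3 6 (by decide)
  have y6_3 := C.A_symm 6 3
  have n3_7 := C.A_nonneg 3 7 (by decide)
  have y7_3 := C.A_symm 7 3
  have n4_5 := C.A_nonneg 4 5 (by decide)
  have y5_4 := C.A_symm 5 4
  have n4_6 := C.A_nonneg 4 6 (by decide)
  have y6_4 := C.A_symm 6 4
  have n4_7 := C.A_nonneg 4 7 (by decide)
  have y7_4 := C.A_symm 7 4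
  have n5_6 := C.A_nonneg 5 6 (by decide)
  have y6_5 := C.A_symm 6 5
  have n5_7 := C.A_nonneg 5 7 (by decide)
  have y7_5 := C.A_symm 7 5
  have n6_7 := C.A_nonneg 6 7 (by decide)
  have y7_6 := C.A_symm 7 6
  obtain ⟨p0_0, p0_1, p0_2, p0_3, p0_4, p0_5, p0_6, p0_7, p0_8, p0_9, p0_10, p0_11, p0_12, p0_13, p0_14, p0_15, p0_16, p0_17, p0_18, p0_19⟩ :=
    C.d6' (a := 0) (b := 1) (c := 2) (d := 3) (e := 4) (f := 7) (by decide) (by decide) (by decide) (by decide) (by decide) (by decide) (by decide) (by decide) (by decide) (by decide) (by decide) (by decide) (by decide) (by decide) (by decide) h01 h12 h23 h34 (by rw [C.A_symm 3 7]; exact h73)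
  obtain ⟨p1_0, p1_1, p1_2, p1_3, p1_4, p1_5, p1_6, p1_7, p1_8, p1_9, p1_10, p1_11, p1_12, p1_13, p1_14, p1_15, p1_16, p1_17, p1_18, p1_19⟩ :=
    C.d6' (a := 6) (b := 5) (c := 4) (d := 3) (e := 2) (f := 7) (by decide) (by decide) (by decide) (by decide) (by decide) (by decide) (by decide) (by decide) (by decide) (by decide) (by decide) (by decide) (by decide) (by decide) (by decide) (by rw [C.A_symm 6 5]; exact h56) (by rw [C.A_symm 5 4]; exact h45) (by rw [C.A_symm 4 3]; exact h34) (by rw [C.A_symm 3 2]; exact h23) (by rw [C.A_symm 3 7]; exact h73)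
  have w0 : C.W 0 = C.W 3 := by assumption
  have w1 : C.W 1 = C.W 3 := by assumption
  have w2 : C.W 2 = C.W 3 := by assumption
  have w4 : C.W 4 = C.W 3 := by assumption
  have w5 : C.W 5 = C.W 3 := by assumption
  have w6 : C.W 6 = C.W 3 := by assumption
  have w7 : C.W 7 = C.W 3 := by assumption
  have a0_1 : C.A 0 1 = C.W 3 := by first | assumption | (rw [← y1_0]; assumption)
  have a1_2 : C.A 1 2 = C.W 3 := by first | assumption | (rw [← y2_1]; assumption)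
  have a2_3 : C.A 2 3 = C.W 3 := by first | assumption | (rw [← y3_2]; assumption)
  have a3_4 : C.A 3 4 = C.W 3 := by first | assumption | (rw [← y4_3]; assumption)
  have a4_5 : C.A 4 5 = C.W 3 := by first | assumption | (rw [← y5_4]; assumption)
  have a5_6 : C.A 5 6 = C.W 3 := by first | assumption | (rw [← y6_5]; assumption)
  have a3_7 : C.A 3 7 = C.W 3 := by first | assumption | (rw [← y7_3]; assumption)
  apply C.no_sub ![1, 2, 3, 4, 3, 2, 1, 2]
  · intro s; fin_cases s <;> simp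
  · intro h; have := congrFun h 0; simp at this
  · intro s; fin_cases s <;> simp [Fin.sum_univ_succ, C.A_diag] <;> linarith

/-- No completed `E8`. -/
theorem no_aff_e8 (C : M2Config 9) (h01 : C.A 0 1 ≠ 0) (h12 : C.A 1 2 ≠ 0) (h23 : C.A 2 3 ≠ 0) (h34 : C.A 3 4 ≠ 0) (h45 : C.A 4 5 ≠ 0) (h56 : C.A 5 6 ≠ 0) (h67 : C.A 6 7 ≠ 0) (h85 : C.A 8 5 ≠ 0) : False := by
  have hw0 := C.W_pos 0
  have hw1 := C.W_pos 1
  have hw2 := C.W_pos 2
  have hw3 := C.W_pos 3
  have hw4 := C.W_pos 4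
  have hw5 := C.W_pos 5
  have hw6 := C.W_pos 6
  have hw7 := C.W_pos 7
  have hw8 := C.W_pos 8
  have n0_1 := C.A_nonneg 0 1 (by decide)
  have y1_0 := C.A_symm 1 0
  have n0_2 := C.A_nonneg 0 2 (by decide)
  have y2_0 := C.A_symm 2 0
  have n0_3 := C.A_nonneg 0 3 (by decide)
  have y3_0 := C.A_symm 3 0
  have n0_4 := C.A_nonneg 0 4 (by decide)
  have y4_0 := C.A_symm 4 0
  have n0_5 := C.A_nonneg 0 5 (by decide)
  have y5_0 := C.A_symm 5 0
  have n0_6 := C.A_nonneg 0 6 (by decide)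
  have y6_0 := C.A_symm 6 0
  have n0_7 := C.A_nonneg 0 7 (by decide)
  have y7_0 := C.A_symm 7 0
  have n0_8 := C.A_nonneg 0 8 (by decide)
  have y8_0 := C.A_symm 8 0
  have n1_2 := C.A_nonneg 1 2 (by decide)
  have y2_1 := C.A_symm 2 1
  have n1_3 := C.A_nonneg 1 3 (by decide)
  have y3_1 := C.A_symm 3 1
  have n1_4 := C.A_nonneg 1 4 (by decide)
  have y4_1 := C.A_symm 4 1
  have n1_5 := C.A_nonneg 1 5 (by decide)
  have y5_1 := C.A_symm 5 1
  have n1_6 := C.A_nonneg 1 6 (by decide)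
  have y6_1 := C.A_symm 6 1
  have n1_7 := C.A_nonneg 1 7 (by decide)
  have y7_1 := C.A_symm 7 1
  have n1_8 := C.A_nonneg 1 8 (by decide)
  have y8_1 := C.A_symm 8 1
  have n2_3 := C.A_nonneg 2 3 (by decide)
  have y3_2 := C.A_symm 3 2
  have n2_4 := C.A_nonneg 2 4 (by decide)
  have y4_2 := C.A_symm 4 2
  have n2_5 := C.A_nonneg 2 5 (by decide)
  have y5_2 := C.A_symm 5 2
  have n2_6 := C.A_nonneg 2 6 (by decide)
  have y6_2 := C.A_symm 6 2
  have n2_7 := C.A_nonneg 2 7 (by decide)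
  have y7_2 := C.A_symm 7 2
  have n2_8 := C.A_nonneg 2 8 (by decide)
  have y8_2 := C.A_symm 8 2
  have n3_4 := C.A_nonneg 3 4 (by decide)
  have y4_3 := C.A_symm 4 3
  have n3_5 := C.A_nonneg 3 5 (by decide)
  have y5_3 := C.A_symm 5 3
  have n3_6 := C.A_nonneg 3 6 (by decide)
  have y6_3 := C.A_symm 6 3
  have n3_7 := C.A_nonneg 3 7 (by decide)
  have y7_3 := C.A_symm 7 3
  have n3_8 := C.A_nonneg 3 8 (by decide)
  have y8_3 := C.A_symm 8 3
  have n4_5 := C.A_nonneg 4 5 (by decide)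
  have y5_4 := C.A_symm 5 4
  have n4_6 := C.A_nonneg 4 6 (by decide)
  have y6_4 := C.A_symm 6 4
  have n4_7 := C.A_nonneg 4 7 (by decide)
  have y7_4 := C.A_symm 7 4
  have n4_8 := C.A_nonneg 4 8 (by decide)
  have y8_4 := C.A_symm 8 4
  have n5_6 := C.A_nonneg 5 6 (by decide)
  have y6_5 := C.A_symm 6 5
  have n5_7 := C.A_nonneg 5 7 (by decide)
  have y7_5 := C.A_symm 7 5
  have n5_8 := C.A_nonneg 5 8 (by decide)
  have y8_5 := C.A_symm 8 5
  have n6_7 := C.A_nonneg 6 7 (by decide)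
  have y7_6 := C.A_symm 7 6
  have n6_8 := C.A_nonneg 6 8 (by decide)
  have y8_6 := C.A_symm 8 6
  have n7_8 := C.A_nonneg 7 8 (by decide)
  have y8_7 := C.A_symm 8 7
  obtain ⟨p0_0, p0_1, p0_2, p0_3, p0_4, p0_5, p0_6, p0_7, p0_8, p0_9, p0_10, p0_11, p0_12, p0_13, p0_14, p0_15, p0_16, p0_17, p0_18, p0_19, p0_20, p0_21, p0_22, p0_23, p0_24, p0_25, p0_26, p0_27, p0_28, p0_29, p0_30, p0_31, p0_32, p0_33, p0_34⟩ :=
    C.d8' (a := 0) (b := 1) (c := 2) (d := 3) (e := 4) (f := 5) (g := 6) (h := 8) (by decide) (by decide) (by decide) (by decide) (by decide) (by decide) (by decide) (by decide) (by decide) (by decide) (by decide) (by decide) (by decide) (by decide) (by decide) (by decide) (by decide) (by decide) (by decide) (by decide) (by decide) (by decide) (by decide) (by decide) (by decide) (by decide) (by decide) (by decide) h01 h12 h23 h34 h45 h56 (by rw [C.A_symm 5 8]; exact h85)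
  obtain ⟨p1_0, p1_1, p1_2, p1_3, p1_4, p1_5, p1_6, p1_7, p1_8, p1_9, p1_10, p1_11, p1_12, p1_13⟩ :=
    C.d5' (a := 7) (b := 6) (c := 5) (d := 4) (e := 8) (by decide) (by decide) (by decide) (by decide) (by decide) (by decide) (by decide) (by decide) (by decide) (by decide) (by rw [C.A_symm 7 6]; exact h67) (by rw [C.A_symm 6 5]; exact h56) (by rw [C.A_symm 5 4]; exact h45) (by rw [C.A_symm 5 8]; exact h85)
  have w0 : C.W 0 = C.W 5 := by assumption
  have w1 : C.W 1 = C.W 5 := by assumption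
  have w2 : C.W 2 = C.W 5 := by assumption
  have w3 : C.W 3 = C.W 5 := by assumption
  have w4 : C.W 4 = C.W 5 := by assumption
  have w6 : C.W 6 = C.W 5 := by assumption
  have w7 : C.W 7 = C.W 5 := by assumption
  have w8 : C.W 8 = C.W 5 := by assumption
  have a0_1 : C.A 0 1 = C.W 5 := by first | assumption | (rw [← y1_0]; assumption)
  have a1_2 : C.A 1 2 = C.W 5 := by first | assumption | (rw [← y2_1]; assumption)
  have a2_3 : C.A 2 3 = C.W 5 := by first | assumption | (rw [← y3_2]; assumption)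
  have a3_4 : C.A 3 4 = C.W 5 := by first | assumption | (rw [← y4_3]; assumption)
  have a4_5 : C.A 4 5 = C.W 5 := by first | assumption | (rw [← y5_4]; assumption)
  have a5_6 : C.A 5 6 = C.W 5 := by first | assumption | (rw [← y6_5]; assumption)
  have a6_7 : C.A 6 7 = C.W 5 := by first | assumption | (rw [← y7_6]; assumption)
  have a5_8 : C.A 5 8 = C.W 5 := by first | assumption | (rw [← y8_5]; assumption)
  apply C.no_sub ![1, 2, 3, 4, 5, 6, 4, 2, 3]
  · intro s; fin_cases s <;> simp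
  · intro h; have := congrFun h 0; simp at this
  · intro s; fin_cases s <;> simp [Fin.sum_univ_succ, C.A_diag] <;> linarith

end M2Config

end Groth.Agent.H37
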