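import Groth.Agent.H37.RelApx

/-!
# Affineness at a finite stage of a relative limit; restriction of a directed system to a tail

* `tailIsLimit`: restricting a limit cone over a directed preorder to `{k // k₀ ≤ k}`.
* `exists_affine_stage`: `D : Kᵒᵖ ⥤ Over X` directed with affine transition maps, `X` quasi-compact,
  the stages qcqs; if the limit is affine over `X`, then so are all sufficiently late stages.
* `isAffineHom_iff_limit`: Stacks 09MV/01ZC-style characterisation of affine morphisms between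
  qcqs schemes as filtered limits of affine morphisms of finite presentation.
-/

set_option autoImplicit false
universe u

open CategoryTheory Limits Opposite AlgebraicGeometry

namespace Groth.Agent.H37.AffStage

section tail

variable {C : Type*} [Category C] {K : Type u} [Preorder K] [IsDirected K (· ≤ ·)] (k₀ : K)

/-- the tail `{k // k₀ ≤ k}` of a directed preorder. -/
abbrev Tail : Type u := {k : K // k₀ ≤ k}

instance tail_directed : IsDirected (Tail k₀) (· ≤ ·) := ⟨fun a b => by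
  obtain ⟨c, hac, hbc⟩ := exists_ge_ge a.1 b.1
  exact ⟨⟨c, a.2.trans hac⟩, hac, hbc⟩⟩

instance tail_nonempty : Nonempty (Tail k₀) := ⟨⟨k₀, le_rfl⟩⟩

/-- inclusion of the tail. -/
def tailι : (Tail k₀)ᵒᵖ ⥤ Kᵒᵖ :=
  (Monotone.functor (f := (Subtype.val : Tail k₀ → K)) (fun _ _ h => h)).op

instance tailι_initial : (tailι k₀).Initial := by
  haveI : (Monotone.functor (f := (Subtype.val : Tail k₀ → K)) (fun _ _ h => h)).Final := by
    apply Functor.final_of_exists_of_isFiltered
    · intro d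
      obtain ⟨c, hdc, hkc⟩ := exists_ge_ge d k₀
      exact ⟨⟨c, hkc⟩, ⟨homOfLE hdc⟩⟩
    · intro d c s s'
      exact ⟨c, 𝟙 _, Subsingleton.elim _ _⟩
  unfold tailι
  infer_instance

/-- restriction of a limit cone to a tail is a limit cone. -/
noncomputable def tailIsLimit (D : Kᵒᵖ ⥤ C) (c : Cone D) (hc : IsLimit c) :
    IsLimit (c.whisker (tailι k₀)) :=
  (Functor.Initial.isLimitWhiskerEquiv (tailι k₀) c).symm hc

end tail

section stage

attribute [local instance] IsCofiltered.isConnected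

variable {X : Scheme.{u}} {K : Type u} [Preorder K] [IsDirected K (· ≤ ·)] [Nonempty K]
  (D : Kᵒᵖ ⥤ Over X) (c : Cone D) (hc : IsLimit c)
  (hqc : ∀ k, QuasiCompact (D.obj k).hom) (hqs : ∀ k, QuasiSeparatedSpace (D.obj k).left)
  (haff : ∀ (k k' : Kᵒᵖ) (a : k ⟶ k'), IsAffineHom (D.map a).left)

include haff in
theorem isAffineOpen_preimage_of_le {W : X.Opens} {k k' : K} (h : k ≤ k')
    (hW : IsAffineOpen ((D.obj (op k)).hom ⁻¹ᵁ W)) :
    IsAffineOpen ((D.obj (op k')).hom ⁻¹ᵁ W) := by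
  have e : (D.map (homOfLE h).op).left ≫ (D.obj (op k)).hom = (D.obj (op k')).hom :=
    Over.w (D.map (homOfLE h).op)
  haveI := haff _ _ (homOfLE h).op
  rw [← e, Scheme.Hom.comp_preimage]
  exact hW.preimage _

include hc hqc hqs haff in
theorem exists_isAffineOpen_preimage [IsAffineHom c.pt.hom] {W : X.Opens} (hW : IsAffineOpen W) :
    ∃ k : K, IsAffineOpen ((D.obj (op k)).hom ⁻¹ᵁ W) := by
  haveI : IsFiltered K := isFiltered_of_directed_le_nonempty K
  let D' : Kᵒᵖ ⥤ Scheme.{u} := D ⋙ Over.forget X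
  let c' : Cone D' := (Over.forget X).mapCone c
  have hc' : IsLimit c' := isLimitOfPreserves (Over.forget X) hc
  haveI : ∀ {i j : Kᵒᵖ} (a : i ⟶ j), IsAffineHom (D'.map a) := fun a => haff _ _ a
  haveI : ∀ i, QuasiSeparatedSpace (D'.obj i) := fun i => hqs i
  obtain ⟨k₁⟩ := ‹Nonempty K›
  let i₀ : Kᵒᵖ := op k₁
  let t : ∀ i, D'.obj i ⟶ X := fun i => (D.obj i).hom
  let U : (D'.obj i₀).Opens := t i₀ ⁻¹ᵁ W
  have hU : IsCompact (U : Set (D'.obj i₀)) := by
    haveI : QuasiCompact (t i₀) := hqc i₀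
    exact QuasiCompact.isCompact_preimage (f := t i₀) _ W.2 hW.isCompact
  haveI : ∀ j : Over i₀, CompactSpace ((opensDiagram D' i₀ U).obj j) := fun j =>
    isCompact_iff_compactSpace.mp (QuasiCompact.isCompact_preimage (f := D'.map j.hom) _ U.2 hU)
  haveI : ∀ j : Over i₀, QuasiSeparatedSpace ((opensDiagram D' i₀ U).obj j) := fun j =>
    (isQuasiSeparated_iff_quasiSeparatedSpace _ (D'.map _ ⁻¹ᵁ _).2).mp (.of_quasiSeparatedSpace _)
  haveI : IsAffine (opensCone D' c' i₀ U).pt := by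
    change IsAffineOpen (c'.π.app i₀ ⁻¹ᵁ (t i₀ ⁻¹ᵁ W))
    rw [← Scheme.Hom.comp_preimage]
    have e : c'.π.app i₀ ≫ t i₀ = c.pt.hom := Over.w (c.π.app i₀)
    rw [e]
    exact IsAffineOpen.preimage hW c.pt.hom
  obtain ⟨j, hj⟩ := Scheme.exists_isAffine_of_isLimit _ _ (isLimitOpensCone D' c' hc' i₀ U)
  refine ⟨j.left.unop, ?_⟩
  change IsAffineOpen (D'.map j.hom ⁻¹ᵁ (t i₀ ⁻¹ᵁ W)) at hj
  rw [← Scheme.Hom.comp_preimage] at hj
  have e : D'.map j.hom ≫ t i₀ = (D.obj j.left).hom := Over.w (D.map j.hom)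
  rw [e] at hj
  exact hj

include hc hqc hqs haff in
/-- if the limit is affine over the quasi-compact base, so are all late stages. -/
theorem exists_affine_stage [CompactSpace X] [IsAffineHom c.pt.hom] :
    ∃ k₀ : K, ∀ k, k₀ ≤ k → IsAffineHom (D.obj (op k)).hom := by
  classical
  have h1 : ∀ x : X, ∃ W : X.Opens, x ∈ W ∧ IsAffineOpen W := fun x => by
    obtain ⟨_, ⟨W, hW, rfl⟩, hxW, -⟩ :=
      X.isBasis_affineOpens.exists_subset_of_mem_open (Set.mem_univ x) isOpen_univ
    exact ⟨W, hxW, hW⟩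
  choose W hxW hW using h1
  have h2 : ∀ x : X, ∃ k : K, IsAffineOpen ((D.obj (op k)).hom ⁻¹ᵁ W x) := fun x =>
    exists_isAffineOpen_preimage D c hc hqc hqs haff (hW x)
  choose κ hκ using h2
  obtain ⟨t, ht⟩ := isCompact_univ.elim_finite_subcover (fun x : X => ((W x : X.Opens) : Set X))
    (fun x => (W x).2) (fun x _ => Set.mem_iUnion.mpr ⟨x, hxW x⟩)
  obtain ⟨k₀, hk₀⟩ := (t.image κ).exists_le
  refine ⟨k₀, fun k hk => ?_⟩
  apply isAffineHom_of_forall_exists_isAffineOpen
  intro y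
  obtain ⟨x, hx⟩ := Set.mem_iUnion.mp (ht (Set.mem_univ y))
  obtain ⟨hxt, hyx⟩ := Set.mem_iUnion.mp hx
  refine ⟨W x, hyx, hW x, ?_⟩
  exact isAffineOpen_preimage_of_le D haff
    ((hk₀ _ (Finset.mem_image_of_mem κ hxt)).trans hk) (hκ x)

end stage

section main

attribute [local instance] IsCofiltered.isConnected

theorem affine_comp {X Y Z : Scheme.{u}} (f : X ⟶ Y) (g : Y ⟶ Z) (hf : IsAffineHom f)
    (hg : IsAffineHom g) : IsAffineHom (f ≫ g) := by infer_instance

/-- a filtered limit (in `Over X`) of affine `X`-schemes is affine over `X`. -/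
theorem isAffineHom_of_limit {X : Scheme.{u}} {I : Type u} [SmallCategory I] [IsFiltered I]
    (D : Iᵒᵖ ⥤ Over X) (c : Cone D) (hc : IsLimit c)
    (h : ∀ i, IsAffineHom (D.obj i).hom) : IsAffineHom c.pt.hom := by
  let D' : Iᵒᵖ ⥤ Scheme.{u} := D ⋙ Over.forget X
  let c' : Cone D' := (Over.forget X).mapCone c
  have hc' : IsLimit c' := isLimitOfPreserves (Over.forget X) hc
  let t : ∀ i, D'.obj i ⟶ X := fun i => (D.obj i).hom
  haveI : ∀ i, IsAffineHom (t i) := h
  haveI : ∀ {i j : Iᵒᵖ} (a : i ⟶ j), IsAffineHom (D'.map a) := fun {i j} a => by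
    have e : D'.map a ≫ t j = t i := Over.w (D.map a)
    haveI : IsAffineHom (D'.map a ≫ t j) := by rw [e]; infer_instance
    exact IsAffineHom.of_comp (f := D'.map a) (g := t j)
  obtain ⟨i₀⟩ := IsFiltered.nonempty (C := I)
  haveI := isAffineHom_π_app D' c' hc' (op i₀)
  have e : c'.π.app (op i₀) ≫ t (op i₀) = c.pt.hom := Over.w (c.π.app (op i₀))
  rw [← e]
  exact affine_comp _ _ ‹_› (h (op i₀))

/-- **Affine morphisms of qcqs schemes are limits of affine morphisms of finite presentation.** -/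
theorem isAffineHom_iff_limit {X Y : Scheme.{u}} (f : Y ⟶ X)
    [CompactSpace X] [QuasiSeparatedSpace X] [CompactSpace Y] [QuasiSeparatedSpace Y] :
    IsAffineHom f ↔
      ∃ (I : Type u) (_ : SmallCategory I) (_ : IsFiltered I) (D : Iᵒᵖ ⥤ Over X)
        (c : Limits.Cone D) (_ : Limits.IsLimit c),
        (∀ i, IsAffineHom (D.obj i).hom ∧ LocallyOfFinitePresentation (D.obj i).hom) ∧
        Nonempty (c.pt ≅ Over.mk f) := by
  constructor
  · intro hf
    obtain ⟨K, _, _, _, D, c, hc, hprops, haff, ⟨e⟩⟩ := RelApx.exists_relative f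
    haveI : IsAffineHom c.pt.hom := by
      have e1 : e.hom.left ≫ f = c.pt.hom := Over.w e.hom
      rw [← e1]
      haveI : IsIso e.hom.left := (Over.forget X).map_isIso e.hom
      exact affine_comp _ _ inferInstance hf
    obtain ⟨k₀, hk₀⟩ := exists_affine_stage D c hc (fun k => (hprops k).2.1)
      (fun k => by
        haveI := (hprops k).2.2
        exact quasiSeparatedSpace_of_quasiSeparated (D.obj k).hom) haff
    refine ⟨Tail k₀, inferInstance, isFiltered_of_directed_le_nonempty _, tailι k₀ ⋙ D,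
      c.whisker (tailι k₀), tailIsLimit k₀ D c hc, fun i => ⟨?_, ?_⟩, ⟨e⟩⟩
    · exact hk₀ i.unop.1 i.unop.2
    · exact (hprops _).1
  · rintro ⟨I, _, _, D, c, hc, hD, ⟨e⟩⟩
    haveI := isAffineHom_of_limit D c hc (fun i => (hD i).1)
    have e1 : e.inv.left ≫ c.pt.hom = f := Over.w e.inv
    rw [← e1]
    haveI : IsIso e.inv.left := (Over.forget X).map_isIso e.inv
    exact affine_comp _ _ inferInstance ‹_›

end main

end Groth.Agent.H37.AffStage
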