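import Groth.Agent.H52.UBFFam
import Groth.Prelude.Def_W4stkschemesremainderFib
import Mathlib.AlgebraicGeometry.Fiber

/-! Bridge between `BddFib.FibreDegLE` and helper52's `UBF.SchUBF`. -/

set_option autoImplicit false
universe u

open CategoryTheory Limits AlgebraicGeometry Groth.Agent.H52.UBF

namespace Groth.Agent.H37

variable {X Y : Scheme.{u}}

theorem finiteOfDegLE_iff_finDegLE {K : Type u} [Field K] {T : Scheme.{u}}
    (p : T ⟶ Spec (.of K)) (n : ℕ) :
    BddFib.FiniteOfDegLE (.of K) p n ↔ FinDegLE n p := by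
  have key : ∀ [IsAffine T], FinDegLE n p ↔
      (letI := BddFib.secAlgebra (.of K) p;
        Module.Finite K Γ(T, ⊤) ∧ Module.finrank K Γ(T, ⊤) ≤ n) := by
    intro _
    letI := BddFib.secAlgebra (.of K) p
    have h1 : p = T.isoSpec.hom ≫ Spec.map (CommRingCat.ofHom (algebraMap K Γ(T, ⊤))) :=
      eq_isoSpec_comp_SpecMap p
    conv_lhs => rw [h1]
    rw [finDegLE_iso_comp, finDegLE_SpecMap_iff]
  constructor
  · rintro ⟨haff, h⟩
    exact key.mpr h
  · intro h
    haveI := h.1
    haveI : IsAffine T := isAffine_of_isAffineHom p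
    exact ⟨inferInstance, key.mp h⟩

theorem fibreDegLE_iff_forall (f : X ⟶ Y) (n : ℕ) :
    BddFib.FibreDegLE f n ↔
      ∀ y : Y, FinDegLE (K := Y.residueField y) n (f.fiberToSpecResidueField y) := by
  refine forall_congr' fun y => ?_
  exact finiteOfDegLE_iff_finDegLE (K := Y.residueField y) (f.fiberToSpecResidueField y) n

/-- base change of `FinDegLE` along a field extension -/
theorem finDegLE_baseChange {K Ω : Type u} [Field K] [Field Ω]
    (β : Spec (CommRingCat.of Ω) ⟶ Spec (CommRingCat.of K)) {T T' : Scheme.{u}}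
    (c : T ⟶ Spec (CommRingCat.of K)) (c' : T' ⟶ Spec (CommRingCat.of Ω)) (e : T' ⟶ T)
    (sq : IsPullback c' e β c) (n : ℕ) (h : FinDegLE n c) : FinDegLE n c' := by
  haveI := h.1
  have hfin : IsFinite c' := MorphismProperty.of_isPullback sq.flip h.1
  refine ⟨hfin, fun s => ?_⟩
  rw [Scheme.Hom.finrank_of_isPullback e c' c β sq.flip s]
  exact h.2 _

theorem fibreDegLE_iff_schUBF (f : X ⟶ Y) (n : ℕ) : BddFib.FibreDegLE f n ↔ SchUBF n f := by
  rw [fibreDegLE_iff_forall]
  constructor
  · intro h K _ x T c d sq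
    set y := x (IsLocalRing.closedPoint K) with hy
    have hx := Scheme.descResidueField_stalkClosedPointTo_fromSpecResidueField K Y x
    set φ := Y.descResidueField (Scheme.stalkClosedPointTo x) with hφ
    have sqF : IsPullback (f.fiberToSpecResidueField y) (f.fiberι y) (Y.fromSpecResidueField y) f :=
      (IsPullback.of_hasPullback f (Y.fromSpecResidueField y)).flip
    obtain ⟨e, he1, he2⟩ := sqF.exists_lift (c ≫ Spec.map φ) d (by
      rw [Category.assoc, hx]; exact sq.w)
    have sqL : IsPullback c e (Spec.map φ) (f.fiberToSpecResidueField y) := by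
      refine (IsPullback.of_right ?_ he1 sqF.flip).flip
      rw [hx, he2]
      exact sq.flip
    exact finDegLE_baseChange (K := Y.residueField y) (Spec.map φ) _ c e sqL n (h y)
  · intro h y
    exact h (Y.residueField y) (Y.fromSpecResidueField y) _ _ (f.fiberι y)
      (IsPullback.of_hasPullback f (Y.fromSpecResidueField y)).flip

end Groth.Agent.H37
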