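import Groth.Agent.H37.SNLiftPt
import Mathlib.RingTheory.TensorProduct.IncludeLeftSubRight
import Mathlib.AlgebraicGeometry.Morphisms.Proper

/-! Descent of functions along proper surjective morphisms onto seminormal schemes. -/

set_option autoImplicit false
universe u

open CategoryTheory Limits AlgebraicGeometry AlgebraicGeometry.Scheme

namespace Groth.Agent.H37

section points

variable {W Z : Scheme.{u}}

/-- lifting a field-valued point along a surjective morphism, after a field extension -/
theorem exists_lift_point_of_surjective (f : W ⟶ Z) [Surjective f] (K : Type u) [Field K]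
    (z : Spec (.of K) ⟶ Z) :
    ∃ (L : Type u) (_ : Field L) (e : K →+* L) (w : Spec (.of L) ⟶ W),
      w ≫ f = Spec.map (CommRingCat.ofHom e) ≫ z := by
  have hs : Surjective (pullback.snd f z) := inferInstance
  obtain ⟨pt, -⟩ := hs.surj (IsLocalRing.closedPoint K)
  obtain ⟨e, he⟩ := Spec.map_surjective
    ((pullback f z).fromSpecResidueField pt ≫ pullback.snd f z)
  refine ⟨(pullback f z).residueField pt, inferInstance, e.hom,
    (pullback f z).fromSpecResidueField pt ≫ pullback.fst f z, ?_⟩
  rw [Category.assoc, pullback.condition, ← Category.assoc]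
  congr 1
  exact he.symm

/-- the value of a global function at a ring-valued point -/
noncomputable def val {R : Type u} [CommRing R] (w : Spec (.of R) ⟶ W) (s : Γ(W, ⊤)) : R :=
  (Scheme.ΓSpecIso (.of R)).hom (w.appTop s)

theorem val_comp_SpecMap {R R' : Type u} [CommRing R] [CommRing R'] (e : R →+* R')
    (w : Spec (.of R) ⟶ W) (s : Γ(W, ⊤)) :
    val (Spec.map (CommRingCat.ofHom e) ≫ w) s = e (val w s) := by
  unfold val
  rw [Scheme.Hom.comp_appTop]
  have := Scheme.ΓSpecIso_naturality (CommRingCat.ofHom e)
  exact congrArg (fun φ => CommRingCat.Hom.hom φ (w.appTop s)) this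

theorem val_comp {R : Type u} [CommRing R] (w : Spec (.of R) ⟶ W) (f : W ⟶ Z) (s : Γ(Z, ⊤)) :
    val (w ≫ f) s = val w (f.appTop s) := by
  unfold val
  rw [Scheme.Hom.comp_appTop]
  rfl

theorem val_SpecMap {R A : Type u} [CommRing R] [CommRing A] (α : A →+* R) (a : A) :
    val (Spec.map (CommRingCat.ofHom α)) ((Scheme.ΓSpecIso (.of A)).inv a) = α a := by
  unfold val
  have := Scheme.ΓSpecIso_naturality (CommRingCat.ofHom α)
  have h2 := congrArg (fun φ => CommRingCat.Hom.hom φ ((Scheme.ΓSpecIso (.of A)).inv a)) this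
  simp only [CommRingCat.hom_comp, RingHom.coe_comp, Function.comp_apply] at h2
  rw [h2]
  have h3 : (Scheme.ΓSpecIso (CommRingCat.of A)).hom ((Scheme.ΓSpecIso (.of A)).inv a) = a :=
    congrArg (fun φ => CommRingCat.Hom.hom φ a) (Scheme.ΓSpecIso (.of A)).inv_hom_id
  rw [h3]
  rfl

end points

end Groth.Agent.H37
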