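import Groth.Agent.H37.BddFib
import Groth.Agent.H37.SNDescent
import Groth.Prelude.Def_Mor2
import Mathlib.AlgebraicGeometry.Morphisms.Immersion

/-! Properties of universally bounded fibres (`SchUBF`) for schemes. -/

set_option autoImplicit false
universe u

open CategoryTheory Limits AlgebraicGeometry Groth.Agent.H52.UBF

namespace Groth.Agent.H37

variable {X Y Z X' Y' : Scheme.{u}}

theorem schUBF_iff_pullback (f : X ⟶ Y) (n : ℕ) :
    SchUBF n f ↔ ∀ (K : Type u) [Field K] (x : Spec (CommRingCat.of K) ⟶ Y),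
      FinDegLE n (pullback.snd f x) := by
  constructor
  · intro h K _ x
    exact h K x _ _ (pullback.fst f x) (IsPullback.of_hasPullback f x).flip
  · intro h K _ x T c d sq
    rw [← sq.flip.isoPullback_hom_snd, finDegLE_iso_comp]
    exact h K x

theorem schUBF_of_isPullback {f : X ⟶ Y} {g : Y' ⟶ Y} {f' : X' ⟶ Y'} {g' : X' ⟶ X}
    (h : IsPullback g' f' f g) (n : ℕ) (hf : SchUBF n f) : SchUBF n f' := by
  intro K _ x T c d sq
  exact hf K (x ≫ g) T c (d ≫ g') (sq.flip.paste_horiz h).flip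

theorem schUBF_of_isPullback_of_surjective {f : X ⟶ Y} {g : Y' ⟶ Y} [Surjective g] {f' : X' ⟶ Y'}
    {g' : X' ⟶ X} (h : IsPullback g' f' f g) (n : ℕ) (hf' : SchUBF n f') : SchUBF n f := by
  intro K _ x T c d sq
  obtain ⟨L, _, e, w, hw⟩ := exists_lift_point_of_surjective g K x
  -- base change `T` to `L`
  have sqT := IsPullback.of_hasPullback (Spec.map (CommRingCat.ofHom e)) c
  set c' := pullback.fst (Spec.map (CommRingCat.ofHom e)) c with hc'
  set e' := pullback.snd (Spec.map (CommRingCat.ofHom e)) c with he'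
  -- `T'` is the pullback of `f` along `w ≫ g`
  have sqBig : IsPullback (e' ≫ d) c' f (w ≫ g) := by
    rw [hw]
    exact sqT.flip.paste_horiz sq.flip
  obtain ⟨l, hl1, hl2⟩ := h.exists_lift (e' ≫ d) (c' ≫ w) (by
    rw [Category.assoc]; exact sqBig.w)
  have sqL : IsPullback l c' f' w := by
    refine IsPullback.of_right ?_ hl2 h
    rw [hl1]
    exact sqBig
  have h1 : FinDegLE n c' := hf' L w _ c' l sqL.flip
  exact finDegLE_of_isPullback_field (Spec.map (CommRingCat.ofHom e)) c c' e' sqT n h1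

theorem schUBF_of_isFinLocFreeOfDeg (f : X ⟶ Y) (d : ℕ) (hf : Mor2.IsFinLocFreeOfDeg d f) :
    SchUBF d f := by
  obtain ⟨⟨h1, h2, h3⟩, hd⟩ := hf
  intro K _ x T c d' sq
  have hfin : IsFinite c := MorphismProperty.of_isPullback sq.flip h1
  refine ⟨hfin, fun s => ?_⟩
  rw [Scheme.Hom.finrank_of_isPullback d' c f x sq.flip s, hd]

theorem schUBF_of_flat_surjective_triangle (f : X ⟶ Y) (h : Y ⟶ Z) [Flat f] [Surjective f]
    (n : ℕ) (hg : SchUBF n (f ≫ h)) : SchUBF n h := by
  intro K _ x T c d sq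
  have sqT := IsPullback.of_hasPullback d f
  have sqBig : IsPullback (pullback.fst d f ≫ c) (pullback.snd d f) x (f ≫ h) :=
    sqT.paste_horiz sq
  exact finDegLE_of_flat_surjective n (pullback.fst d f) c (hg K x _ _ _ sqBig)

theorem schUBF_one_of_isClosedImmersion (i : X ⟶ Y) [IsClosedImmersion i] : SchUBF 1 i := by
  intro K _ x T c d sq
  have hc : IsClosedImmersion c :=
    MorphismProperty.of_isPullback (P := @IsClosedImmersion) sq.flip inferInstance
  by_cases hT : IsEmpty ↥T
  · exact finDegLE_of_isEmpty 1 c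
  rw [not_isEmpty_iff] at hT
  obtain ⟨t⟩ := hT
  have hs : Surjective c := ⟨fun s => ⟨t, Subsingleton.elim _ _⟩⟩
  have : IsIso c := isIso_of_isClosedImmersion_of_surjective c
  exact finDegLE_one_of_isIso c

theorem schUBF_one_of_isImmersion (f : X ⟶ Y) [IsImmersion f] : SchUBF 1 f := by
  have h1 := schUBF_one_of_isClosedImmersion f.liftCoborder
  have h2 := schUBF_one_of_isOpenImmersion f.coborderRange.ι
  have h3 := h1.comp _ _ h2
  rw [f.liftCoborder_ι] at h3
  exact h3

end Groth.Agent.H37
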