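import Groth.Agent.H37.BddFib2
import Mathlib.AlgebraicGeometry.Morphisms.QuasiFinite

/-! Locally quasi-finite morphisms with quasi-compact source have universally bounded fibres. -/

set_option autoImplicit false
universe u

open CategoryTheory Limits AlgebraicGeometry Groth.Agent.H52.UBF

namespace Groth.Agent.H37

variable {X Y : Scheme.{u}}

/-- A locally quasi-finite morphism locally of finite type has universally bounded fibres locally
on the source. -/
theorem exists_isOpenImmersion_schUBF_of_locallyQuasiFinite (h : X ⟶ Y) [LocallyQuasiFinite h]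
    [LocallyOfFiniteType h] (w : X) :
    ∃ (W' : Scheme.{u}) (j : W' ⟶ X), IsOpenImmersion j ∧ w ∈ Set.range j ∧
      ∃ N, SchUBF N (j ≫ h) := by
  obtain ⟨_, ⟨U', hU', rfl⟩, hxU, -⟩ := Y.isBasis_affineOpens.exists_subset_of_mem_open
    (Set.mem_univ (h w)) isOpen_univ
  obtain ⟨_, ⟨V, hV, rfl⟩, hxV, hUV : V ≤ h ⁻¹ᵁ U'⟩ :=
    X.isBasis_affineOpens.exists_subset_of_mem_open hxU (h ⁻¹ᵁ U').2
  have hφ : (h.appLE U' V hUV).hom.QuasiFinite :=
    LocallyQuasiFinite.quasiFinite_appLE hU' hV hUV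
  have hφ2 : (h.appLE U' V hUV).hom.FiniteType := h.finiteType_appLE hU' hV hUV
  algebraize [(h.appLE U' V hUV).hom]
  obtain ⟨r, hrp, N, hN⟩ := exists_away_schUBF (R := Γ(Y, U')) (B := Γ(X, V))
    (hV.primeIdealOf ⟨w, hxV⟩).asIdeal
  refine ⟨Spec (.of (Localization.Away r)),
    Spec.map (CommRingCat.ofHom (algebraMap Γ(X, V) (Localization.Away r))) ≫ hV.fromSpec,
    inferInstance, ?_, ?_⟩
  · have hmem : hV.primeIdealOf ⟨w, hxV⟩ ∈
        Set.range (PrimeSpectrum.comap (algebraMap Γ(X, V) (Localization.Away r))) := by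
      rw [PrimeSpectrum.localization_away_comap_range (Localization.Away r) r]
      exact hrp
    obtain ⟨y, hy⟩ := hmem
    refine ⟨y, ?_⟩
    rw [Scheme.Hom.comp_apply]
    have : (Spec.map (CommRingCat.ofHom (algebraMap Γ(X, V) (Localization.Away r)))) y =
        hV.primeIdealOf ⟨w, hxV⟩ := hy
    rw [this, hV.fromSpec_primeIdealOf]
  · rw [Category.assoc, ← IsAffineOpen.SpecMap_appLE_fromSpec h hU' hV hUV, ← Category.assoc,
      ← Spec.map_comp]
    have h1 := schUBF_one_of_isOpenImmersion hU'.fromSpec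
    have h2 : h.appLE U' V hUV ≫
        CommRingCat.ofHom (algebraMap Γ(X, V) (Localization.Away r)) =
        CommRingCat.ofHom (algebraMap Γ(Y, U') (Localization.Away r)) := by
      ext x
      simp only [CommRingCat.hom_ofHom, CommRingCat.hom_comp, RingHom.coe_comp,
        Function.comp_apply]
      rw [IsScalarTower.algebraMap_apply Γ(Y, U') Γ(X, V) (Localization.Away r)]
      rfl
    rw [h2]
    exact ⟨_, hN.comp _ _ h1⟩

/-- bounded fibres on a finite open cover of the source give bounded fibres -/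
theorem schUBF_of_finite_cover (f : X ⟶ Y) {ι : Type u} [Fintype ι] (W : ι → Scheme.{u})
    (j : ∀ i, W i ⟶ X) [∀ i, IsOpenImmersion (j i)] (hcov : ⋃ i, Set.range (j i) = Set.univ)
    (N : ι → ℕ) (hN : ∀ i, SchUBF (N i) (j i ≫ f)) : SchUBF (∑ i, N i) f := by
  intro K _ x T c d sq
  refine finDegLE_of_flat_family N (fun i => pullback d (j i)) (fun i => pullback.fst d (j i)) ?_ c
    ?_
  · rw [Set.eq_univ_iff_forall]
    intro t
    have : d t ∈ ⋃ i, Set.range (j i) := by rw [hcov]; trivial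
    obtain ⟨i, hi⟩ := Set.mem_iUnion.mp this
    refine Set.mem_iUnion.mpr ⟨i, ?_⟩
    rw [Scheme.Pullback.range_fst]
    exact hi
  · intro i
    exact hN i K x _ _ (pullback.snd d (j i))
      ((IsPullback.of_hasPullback d (j i)).paste_horiz sq)

theorem exists_schUBF_of_locallyQuasiFinite_of_compactSpace (f : X ⟶ Y) [LocallyQuasiFinite f]
    [LocallyOfFiniteType f] [CompactSpace X] : ∃ n, SchUBF n f := by
  choose W j hj hmem N hN using exists_isOpenImmersion_schUBF_of_locallyQuasiFinite f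
  obtain ⟨s, hs⟩ := isCompact_univ.elim_finite_subcover (fun x : X => Set.range (j x))
    (fun x => (j x).isOpenEmbedding.isOpen_range)
    (fun x _ => Set.mem_iUnion.mpr ⟨x, hmem x⟩)
  refine ⟨∑ i : s, N i.1, schUBF_of_finite_cover f (fun i : s => W i.1) (fun i => j i.1) ?_
    (fun i => N i.1) (fun i => hN i.1)⟩
  rw [Set.eq_univ_iff_forall]
  intro x
  obtain ⟨i, hi⟩ := Set.mem_iUnion.mp (hs (Set.mem_univ x))
  obtain ⟨hi1, hi2⟩ := Set.mem_iUnion.mp hi
  exact Set.mem_iUnion.mpr ⟨⟨i, hi1⟩, hi2⟩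

end Groth.Agent.H37
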