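import Groth.Agent.H37.BddFibAlg
import Groth.Agent.H37.BddFib2

/-! Sharp composition bound for universally bounded fibres. -/

set_option autoImplicit false
universe u
open CategoryTheory CategoryTheory.Limits AlgebraicGeometry TensorProduct Groth.Agent.H52.UBF

namespace Groth.Agent.H37

/-- **Composition, sharp form.**  If `T` is finite of degree `≤ n` over a field and all fibres of
`T' ⟶ T` over field valued points are finite of degree `≤ m`, then `T'` is finite of degree
`≤ m * n`. -/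
theorem finDegLE_comp_mul {K : Type u} [Field K] (n m : ℕ) {T T' : Scheme.{u}} (e : T' ⟶ T)
    (c : T ⟶ Spec (CommRingCat.of K)) (hc : FinDegLE n c)
    (hfib : ∀ (L : Type u) [Field L] (x : Spec (CommRingCat.of L) ⟶ T),
      FinDegLE m (pullback.fst x e)) :
    FinDegLE (m * n) (e ≫ c) := by
  obtain ⟨hTf, hTd⟩ := finite_discrete_of_finDegLE n c hc
  -- fibres are finite discrete
  have hfd : ∀ z : T, Finite ↥(e.fiber z) ∧ DiscreteTopology ↥(e.fiber z) := by
    intro z
    have h1 := hfib (T.residueField z) (T.fromSpecResidueField z)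
    have h2 : FinDegLE (K := T.residueField z) m
        ((pullbackSymmetry e (T.fromSpecResidueField z)).hom ≫
          pullback.fst (T.fromSpecResidueField z) e) :=
      (finDegLE_iso_comp (K := T.residueField z) m (pullbackSymmetry e (T.fromSpecResidueField z))
        (pullback.fst (T.fromSpecResidueField z) e)).2 h1
    rw [pullbackSymmetry_hom_comp_fst] at h2
    exact finite_discrete_of_finDegLE m _ h2
  obtain ⟨hT'f, hT'd⟩ := finite_discrete_of_fibres e hfd
  have hTaff : IsAffine T := inferInstance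
  have hT'aff : IsAffine T' := inferInstance
  have : IsAffineHom c := isAffineHom_of_isAffine c
  have : IsAffineHom (e ≫ c) := isAffineHom_of_isAffine _
  obtain ⟨B, _, _, eT, hcB⟩ := exists_algebra_of_isAffineHom c
  obtain ⟨A, _, _, eT', hcA⟩ := exists_algebra_of_isAffineHom (e ≫ c)
  obtain ⟨ψ, hψ⟩ := Spec.map_surjective (eT'.inv ≫ e ≫ eT.hom)
  have hcomp : CommRingCat.ofHom (algebraMap K B) ≫ ψ = CommRingCat.ofHom (algebraMap K A) := by
    apply Spec.map_injective
    rw [Spec.map_comp, hψ, Category.assoc, Category.assoc, ← hcB, hcA, Iso.inv_hom_id_assoc]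
  rw [hcB, finDegLE_iso_comp, finDegLE_SpecMap_iff] at hc
  rw [hcA, finDegLE_iso_comp, finDegLE_SpecMap_iff]
  obtain ⟨hBfin, hBn⟩ := hc
  algebraize [ψ.hom]
  have : IsScalarTower K B A := IsScalarTower.of_algebraMap_eq fun k =>
    (congrArg (fun φ => φ.hom k) hcomp).symm
  refine finite_finrank_le_mul_of_fibres n m hBn ?_
  intro 𝔭 h𝔭
  let _ := Ideal.Quotient.field 𝔭
  let x : Spec (CommRingCat.of (B ⧸ 𝔭)) ⟶ T :=
    Spec.map (CommRingCat.ofHom (algebraMap B (B ⧸ 𝔭))) ≫ eT.inv
  have h1 := hfib (B ⧸ 𝔭) x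
  have sqL : IsPullback
      (Spec.map (CommRingCat.ofHom
        (Algebra.TensorProduct.includeLeftRingHom : (B ⧸ 𝔭) →+* (B ⧸ 𝔭) ⊗[B] A)))
      (Spec.map (CommRingCat.ofHom
        ((Algebra.TensorProduct.includeRight : A →ₐ[B] (B ⧸ 𝔭) ⊗[B] A).toRingHom)))
      (Spec.map (CommRingCat.ofHom (algebraMap B (B ⧸ 𝔭))))
      (Spec.map (CommRingCat.ofHom (algebraMap B A))) :=
    isPullback_SpecMap_of_isPushout _ _ _ _ (CommRingCat.isPushout_tensorProduct B (B ⧸ 𝔭) A)
  have hψ' : CommRingCat.ofHom (algebraMap B A) = ψ := rfl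
  rw [hψ'] at sqL
  have sqR : IsPullback eT'.inv (Spec.map ψ) e eT.inv :=
    IsPullback.of_horiz_isIso ⟨by rw [hψ]; simp⟩
  have sq := (sqL.flip.paste_horiz sqR).flip
  have h2 : FinDegLE m (Spec.map (CommRingCat.ofHom
      (Algebra.TensorProduct.includeLeftRingHom : (B ⧸ 𝔭) →+* (B ⧸ 𝔭) ⊗[B] A))) := by
    rw [← sq.isoPullback_hom_fst, finDegLE_iso_comp]
    exact h1
  exact (finDegLE_SpecMap_iff m).1 h2

theorem schUBF_comp_mul {W' W U : Scheme.{u}} (h' : W' ⟶ W) (h : W ⟶ U) {m n : ℕ}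
    (hm : SchUBF m h') (hn : SchUBF n h) : SchUBF (m * n) (h' ≫ h) := by
  intro K _ x T c d sq
  have sqP := IsPullback.of_hasPullback x h
  obtain ⟨e, he1, he2⟩ := sqP.exists_lift c (d ≫ h') (by rw [Category.assoc]; exact sq.w)
  subst he1
  have sqE : IsPullback d e h' (pullback.snd x h) :=
    IsPullback.of_bot sq.flip he2.symm sqP.flip
  refine finDegLE_comp_mul n m e (pullback.fst x h) (hn K x _ _ _ sqP) ?_
  intro L _ y
  have sqY := IsPullback.of_hasPullback y e
  exact hm L (y ≫ pullback.snd x h) _ _ (pullback.snd y e ≫ d) (sqY.flip.paste_horiz sqE).flip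

end Groth.Agent.H37
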