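import Groth.Agent.H37.BddFib2
import Mathlib.AlgebraicGeometry.Morphisms.Etale
import Mathlib.AlgebraicGeometry.Morphisms.QuasiFinite
import Mathlib.RingTheory.Etale.Field
import Mathlib.FieldTheory.IsAlgClosed.AlgebraicClosure

/-! Étale morphisms: counting geometric points bounds the degree of the fibres. -/

set_option autoImplicit false
universe u

open CategoryTheory Limits AlgebraicGeometry Groth.Agent.H52.UBF

namespace Groth.Agent.H37

variable {X Y : Scheme.{u}}

theorem locallyQuasiFinite_of_etale (f : X ⟶ Y) [Etale f] : LocallyQuasiFinite f := by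
  refine ⟨fun {U} hU {V} hV e => ?_⟩
  have hφ : (f.appLE U V e).hom.Etale :=
    HasRingHomProperty.appLE (P := @Etale) f inferInstance ⟨U, hU⟩ ⟨V, hV⟩ e
  algebraize [(f.appLE U V e).hom]
  have : Algebra.Etale Γ(Y, U) Γ(X, V) := hφ
  exact RingHom.quasiFinite_algebraMap.mpr inferInstance

/-- a finite product of copies of an algebraically closed field: dimension = number of primes -/
theorem finrank_eq_card_primeSpectrum_of_etale {K A : Type u} [Field K] [IsAlgClosed K]
    [CommRing A] [Algebra K A] [Algebra.Etale K A] :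
    Module.Finite K A ∧ Module.finrank K A = Nat.card (PrimeSpectrum A) := by
  obtain ⟨I, _, Ai, _, _, eq, H⟩ := (Algebra.Etale.iff_exists_algEquiv_prod K A).mp inferInstance
  have hfinI : ∀ i, Module.Finite K (Ai i) := fun i => (H i).1
  have hbij : ∀ i, Function.Bijective (algebraMap K (Ai i)) := fun i =>
    IsAlgClosed.algebraMap_bijective_of_isIntegral
  have hrank : ∀ i, Module.finrank K (Ai i) = 1 := by
    intro i
    have e : K ≃ₗ[K] Ai i := LinearEquiv.ofBijective (Algebra.linearMap K (Ai i)) (hbij i)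
    rw [← e.finrank_eq, Module.finrank_self]
  cases nonempty_fintype I
  have hfinA : Module.Finite K A :=
    Module.Finite.of_surjective eq.symm.toLinearMap eq.symm.surjective
  refine ⟨hfinA, ?_⟩
  rw [eq.toLinearEquiv.finrank_eq, Module.finrank_pi_fintype]
  simp only [hrank, Finset.sum_const, Finset.card_univ, smul_eq_mul, mul_one]
  -- count primes
  have e1 : PrimeSpectrum A ≃ PrimeSpectrum (Π i, Ai i) :=
    (PrimeSpectrum.comapEquiv eq.toRingEquiv).toEquiv
  have e2 : (Σ i, PrimeSpectrum (Ai i)) ≃ PrimeSpectrum (Π i, Ai i) :=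
    Equiv.ofBijective _ (PrimeSpectrum.sigmaToPi_bijective Ai)
  have e3 : (Σ i, PrimeSpectrum (Ai i)) ≃ I :=
    Equiv.sigmaUnique I (fun i => PrimeSpectrum (Ai i))
  rw [Nat.card_congr (e1.trans (e2.symm.trans e3)), Nat.card_eq_fintype_card]

theorem finDegLE_of_etale_of_isAlgClosed {K : Type u} [Field K] [IsAlgClosed K] {T : Scheme.{u}}
    (c : T ⟶ Spec (CommRingCat.of K)) [Etale c] [Finite T] (n : ℕ) (hn : Nat.card T ≤ n) :
    FinDegLE n c := by
  haveI := locallyQuasiFinite_of_etale c
  have hdisc : DiscreteTopology T := by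
    rw [← isDiscrete_univ_iff]
    have h1 := c.isDiscrete_preimage_singleton (IsLocalRing.closedPoint K)
    have h2 : (c : T → _) ⁻¹' {IsLocalRing.closedPoint K} = Set.univ := by
      ext t
      simp only [Set.mem_preimage, Set.mem_univ, iff_true]
      exact Subsingleton.elim _ _
    exact h2 ▸ h1
  have haff : IsAffine T := inferInstance
  have : IsAffineHom c := isAffineHom_of_isAffine c
  obtain ⟨A, _, _, e, rfl⟩ := exists_algebra_of_isAffineHom c
  have het : Etale (Spec.map (CommRingCat.ofHom (algebraMap K A))) :=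
    (MorphismProperty.cancel_left_of_respectsIso @Etale e.hom _).mp inferInstance
  have het2 : (algebraMap K A).Etale := (HasRingHomProperty.Spec_iff (P := @Etale)).mp het
  have het3 : Algebra.Etale K A := RingHom.etale_algebraMap.mp het2
  obtain ⟨hfin, hrank⟩ := finrank_eq_card_primeSpectrum_of_etale (K := K) (A := A)
  rw [finDegLE_iso_comp, finDegLE_SpecMap_iff]
  refine ⟨hfin, ?_⟩
  rw [hrank]
  have h3 : Nat.card ↥T = Nat.card (PrimeSpectrum A) := Nat.card_congr e.hom.homeomorph.toEquiv
  rw [← h3]
  exact hn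

/-- étale morphisms: a bound on the number of geometric points of the fibres bounds their degree -/
theorem schUBF_of_natCard_le_of_etale (f : X ⟶ Y) [Etale f] (n : ℕ)
    (h : ∀ (k : Type u) [Field k] (g : Spec (CommRingCat.of k) ⟶ Y),
      Finite ↥(Limits.pullback f g) ∧ Nat.card ↥(Limits.pullback f g) ≤ n) : SchUBF n f := by
  rw [schUBF_iff_pullback]
  intro K _ x
  let Ω := AlgebraicClosure K
  let β : Spec (CommRingCat.of Ω) ⟶ Spec (CommRingCat.of K) :=
    Spec.map (CommRingCat.ofHom (algebraMap K Ω))
  obtain ⟨hfin, hcard⟩ := h Ω (β ≫ x)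
  have h1 : FinDegLE n (pullback.snd f (β ≫ x)) :=
    finDegLE_of_etale_of_isAlgClosed _ n hcard
  -- the base change square
  have sqBig := (IsPullback.of_hasPullback f (β ≫ x))
  have sqR := (IsPullback.of_hasPullback f x)
  obtain ⟨l, hl1, hl2⟩ := sqR.exists_lift (pullback.fst f (β ≫ x)) (pullback.snd f (β ≫ x) ≫ β)
    (by rw [Category.assoc]; exact sqBig.w)
  have sqL : IsPullback l (pullback.snd f (β ≫ x)) (pullback.snd f x) β := by
    refine IsPullback.of_right ?_ hl2 sqR
    rw [hl1]
    exact sqBig
  exact finDegLE_of_isPullback_field β _ _ l sqL.flip n h1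

end Groth.Agent.H37
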