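import Groth.Agent.H52.UBFAlg

/-! Sharp bound for the degree of a composition: `dim_K A ≤ m * dim_K B` when all fibres of
`B → A` have degree at most `m`. -/

set_option autoImplicit false
universe u
open TensorProduct

namespace Groth.Agent.H37

open Groth.Agent.H52.UBFAlg

section Gen

variable {B A : Type u} [CommRing B] [AddCommGroup A] [Module B A]

/-- generators of `A` modulo `𝔭`, indexed by `Fin m` -/
theorem exists_fin_span_sup_smul (𝔭 : Ideal B) [h𝔭 : 𝔭.IsMaximal] (m : ℕ)
    (hfin : letI := Ideal.Quotient.field 𝔭; Module.Finite (B ⧸ 𝔭) ((B ⧸ 𝔭) ⊗[B] A))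
    (hm : letI := Ideal.Quotient.field 𝔭; Module.finrank (B ⧸ 𝔭) ((B ⧸ 𝔭) ⊗[B] A) ≤ m) :
    ∃ g : Fin m → A, Submodule.span B (Set.range g) ⊔ 𝔭 • (⊤ : Submodule B A) = ⊤ := by
  classical
  obtain ⟨G, hGcard, hG⟩ := exists_finset_span_sup_smul (A := A) 𝔭 m hfin hm
  have hcard : Fintype.card G ≤ Fintype.card (Fin m) := by simpa using hGcard
  obtain ⟨emb⟩ := Function.Embedding.nonempty_of_card_le hcard
  refine ⟨fun i => if h : ∃ x : G, emb x = i then (Classical.choose h).1 else 0, ?_⟩
  rw [eq_top_iff]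
  refine hG.symm.le.trans (sup_le_sup (Submodule.span_mono ?_) le_rfl)
  intro x hx
  refine ⟨emb ⟨x, hx⟩, ?_⟩
  have h : ∃ y : G, emb y = emb ⟨x, hx⟩ := ⟨_, rfl⟩
  simp only [dif_pos h]
  have := emb.injective (Classical.choose_spec h)
  rw [this]

end Gen

section Main

variable {K B A : Type u} [Field K] [CommRing B] [CommRing A] [Algebra K B] [Algebra B A]
  [Algebra K A] [IsScalarTower K B A]

/-- **Algebra core of the composition of universally bounded fibres, sharp form.** -/
theorem finite_finrank_le_mul_of_fibres [Module.Finite K B] (n m : ℕ)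
    (hn : Module.finrank K B ≤ n)
    (h : ∀ (𝔭 : Ideal B) (_ : 𝔭.IsMaximal), letI := Ideal.Quotient.field 𝔭;
      Module.Finite (B ⧸ 𝔭) ((B ⧸ 𝔭) ⊗[B] A) ∧ Module.finrank (B ⧸ 𝔭) ((B ⧸ 𝔭) ⊗[B] A) ≤ m) :
    Module.Finite K A ∧ Module.finrank K A ≤ m * n := by
  classical
  have hArt : IsArtinianRing B := IsArtinianRing.of_finite K B
  have : Finite (PrimeSpectrum B) := inferInstance
  have : Fintype (PrimeSpectrum B) := Fintype.ofFinite _
  have hmax : ∀ p : PrimeSpectrum B, p.asIdeal.IsMaximal := fun p =>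
    IsArtinianRing.isMaximal_of_isPrime p.asIdeal
  choose g hg using fun p : PrimeSpectrum B =>
    haveI := hmax p
    exists_fin_span_sup_smul (A := A) p.asIdeal m (h p.asIdeal (hmax p)).1 (h p.asIdeal (hmax p)).2
  choose e he1 he2 he3 using fun p : PrimeSpectrum B =>
    IsArtinianRing.exists_not_mem_forall_mem_of_ne p.asIdeal
  have he4 : ∀ p : PrimeSpectrum B, 1 - e p ∈ p.asIdeal := by
    intro p
    have h0 : e p * (1 - e p) = 0 := by
      have := (he2 p).eq
      rw [mul_sub, mul_one, this, sub_self]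
    have h1 : e p * (1 - e p) ∈ p.asIdeal := by rw [h0]; exact zero_mem _
    exact (p.2.mem_or_mem h1).resolve_left (he1 p)
  let v : Fin m → A := fun i => ∑ p : PrimeSpectrum B, e p • g p i
  let N : Submodule B A := Submodule.span B (Set.range v)
  have hN : ∀ p : PrimeSpectrum B, N ⊔ p.asIdeal • (⊤ : Submodule B A) = ⊤ := by
    intro p
    rw [eq_top_iff]
    refine (hg p).symm.le.trans (sup_le ?_ le_sup_right)
    rw [Submodule.span_le]
    rintro _ ⟨i, rfl⟩
    have hdecomp : g p i = v i + ((1 - e p) • g p i -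
        ∑ q ∈ Finset.univ.erase p, e q • g q i) := by
      have hv : v i = e p • g p i + ∑ q ∈ Finset.univ.erase p, e q • g q i :=
        (Finset.add_sum_erase Finset.univ (fun q => e q • g q i) (Finset.mem_univ p)).symm
      rw [hv, sub_smul, one_smul]
      abel
    rw [hdecomp]
    refine Submodule.add_mem _ (Submodule.mem_sup_left (Submodule.subset_span ⟨i, rfl⟩))
      (Submodule.mem_sup_right ?_)
    refine Submodule.sub_mem _ (Submodule.smul_mem_smul (he4 p) Submodule.mem_top) ?_
    refine Submodule.sum_mem _ fun q hq => ?_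
    have hqp : q ≠ p := (Finset.mem_erase.mp hq).1
    refine Submodule.smul_mem_smul (he3 q p.asIdeal p.2 ?_) Submodule.mem_top
    intro heq
    exact hqp (PrimeSpectrum.ext heq.symm)
  have hprod := sup_smul_prod Finset.univ N (fun p : PrimeSpectrum B => p.asIdeal)
    (fun p _ => hN p)
  have hnil : IsNilpotent (∏ p : PrimeSpectrum B, p.asIdeal) := by
    obtain ⟨k, hk⟩ := IsArtinianRing.isNilpotent_nilradical (R := B)
    refine ⟨k, ?_⟩
    rw [Ideal.zero_eq_bot, eq_bot_iff, ← Ideal.zero_eq_bot, ← hk]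
    refine Ideal.pow_right_mono ?_ k
    rw [nilradical_eq_sInf]
    refine le_sInf fun J hJ => ?_
    exact Ideal.prod_le_inf.trans (Finset.inf_le (b := (⟨J, hJ⟩ : PrimeSpectrum B))
      (Finset.mem_univ _))
  have hNtop : N = ⊤ := eq_top_of_sup_smul_of_isNilpotent N _ hnil hprod
  let φ : (Fin m → B) →ₗ[B] A := Fintype.linearCombination B v
  have hφ : Function.Surjective φ := by
    rw [← LinearMap.range_eq_top, Fintype.range_linearCombination]
    exact hNtop
  let φK : (Fin m → B) →ₗ[K] A := φ.restrictScalars K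
  have hφK : Function.Surjective φK := hφ
  have hfinK : Module.Finite K (Fin m → B) := inferInstance
  refine ⟨Module.Finite.of_surjective φK hφK, ?_⟩
  refine (LinearMap.finrank_le_finrank_of_surjective hφK).trans ?_
  rw [Module.finrank_pi_fintype]
  simp only [Finset.sum_const, Finset.card_univ, Fintype.card_fin, smul_eq_mul]
  exact Nat.mul_le_mul_left _ hn

end Main

end Groth.Agent.H37
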