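import Groth.Agent.H37.UHScheme
import Groth.Agent.H22.IntegralSection
import Groth.Prelude.Def_Pi1

/-! A universally closed, radicial, birational morphism onto a normal integral scheme is an
isomorphism. -/

set_option autoImplicit false
universe u

open CategoryTheory Limits AlgebraicGeometry Groth.Agent.H22.IntegralSection

namespace Groth.Agent.H37

variable {U V : Scheme.{u}}

/-- the residue map of a field (as a local ring) is bijective -/
theorem residue_bijective_of_isField {R : Type u} [CommRing R] [IsLocalRing R] (hR : IsField R) :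
    Function.Bijective (IsLocalRing.residue R) := by
  refine ⟨?_, IsLocalRing.residue_surjective⟩
  rw [injective_iff_map_eq_zero]
  intro r hr
  have h1 : r ∈ IsLocalRing.maximalIdeal R := (IsLocalRing.residue_eq_zero_iff r).mp hr
  rw [IsLocalRing.isField_iff_maximalIdeal_eq.mp hR] at h1
  exact h1

theorem isIso_stalkMap_genericPoint_of_bijective_residueFieldMap [IsIntegral U] [IsIntegral V]
    (h : U ⟶ V) (hgen : h (genericPoint U) = genericPoint V)
    (hbir : Function.Bijective (h.residueFieldMap (genericPoint U)).hom) :
    IsIso (h.stalkMap (genericPoint U)) := by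
  rw [ConcreteCategory.isIso_iff_bijective]
  have hU : IsField (U.presheaf.stalk (genericPoint U)) :=
    Field.toIsField U.functionField
  have hV : IsField (V.presheaf.stalk (h (genericPoint U))) := by
    rw [hgen]
    exact Field.toIsField V.functionField
  have h1 := residue_bijective_of_isField hU
  have h2 := residue_bijective_of_isField hV
  have hcomm : ∀ a, U.residue (genericPoint U) (h.stalkMap (genericPoint U) a) =
      h.residueFieldMap (genericPoint U) (V.residue (h (genericPoint U)) a) := by
    intro a
    exact (congrArg (fun φ => CommRingCat.Hom.hom φ a)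
      (Scheme.residue_residueFieldMap h (genericPoint U))).symm
  constructor
  · intro a b hab
    apply h2.1
    apply hbir.1
    show h.residueFieldMap (genericPoint U) (V.residue _ a) =
      h.residueFieldMap (genericPoint U) (V.residue _ b)
    rw [← hcomm, ← hcomm]
    exact congrArg _ hab
  · intro c
    obtain ⟨d, hd⟩ := hbir.2 (U.residue (genericPoint U) c)
    obtain ⟨a, rfl⟩ := h2.2 d
    refine ⟨a, h1.1 ?_⟩
    exact (hcomm a).trans hd

theorem isIso_of_universallyClosed_of_universallyInjective_of_birational [IsIntegral U]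
    [IsIntegral V] (hN : Pi1.IsNormalScheme V) (h : U ⟶ V) [UniversallyClosed h]
    [UniversallyInjective h] (hgen : h (genericPoint U) = genericPoint V)
    (hbir : Function.Bijective (h.residueFieldMap (genericPoint U)).hom) : IsIso h := by
  haveI : IsDominant h := by
    refine ⟨?_⟩
    have h1 : Dense ({genericPoint V} : Set V) := by
      rw [dense_iff_closure_eq]
      exact genericPoint_spec V
    refine h1.mono ?_
    rintro _ rfl
    exact ⟨genericPoint U, hgen⟩
  haveI : Surjective h := inferInstance
  have hUH : FlatMor.IsUnivHomeo h := (isUnivHomeo_iff h).mpr ⟨inferInstance, inferInstance, inferInstance⟩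
  haveI : IsAffineHom h := isAffineHom_of_isUnivHomeo hUH
  haveI : IsIntegralHom h := IsIntegralHom.iff_universallyClosed_and_isAffineHom.mpr
    ⟨inferInstance, inferInstance⟩
  haveI := isIso_stalkMap_genericPoint_of_bijective_residueFieldMap h hgen hbir
  have hX : ∀ x : V, IsIntegrallyClosed (V.presheaf.stalk x) := fun x => (hN x).2
  -- sections over nonempty affine opens
  have key : ∀ (V' : V.Opens) (hV' : IsAffineOpen V') (hne : (V' : Set V).Nonempty),
      IsIso (h.app V') := by
    intro V' hV' hne
    have hxV : h (genericPoint U) ∈ V' := by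
      rw [hgen]
      exact ((genericPoint_spec V).mem_open_set_iff V'.isOpen).mpr (by simpa using hne)
    have hy : genericPoint U ∈ h ⁻¹ᵁ V' := hxV
    have hne1 : Nonempty V' := ⟨⟨_, hxV⟩⟩
    have hne' : Nonempty (h ⁻¹ᵁ V') := ⟨⟨_, hy⟩⟩
    haveI : IsIntegrallyClosed Γ(V, V') := isIntegrallyClosed_of_stalk hX V' hV' hne
    letI : Algebra Γ(V, V') (V.presheaf.stalk (h (genericPoint U))) :=
      (V.presheaf.germ V' _ hxV).hom.toAlgebra
    have hfr : IsFractionRing Γ(V, V') (V.presheaf.stalk (h (genericPoint U))) :=
      isFractionRing_stalk_of_eq_genericPoint _ hgen V' hV' hxV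
    let ψ : Γ(U, h ⁻¹ᵁ V') ⟶ V.presheaf.stalk (h (genericPoint U)) :=
      U.presheaf.germ (h ⁻¹ᵁ V') (genericPoint U) hy ≫ inv (h.stalkMap (genericPoint U))
    have hψ : h.app V' ≫ ψ = V.presheaf.germ V' _ hxV := by
      rw [← cancel_mono (h.stalkMap (genericPoint U))]
      simp only [ψ, Category.assoc, IsIso.inv_hom_id, Category.comp_id]
      exact (Scheme.Hom.germ_stalkMap h V' (genericPoint U) hxV).symm
    have hbij := bijective_of_isIntegral_of_retract_fractionRing (h.app V').hom
      (IsIntegralHom.isIntegral_app h V' hV') ψ.hom (by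
        rw [← CommRingCat.hom_comp, hψ]; rfl)
    exact (ConcreteCategory.isIso_iff_bijective _).mpr hbij
  change MorphismProperty.isomorphisms Scheme h
  rw [HasAffineProperty.eq_targetAffineLocally (P := MorphismProperty.isomorphisms Scheme)]
  intro W
  refine ⟨IsAffineHom.isAffine_preimage _ W.2, ?_⟩
  by_cases hne : (W.1 : Set V).Nonempty
  · have hV' : IsAffineOpen (W.1.ι ''ᵁ ⊤) := by rw [Scheme.Opens.ι_image_top]; exact W.2
    have hne' : ((W.1.ι ''ᵁ ⊤ : V.Opens) : Set V).Nonempty := by
      rw [Scheme.Opens.ι_image_top]; exact hne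
    have : IsIso (h.app (W.1.ι ''ᵁ ⊤)) := key _ hV' hne'
    rw [morphismRestrict_appTop]
    refine IsIso.comp_isIso' this ?_
    have : IsIso (eqToHom (image_morphismRestrict_preimage h W.1 ⊤)).op := inferInstance
    exact Functor.map_isIso _ _
  · have : IsEmpty W.1.toScheme := by
      rw [Set.not_nonempty_iff_eq_empty] at hne
      exact ⟨fun x => by
        have : x.1 ∈ (W.1 : Set V) := x.2
        rw [hne] at this; exact this⟩
    have : IsIso (h ∣_ W.1) := isIso_of_isEmpty _
    exact inferInstanceAs (IsIso ((h ∣_ W.1).app ⊤))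

end Groth.Agent.H37
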