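import Groth.Agent.H37.Config4

set_option autoImplicit false
set_option linter.unusedVariables false
set_option linter.unnecessarySeqFocus false
open Finset

namespace Groth.Agent.H37

namespace M2Config

variable {r : ℕ}

/-- Classification of chains of four `(-2)`-indices. -/
theorem chain4 (C : M2Config 4) (h01 : C.A 0 1 ≠ 0) (h12 : C.A 1 2 ≠ 0) (h23 : C.A 2 3 ≠ 0) :
    C.A 0 2 = 0 ∧ C.A 0 3 = 0 ∧ C.A 1 3 = 0 ∧
    ((C.W 1 = C.W 0 ∧ C.W 2 = C.W 0 ∧ C.W 3 = C.W 0 ∧ C.A 0 1 = C.W 0 ∧ C.A 1 2 = C.W 0 ∧ C.A 2 3 = C.W 0) ∨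
     (C.W 1 = C.W 0 ∧ C.W 2 = C.W 0 ∧ C.W 3 = 2 * C.W 0 ∧ C.A 0 1 = C.W 0 ∧ C.A 1 2 = C.W 0 ∧ C.A 2 3 = 2 * C.W 0) ∨
     (C.W 0 = 2 * C.W 3 ∧ C.W 1 = 2 * C.W 3 ∧ C.W 2 = 2 * C.W 3 ∧ C.A 0 1 = 2 * C.W 3 ∧ C.A 1 2 = 2 * C.W 3 ∧ C.A 2 3 = 2 * C.W 3) ∨
     (C.W 1 = C.W 0 ∧ C.W 2 = 2 * C.W 0 ∧ C.W 3 = 2 * C.W 0 ∧ C.A 0 1 = C.W 0 ∧ C.A 1 2 = 2 * C.W 0 ∧ C.A 2 3 = 2 * C.W 0) ∨
     (C.W 0 = 2 * C.W 1 ∧ C.W 2 = C.W 1 ∧ C.W 3 = C.W 1 ∧ C.A 0 1 = 2 * C.W 1 ∧ C.A 1 2 = C.W 1 ∧ C.A 2 3 = C.W 1) ∨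
     (C.W 1 = 2 * C.W 0 ∧ C.W 2 = 2 * C.W 0 ∧ C.W 3 = 2 * C.W 0 ∧ C.A 0 1 = 2 * C.W 0 ∧ C.A 1 2 = 2 * C.W 0 ∧ C.A 2 3 = 2 * C.W 0) ∨
     (C.W 0 = 2 * C.W 2 ∧ C.W 1 = 2 * C.W 2 ∧ C.W 3 = C.W 2 ∧ C.A 0 1 = 2 * C.W 2 ∧ C.A 1 2 = 2 * C.W 2 ∧ C.A 2 3 = C.W 2)) := by
  have hw0 := C.W_pos 0
  have hw1 := C.W_pos 1
  have hw2 := C.W_pos 2
  have hw3 := C.W_pos 3
  have n0_1 := C.A_nonneg 0 1 (by decide)
  have y1_0 := C.A_symm 1 0
  have n0_2 := C.A_nonneg 0 2 (by decide)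
  have y2_0 := C.A_symm 2 0
  have n0_3 := C.A_nonneg 0 3 (by decide)
  have y3_0 := C.A_symm 3 0
  have n1_2 := C.A_nonneg 1 2 (by decide)
  have y2_1 := C.A_symm 2 1
  have n1_3 := C.A_nonneg 1 3 (by decide)
  have y3_1 := C.A_symm 3 1
  have n2_3 := C.A_nonneg 2 3 (by decide)
  have y3_2 := C.A_symm 3 2
  have l0_1 := C.W_le_left (s := 0) (t := 1) (by decide) h01
  have r0_1 := C.W_le_right (s := 0) (t := 1) (by decide) h01
  have l1_2 := C.W_le_left (s := 1) (t := 2) (by decide) h12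
  have r1_2 := C.W_le_right (s := 1) (t := 2) (by decide) h12
  have l2_3 := C.W_le_left (s := 2) (t := 3) (by decide) h23
  have r2_3 := C.W_le_right (s := 2) (t := 3) (by decide) h23
  obtain ⟨z02, c012⟩ := C.chain3' (a := 0) (b := 1) (c := 2) (by decide) (by decide) (by decide)
    h01 h12
  obtain ⟨z13, c123⟩ := C.chain3' (a := 1) (b := 2) (c := 3) (by decide) (by decide) (by decide)
    h12 h23
  have z03 : C.A 0 3 = 0 := by
    by_contra hne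
    have l0_3 := C.W_le_left (s := 0) (t := 3) (by decide) hne
    have r0_3 := C.W_le_right (s := 0) (t := 3) (by decide) hne
    apply C.no_sub ![1, 1, 1, 1]
    · intro s; fin_cases s <;> simp
    · intro h; have := congrFun h 0; simp at this
    · intro s; fin_cases s <;> simp [Fin.sum_univ_succ, C.A_diag] <;> linarith
  refine ⟨z02, z03, z13, ?_⟩
  rcases c012 with ⟨e1, e2, e3, e4⟩ | ⟨e1, e2, e3, e4⟩ | ⟨e1, e2, e3, e4⟩ | ⟨e1, e2, e3, e4⟩ |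
    ⟨e1, e2, e3, e4⟩ <;>
  rcases c123 with ⟨f1, f2, f3, f4⟩ | ⟨f1, f2, f3, f4⟩ | ⟨f1, f2, f3, f4⟩ | ⟨f1, f2, f3, f4⟩ |
    ⟨f1, f2, f3, f4⟩
  · left; refine ⟨?_, ?_, ?_, ?_, ?_, ?_⟩ <;> linarith
  · right; right; left; refine ⟨?_, ?_, ?_, ?_, ?_, ?_⟩ <;> linarith
  · right; left; refine ⟨?_, ?_, ?_, ?_, ?_, ?_⟩ <;> linarith
  · exfalso; linarith
  · exfalso; linarith
  · exfalso; linarith
  · exfalso; linarith
  · exfalso; linarith
  · right; right; right; right; right; right; refine ⟨?_, ?_, ?_, ?_, ?_, ?_⟩ <;> linarith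
  · exfalso; linarith
  · exfalso; linarith
  · exfalso; linarith
  · exfalso; linarith
  · exfalso; linarith
  · right; right; right; left; refine ⟨?_, ?_, ?_, ?_, ?_, ?_⟩ <;> linarith
  · right; right; right; right; left; refine ⟨?_, ?_, ?_, ?_, ?_, ?_⟩ <;> linarith
  · exfalso
    apply C.no_sub ![1, 2, 2, 2]
    · intro s; fin_cases s <;> simp
    · intro h; have := congrFun h 0; simp at this
    · intro s; fin_cases s <;> simp [Fin.sum_univ_succ, C.A_diag] <;> linarith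
  · exfalso
    apply C.no_sub ![1, 2, 2, 1]
    · intro s; fin_cases s <;> simp
    · intro h; have := congrFun h 0; simp at this
    · intro s; fin_cases s <;> simp [Fin.sum_univ_succ, C.A_diag] <;> linarith
  · exfalso; linarith
  · exfalso; linarith
  · right; right; right; right; right; left; refine ⟨?_, ?_, ?_, ?_, ?_, ?_⟩ <;> linarith
  · exfalso
    apply C.no_sub ![1, 1, 1, 1]
    · intro s; fin_cases s <;> simp
    · intro h; have := congrFun h 0; simp at this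
    · intro s; fin_cases s <;> simp [Fin.sum_univ_succ, C.A_diag] <;> linarith
  · exfalso
    apply C.no_sub ![2, 2, 2, 1]
    · intro s; fin_cases s <;> simp
    · intro h; have := congrFun h 0; simp at this
    · intro s; fin_cases s <;> simp [Fin.sum_univ_succ, C.A_diag] <;> linarith
  · exfalso; linarith
  · exfalso; linarith

end M2Config

end Groth.Agent.H37
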