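import Groth.Agent.H37.Chain4

set_option autoImplicit false
set_option linter.unusedVariables false
set_option linter.unnecessarySeqFocus false
open Finset

namespace Groth.Agent.H37

namespace M2Config

variable {r : ℕ}

/-- Chains of four inside a configuration. -/
theorem chain4' (C : M2Config r) {a b c d : Fin r} (hab : a ≠ b) (hac : a ≠ c) (had : a ≠ d)
    (hbc : b ≠ c) (hbd : b ≠ d) (hcd : c ≠ d)
    (h1 : C.A a b ≠ 0) (h2 : C.A b c ≠ 0) (h3 : C.A c d ≠ 0) :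
    C.A a c = 0 ∧ C.A a d = 0 ∧ C.A b d = 0 ∧
    ((C.W b = C.W a ∧ C.W c = C.W a ∧ C.W d = C.W a ∧ C.A a b = C.W a ∧ C.A b c = C.W a ∧ C.A c d = C.W a) ∨
     (C.W b = C.W a ∧ C.W c = C.W a ∧ C.W d = 2 * C.W a ∧ C.A a b = C.W a ∧ C.A b c = C.W a ∧ C.A c d = 2 * C.W a) ∨
     (C.W a = 2 * C.W d ∧ C.W b = 2 * C.W d ∧ C.W c = 2 * C.W d ∧ C.A a b = 2 * C.W d ∧ C.A b c = 2 * C.W d ∧ C.A c d = 2 * C.W d) ∨
     (C.W b = C.W a ∧ C.W c = 2 * C.W a ∧ C.W d = 2 * C.W a ∧ C.A a b = C.W a ∧ C.A b c = 2 * C.W a ∧ C.A c d = 2 * C.W a) ∨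
     (C.W a = 2 * C.W b ∧ C.W c = C.W b ∧ C.W d = C.W b ∧ C.A a b = 2 * C.W b ∧ C.A b c = C.W b ∧ C.A c d = C.W b) ∨
     (C.W b = 2 * C.W a ∧ C.W c = 2 * C.W a ∧ C.W d = 2 * C.W a ∧ C.A a b = 2 * C.W a ∧ C.A b c = 2 * C.W a ∧ C.A c d = 2 * C.W a) ∨
     (C.W a = 2 * C.W c ∧ C.W b = 2 * C.W c ∧ C.W d = C.W c ∧ C.A a b = 2 * C.W c ∧ C.A b c = 2 * C.W c ∧ C.A c d = C.W c)) :=
  (C.restrict ![a, b, c, d] (inj4 hab hac had hbc hbd hcd)).chain4 h1 h2 h3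

/-- Classification of chains of five `(-2)`-indices. -/
theorem chain5 (C : M2Config 5) (h01 : C.A 0 1 ≠ 0) (h12 : C.A 1 2 ≠ 0) (h23 : C.A 2 3 ≠ 0)
    (h34 : C.A 3 4 ≠ 0) :
    C.A 0 2 = 0 ∧ C.A 0 3 = 0 ∧ C.A 0 4 = 0 ∧ C.A 1 3 = 0 ∧ C.A 1 4 = 0 ∧ C.A 2 4 = 0 ∧
    ((C.W 1 = C.W 0 ∧ C.W 2 = C.W 0 ∧ C.W 3 = C.W 0 ∧ C.W 4 = C.W 0 ∧ C.A 0 1 = C.W 0 ∧ C.A 1 2 = C.W 0 ∧ C.A 2 3 = C.W 0 ∧ C.A 3 4 = C.W 0) ∨
     (C.W 1 = C.W 0 ∧ C.W 2 = C.W 0 ∧ C.W 3 = C.W 0 ∧ C.W 4 = 2 * C.W 0 ∧ C.A 0 1 = C.W 0 ∧ C.A 1 2 = C.W 0 ∧ C.A 2 3 = C.W 0 ∧ C.A 3 4 = 2 * C.W 0) ∨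
     (C.W 0 = 2 * C.W 4 ∧ C.W 1 = 2 * C.W 4 ∧ C.W 2 = 2 * C.W 4 ∧ C.W 3 = 2 * C.W 4 ∧ C.A 0 1 = 2 * C.W 4 ∧ C.A 1 2 = 2 * C.W 4 ∧ C.A 2 3 = 2 * C.W 4 ∧ C.A 3 4 = 2 * C.W 4) ∨
     (C.W 0 = 2 * C.W 1 ∧ C.W 2 = C.W 1 ∧ C.W 3 = C.W 1 ∧ C.W 4 = C.W 1 ∧ C.A 0 1 = 2 * C.W 1 ∧ C.A 1 2 = C.W 1 ∧ C.A 2 3 = C.W 1 ∧ C.A 3 4 = C.W 1) ∨
     (C.W 1 = 2 * C.W 0 ∧ C.W 2 = 2 * C.W 0 ∧ C.W 3 = 2 * C.W 0 ∧ C.W 4 = 2 * C.W 0 ∧ C.A 0 1 = 2 * C.W 0 ∧ C.A 1 2 = 2 * C.W 0 ∧ C.A 2 3 = 2 * C.W 0 ∧ C.A 3 4 = 2 * C.W 0)) := by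
  have hw0 := C.W_pos 0
  have hw1 := C.W_pos 1
  have hw2 := C.W_pos 2
  have hw3 := C.W_pos 3
  have hw4 := C.W_pos 4
  have n0_1 := C.A_nonneg 0 1 (by decide)
  have y1_0 := C.A_symm 1 0
  have n0_2 := C.A_nonneg 0 2 (by decide)
  have y2_0 := C.A_symm 2 0
  have n0_3 := C.A_nonneg 0 3 (by decide)
  have y3_0 := C.A_symm 3 0
  have n0_4 := C.A_nonneg 0 4 (by decide)
  have y4_0 := C.A_symm 4 0
  have n1_2 := C.A_nonneg 1 2 (by decide)
  have y2_1 := C.A_symm 2 1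
  have n1_3 := C.A_nonneg 1 3 (by decide)
  have y3_1 := C.A_symm 3 1
  have n1_4 := C.A_nonneg 1 4 (by decide)
  have y4_1 := C.A_symm 4 1
  have n2_3 := C.A_nonneg 2 3 (by decide)
  have y3_2 := C.A_symm 3 2
  have n2_4 := C.A_nonneg 2 4 (by decide)
  have y4_2 := C.A_symm 4 2
  have n3_4 := C.A_nonneg 3 4 (by decide)
  have y4_3 := C.A_symm 4 3
  have l0_1 := C.W_le_left (s := 0) (t := 1) (by decide) h01
  have r0_1 := C.W_le_right (s := 0) (t := 1) (by decide) h01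
  have l1_2 := C.W_le_left (s := 1) (t := 2) (by decide) h12
  have r1_2 := C.W_le_right (s := 1) (t := 2) (by decide) h12
  have l2_3 := C.W_le_left (s := 2) (t := 3) (by decide) h23
  have r2_3 := C.W_le_right (s := 2) (t := 3) (by decide) h23
  have l3_4 := C.W_le_left (s := 3) (t := 4) (by decide) h34
  have r3_4 := C.W_le_right (s := 3) (t := 4) (by decide) h34
  obtain ⟨z02, z03, z13, c0123⟩ := C.chain4' (a := 0) (b := 1) (c := 2) (d := 3)
    (by decide) (by decide) (by decide) (by decide) (by decide) (by decide) h01 h12 h23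
  obtain ⟨z24, c234⟩ := C.chain3' (a := 2) (b := 3) (c := 4) (by decide) (by decide) (by decide)
    h23 h34
  have z14 : C.A 1 4 = 0 := by
    by_contra hne
    have l1_4 := C.W_le_left (s := 1) (t := 4) (by decide) hne
    have r1_4 := C.W_le_right (s := 1) (t := 4) (by decide) hne
    apply C.no_sub ![0, 1, 1, 1, 1]
    · intro s; fin_cases s <;> simp
    · intro h; have := congrFun h 1; simp at this
    · intro s; fin_cases s <;> simp [Fin.sum_univ_succ, C.A_diag] <;> linarith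
  have z04 : C.A 0 4 = 0 := by
    by_contra hne
    have l0_4 := C.W_le_left (s := 0) (t := 4) (by decide) hne
    have r0_4 := C.W_le_right (s := 0) (t := 4) (by decide) hne
    apply C.no_sub ![1, 1, 1, 1, 1]
    · intro s; fin_cases s <;> simp
    · intro h; have := congrFun h 0; simp at this
    · intro s; fin_cases s <;> simp [Fin.sum_univ_succ, C.A_diag] <;> linarith
  refine ⟨z02, z03, z04, z13, z14, z24, ?_⟩
  rcases c0123 with ⟨e1, e2, e3, e4, e5, e6⟩ | ⟨e1, e2, e3, e4, e5, e6⟩ | ⟨e1, e2, e3, e4, e5, e6⟩ |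
    ⟨e1, e2, e3, e4, e5, e6⟩ | ⟨e1, e2, e3, e4, e5, e6⟩ | ⟨e1, e2, e3, e4, e5, e6⟩ |
    ⟨e1, e2, e3, e4, e5, e6⟩ <;>
  rcases c234 with ⟨f1, f2, f3, f4⟩ | ⟨f1, f2, f3, f4⟩ | ⟨f1, f2, f3, f4⟩ | ⟨f1, f2, f3, f4⟩ |
    ⟨f1, f2, f3, f4⟩
  · left; refine ⟨?_, ?_, ?_, ?_, ?_, ?_, ?_, ?_⟩ <;> linarith
  · right; right; left; refine ⟨?_, ?_, ?_, ?_, ?_, ?_, ?_, ?_⟩ <;> linarith
  · right; left; refine ⟨?_, ?_, ?_, ?_, ?_, ?_, ?_, ?_⟩ <;> linarith
  · exfalso; linarith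
  · exfalso; linarith
  · exfalso; linarith
  · exfalso; linarith
  · exfalso; linarith
  · exfalso; linarith
  · exfalso
    apply C.no_sub ![1, 2, 3, 2, 1]
    · intro s; fin_cases s <;> simp
    · intro h; have := congrFun h 0; simp at this
    · intro s; fin_cases s <;> simp [Fin.sum_univ_succ, C.A_diag] <;> linarith
  · exfalso; linarith
  · exfalso; linarith
  · exfalso; linarith
  · exfalso
    apply C.no_sub ![1, 2, 3, 4, 2]
    · intro s; fin_cases s <;> simp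
    · intro h; have := congrFun h 0; simp at this
    · intro s; fin_cases s <;> simp [Fin.sum_univ_succ, C.A_diag] <;> linarith
  · exfalso; linarith
  · exfalso
    apply C.no_sub ![2, 4, 3, 2, 1]
    · intro s; fin_cases s <;> simp
    · intro h; have := congrFun h 0; simp at this
    · intro s; fin_cases s <;> simp [Fin.sum_univ_succ, C.A_diag] <;> linarith
  · exfalso
    apply C.no_sub ![0, 1, 1, 1, 1]
    · intro s; fin_cases s <;> simp
    · intro h; have := congrFun h 1; simp at this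
    · intro s; fin_cases s <;> simp [Fin.sum_univ_succ, C.A_diag] <;> linarith
  · exfalso
    apply C.no_sub ![0, 2, 2, 2, 1]
    · intro s; fin_cases s <;> simp
    · intro h; have := congrFun h 1; simp at this
    · intro s; fin_cases s <;> simp [Fin.sum_univ_succ, C.A_diag] <;> linarith
  · exfalso; linarith
  · exfalso; linarith
  · right; right; right; left; refine ⟨?_, ?_, ?_, ?_, ?_, ?_, ?_, ?_⟩ <;> linarith
  · exfalso
    apply C.no_sub ![1, 2, 2, 2, 2]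
    · intro s; fin_cases s <;> simp
    · intro h; have := congrFun h 0; simp at this
    · intro s; fin_cases s <;> simp [Fin.sum_univ_succ, C.A_diag] <;> linarith
  · exfalso
    apply C.no_sub ![1, 2, 2, 2, 1]
    · intro s; fin_cases s <;> simp
    · intro h; have := congrFun h 0; simp at this
    · intro s; fin_cases s <;> simp [Fin.sum_univ_succ, C.A_diag] <;> linarith
  · exfalso; linarith
  · exfalso; linarith
  · right; right; right; right; refine ⟨?_, ?_, ?_, ?_, ?_, ?_, ?_, ?_⟩ <;> linarith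
  · exfalso
    apply C.no_sub ![1, 1, 1, 1, 1]
    · intro s; fin_cases s <;> simp
    · intro h; have := congrFun h 0; simp at this
    · intro s; fin_cases s <;> simp [Fin.sum_univ_succ, C.A_diag] <;> linarith
  · exfalso
    apply C.no_sub ![2, 2, 2, 2, 1]
    · intro s; fin_cases s <;> simp
    · intro h; have := congrFun h 0; simp at this
    · intro s; fin_cases s <;> simp [Fin.sum_univ_succ, C.A_diag] <;> linarith
  · exfalso; linarith
  · exfalso; linarith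
  · exfalso
    apply C.no_sub ![1, 2, 3, 2, 1]
    · intro s; fin_cases s <;> simp
    · intro h; have := congrFun h 0; simp at this
    · intro s; fin_cases s <;> simp [Fin.sum_univ_succ, C.A_diag] <;> linarith
  · exfalso
    apply C.no_sub ![0, 1, 2, 2, 2]
    · intro s; fin_cases s <;> simp
    · intro h; have := congrFun h 1; simp at this
    · intro s; fin_cases s <;> simp [Fin.sum_univ_succ, C.A_diag] <;> linarith
  · exfalso
    apply C.no_sub ![0, 1, 2, 2, 1]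
    · intro s; fin_cases s <;> simp
    · intro h; have := congrFun h 1; simp at this
    · intro s; fin_cases s <;> simp [Fin.sum_univ_succ, C.A_diag] <;> linarith
  · exfalso; linarith
  · exfalso; linarith

end M2Config

end Groth.Agent.H37
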