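import Groth.Agent.H37.DnGen

set_option autoImplicit false
set_option linter.unusedVariables false
open Finset

namespace Groth.Agent.H37

namespace M2Config

/-- Classification of `D`-configurations of arbitrary size. -/
theorem dn_gen (t : ℕ) (ht : 3 ≤ t) (C : M2Config (t + 1))
    (hchain : ∀ j j' : Fin (t + 1), j'.val = j.val + 1 → j'.val < t → C.A j j' ≠ 0)
    (hbranch : ∀ j j' : Fin (t + 1), j.val + 2 = t → j'.val = t → C.A j j' ≠ 0) :
    (∀ j, C.W j = C.W (idx t (t - 2))) ∧
    (∀ j j' : Fin (t + 1), j'.val = j.val + 1 → j'.val < t → C.A j j' = C.W (idx t (t - 2))) ∧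
    (∀ j j' : Fin (t + 1), j.val + 2 = t → j'.val = t → C.A j j' = C.W (idx t (t - 2))) ∧
    (∀ j k : Fin (t + 1), j.val < k.val → ¬ (k.val = j.val + 1 ∧ k.val < t) →
      ¬ (j.val + 2 = t ∧ k.val = t) → C.A j k = 0) := by
  have adj : ∀ i, i + 1 < t → C.A (idx t i) (idx t (i + 1)) ≠ 0 := fun i hi =>
    hchain _ _ (by rw [idx_val (by omega), idx_val (by omega)]) (by rw [idx_val (by omega)]; omega)
  have adjB : C.A (idx t (t - 2)) (idx t t) ≠ 0 :=
    hbranch _ _ (by rw [idx_val (by omega)]; omega) (by rw [idx_val (by omega)])
  have hWfpos : 0 < C.W (idx t (t - 2)) := C.W_pos _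
  have h1 : C.A (idx t (t - 2)) (idx t (t - 3)) ≠ 0 := by
    rw [C.A_symm]
    have := adj (t - 3) (by omega)
    rwa [show t - 3 + 1 = t - 2 by omega] at this
  have h2 : C.A (idx t (t - 2)) (idx t (t - 1)) ≠ 0 := by
    have := adj (t - 2) (by omega)
    rwa [show t - 2 + 1 = t - 1 by omega] at this
  obtain ⟨wx, wy, wz, ax, ay, az, zxy, zxz, zyz⟩ :=
    C.star4' (h := idx t (t - 2)) (x := idx t (t - 3)) (y := idx t (t - 1)) (z := idx t t)
      (idx_ne (by omega) (by omega) (by omega)) (idx_ne (by omega) (by omega) (by omega))
      (idx_ne (by omega) (by omega) (by omega)) (idx_ne (by omega) (by omega) (by omega))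
      (idx_ne (by omega) (by omega) (by omega)) (idx_ne (by omega) (by omega) (by omega)) h1 h2 adjB
  have tail : ∀ d k, k + d = t - 2 → C.W (idx t k) = C.W (idx t (t - 2)) ∧
      (1 ≤ d → C.A (idx t k) (idx t (k + 1)) = C.W (idx t (t - 2))) := by
    intro d
    induction d using Nat.strong_induction_on with
    | _ d ih =>
      intro k hkd
      rcases d with _ | _ | d
      · have hk : k = t - 2 := by omega
        subst hk
        exact ⟨rfl, fun h => absurd h (by omega)⟩
      · have hk : k = t - 3 := by omega
        subst hk
        refine ⟨wx, fun _ => ?_⟩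
        rw [show t - 3 + 1 = t - 2 by omega, C.A_symm]
        exact ax
      · have ih1 := ih (d + 1) (by omega) (k + 1) (by omega)
        have ih2 := ih d (by omega) (k + 2) (by omega)
        have hW' : ∀ i, k + 1 ≤ i → i ≤ t → C.W (idx t i) = C.W (idx t (t - 2)) := by
          intro i hi1 hi2
          by_cases hi3 : i ≤ t - 2
          · exact (ih (t - 2 - i) (by omega) i (by omega)).1
          by_cases hi4 : i = t - 1
          · rw [hi4]; exact wy
          · have : i = t := by omega
            rw [this]; exact wz
        have hA' : ∀ i, k + 1 ≤ i → i + 1 < t →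
            C.A (idx t i) (idx t (i + 1)) = C.W (idx t (t - 2)) := by
          intro i hi1 hi2
          by_cases hi3 : i ≤ t - 3
          · exact (ih (t - 2 - i) (by omega) i (by omega)).2 (by omega)
          · have : i = t - 2 := by omega
            rw [this, show t - 2 + 1 = t - 1 by omega]
            exact ay
        obtain ⟨z, hc⟩ := C.chain3' (a := idx t k) (b := idx t (k + 1)) (c := idx t (k + 2))
          (idx_ne (by omega) (by omega) (by omega)) (idx_ne (by omega) (by omega) (by omega))
          (idx_ne (by omega) (by omega) (by omega)) (adj k (by omega)) (adj (k + 1) (by omega))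
        rcases hc with ⟨e1, e2, e3, e4⟩ | ⟨e1, e2, e3, e4⟩ | ⟨e1, e2, e3, e4⟩ | ⟨e1, e2, e3, e4⟩ |
          ⟨e1, e2, e3, e4⟩
        · exact ⟨by rw [e1, ih1.1], fun _ => by rw [e3, ih1.1]⟩
        · exfalso
          rw [ih1.1, ih2.1] at e2
          linarith
        · exfalso
          rw [ih1.1, ih2.1] at e2
          linarith
        · exfalso
          apply C.tail_contra t k (by omega) hW' hA' az 1 (by norm_num)
          · rw [e1, e3, ih1.1]; linarith
          · rw [e3, ih1.1]; linarith
        · exfalso
          apply C.tail_contra t k (by omega) hW' hA' az 2 (by norm_num)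
          · rw [e3]; linarith
          · rw [e3, ih1.1]; linarith
  have hWall : ∀ j, C.W j = C.W (idx t (t - 2)) := by
    intro j
    rw [← idx_self j]
    have hj := j.isLt
    by_cases h3 : j.val ≤ t - 2
    · exact (tail (t - 2 - j.val) j.val (by omega)).1
    by_cases h4 : j.val = t - 1
    · rw [h4]; exact wy
    · have : j.val = t := by omega
      rw [this]; exact wz
  refine ⟨hWall, ?_, ?_, ?_⟩
  · intro j j' hjj' hj't
    rw [← idx_self j, ← idx_self j', hjj']
    by_cases h3 : j.val ≤ t - 3
    · exact (tail (t - 2 - j.val) j.val (by omega)).2 (by omega)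
    · have : j.val = t - 2 := by omega
      rw [this, show t - 2 + 1 = t - 1 by omega]
      exact ay
  · intro j j' hj hj'
    rw [← idx_self j, ← idx_self j', hj', show j.val = t - 2 by omega]
    exact az
  · intro j k hjk hn1 hn2
    rw [← idx_self j, ← idx_self k]
    have hj := j.isLt
    have hk := k.isLt
    set a := j.val with ha
    set b := k.val with hb
    by_contra hne
    by_cases hbt : b < t
    · -- cycle a, a+1, ..., b
      have hab : a + 2 ≤ b := by omega
      apply C.no_cycle_path (b - a) (by omega) (fun i => idx t (a + i.val))
      · intro i i' hii'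
        have h := congrArg Fin.val hii'
        have hi := i.isLt
        have hi' := i'.isLt
        simp only at h
        rw [idx_val (by omega), idx_val (by omega)] at h
        apply Fin.ext
        omega
      · intro i hi
        show C.A (idx t (a + i)) (idx t (a + (i + 1))) ≠ 0
        rw [show a + (i + 1) = a + i + 1 by omega]
        exact adj (a + i) (by omega)
      · show C.A (idx t (a + 0)) (idx t (a + (b - a))) ≠ 0
        rw [show a + 0 = a by omega, show a + (b - a) = b by omega]
        exact hne
    · have hbt' : b = t := by omega
      by_cases hat : a = t - 1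
      · apply hne
        rw [hat, hbt']
        exact zyz
      · have ha3 : a ≤ t - 3 := by omega
        apply C.no_cycle_path (t - 1 - a) (by omega)
          (fun i => if i.val ≤ t - 2 - a then idx t (a + i.val) else idx t t)
        · intro i i' hii'
          have hi := i.isLt
          have hi' := i'.isLt
          simp only at hii'
          apply Fin.ext
          by_cases c1 : i.val ≤ t - 2 - a <;> by_cases c2 : i'.val ≤ t - 2 - a
          · rw [if_pos c1, if_pos c2] at hii'
            have h := congrArg Fin.val hii'
            rw [idx_val (by omega), idx_val (by omega)] at h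
            omega
          · rw [if_pos c1, if_neg c2] at hii'
            have h := congrArg Fin.val hii'
            rw [idx_val (by omega), idx_val (by omega)] at h
            omega
          · rw [if_neg c1, if_pos c2] at hii'
            have h := congrArg Fin.val hii'
            rw [idx_val (by omega), idx_val (by omega)] at h
            omega
          · omega
        · intro i hi
          by_cases c1 : i + 1 ≤ t - 2 - a
          · show C.A (if i ≤ t - 2 - a then idx t (a + i) else idx t t)
              (if i + 1 ≤ t - 2 - a then idx t (a + (i + 1)) else idx t t) ≠ 0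
            rw [if_pos (by omega), if_pos c1, show a + (i + 1) = a + i + 1 by omega]
            exact adj (a + i) (by omega)
          · show C.A (if i ≤ t - 2 - a then idx t (a + i) else idx t t)
              (if i + 1 ≤ t - 2 - a then idx t (a + (i + 1)) else idx t t) ≠ 0
            rw [if_pos (by omega), if_neg c1, show a + i = t - 2 by omega]
            exact adjB
        · show C.A (if 0 ≤ t - 2 - a then idx t (a + 0) else idx t t)
              (if t - 1 - a ≤ t - 2 - a then idx t (a + (t - 1 - a)) else idx t t) ≠ 0
          rw [if_pos (by omega), if_neg (by omega), show a + 0 = a by omega]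
          rw [hbt'] at hne
          exact hne

end M2Config

end Groth.Agent.H37
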