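import Groth.Agent.H37.Chain5
import Groth.Agent.H37.DnGen2

set_option autoImplicit false
set_option linter.unusedVariables false
open Finset

namespace Groth.Agent.H37

namespace M2Config

variable {r : ℕ}

/-- Chains of five inside a configuration. -/
theorem chain5' (C : M2Config r) {a b c d e : Fin r} (hab : a ≠ b) (hac : a ≠ c) (had : a ≠ d) (hae : a ≠ e) (hbc : b ≠ c) (hbd : b ≠ d) (hbe : b ≠ e) (hcd : c ≠ d) (hce : c ≠ e) (hde : d ≠ e)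
    (h1 : C.A a b ≠ 0) (h2 : C.A b c ≠ 0) (h3 : C.A c d ≠ 0) (h4 : C.A d e ≠ 0) :
    C.A a c = 0 ∧ C.A a d = 0 ∧ C.A a e = 0 ∧ C.A b d = 0 ∧ C.A b e = 0 ∧ C.A c e = 0 ∧
    ((C.W b = C.W a ∧ C.W c = C.W a ∧ C.W d = C.W a ∧ C.W e = C.W a ∧ C.A a b = C.W a ∧ C.A b c = C.W a ∧ C.A c d = C.W a ∧ C.A d e = C.W a) ∨
     (C.W b = C.W a ∧ C.W c = C.W a ∧ C.W d = C.W a ∧ C.W e = 2 * C.W a ∧ C.A a b = C.W a ∧ C.A b c = C.W a ∧ C.A c d = C.W a ∧ C.A d e = 2 * C.W a) ∨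
     (C.W a = 2 * C.W e ∧ C.W b = 2 * C.W e ∧ C.W c = 2 * C.W e ∧ C.W d = 2 * C.W e ∧ C.A a b = 2 * C.W e ∧ C.A b c = 2 * C.W e ∧ C.A c d = 2 * C.W e ∧ C.A d e = 2 * C.W e) ∨
     (C.W a = 2 * C.W b ∧ C.W c = C.W b ∧ C.W d = C.W b ∧ C.W e = C.W b ∧ C.A a b = 2 * C.W b ∧ C.A b c = C.W b ∧ C.A c d = C.W b ∧ C.A d e = C.W b) ∨
     (C.W b = 2 * C.W a ∧ C.W c = 2 * C.W a ∧ C.W d = 2 * C.W a ∧ C.W e = 2 * C.W a ∧ C.A a b = 2 * C.W a ∧ C.A b c = 2 * C.W a ∧ C.A c d = 2 * C.W a ∧ C.A d e = 2 * C.W a)) :=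
  (C.restrict ![a, b, c, d, e] (inj5 hab hac had hae hbc hbd hbe hcd hce hde)).chain5 h1 h2 h3 h4

/-- In a window of five consecutive vertices of a chain the three middle vertices have equal weights
and the two middle edges are simple. -/
theorem chain5_mid (C : M2Config r) {a b c d e : Fin r} (hab : a ≠ b) (hac : a ≠ c) (had : a ≠ d) (hae : a ≠ e) (hbc : b ≠ c) (hbd : b ≠ d) (hbe : b ≠ e) (hcd : c ≠ d) (hce : c ≠ e) (hde : d ≠ e)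
    (h1 : C.A a b ≠ 0) (h2 : C.A b c ≠ 0) (h3 : C.A c d ≠ 0) (h4 : C.A d e ≠ 0) :
    C.W b = C.W c ∧ C.W d = C.W c ∧ C.A b c = C.W c ∧ C.A c d = C.W c := by
  obtain ⟨_, _, _, _, _, _, hs⟩ := C.chain5' hab hac had hae hbc hbd hbe hcd hce hde h1 h2 h3 h4
  rcases hs with ⟨e1, e2, e3, e4, e5, e6, e7, e8⟩ | ⟨e1, e2, e3, e4, e5, e6, e7, e8⟩ |
    ⟨e1, e2, e3, e4, e5, e6, e7, e8⟩ | ⟨e1, e2, e3, e4, e5, e6, e7, e8⟩ |
    ⟨e1, e2, e3, e4, e5, e6, e7, e8⟩ <;>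
  refine ⟨?_, ?_, ?_, ?_⟩ <;> linarith

end M2Config

end Groth.Agent.H37
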