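import Groth.Agent.H37.ChainGen0

set_option autoImplicit false
set_option linter.unusedVariables false
open Finset

namespace Groth.Agent.H37

namespace M2Config

/-- contradiction vector for a chain with non-simple edges at both ends -/
theorem ends_contra (s : ℕ) (hs : 4 ≤ s) (C : M2Config (s + 1)) (ω : ℤ) (hω : 0 < ω)
    (hW : ∀ i, 1 ≤ i → i ≤ s - 1 → C.W (idx s i) = ω)
    (hA : ∀ i, 1 ≤ i → i + 1 ≤ s - 1 → C.A (idx s i) (idx s (i + 1)) = ω)
    (α β : ℤ) (hα : 1 ≤ α) (hβ : 1 ≤ β)
    (H1 : 0 ≤ -2 * C.W (idx s 0) * α + 2 * C.A (idx s 0) (idx s 1))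
    (H2 : 0 ≤ C.A (idx s 0) (idx s 1) * α - 2 * ω)
    (H3 : 0 ≤ C.A (idx s (s - 1)) (idx s s) * β - 2 * ω)
    (H4 : 0 ≤ -2 * C.W (idx s s) * β + 2 * C.A (idx s (s - 1)) (idx s s)) : False := by
  obtain ⟨c, cv0, cvs, cv2⟩ : ∃ c : Fin (s + 1) → ℤ,
      c (idx s 0) = α ∧ c (idx s s) = β ∧ (∀ i, 1 ≤ i → i ≤ s - 1 → c (idx s i) = 2) := by
    refine ⟨fun j => if j.val = 0 then α else if j.val = s then β else 2, ?_, ?_, ?_⟩
    · simp only [idx_val (show 0 ≤ s by omega)]
      simp
    · simp only [idx_val (show s ≤ s by omega)]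
      rw [if_neg (by omega)]
      simp
    · intro i h1 h2
      simp only [idx_val (show i ≤ s by omega)]
      rw [if_neg (by omega), if_neg (by omega)]
  have hc : ∀ z, 0 ≤ c z := by
    intro z
    rw [← idx_self z]
    have hz := z.isLt
    by_cases h1 : z.val = 0
    · rw [h1, cv0]; omega
    by_cases h2 : z.val = s
    · rw [h2, cvs]; omega
    · rw [cv2 _ (by omega) (by omega)]; norm_num
  apply C.no_sub c hc
  · intro h0
    have := congrFun h0 (idx s 0)
    rw [cv0] at this
    simp at this
    omega
  · intro z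
    rw [← idx_self z]
    have hz := z.isLt
    set i := z.val with hi
    have hdiag := C.A_diag (idx s i)
    by_cases h1 : i = 0
    · rw [h1] at hdiag ⊢
      have hb := C.row_ge1 c hc (idx_ne (show 0 ≤ s by omega) (show 1 ≤ s by omega) (by omega))
      rw [cv0, cv2 _ (by omega) (by omega), hdiag] at hb
      linarith
    by_cases h2 : i = 1
    · rw [h2] at hdiag ⊢
      have hb := C.row_ge2 c hc (idx_ne (show 1 ≤ s by omega) (show 0 ≤ s by omega) (by omega))
        (idx_ne (show 1 ≤ s by omega) (show 1 + 1 ≤ s by omega) (by omega))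
        (idx_ne (show 0 ≤ s by omega) (show 1 + 1 ≤ s by omega) (by omega))
      rw [cv0, cv2 _ (by omega) (by omega), cv2 _ (by omega) (by omega), hdiag,
        hW 1 (by omega) (by omega), hA 1 (by omega) (by omega),
        C.A_symm (idx s 1) (idx s 0)] at hb
      linarith
    by_cases h3 : i ≤ s - 2
    · have hb := C.row_ge2 c hc (idx_ne (show i ≤ s by omega) (show i - 1 ≤ s by omega) (by omega))
        (idx_ne (show i ≤ s by omega) (show i + 1 ≤ s by omega) (by omega))
        (idx_ne (show i - 1 ≤ s by omega) (show i + 1 ≤ s by omega) (by omega))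
      have e1 : C.A (idx s i) (idx s (i - 1)) = ω := by
        rw [C.A_symm]
        have := hA (i - 1) (by omega) (by omega)
        rwa [show i - 1 + 1 = i by omega] at this
      rw [cv2 _ (by omega) (by omega), cv2 _ (by omega) (by omega), cv2 _ (by omega) (by omega), hdiag,
        hW i (by omega) (by omega), hA i (by omega) (by omega), e1] at hb
      linarith
    by_cases h4 : i = s - 1
    · rw [h4] at hdiag ⊢
      have hb := C.row_ge2 c hc (idx_ne (show s - 1 ≤ s by omega) (show s - 2 ≤ s by omega) (by omega))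
        (idx_ne (show s - 1 ≤ s by omega) (show s ≤ s by omega) (by omega))
        (idx_ne (show s - 2 ≤ s by omega) (show s ≤ s by omega) (by omega))
      have e1 : C.A (idx s (s - 1)) (idx s (s - 2)) = ω := by
        rw [C.A_symm]
        have := hA (s - 2) (by omega) (by omega)
        rwa [show s - 2 + 1 = s - 1 by omega] at this
      rw [cv2 _ (by omega) (by omega), cv2 _ (by omega) (by omega), cvs, hdiag,
        hW (s - 1) (by omega) (by omega), e1] at hb
      linarith
    · have h5 : i = s := by omega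
      rw [h5] at hdiag ⊢
      have hb := C.row_ge1 c hc (idx_ne (show s ≤ s by omega) (show s - 1 ≤ s by omega) (by omega))
      rw [cvs, cv2 _ (by omega) (by omega), hdiag, C.A_symm (idx s s) (idx s (s - 1))] at hb
      linarith

end M2Config

end Groth.Agent.H37
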