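import Groth.Agent.H37.ChainGen1

set_option autoImplicit false
set_option linter.unusedVariables false
open Finset

namespace Groth.Agent.H37

namespace M2Config

/-- interior vertices of a long chain have equal weights and interior edges are simple -/
theorem chain_interior (s : ℕ) (hs : 5 ≤ s) (C : M2Config (s + 1))
    (adj : ∀ i, i + 1 ≤ s → C.A (idx s i) (idx s (i + 1)) ≠ 0) :
    (∀ i, 1 ≤ i → i ≤ s - 1 → C.W (idx s i) = C.W (idx s 1)) ∧
    (∀ i, 1 ≤ i → i + 1 ≤ s - 1 → C.A (idx s i) (idx s (i + 1)) = C.W (idx s 1)) := by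
  have step : ∀ j, 1 ≤ j → j ≤ s - 2 →
      C.W (idx s j) = C.W (idx s (j + 1)) ∧ C.A (idx s j) (idx s (j + 1)) = C.W (idx s j) := by
    intro j h1 h2
    by_cases h3 : j ≤ s - 3
    · have := C.chain5_mid (a := idx s (j - 1)) (b := idx s j) (c := idx s (j + 1))
        (d := idx s (j + 2)) (e := idx s (j + 3))
        (idx_ne (by omega) (by omega) (by omega)) (idx_ne (by omega) (by omega) (by omega))
        (idx_ne (by omega) (by omega) (by omega)) (idx_ne (by omega) (by omega) (by omega))
        (idx_ne (by omega) (by omega) (by omega)) (idx_ne (by omega) (by omega) (by omega))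
        (idx_ne (by omega) (by omega) (by omega)) (idx_ne (by omega) (by omega) (by omega))
        (idx_ne (by omega) (by omega) (by omega)) (idx_ne (by omega) (by omega) (by omega))
        (by have := adj (j - 1) (by omega); rwa [show j - 1 + 1 = j by omega] at this)
        (adj j (by omega))
        (by have := adj (j + 1) (by omega); rwa [show j + 1 + 1 = j + 2 by omega] at this)
        (by have := adj (j + 2) (by omega); rwa [show j + 2 + 1 = j + 3 by omega] at this)
      obtain ⟨e1, e2, e3, e4⟩ := this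
      exact ⟨e1, by rw [e3, e1]⟩
    · have hj : j = s - 2 := by omega
      have := C.chain5_mid (a := idx s (s - 4)) (b := idx s (s - 3)) (c := idx s (s - 2))
        (d := idx s (s - 1)) (e := idx s s)
        (idx_ne (by omega) (by omega) (by omega)) (idx_ne (by omega) (by omega) (by omega))
        (idx_ne (by omega) (by omega) (by omega)) (idx_ne (by omega) (by omega) (by omega))
        (idx_ne (by omega) (by omega) (by omega)) (idx_ne (by omega) (by omega) (by omega))
        (idx_ne (by omega) (by omega) (by omega)) (idx_ne (by omega) (by omega) (by omega))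
        (idx_ne (by omega) (by omega) (by omega)) (idx_ne (by omega) (by omega) (by omega))
        (by have := adj (s - 4) (by omega); rwa [show s - 4 + 1 = s - 3 by omega] at this)
        (by have := adj (s - 3) (by omega); rwa [show s - 3 + 1 = s - 2 by omega] at this)
        (by have := adj (s - 2) (by omega); rwa [show s - 2 + 1 = s - 1 by omega] at this)
        (by have := adj (s - 1) (by omega); rwa [show s - 1 + 1 = s by omega] at this)
      obtain ⟨e1, e2, e3, e4⟩ := this
      rw [hj, show s - 2 + 1 = s - 1 by omega]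
      exact ⟨e2.symm, e4⟩
  have hW : ∀ i, 1 ≤ i → i ≤ s - 1 → C.W (idx s i) = C.W (idx s 1) := by
    intro i
    induction i with
    | zero => intro h; omega
    | succ k ih =>
      intro h1 h2
      by_cases hk : k = 0
      · subst hk; rfl
      · rw [← (step k (by omega) (by omega)).1]
        exact ih (by omega) (by omega)
  refine ⟨hW, ?_⟩
  intro i h1 h2
  rw [(step i h1 (by omega)).2]
  exact hW i h1 (by omega)

/-- one of the two end edges of a long chain is simple -/
theorem chain_gen (s : ℕ) (hs : 5 ≤ s) (C : M2Config (s + 1))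
    (hchain : ∀ j j' : Fin (s + 1), j'.val = j.val + 1 → C.A j j' ≠ 0) :
    (C.A (idx s 0) (idx s 1) = C.W (idx s 1) ∧ C.W (idx s 0) = C.W (idx s 1)) ∨
    (C.A (idx s s) (idx s (s - 1)) = C.W (idx s (s - 1)) ∧ C.W (idx s s) = C.W (idx s (s - 1))) := by
  have adj : ∀ i, i + 1 ≤ s → C.A (idx s i) (idx s (i + 1)) ≠ 0 := fun i hi =>
    hchain _ _ (by rw [idx_val (by omega), idx_val (by omega)])
  obtain ⟨hW, hA⟩ := chain_interior s hs C adj
  have hωpos : 0 < C.W (idx s 1) := C.W_pos _
  obtain ⟨_, hf⟩ := C.chain3' (a := idx s 0) (b := idx s 1) (c := idx s 2)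
    (idx_ne (by omega) (by omega) (by omega)) (idx_ne (by omega) (by omega) (by omega))
    (idx_ne (by omega) (by omega) (by omega)) (adj 0 (by omega)) (adj 1 (by omega))
  have hl1 : C.A (idx s s) (idx s (s - 1)) ≠ 0 := by
    rw [C.A_symm]
    have := adj (s - 1) (by omega)
    rwa [show s - 1 + 1 = s by omega] at this
  have hl2 : C.A (idx s (s - 1)) (idx s (s - 2)) ≠ 0 := by
    rw [C.A_symm]
    have := adj (s - 2) (by omega)
    rwa [show s - 2 + 1 = s - 1 by omega] at this
  obtain ⟨_, hl⟩ := C.chain3' (a := idx s s) (b := idx s (s - 1)) (c := idx s (s - 2))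
    (idx_ne (by omega) (by omega) (by omega)) (idx_ne (by omega) (by omega) (by omega))
    (idx_ne (by omega) (by omega) (by omega)) hl1 hl2
  have w2 := hW 2 (by omega) (by omega)
  have ws1 := hW (s - 1) (by omega) (by omega)
  have ws2 := hW (s - 2) (by omega) (by omega)
  have hsym : C.A (idx s (s - 1)) (idx s s) = C.A (idx s s) (idx s (s - 1)) := C.A_symm _ _
  -- first-edge data
  have first : (C.A (idx s 0) (idx s 1) = C.W (idx s 1) ∧ C.W (idx s 0) = C.W (idx s 1)) ∨
      ∃ α : ℤ, 1 ≤ α ∧ 0 ≤ -2 * C.W (idx s 0) * α + 2 * C.A (idx s 0) (idx s 1) ∧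
        0 ≤ C.A (idx s 0) (idx s 1) * α - 2 * C.W (idx s 1) := by
    rcases hf with ⟨e1, e2, e3, e4⟩ | ⟨e1, e2, e3, e4⟩ | ⟨e1, e2, e3, e4⟩ | ⟨e1, e2, e3, e4⟩ |
      ⟨e1, e2, e3, e4⟩
    · exact Or.inl ⟨e3, e1⟩
    · exfalso; rw [w2] at e2; linarith
    · exfalso; rw [w2] at e2; linarith
    · exact Or.inr ⟨1, by norm_num, by rw [e1, e3]; linarith, by rw [e3]; linarith⟩
    · exact Or.inr ⟨2, by norm_num, by rw [e3]; linarith, by rw [e3]; linarith⟩
  have last : (C.A (idx s s) (idx s (s - 1)) = C.W (idx s (s - 1)) ∧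
        C.W (idx s s) = C.W (idx s (s - 1))) ∨
      ∃ β : ℤ, 1 ≤ β ∧ 0 ≤ C.A (idx s (s - 1)) (idx s s) * β - 2 * C.W (idx s 1) ∧
        0 ≤ -2 * C.W (idx s s) * β + 2 * C.A (idx s (s - 1)) (idx s s) := by
    rcases hl with ⟨e1, e2, e3, e4⟩ | ⟨e1, e2, e3, e4⟩ | ⟨e1, e2, e3, e4⟩ | ⟨e1, e2, e3, e4⟩ |
      ⟨e1, e2, e3, e4⟩
    · exact Or.inl ⟨e3, e1⟩
    · exfalso; rw [ws1, ws2] at e2; linarith
    · exfalso; rw [ws1, ws2] at e2; linarith
    · exact Or.inr ⟨1, by norm_num, by rw [hsym, e3, ws1]; linarith,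
        by rw [hsym, e1, e3]; linarith⟩
    · exact Or.inr ⟨2, by norm_num, by rw [hsym, e3, ws1]; linarith,
        by rw [hsym, e3]; linarith⟩
  rcases first with h | ⟨α, hα, H1, H2⟩
  · exact Or.inl h
  rcases last with h | ⟨β, hβ, H3, H4⟩
  · exact Or.inr h
  exfalso
  exact ends_contra s (by omega) C (C.W (idx s 1)) hωpos hW hA α β hα hβ H1 H2 H3 H4

end M2Config

end Groth.Agent.H37
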