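import Groth.Agent.H37.ChainGen2

set_option autoImplicit false
set_option linter.unusedVariables false
open Finset

namespace Groth.Agent.H37

namespace M2Config

/-- Classification of a long chain whose first edge is simple. -/
theorem chain_gen_fwd (s : ℕ) (hs : 5 ≤ s) (C : M2Config (s + 1))
    (hchain : ∀ j j' : Fin (s + 1), j'.val = j.val + 1 → C.A j j' ≠ 0)
    (hfirst : C.A (idx s 0) (idx s 1) = C.W (idx s 1) ∧ C.W (idx s 0) = C.W (idx s 1)) :
    ∃ w : ℤ, (∀ j k : Fin (s + 1), j.val + 1 < k.val → C.A j k = 0) ∧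
      ((∀ j : Fin (s + 1), C.W j = w) ∧
          (∀ j j' : Fin (s + 1), j'.val = j.val + 1 → C.A j j' = w) ∨
        ((∀ j : Fin (s + 1), j.val + 1 < s + 1 → C.W j = w) ∧
          (∀ j : Fin (s + 1), j.val + 1 = s + 1 → C.W j = 2 * w) ∧
          (∀ j j' : Fin (s + 1), j'.val = j.val + 1 → j'.val + 1 < s + 1 → C.A j j' = w) ∧
          (∀ j j' : Fin (s + 1), j'.val = j.val + 1 → j'.val + 1 = s + 1 → C.A j j' = 2 * w)) ∨
        ((∀ j : Fin (s + 1), j.val + 1 < s + 1 → C.W j = 2 * w) ∧
          (∀ j : Fin (s + 1), j.val + 1 = s + 1 → C.W j = w) ∧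
          (∀ j j' : Fin (s + 1), j'.val = j.val + 1 → C.A j j' = 2 * w))) := by
  have adj : ∀ i, i + 1 ≤ s → C.A (idx s i) (idx s (i + 1)) ≠ 0 := fun i hi =>
    hchain _ _ (by rw [idx_val (by omega), idx_val (by omega)])
  obtain ⟨hW, hA⟩ := chain_interior s hs C adj
  obtain ⟨hf1, hf2⟩ := hfirst
  have hl1 : C.A (idx s s) (idx s (s - 1)) ≠ 0 := by
    rw [C.A_symm]
    have := adj (s - 1) (by omega)
    rwa [show s - 1 + 1 = s by omega] at this
  have hl2 : C.A (idx s (s - 1)) (idx s (s - 2)) ≠ 0 := by
    rw [C.A_symm]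
    have := adj (s - 2) (by omega)
    rwa [show s - 2 + 1 = s - 1 by omega] at this
  obtain ⟨_, hl⟩ := C.chain3' (a := idx s s) (b := idx s (s - 1)) (c := idx s (s - 2))
    (idx_ne (by omega) (by omega) (by omega)) (idx_ne (by omega) (by omega) (by omega))
    (idx_ne (by omega) (by omega) (by omega)) hl1 hl2
  have ws1 := hW (s - 1) (by omega) (by omega)
  have ws2 := hW (s - 2) (by omega) (by omega)
  have hsym : C.A (idx s (s - 1)) (idx s s) = C.A (idx s s) (idx s (s - 1)) := C.A_symm _ _
  have hωpos : 0 < C.W (idx s 1) := C.W_pos _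
  -- weights of the first s vertices
  have hWlow : ∀ j : Fin (s + 1), j.val + 1 < s + 1 → C.W j = C.W (idx s 1) := by
    intro j hj
    rw [← idx_self j]
    by_cases h0 : j.val = 0
    · rw [h0]; exact hf2
    · exact hW j.val (by omega) (by omega)
  -- edges among the first s vertices
  have hAlow : ∀ j j' : Fin (s + 1), j'.val = j.val + 1 → j'.val + 1 < s + 1 →
      C.A j j' = C.W (idx s 1) := by
    intro j j' hjj' hj'
    rw [← idx_self j, ← idx_self j', hjj']
    by_cases h0 : j.val = 0
    · rw [h0]; exact hf1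
    · exact hA j.val (by omega) (by omega)
  -- zeros
  have hzero : ∀ j k : Fin (s + 1), j.val + 1 < k.val → C.A j k = 0 := by
    intro j k hjk
    rw [← idx_self j, ← idx_self k]
    have hj := j.isLt
    have hk := k.isLt
    set a := j.val with ha
    set b := k.val with hb
    by_contra hne
    apply C.no_cycle_path (b - a) (by omega) (fun i => idx s (a + i.val))
    · intro i i' hii'
      have h := congrArg Fin.val hii'
      have hi := i.isLt
      have hi' := i'.isLt
      simp only at h
      rw [idx_val (by omega), idx_val (by omega)] at h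
      apply Fin.ext
      omega
    · intro i hi
      show C.A (idx s (a + i)) (idx s (a + (i + 1))) ≠ 0
      rw [show a + (i + 1) = a + i + 1 by omega]
      exact adj (a + i) (by omega)
    · show C.A (idx s (a + 0)) (idx s (a + (b - a))) ≠ 0
      rw [show a + 0 = a by omega, show a + (b - a) = b by omega]
      exact hne
  rcases hl with ⟨e1, e2, e3, e4⟩ | ⟨e1, e2, e3, e4⟩ | ⟨e1, e2, e3, e4⟩ | ⟨e1, e2, e3, e4⟩ |
    ⟨e1, e2, e3, e4⟩
  · -- type A
    refine ⟨C.W (idx s 1), hzero, Or.inl ⟨?_, ?_⟩⟩
    · intro j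
      by_cases hj : j.val + 1 < s + 1
      · exact hWlow j hj
      · have hjs : j.val = s := by have := j.isLt; omega
        rw [← idx_self j, hjs, e1, ws1]
    · intro j j' hjj'
      by_cases hj : j'.val + 1 < s + 1
      · exact hAlow j j' hjj' hj
      · have hj's : j'.val = s := by have := j'.isLt; omega
        rw [← idx_self j, ← idx_self j', hj's, show j.val = s - 1 by omega, hsym, e3, ws1]
  · exfalso; rw [ws1, ws2] at e2; linarith
  · exfalso; rw [ws1, ws2] at e2; linarith
  · -- type C : last weight doubles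
    refine ⟨C.W (idx s 1), hzero, Or.inr (Or.inl ⟨hWlow, ?_, hAlow, ?_⟩)⟩
    · intro j hj
      have hjs : j.val = s := by omega
      rw [← idx_self j, hjs, e1, ws1]
    · intro j j' hjj' hj'
      have hj's : j'.val = s := by omega
      rw [← idx_self j, ← idx_self j', hj's, show j.val = s - 1 by omega, hsym, e3, ws1]
  · -- type B : last weight halves
    refine ⟨C.W (idx s s), hzero, Or.inr (Or.inr ⟨?_, ?_, ?_⟩)⟩
    · intro j hj
      rw [hWlow j hj, ← ws1, e1]
    · intro j hj
      have hjs : j.val = s := by omega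
      rw [← idx_self j, hjs]
    · intro j j' hjj'
      by_cases hj : j'.val + 1 < s + 1
      · rw [hAlow j j' hjj' hj, ← ws1, e1]
      · have hj's : j'.val = s := by have := j'.isLt; omega
        rw [← idx_self j, ← idx_self j', hj's, show j.val = s - 1 by omega, hsym, e3, e1]

end M2Config

end Groth.Agent.H37
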