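import Mathlib

/-! A finite coproduct of finite morphisms is finite. -/

set_option autoImplicit false
universe u

open CategoryTheory CategoryTheory.Limits AlgebraicGeometry

namespace Groth.Agent.H37

section Cat

variable {C : Type*} [Category C] [HasCoproducts.{u} C] [HasBinaryCoproducts C]

/-- `Sigma.desc` over `Option α` factors through the binary coproduct, via an isomorphism. -/
theorem exists_iso_sigmaDesc_option {α : Type u} (Y : Option α → C) :
    ∃ c : (∐ Y) ≅ (∐ fun a => Y (some a)) ⨿ Y none, ∀ {X : C} (f : ∀ o, Y o ⟶ X),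
      Sigma.desc f = c.hom ≫ coprod.desc (Sigma.desc fun a => f (some a)) (f none) := by
  let hom : (∐ Y) ⟶ (∐ fun a => Y (some a)) ⨿ Y none :=
    Sigma.desc fun o => match o with
      | some a => Sigma.ι (fun a => Y (some a)) a ≫ coprod.inl
      | none => coprod.inr
  let inv : (∐ fun a => Y (some a)) ⨿ Y none ⟶ ∐ Y :=
    coprod.desc (Sigma.desc fun a => Sigma.ι Y (some a)) (Sigma.ι Y none)
  have hι : ∀ o, Sigma.ι Y o ≫ hom = match o with
      | some a => Sigma.ι (fun a => Y (some a)) a ≫ coprod.inl
      | none => coprod.inr := fun o => Sigma.ι_desc _ _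
  have hι_some : ∀ a, Sigma.ι Y (some a) ≫ hom =
      Sigma.ι (fun a => Y (some a)) a ≫ coprod.inl := fun a => hι (some a)
  have hι_none : Sigma.ι Y none ≫ hom = coprod.inr := hι none
  have hinl : ∀ a, Sigma.ι (fun a => Y (some a)) a ≫ coprod.inl ≫ inv = Sigma.ι Y (some a) := by
    intro a
    rw [coprod.inl_desc, Sigma.ι_desc]
  have hinr : coprod.inr ≫ inv = Sigma.ι Y none := coprod.inr_desc _ _
  refine ⟨⟨hom, inv, ?_, ?_⟩, fun f => ?_⟩
  · apply Sigma.hom_ext
    rintro (_ | a)
    · rw [← Category.assoc, hι_none, hinr, Category.comp_id]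
    · rw [← Category.assoc, hι_some, Category.assoc, hinl, Category.comp_id]
  · apply coprod.hom_ext
    · apply Sigma.hom_ext
      intro a
      rw [← Category.assoc, ← Category.assoc, Category.assoc _ coprod.inl, hinl, hι_some,
        Category.comp_id]
    · rw [← Category.assoc, hinr, hι_none, Category.comp_id]
  · apply Sigma.hom_ext
    rintro (_ | a)
    · rw [Sigma.ι_desc, ← Category.assoc, hι_none, coprod.inr_desc]
    · rw [Sigma.ι_desc, ← Category.assoc, hι_some, Category.assoc, coprod.inl_desc, Sigma.ι_desc]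

end Cat

theorem isFinite_sigmaDesc_of_finite (X : Scheme.{u}) (ι : Type u) [Finite ι] :
    ∀ (Y : ι → Scheme.{u}) (f : ∀ i, Y i ⟶ X), (∀ i, IsFinite (f i)) →
      IsFinite (Sigma.desc f) := by
  induction ι using Finite.induction_empty_option with
  | of_equiv e hα =>
    intro Y f hf
    let f' : ∀ a, (Y ∘ e) a ⟶ X := fun a => f (e a)
    have h1 : (Sigma.reindex e Y).hom ≫ Sigma.desc f = Sigma.desc f' := by
      apply Sigma.hom_ext
      intro a
      rw [← Category.assoc, Sigma.ι_reindex_hom, Sigma.ι_desc, Sigma.ι_desc]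
    have h2 : Sigma.desc f = (Sigma.reindex e Y).inv ≫ Sigma.desc f' := by
      rw [← h1, Iso.inv_hom_id_assoc]
    rw [h2]
    haveI : IsFinite (Sigma.desc f') := hα (Y ∘ e) f' (fun a => hf (e a))
    infer_instance
  | h_empty =>
    intro Y f _
    haveI : IsEmpty ↥(∐ Y) := (sigmaMk Y).symm.isEmpty
    infer_instance
  | h_option hα =>
    intro Y f hf
    obtain ⟨c, hc⟩ := exists_iso_sigmaDesc_option Y
    rw [hc f]
    haveI := hα (fun a => Y (some a)) (fun a => f (some a)) (fun a => hf (some a))
    haveI := hf none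
    infer_instance

end Groth.Agent.H37
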