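import Groth.Agent.H37.IntLim
import Groth.Agent.H24.LimitFinite
import Groth.Agent.H24.LimitDescent
import Groth.Agent.S0591
import Groth.Agent.S2120
import Groth.Agent.H37.FinSigma

/-!
# Chevalley's affineness theorem without Noetherian hypotheses (Stacks 05YU, 09NL), relative to
the Noetherian case

`NoethChev` is the Noetherian statement (finite surjective from an affine scheme onto a Noetherian
scheme forces the target affine).  From it we deduce, by absolute Noetherian approximation:

* `isAffine_of_finite_fp`: `f : X ⟶ S` finite, of finite presentation, surjective, `X` affine,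
  `S` qcqs ⇒ `S` affine;
* `isAffine_of_integral`: the same for `f` integral surjective;
* `isAffine_of_universallyClosed`: the same for `f` universally closed surjective, any `S`.
-/

set_option autoImplicit false
universe u

open CategoryTheory Limits Opposite AlgebraicGeometry

namespace Groth.Agent.H37.ChevLim

open Groth.Agent.H20.NA Groth.Agent.H17

/-- the Noetherian case of Chevalley's theorem. -/
def NoethChev : Prop :=
  ∀ {Y X : Scheme.{u}} (f : Y ⟶ X) [IsFinite f] [Surjective f] [IsAffine Y] [IsNoetherian X],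
    IsAffine X

theorem respectsIso_isFinite : MorphismProperty.RespectsIso (C := Scheme.{u}) @IsFinite :=
  MorphismProperty.IsStableUnderBaseChange.respectsIso

/-- base-change-stable properties of the stage maps persist at later stages. -/
theorem prop_snd_mono {I : Type u} [Category.{u} I] (D : I ⥤ Scheme.{u}) {i₀ : I}
    {Z₀ : Scheme.{u}} (ι₀ : Z₀ ⟶ D.obj i₀) (P : MorphismProperty Scheme.{u})
    [P.IsStableUnderBaseChange] {ψ ψ' : Over i₀} (a : ψ ⟶ ψ')
    (h : P (pullback.snd ι₀ (D.map ψ'.hom))) : P (pullback.snd ι₀ (D.map ψ.hom)) := by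
  have h1 : IsPullback (pullback.fst ι₀ (D.map ψ.hom)) (pullback.snd ι₀ (D.map ψ.hom)) ι₀
      (D.map a.left ≫ D.map ψ'.hom) := by
    rw [← D.map_comp, Over.w a]
    exact IsPullback.of_hasPullback _ _
  exact P.of_isPullback (IsPullback.of_right' h1 (IsPullback.of_hasPullback ι₀ (D.map ψ'.hom))) h

section fp

variable {J : Type u} [Preorder J] [IsDirected J (· ≤ ·)] [Nonempty J]
  (B : Jᵒᵖ ⥤ Scheme.{u}) (cB : Cone B) (hB : IsLimit cB)
  (haffB : ∀ (i j : Jᵒᵖ) (g : i ⟶ j), IsAffineHom (B.map g))
  (hftB : ∀ j, IsFT (B.obj j))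
  {X : Scheme.{u}} (f : X ⟶ cB.pt) [IsFinite f] [LocallyOfFinitePresentation f] [Surjective f]
  [IsAffine X]

include hB haffB hftB f in
theorem isAffine_of_system (hChev : NoethChev.{u}) : IsAffine cB.pt := by
  haveI : IsFiltered J := isFiltered_of_directed_le_nonempty J
  haveI : ∀ (i j : Jᵒᵖ) (g : i ⟶ j), IsAffineHom (B.map g) := haffB
  haveI : ∀ {i j : Jᵒᵖ} (g : i ⟶ j), IsAffineHom (B.map g) := fun g => haffB _ _ g
  haveI : ∀ i, CompactSpace (B.obj i) := fun i => (hftB i).1
  have hN : ∀ i, IsNoetherian (B.obj i) := fun i => by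
    haveI := (hftB i).1
    haveI := (hftB i).2
    exact isNoetherian_of_ft _
  haveI : ∀ i, QuasiSeparatedSpace (B.obj i) := fun i => by
    haveI := hN i
    infer_instance
  obtain ⟨i, Xi, fi, g, hfi1, hfi2, hfi3, hX⟩ := Groth.Agent.S0591.result B cB hB X f
  haveI : CompactSpace Xi := QuasiCompact.compactSpace_of_compactSpace fi
  haveI : QuasiSeparatedSpace Xi := quasiSeparatedSpace_of_quasiSeparated fi
  -- (a) finite at a stage
  haveI := respectsIso_isFinite.{u}
  have hfin_lim : IsFinite (Groth.Agent.H24.limMap B cB i fi (𝟙 _)) := by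
    rw [Groth.Agent.H24.prop_limMap_id_iff B cB i @IsFinite fi, ← hX.isoPullback_inv_snd]
    infer_instance
  obtain ⟨ψa, hψa⟩ := Groth.Agent.H24.exists_isFinite_stageMap B cB i fi (𝟙 _) hB hfin_lim
  rw [Groth.Agent.H24.prop_stageMap_id_iff B i @IsFinite fi ψa] at hψa
  -- (c) surjective at a stage
  have hT : ProCons.IsProConstructible (Set.range fi.base)ᶜ :=
    Groth.Agent.H24.isProConstructible_compl_range fi
  have hpre : (cB.π.app i).base ⁻¹' (Set.range fi.base)ᶜ = ∅ := by
    rw [Set.preimage_compl, Set.compl_empty_iff,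
      ← Groth.Agent.H24.range_eq_preimage_range_of_isPullback hX]
    exact Set.range_eq_univ.mpr f.surjective
  obtain ⟨jc, φc, hφc⟩ := Groth.Agent.H24.eventuallyEmpty_of_isProConstructible B cB hB hT hpre
  -- (b) affine at a stage
  let F := Groth.Agent.H24.pullbackDiagram B i fi
  let cF := Groth.Agent.H24.pullbackCone B cB i fi
  have hcF : IsLimit cF := Groth.Agent.H24.isLimitPullbackCone B cB i fi hB
  haveI hFaff : ∀ {φ ψ : Over i} (a : φ ⟶ ψ), IsAffineHom (F.map a) := fun a =>
    MorphismProperty.of_isPullback (P := @IsAffineHom)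
      (Groth.Agent.H24.isPullback_pullbackDiagram_map B i fi a).flip inferInstance
  haveI : ∀ ψ : Over i, CompactSpace (F.obj ψ) := fun ψ => by
    have h1 : CompactSpace (pullback (B.map ψ.hom) fi : Scheme.{u}) :=
      QuasiCompact.compactSpace_of_compactSpace (pullback.fst (B.map ψ.hom) fi)
    exact h1
  haveI : ∀ ψ : Over i, QuasiSeparatedSpace (F.obj ψ) := fun ψ => by
    have h1 : QuasiSeparatedSpace (pullback (B.map ψ.hom) fi : Scheme.{u}) :=
      quasiSeparatedSpace_of_quasiSeparated (pullback.fst (B.map ψ.hom) fi)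
    exact h1
  haveI : IsAffine cF.pt := by
    let e : X ≅ pullback (cB.π.app i) fi := hX.flip.isoPullback
    have h1 : IsAffine (pullback (cB.π.app i) fi) := IsAffine.of_isIso e.inv
    exact h1
  obtain ⟨ψb, hψb⟩ := Scheme.exists_isAffine_of_isLimit F cF hcF
  -- a common stage
  let ψc : Over i := Over.mk φc
  let ψ₁ : Over i := IsCofiltered.min ψa ψb
  let ψ : Over i := IsCofiltered.min ψ₁ ψc
  let a : ψ ⟶ ψa := IsCofiltered.minToLeft ψ₁ ψc ≫ IsCofiltered.minToLeft ψa ψb
  let b : ψ ⟶ ψb := IsCofiltered.minToLeft ψ₁ ψc ≫ IsCofiltered.minToRight ψa ψb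
  let c' : ψ ⟶ ψc := IsCofiltered.minToRight ψ₁ ψc
  haveI hfin : IsFinite (pullback.snd fi (B.map ψ.hom)) := prop_snd_mono B fi @IsFinite a hψa
  haveI hsurj : Surjective (pullback.snd fi (B.map ψ.hom)) := by
    rw [surjective_iff, ← Set.range_eq_univ,
      Groth.Agent.H24.range_eq_preimage_range_of_isPullback
        (IsPullback.of_hasPullback fi (B.map ψ.hom))]
    have e1 : B.map ψ.hom = B.map c'.left ≫ B.map φc := by
      rw [← B.map_comp]
      exact congrArg B.map (Over.w c').symm
    rw [Set.preimage_compl, Set.compl_empty_iff] at hφc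
    rw [e1, Scheme.Hom.comp_base, TopCat.coe_comp, Set.preimage_comp, hφc, Set.preimage_univ]
  haveI : IsAffine (pullback fi (B.map ψ.hom)) := by
    haveI : IsAffine (F.obj ψb) := hψb
    have h1 : IsAffine (F.obj ψ) := isAffine_of_isAffineHom (F.map b)
    haveI : IsAffine (pullback (B.map ψ.hom) fi) := h1
    exact IsAffine.of_isIso (pullbackSymmetry fi (B.map ψ.hom)).hom
  haveI := hN ψ.left
  haveI : IsAffine (B.obj ψ.left) := hChev (pullback.snd fi (B.map ψ.hom))
  haveI := isAffineHom_π_app B cB hB ψ.left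
  exact isAffine_of_isAffineHom (cB.π.app ψ.left)

end fp

section general

attribute [local instance] IsCofiltered.isConnected

/-- Chevalley for finite morphisms of finite presentation over a qcqs base. -/
theorem isAffine_of_finite_fp (hChev : NoethChev.{u}) {X S : Scheme.{u}} (f : X ⟶ S) [IsFinite f]
    [LocallyOfFinitePresentation f] [Surjective f] [IsAffine X] [CompactSpace S]
    [QuasiSeparatedSpace S] : IsAffine S := by
  obtain ⟨J, _, _, _, B, cB₀, hB₀, haffB, hftB, ⟨eS⟩⟩ := exists_absolute S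
  let cB : Cone B := cB₀.extend eS.inv
  have hB : IsLimit cB := hB₀.ofIsoLimit (Cone.extendIso cB₀ eS)
  let f' : X ⟶ cB.pt := f
  haveI : IsFinite f' := ‹IsFinite f›
  haveI : LocallyOfFinitePresentation f' := ‹LocallyOfFinitePresentation f›
  haveI : Surjective f' := ‹Surjective f›
  exact isAffine_of_system B cB hB haffB hftB f' hChev

theorem surjective_of_comp_eq {X Y Z : Scheme.{u}} (f : X ⟶ Y) (g : Y ⟶ Z) (h : X ⟶ Z)
    (e : f ≫ g = h) [Surjective h] : Surjective g := by
  subst e
  exact Surjective.of_comp f g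

/-- Chevalley for integral morphisms over a qcqs base. -/
theorem isAffine_of_integral (hChev : NoethChev.{u}) {X S : Scheme.{u}} (f : X ⟶ S)
    [IsIntegralHom f] [Surjective f] [IsAffine X] [CompactSpace S] [QuasiSeparatedSpace S] :
    IsAffine S := by
  obtain ⟨I, _, _, _, D, c, hc, hD, ⟨e⟩⟩ := IntLim.exists_limit_finite_fp f
  haveI : IsFiltered I := isFiltered_of_directed_le_nonempty I
  let D' : Iᵒᵖ ⥤ Scheme.{u} := D ⋙ Over.forget S
  let c' : Cone D' := (Over.forget S).mapCone c
  have hc' : IsLimit c' := isLimitOfPreserves (Over.forget S) hc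
  let t : ∀ i, D'.obj i ⟶ S := fun i => (D.obj i).hom
  haveI : ∀ i, IsFinite (t i) := fun i => (hD i).1
  haveI : ∀ i, LocallyOfFinitePresentation (t i) := fun i => (hD i).2
  haveI : ∀ {i j : Iᵒᵖ} (a : i ⟶ j), IsAffineHom (D'.map a) := fun {i j} a => by
    have e1 : D'.map a ≫ t j = t i := Over.w (D.map a)
    haveI : IsAffineHom (D'.map a ≫ t j) := by rw [e1]; infer_instance
    exact IsAffineHom.of_comp (f := D'.map a) (g := t j)
  haveI : ∀ i, CompactSpace (D'.obj i) := fun i =>
    QuasiCompact.compactSpace_of_compactSpace (t i)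
  haveI : ∀ i, QuasiSeparatedSpace (D'.obj i) := fun i =>
    quasiSeparatedSpace_of_quasiSeparated (t i)
  let q : c'.pt ≅ X := (Over.forget S).mapIso e
  haveI : IsAffine c'.pt := IsAffine.of_isIso q.hom
  obtain ⟨i, hi⟩ := Scheme.exists_isAffine_of_isLimit D' c' hc'
  haveI : IsAffine (D'.obj i) := hi
  haveI : Surjective (t i) := by
    have e1 : c'.π.app i ≫ t i = c.pt.hom := Over.w (c.π.app i)
    have e2 : q.inv ≫ c.pt.hom = f := Over.w e.inv
    exact surjective_of_comp_eq (q.inv ≫ c'.π.app i) (t i) f (by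
      rw [Category.assoc, e1, e2])
  exact isAffine_of_finite_fp hChev (t i)

/-- Chevalley for universally closed surjective morphisms (Stacks 09NL-style). -/
theorem isAffine_of_universallyClosed (hChev : NoethChev.{u}) {X S : Scheme.{u}} (f : X ⟶ S)
    [Surjective f] [UniversallyClosed f] [IsAffine X] : IsAffine S := by
  haveI : CompactSpace S := ⟨by
    rw [← Set.range_eq_univ.mpr f.surjective]
    exact isCompact_range f.continuous⟩
  haveI : QuasiSeparatedSpace S := (Groth.Agent.S2120.result f).1 inferInstance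
  haveI : S.IsSeparated := (Groth.Agent.S2120.result f).2 inferInstance
  haveI : IsAffineHom (f ≫ terminal.from S) := by
    rw [terminal.comp_from]
    infer_instance
  haveI : IsAffineHom f := IsAffineHom.of_comp f (terminal.from S)
  haveI : IsIntegralHom f :=
    IsIntegralHom.iff_universallyClosed_and_isAffineHom.mpr ⟨inferInstance, inferInstance⟩
  exact isAffine_of_integral hChev f

universe v in
/-- a scheme covered by finitely many affine closed subschemes is affine. -/
theorem isAffine_of_closed_cover (hChev : NoethChev.{u}) (X : Scheme.{u}) {κ : Type v} [Finite κ]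
    (Z : κ → Scheme.{u}) (ι : ∀ k, Z k ⟶ X) [∀ k, IsClosedImmersion (ι k)] [∀ k, IsAffine (Z k)]
    (hcov : ∀ x : X, ∃ k, x ∈ Set.range (ι k).base) : IsAffine X := by
  obtain ⟨n, ⟨e⟩⟩ := Finite.exists_equiv_fin κ
  let e' : ULift.{u} (Fin n) ≃ κ := Equiv.ulift.trans e.symm
  let Z' : ULift.{u} (Fin n) → Scheme.{u} := fun a => Z (e' a)
  let ι' : ∀ a, Z' a ⟶ X := fun a => ι (e' a)
  haveI : ∀ a, IsAffine (Z' a) := fun a => inferInstanceAs (IsAffine (Z (e' a)))
  haveI : IsFinite (Sigma.desc ι') :=
    isFinite_sigmaDesc_of_finite X _ Z' ι' (fun a => by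
      haveI : IsClosedImmersion (ι' a) := inferInstanceAs (IsClosedImmersion (ι (e' a)))
      infer_instance)
  haveI : Surjective (Sigma.desc ι') := by
    apply Surjective.sigmaDesc_of_union_range_eq_univ
    rw [Set.eq_univ_iff_forall]
    intro x
    obtain ⟨k, hk⟩ := hcov x
    refine Set.mem_iUnion.mpr ⟨e'.symm k, ?_⟩
    change x ∈ Set.range (ι (e' (e'.symm k))).base
    rw [e'.apply_symm_apply]
    exact hk
  exact isAffine_of_universallyClosed hChev (Sigma.desc ι')

/-- the scheme-theoretic image of an integral morphism, inside a separated `S`-scheme, is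
integral over `S` (no affineness assumption on `Y ⟶ S`: uses Chevalley's theorem). -/
theorem isIntegralHom_imageι_comp (hChev : NoethChev.{u}) {X Y S : Scheme.{u}} (f : X ⟶ Y)
    (g : Y ⟶ S) [IsSeparated g] [IsIntegralHom (f ≫ g)] :
    IsIntegralHom (f.imageι ≫ g) ∧ Surjective f.toImage := by
  haveI : IsIntegralHom f := IsIntegralHom.of_comp f g
  haveI : IsIntegralHom (f.toImage ≫ f.imageι) := by rw [f.toImage_imageι]; infer_instance
  haveI : IsIntegralHom f.toImage := IsIntegralHom.of_comp f.toImage f.imageι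
  haveI hsurj : Surjective f.toImage := inferInstance
  have e0 : f.toImage ≫ (f.imageι ≫ g) = f ≫ g := by rw [← Category.assoc, f.toImage_imageι]
  haveI : UniversallyClosed (f.toImage ≫ (f.imageι ≫ g)) := by rw [e0]; infer_instance
  haveI : UniversallyClosed (f.imageι ≫ g) := UniversallyClosed.of_comp_surjective f.toImage _
  haveI : IsAffineHom (f.imageι ≫ g) := by
    refine ⟨fun U hU => ?_⟩
    have h1 : IsAffineOpen (f.toImage ⁻¹ᵁ ((f.imageι ≫ g) ⁻¹ᵁ U)) := by
      rw [← Scheme.Hom.comp_preimage, e0]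
      exact hU.preimage (f ≫ g)
    haveI : IsAffine (f.toImage ⁻¹ᵁ ((f.imageι ≫ g) ⁻¹ᵁ U)).toScheme := h1
    haveI : Surjective (f.toImage ∣_ ((f.imageι ≫ g) ⁻¹ᵁ U)) :=
      IsZariskiLocalAtTarget.restrict (P := @Surjective) hsurj _
    exact isAffine_of_universallyClosed hChev (f.toImage ∣_ ((f.imageι ≫ g) ⁻¹ᵁ U))
  exact ⟨IsIntegralHom.iff_universallyClosed_and_isAffineHom.mpr ⟨inferInstance, inferInstance⟩,
    hsurj⟩

/-- the statement of S13712, relative to the Noetherian Chevalley theorem. -/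
theorem integral_image_finite_fibres (hChev : NoethChev.{u}) {X Y S : Scheme.{u}} (f : X ⟶ Y)
    (g : Y ⟶ S) [IsSeparated g] [IsIntegralHom (f ≫ g)]
    (hfin : ∀ s : S, Set.Finite ((f ≫ g).base ⁻¹' {s})) :
    IsIntegralHom (f.imageι ≫ g) ∧ ∀ s : S, Set.Finite ((f.imageι ≫ g).base ⁻¹' {s}) := by
  obtain ⟨h1, h2⟩ := isIntegralHom_imageι_comp hChev f g
  refine ⟨h1, fun s => ?_⟩
  have e0 : f.toImage ≫ (f.imageι ≫ g) = f ≫ g := by rw [← Category.assoc, f.toImage_imageι]
  refine ((hfin s).image f.toImage.base).subset ?_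
  intro y hy
  obtain ⟨x, rfl⟩ := h2.surj y
  refine ⟨x, ?_, rfl⟩
  change (f ≫ g).base x = s
  rw [← e0]
  exact hy

end general

end Groth.Agent.H37.ChevLim
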