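import Groth.Prelude.Def_W4bk4git07Quot
import Mathlib

/-! The action underlying a geometric quotient is closed: orbits of geometric points are closed. -/

set_option autoImplicit false
universe u

open CategoryTheory CategoryTheory.Limits AlgebraicGeometry MonoidalCategory
  CartesianMonoidalCategory

namespace Groth.Agent.H37

theorem isClosedAction_of_isGeomQuot {S : Scheme.{u}} (G X Y : Over S) [GrpObj G]
    (a : AlgGrp.Action G X) (φ : X ⟶ Y) (h : GIT.IsGeomQuot a φ) : GIT.IsClosedAction a := by
  intro Ω _ _ T eT f
  haveI : Subsingleton (Spec (CommRingCat.of Ω)) :=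
    inferInstanceAs (Subsingleton (PrimeSpectrum Ω))
  haveI : Subsingleton T.left := by
    have hinj : Function.Injective eT.hom.base := by
      intro x y hxy
      have := congrArg eT.inv.base hxy
      simpa using this
    exact hinj.subsingleton
  -- the section `y₀` of `Y ⊗ T → T`
  let y₀ : T ⟶ Y ⊗ T := lift (f ≫ φ) (𝟙 T)
  have hy₀ : y₀ ≫ snd Y T = 𝟙 T := lift_snd _ _
  have hy₀' : y₀.left ≫ (snd Y T).left = 𝟙 T.left := by
    rw [← Over.comp_left, hy₀]; rfl
  haveI : IsClosedImmersion y₀.left := isClosedImmersion_of_comp_eq_id (snd Y T).left y₀.left hy₀'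
  have hclosed : IsClosed (Set.range y₀.left.base) := y₀.left.isClosedEmbedding.isClosed_range
  -- key identity
  have hkey : GIT.psi a f ≫ (φ ▷ T) = snd G T ≫ y₀ := by
    unfold GIT.psi
    apply CartesianMonoidalCategory.hom_ext
    · simp only [Category.assoc, whiskerRight_fst, lift_fst_assoc, lift_fst, y₀]
      rw [h.inv, whiskerLeft_snd_assoc]
    · simp only [Category.assoc, whiskerRight_snd, lift_snd, y₀]
      simp
  have hkeyL : (GIT.psi a f).left ≫ (φ ▷ T).left = (snd G T).left ≫ y₀.left := by
    rw [← Over.comp_left, ← Over.comp_left, hkey]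
  have hrange : Set.range (GIT.psi a f).left.base =
      (φ ▷ T).left.base ⁻¹' (Set.range y₀.left.base) := by
    apply Set.Subset.antisymm
    · rintro _ ⟨w, rfl⟩
      exact ⟨(snd G T).left.base w, (congr($(hkeyL).base w)).symm⟩
    · rintro z ⟨t, ht⟩
      -- the fibre `F` of `φ ▷ T` over `y₀`
      let φT := (φ ▷ T).left
      let s := y₀.left
      let pF₁ := pullback.fst φT s
      let pF₂ := pullback.snd φT s
      obtain ⟨e, he1, -⟩ := Scheme.Pullback.exists_preimage_pullback (f := φT) (g := s) z t ht.symm
      have hs1 : s ≫ (fst Y T).left = f.left ≫ φ.left := by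
        rw [← Over.comp_left, ← Over.comp_left, lift_fst]
      have hφT1 : φT ≫ (fst Y T).left = (fst X T).left ≫ φ.left := by
        rw [← Over.comp_left, ← Over.comp_left, whiskerRight_fst]
      have hφT2 : φT ≫ (snd Y T).left = (snd X T).left := by
        rw [← Over.comp_left, whiskerRight_snd]
      have hcondγ : (pF₁ ≫ (fst X T).left) ≫ φ.left = (pF₂ ≫ f.left) ≫ φ.left := by
        rw [Category.assoc, ← hφT1, ← Category.assoc, pullback.condition, Category.assoc, hs1,
          Category.assoc]
      let γ : pullback φT s ⟶ pullback φ.left φ.left :=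
        pullback.lift (pF₁ ≫ (fst X T).left) (pF₂ ≫ f.left) hcondγ
      have hpF : pF₁ ≫ (snd X T).left = pF₂ := by
        rw [← hφT2, ← Category.assoc, pullback.condition, Category.assoc, hy₀', Category.comp_id]
      -- base change of the orbit map
      let Ψ := GIT.PsiY a φ h.inv
      haveI : Surjective Ψ := ⟨h.orbit⟩
      let q₁ := pullback.fst Ψ γ
      let q₂ := pullback.snd Ψ γ
      haveI : Surjective q₂ := inferInstance
      obtain ⟨c, hc⟩ := q₂.surjective e
      have hΨ1 : Ψ ≫ pullback.fst φ.left φ.left = a.act.left := pullback.lift_fst _ _ _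
      have hΨ2 : Ψ ≫ pullback.snd φ.left φ.left = (snd G X).left := pullback.lift_snd _ _ _
      -- the map to `G ⊗ T`
      have hcondκ : (q₁ ≫ (fst G X).left) ≫ G.hom = (q₂ ≫ pF₂) ≫ T.hom := by
        have h1 : (fst G X).left ≫ G.hom = (snd G X).left ≫ X.hom := by
          rw [Over.w, Over.w]
        have h2 : f.left ≫ X.hom = T.hom := Over.w f
        rw [Category.assoc, h1, ← hΨ2, ← Category.assoc, ← Category.assoc, pullback.condition,
          Category.assoc, Category.assoc, ← h2]
        simp only [γ, pullback.lift_snd_assoc, Category.assoc]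
        rfl
      let κ : pullback Ψ γ ⟶ (G ⊗ T).left :=
        pullback.lift (q₁ ≫ (fst G X).left) (q₂ ≫ pF₂) hcondκ
      have hκ1 : κ ≫ (fst G T).left = q₁ ≫ (fst G X).left := pullback.lift_fst _ _ _
      have hκ2 : κ ≫ (snd G T).left = q₂ ≫ pF₂ := pullback.lift_snd _ _ _
      have hκGX : κ ≫ (G ◁ f).left = q₁ := by
        apply pullback.hom_ext
        · rw [Category.assoc]
          change _ ≫ (G ◁ f).left ≫ (fst G X).left = q₁ ≫ (fst G X).left
          rw [← Over.comp_left, whiskerLeft_fst, hκ1]
        · rw [Category.assoc]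
          change _ ≫ (G ◁ f).left ≫ (snd G X).left = q₁ ≫ (snd G X).left
          rw [← Over.comp_left, whiskerLeft_snd, Over.comp_left, reassoc_of% hκ2, ← hΨ2,
            ← Category.assoc q₁, pullback.condition]
          simp only [γ, Category.assoc, pullback.lift_snd]
          rfl
      have hmain : κ ≫ (GIT.psi a f).left = q₂ ≫ pF₁ := by
        apply pullback.hom_ext
        · rw [Category.assoc, Category.assoc]
          change _ ≫ (GIT.psi a f).left ≫ (fst X T).left = _ ≫ _ ≫ (fst X T).left
          rw [← Over.comp_left]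
          unfold GIT.psi
          rw [lift_fst, Over.comp_left, reassoc_of% hκGX, ← hΨ1, ← Category.assoc,
            pullback.condition]
          simp only [γ, Category.assoc, pullback.lift_fst]
          rfl
        · rw [Category.assoc, Category.assoc]
          change _ ≫ (GIT.psi a f).left ≫ (snd X T).left = _ ≫ _ ≫ (snd X T).left
          rw [← Over.comp_left]
          unfold GIT.psi
          rw [lift_snd, hκ2, hpF]
      refine ⟨κ.base c, ?_⟩
      have := congr($(hmain).base c)
      simp only [Scheme.Hom.comp_base, TopCat.hom_comp, ContinuousMap.comp_apply] at this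
      rw [this]
      change pF₁.base (q₂.base c) = z
      rw [hc, he1]
  rw [hrange]
  exact hclosed.preimage (φ ▷ T).left.continuous

end Groth.Agent.H37
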