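import Groth.Agent.H37.JointFlatFinite
import Groth.Agent.H8.QcqsPush
import Groth.Agent.H12.QCohAbelian
import Groth.Agent.H33.SchemeDer.FlatPull
import Groth.Agent.H44.PullbackAffine
import Groth.Agent.H44.FiniteSections
import Groth.Agent.H71.QCoh.PushFT
import Groth.Prelude.Def_Coh
import Mathlib.AlgebraicGeometry.Noetherian

/-!
# `F ∩ f_* G` is coherent
-/

set_option autoImplicit false
universe u

open CategoryTheory Limits AlgebraicGeometry TensorProduct

namespace Groth.Agent.H37

variable {X Y : Scheme.{u}} (f : Y ⟶ X)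

/-- descent of finite type for quasi-coherent modules along a flat surjective quasi-compact
morphism, in terms of sections over affine opens upstairs. -/
theorem isFiniteType_of_finite_sections_pullback [QuasiCompact f] [Flat f] [Surjective f]
    (H : X.Modules) [H.IsQuasicoherent]
    (hfin : ∀ U : Y.Opens, IsAffineOpen U →
      Module.Finite Γ(Y, U) Γ((Scheme.Modules.pullback f).obj H, U)) :
    SheafOfModules.IsFiniteType (R := X.ringCatSheaf) H := by
  refine Groth.Agent.H71.QCoh.isFiniteType_of_finite_sections_cover H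
    (fun V : X.affineOpens => V.1) (iSup_affineOpens_eq_top X) (fun V => V.2) (fun V => ?_)
  obtain ⟨V, hV⟩ := V
  change Module.Finite Γ(X, V) Γ(H, V)
  have hc : IsCompact (X := Y) (f ⁻¹ᵁ V) := f.isCompact_preimage hV.isCompact
  obtain ⟨s, hs, hsV⟩ := isCompact_iff_finite_and_eq_biUnion_affineOpens.mp hc
  haveI : Finite s := hs.to_subtype
  have hle : ∀ j : s, (j.1 : Y.Opens) ≤ f ⁻¹ᵁ V := by
    intro j
    rw [hsV]
    exact le_iSup₂ (f := fun (i : Y.affineOpens) (_ : i ∈ s) => (i : Y.Opens)) j.1 j.2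
  letI alg : ∀ j : s, Algebra Γ(X, V) Γ(Y, (j.1 : Y.Opens)) := fun j =>
    (f.appLE V j.1.1 (hle j)).hom.toAlgebra
  haveI : ∀ j : s, Module.Flat Γ(X, V) Γ(Y, (j.1 : Y.Opens)) := fun j =>
    Flat.flat_appLE f hV j.1.2 (hle j)
  refine finite_of_tensor_family (A := Γ(X, V)) (M := Γ(H, V))
    (fun j : s => Γ(Y, (j.1 : Y.Opens))) ?_ ?_
  · -- joint surjectivity on spectra
    intro m hm
    let p : PrimeSpectrum Γ(X, V) := ⟨m, hm.isPrime⟩
    let x' : V.toScheme := hV.isoSpec.inv p
    have hx' : hV.primeIdealOf x' = p := by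
      show hV.isoSpec.hom (hV.isoSpec.inv p) = p
      rw [← Scheme.Hom.comp_apply, Iso.inv_hom_id]
      rfl
    obtain ⟨y, hy⟩ := f.surjective x'.1
    have hyV : y ∈ f ⁻¹ᵁ V := by
      show f y ∈ V
      rw [hy]; exact x'.2
    rw [hsV] at hyV
    simp only [TopologicalSpace.Opens.mem_iSup] at hyV
    obtain ⟨i, hi, hyi⟩ := hyV
    refine ⟨⟨i, hi⟩, (i.2.primeIdealOf ⟨y, hyi⟩).asIdeal, inferInstance, ?_⟩
    have h1 := IsAffineOpen.comap_primeIdealOf_appLE V hV i.1 i.2 (hle ⟨i, hi⟩) hyi
    have h2 : hV.primeIdealOf ⟨f y, hle ⟨i, hi⟩ hyi⟩ = p := by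
      rw [← hx']
      congr 1
      exact Subtype.ext hy
    rw [h2] at h1
    exact congrArg PrimeSpectrum.asIdeal h1
  · intro j
    have e := Groth.Agent.H44.pullbackSectionsEquiv f H j.1.2 hV (hle j)
    haveI := hfin j.1.1 j.1.2
    exact Module.Finite.equiv e

section Main

variable [QuasiCompact f] [QuasiSeparated f] [Flat f] [Surjective f]
  [IsLocallyNoetherian Y]

/-- `F ∩ f_* G` is coherent. -/
theorem isCoh_inter (F : X.Modules) [F.IsQuasicoherent] (G : Y.Modules)
    [G.IsQuasicoherent] [SheafOfModules.IsFiniteType (R := Y.ringCatSheaf) G]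
    (φ : G ⟶ (Scheme.Modules.pullback f).obj F) [Mono φ] :
    Coh.IsCoh (Limits.pullback ((Scheme.Modules.pullbackPushforwardAdjunction f).unit.app F)
      ((Scheme.Modules.pushforward f).map φ)) := by
  set adj := Scheme.Modules.pullbackPushforwardAdjunction f with hadj
  set η := adj.unit.app F with hη
  set H := Limits.pullback η ((Scheme.Modules.pushforward f).map φ) with hH
  let p₁ : H ⟶ F := pullback.fst _ _
  let p₂ : H ⟶ (Scheme.Modules.pushforward f).obj G := pullback.snd _ _
  have hcond : p₁ ≫ η = p₂ ≫ (Scheme.Modules.pushforward f).map φ := pullback.condition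
  -- quasi-coherence
  haveI : ((Scheme.Modules.pullback f).obj F).IsQuasicoherent :=
    Groth.Agent.H44.isQuasicoherent_pullback f F
  haveI : ((Scheme.Modules.pushforward f).obj ((Scheme.Modules.pullback f).obj F)).IsQuasicoherent :=
    Groth.Agent.H8.isQuasicoherent_pushforward_of_qcqs f _
  haveI : ((Scheme.Modules.pushforward f).obj G).IsQuasicoherent :=
    Groth.Agent.H8.isQuasicoherent_pushforward_of_qcqs f _
  haveI : ((𝟭 X.Modules).obj F).IsQuasicoherent := inferInstanceAs F.IsQuasicoherent
  haveI : ((Scheme.Modules.pullback f ⋙ Scheme.Modules.pushforward f).obj F).IsQuasicoherent :=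
    inferInstanceAs
      ((Scheme.Modules.pushforward f).obj ((Scheme.Modules.pullback f).obj F)).IsQuasicoherent
  haveI hHq : H.IsQuasicoherent :=
    Groth.Agent.H12.QCohAbelian.isQuasicoherent_pullback η ((Scheme.Modules.pushforward f).map φ)
  refine ⟨hHq, ?_⟩
  -- `f^* H` embeds into `G`
  haveI : Mono ((Scheme.Modules.pushforward f).map φ) := by
    haveI : (Scheme.Modules.pushforward f).IsRightAdjoint := adj.isRightAdjoint
    infer_instance
  haveI : Mono p₁ := inferInstanceAs (Mono (pullback.fst η ((Scheme.Modules.pushforward f).map φ)))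
  let ψ : (Scheme.Modules.pullback f).obj H ⟶ G := (adj.homEquiv H G).symm p₂
  have hψ : ψ ≫ φ = (Scheme.Modules.pullback f).map p₁ := by
    apply (adj.homEquiv H _).injective
    rw [Adjunction.homEquiv_naturality_right, Equiv.apply_symm_apply, ← hcond,
      Adjunction.homEquiv_unit, ← adj.unit_naturality]
  haveI : Mono ((Scheme.Modules.pullback f).map p₁) :=
    Groth.Agent.H33.SchemeDer.mono_pullback_map_of_flatMorphism f p₁
  haveI : Mono ψ := by
    haveI : Mono (ψ ≫ φ) := by rw [hψ]; infer_instance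
    exact mono_of_mono ψ φ
  haveI : ((Scheme.Modules.pullback f).obj H).IsQuasicoherent :=
    Groth.Agent.H44.isQuasicoherent_pullback f H
  apply isFiniteType_of_finite_sections_pullback f H
  intro U hU
  haveI : IsNoetherianRing Γ(Y, U) := IsLocallyNoetherian.component_noetherian ⟨U, hU⟩
  haveI : Module.Finite Γ(Y, U) Γ(G, U) :=
    Groth.Agent.H44.finite_sections_of_isFiniteType G hU
  let ψU : Γ((Scheme.Modules.pullback f).obj H, U) →ₗ[Γ(Y, U)] Γ(G, U) :=
    { toFun := ψ.app U
      map_add' := map_add _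
      map_smul' := fun r x => Scheme.Modules.Hom.app_smul ψ r x }
  have hinj : Function.Injective ψU :=
    Groth.Agent.H12.QCohAbelian.app_injective_of_mono ψ U
  exact Module.Finite.of_injective ψU hinj

end Main

end Groth.Agent.H37
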