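import Groth.Agent.H37.NumSub

set_option autoImplicit false
open Finset

namespace Groth.Agent.H37

open Models Models.NumericalType

/-- A configuration of `r` pairwise distinct `(-2)`-indices forming a proper subset
of the indices of a numerical type (abstracted). -/
structure M2Config (r : ℕ) where
  A : Fin r → Fin r → ℤ
  W : Fin r → ℤ
  M : Fin r → ℤ
  W_pos : ∀ s, 0 < W s
  M_pos : ∀ s, 0 < M s
  A_symm : ∀ s t, A s t = A t s
  A_diag : ∀ s, A s s = -2 * W s
  A_nonneg : ∀ s t, s ≠ t → 0 ≤ A s t
  W_dvd : ∀ s t, W s ∣ A s t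
  row_le : ∀ s, ∑ t, A s t * M t ≤ 0
  no_sub : ∀ c : Fin r → ℤ, (∀ s, 0 ≤ c s) → c ≠ 0 → (∀ s, 0 ≤ ∑ t, A s t * c t) → False

namespace M2Config

variable {n : ℕ}

/-- The configuration attached to an injective family of `(-2)`-indices. -/
def ofType (T : Models.NumericalType n) {r : ℕ} (v : Fin r → Fin n) (hv : Function.Injective v)
    (hr : r < n) (h2 : ∀ s, T.IsMinusTwo (v s)) : M2Config r where
  A := fun s t => T.a (v s) (v t)
  W := fun s => T.w (v s)
  M := fun s => T.m (v s)
  W_pos := fun s => T.w_pos _
  M_pos := fun s => T.m_pos _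
  A_symm := fun s t => nt_symm T _ _
  A_diag := fun s => (h2 s).2
  A_nonneg := fun s t hst => T.offDiag_nonneg _ _ (fun h => hst (hv h))
  W_dvd := fun s t => T.w_dvd _ _
  row_le := fun s => nt_row_embed_le T v hv s
  no_sub := fun c hc0 hc hrow => nt_no_subharmonic T v hv hr c hc0 hc hrow

@[simp] theorem ofType_A (T : Models.NumericalType n) {r : ℕ} (v : Fin r → Fin n)
    (hv : Function.Injective v) (hr : r < n) (h2 : ∀ s, T.IsMinusTwo (v s)) (s t : Fin r) :
    (ofType T v hv hr h2).A s t = T.a (v s) (v t) := rfl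

@[simp] theorem ofType_W (T : Models.NumericalType n) {r : ℕ} (v : Fin r → Fin n)
    (hv : Function.Injective v) (hr : r < n) (h2 : ∀ s, T.IsMinusTwo (v s)) (s : Fin r) :
    (ofType T v hv hr h2).W s = T.w (v s) := rfl

@[simp] theorem ofType_M (T : Models.NumericalType n) {r : ℕ} (v : Fin r → Fin n)
    (hv : Function.Injective v) (hr : r < n) (h2 : ∀ s, T.IsMinusTwo (v s)) (s : Fin r) :
    (ofType T v hv hr h2).M s = T.m (v s) := rfl

variable {r r' : ℕ} (C : M2Config r)

theorem A_pos_of_ne {s t : Fin r} (hst : s ≠ t) (h : C.A s t ≠ 0) : 0 < C.A s t :=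
  lt_of_le_of_ne (C.A_nonneg s t hst) (Ne.symm h)

theorem W_le_left {s t : Fin r} (hst : s ≠ t) (h : C.A s t ≠ 0) : C.W s ≤ C.A s t :=
  Int.le_of_dvd (C.A_pos_of_ne hst h) (C.W_dvd s t)

theorem W_le_right {s t : Fin r} (hst : s ≠ t) (h : C.A s t ≠ 0) : C.W t ≤ C.A s t := by
  rw [C.A_symm s t] at h ⊢
  exact C.W_le_left (Ne.symm hst) h

theorem sum_comp_eq (u : Fin r' → Fin r) (hu : Function.Injective u)
    (f : Fin r → ℤ) (hf : ∀ i, i ∉ Set.range u → f i = 0) :
    ∑ i, f i = ∑ s, f (u s) := by
  classical
  rw [← Finset.sum_image (s := univ) (g := u) (f := f) (fun a _ b _ h => hu h)]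
  symm
  apply Finset.sum_subset (subset_univ _)
  intro i _ hi
  apply hf
  rintro ⟨s, rfl⟩
  exact hi (mem_image_of_mem u (mem_univ s))

/-- Restriction of a configuration along an injective map. -/
def restrict (u : Fin r' → Fin r) (hu : Function.Injective u) : M2Config r' where
  A := fun s t => C.A (u s) (u t)
  W := fun s => C.W (u s)
  M := fun s => C.M (u s)
  W_pos := fun s => C.W_pos _
  M_pos := fun s => C.M_pos _
  A_symm := fun s t => C.A_symm _ _
  A_diag := fun s => C.A_diag _
  A_nonneg := fun s t hst => C.A_nonneg _ _ (fun h => hst (hu h))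
  W_dvd := fun s t => C.W_dvd _ _
  row_le := fun s => by
    classical
    have h := C.row_le (u s)
    have himg : ∑ t, C.A (u s) (u t) * C.M (u t) =
        ∑ j ∈ univ.image u, C.A (u s) j * C.M j := by
      rw [Finset.sum_image (fun a _ b _ h => hu h)]
    rw [himg]
    refine le_trans ?_ h
    apply Finset.sum_le_sum_of_subset_of_nonneg (subset_univ _)
    intro j _ hj
    have hne : u s ≠ j := by
      intro hh
      apply hj
      rw [← hh]
      exact mem_image_of_mem u (mem_univ s)
    exact mul_nonneg (C.A_nonneg _ _ hne) (le_of_lt (C.M_pos j))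
  no_sub := fun c hc0 hc hrow => by
    classical
    apply C.no_sub (Function.extend u c 0)
    · intro x
      by_cases hx : ∃ s, u s = x
      · obtain ⟨s, rfl⟩ := hx
        rw [hu.extend_apply]
        exact hc0 s
      · rw [Function.extend_apply' _ _ _ hx]
        exact le_refl _
    · intro h0
      apply hc
      funext s
      have := congrFun h0 (u s)
      rw [hu.extend_apply] at this
      exact this
    · intro x
      have hsum : ∑ y, C.A x y * Function.extend u c 0 y = ∑ t, C.A x (u t) * c t := by
        rw [sum_comp_eq u hu]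
        · apply Finset.sum_congr rfl
          intro t _
          rw [hu.extend_apply]
        · intro i hi
          rw [Function.extend_apply' _ _ _ (by simpa using hi)]
          simp
      rw [hsum]
      by_cases hx : ∃ s, u s = x
      · obtain ⟨s, rfl⟩ := hx
        exact hrow s
      · apply Finset.sum_nonneg
        intro t _
        apply mul_nonneg _ (hc0 t)
        apply C.A_nonneg
        intro h
        exact hx ⟨t, h.symm⟩

@[simp] theorem restrict_A (u : Fin r' → Fin r) (hu : Function.Injective u) (s t : Fin r') :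
    (C.restrict u hu).A s t = C.A (u s) (u t) := rfl

@[simp] theorem restrict_W (u : Fin r' → Fin r) (hu : Function.Injective u) (s : Fin r') :
    (C.restrict u hu).W s = C.W (u s) := rfl

@[simp] theorem restrict_M (u : Fin r' → Fin r) (hu : Function.Injective u) (s : Fin r') :
    (C.restrict u hu).M s = C.M (u s) := rfl

end M2Config

end Groth.Agent.H37
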