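import Groth.Agent.H37.Config

set_option autoImplicit false
set_option linter.unusedVariables false
open Finset

namespace Groth.Agent.H37

namespace M2Config

variable {r : ℕ}

theorem inj2 {a b : Fin r} (h : a ≠ b) : Function.Injective ![a, b] := by
  intro s t hst
  fin_cases s <;> fin_cases t <;> simp_all

theorem inj3 {a b c : Fin r} (hab : a ≠ b) (hbc : b ≠ c) (hac : a ≠ c) :
    Function.Injective ![a, b, c] := by
  intro s t hst
  fin_cases s <;> fin_cases t <;> simp_all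

/-- The edge lemma for configurations of size two. -/
theorem edge2 (C : M2Config 2) (ha : C.A 0 1 ≠ 0) :
    (C.A 0 1 = C.W 0 ∧ C.W 1 = C.W 0) ∨ (C.A 0 1 = C.W 0 ∧ C.W 0 = 2 * C.W 1) ∨
    (C.A 0 1 = C.W 1 ∧ C.W 1 = 2 * C.W 0) ∨ (C.A 0 1 = C.W 0 ∧ C.W 0 = 3 * C.W 1) ∨
    (C.A 0 1 = C.W 1 ∧ C.W 1 = 3 * C.W 0) := by
  have hw0 := C.W_pos 0
  have hw1 := C.W_pos 1
  have hapos : 0 < C.A 0 1 := C.A_pos_of_ne (by decide) ha
  obtain ⟨p, hp⟩ := C.W_dvd 0 1
  obtain ⟨q, hq⟩ : C.W 1 ∣ C.A 0 1 := by rw [C.A_symm 0 1]; exact C.W_dvd 1 0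
  have hp1 : 1 ≤ p := by
    by_contra hcon
    have : p ≤ 0 := by omega
    have := mul_nonpos_of_nonneg_of_nonpos (le_of_lt hw0) this
    omega
  have hq1 : 1 ≤ q := by
    by_contra hcon
    have : q ≤ 0 := by omega
    have := mul_nonpos_of_nonneg_of_nonpos (le_of_lt hw1) this
    omega
  have hpq : p * q < 4 := by
    by_contra hcon
    rw [not_lt] at hcon
    apply C.no_sub ![p, 2]
    · intro s; fin_cases s <;> simp <;> omega
    · intro h; have := congrFun h 1; simp at this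
    · intro s
      fin_cases s
      · simp [Fin.sum_univ_succ, C.A_diag]
        rw [hp]; nlinarith
      · simp [Fin.sum_univ_succ, C.A_diag]
        rw [C.A_symm 1 0, hq]
        nlinarith
  have hp3 : p ≤ 3 := by nlinarith
  have hq3 : q ≤ 3 := by nlinarith
  interval_cases p <;> interval_cases q <;> first
    | (exfalso; omega)
    | (left; constructor <;> omega)
    | (right; left; constructor <;> omega)
    | (right; right; left; constructor <;> omega)
    | (right; right; right; left; constructor <;> omega)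
    | (right; right; right; right; constructor <;> omega)

/-- The edge lemma. -/
theorem edge (C : M2Config r) {a b : Fin r} (hab : a ≠ b) (ha : C.A a b ≠ 0) :
    (C.A a b = C.W a ∧ C.W b = C.W a) ∨ (C.A a b = C.W a ∧ C.W a = 2 * C.W b) ∨
    (C.A a b = C.W b ∧ C.W b = 2 * C.W a) ∨ (C.A a b = C.W a ∧ C.W a = 3 * C.W b) ∨
    (C.A a b = C.W b ∧ C.W b = 3 * C.W a) :=
  (C.restrict ![a, b] (inj2 hab)).edge2 ha

/-- contradiction from a subharmonic vector on a configuration of size three -/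
theorem contra3 (C : M2Config 3) (c0 c1 c2 : ℤ) (h0 : 0 ≤ c0) (h1 : 0 ≤ c1) (h2 : 0 ≤ c2)
    (hpos : 0 < c1)
    (r0 : 0 ≤ -2 * C.W 0 * c0 + C.A 0 1 * c1 + C.A 0 2 * c2)
    (r1 : 0 ≤ C.A 0 1 * c0 + -2 * C.W 1 * c1 + C.A 1 2 * c2)
    (r2 : 0 ≤ C.A 0 2 * c0 + C.A 1 2 * c1 + -2 * C.W 2 * c2) : False := by
  apply C.no_sub ![c0, c1, c2]
  · intro s; fin_cases s <;> simp <;> assumption
  · intro h; have := congrFun h 1; simp at this; omega
  · intro s
    fin_cases s
    · simp [Fin.sum_univ_succ, C.A_diag]; linarith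
    · simp [Fin.sum_univ_succ, C.A_diag, C.A_symm 1 0]; linarith
    · simp [Fin.sum_univ_succ, C.A_diag, C.A_symm 2 0, C.A_symm 2 1]; linarith

/-- The classification of chains of three `(-2)`-indices. -/
theorem chain3 (C : M2Config 3) (h01 : C.A 0 1 ≠ 0) (h12 : C.A 1 2 ≠ 0) :
    C.A 0 2 = 0 ∧
    ((C.W 0 = C.W 1 ∧ C.W 2 = C.W 1 ∧ C.A 0 1 = C.W 1 ∧ C.A 1 2 = C.W 1) ∨
     (C.W 0 = C.W 1 ∧ C.W 1 = 2 * C.W 2 ∧ C.A 0 1 = C.W 1 ∧ C.A 1 2 = C.W 1) ∨
     (C.W 0 = C.W 1 ∧ C.W 2 = 2 * C.W 1 ∧ C.A 0 1 = C.W 1 ∧ C.A 1 2 = 2 * C.W 1) ∨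
     (C.W 0 = 2 * C.W 1 ∧ C.W 2 = C.W 1 ∧ C.A 0 1 = 2 * C.W 1 ∧ C.A 1 2 = C.W 1) ∨
     (C.W 1 = 2 * C.W 0 ∧ C.W 2 = C.W 1 ∧ C.A 0 1 = C.W 1 ∧ C.A 1 2 = C.W 1)) := by
  have hw0 := C.W_pos 0
  have hw1 := C.W_pos 1
  have hw2 := C.W_pos 2
  have h02nn := C.A_nonneg 0 2 (by decide)
  have hik0 : C.A 0 2 = 0 := by
    by_contra hne
    have g1 := C.W_le_left (s := 0) (t := 1) (by decide) h01
    have g2 := C.W_le_right (s := 0) (t := 1) (by decide) h01
    have g3 := C.W_le_left (s := 1) (t := 2) (by decide) h12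
    have g4 := C.W_le_right (s := 1) (t := 2) (by decide) h12
    have g5 := C.W_le_left (s := 0) (t := 2) (by decide) hne
    have g6 := C.W_le_right (s := 0) (t := 2) (by decide) hne
    exact C.contra3 1 1 1 (by norm_num) (by norm_num) (by norm_num) (by norm_num)
      (by linarith) (by linarith) (by linarith)
  refine ⟨hik0, ?_⟩
  rcases C.edge (a := 0) (b := 1) (by decide) h01 with
    ⟨e1, e2⟩ | ⟨e1, e2⟩ | ⟨e1, e2⟩ | ⟨e1, e2⟩ | ⟨e1, e2⟩ <;>
  rcases C.edge (a := 1) (b := 2) (by decide) h12 with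
    ⟨f1, f2⟩ | ⟨f1, f2⟩ | ⟨f1, f2⟩ | ⟨f1, f2⟩ | ⟨f1, f2⟩
  all_goals first
    | (exfalso; exact C.contra3 1 1 1 (by norm_num) (by norm_num) (by norm_num) (by norm_num)
        (by linarith) (by linarith) (by linarith))
    | (exfalso; exact C.contra3 1 2 1 (by norm_num) (by norm_num) (by norm_num) (by norm_num)
        (by linarith) (by linarith) (by linarith))
    | (exfalso; exact C.contra3 1 2 2 (by norm_num) (by norm_num) (by norm_num) (by norm_num)
        (by linarith) (by linarith) (by linarith))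
    | (exfalso; exact C.contra3 2 2 1 (by norm_num) (by norm_num) (by norm_num) (by norm_num)
        (by linarith) (by linarith) (by linarith))
    | (exfalso; exact C.contra3 3 2 1 (by norm_num) (by norm_num) (by norm_num) (by norm_num)
        (by linarith) (by linarith) (by linarith))
    | (exfalso; exact C.contra3 1 2 3 (by norm_num) (by norm_num) (by norm_num) (by norm_num)
        (by linarith) (by linarith) (by linarith))
    | skip
  · left; refine ⟨?_, ?_, ?_, ?_⟩ <;> linarith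
  · right; left; refine ⟨?_, ?_, ?_, ?_⟩ <;> linarith
  · right; right; left; refine ⟨?_, ?_, ?_, ?_⟩ <;> linarith
  · right; right; right; left; refine ⟨?_, ?_, ?_, ?_⟩ <;> linarith
  · right; right; right; right; refine ⟨?_, ?_, ?_, ?_⟩ <;> linarith

/-- The classification of chains of three `(-2)`-indices inside a configuration. -/
theorem chain3' (C : M2Config r) {a b c : Fin r} (hab : a ≠ b) (hbc : b ≠ c) (hac : a ≠ c)
    (h1 : C.A a b ≠ 0) (h2 : C.A b c ≠ 0) :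
    C.A a c = 0 ∧
    ((C.W a = C.W b ∧ C.W c = C.W b ∧ C.A a b = C.W b ∧ C.A b c = C.W b) ∨
     (C.W a = C.W b ∧ C.W b = 2 * C.W c ∧ C.A a b = C.W b ∧ C.A b c = C.W b) ∨
     (C.W a = C.W b ∧ C.W c = 2 * C.W b ∧ C.A a b = C.W b ∧ C.A b c = 2 * C.W b) ∨
     (C.W a = 2 * C.W b ∧ C.W c = C.W b ∧ C.A a b = 2 * C.W b ∧ C.A b c = C.W b) ∨
     (C.W b = 2 * C.W a ∧ C.W c = C.W b ∧ C.A a b = C.W b ∧ C.A b c = C.W b)) :=
  (C.restrict ![a, b, c] (inj3 hab hbc hac)).chain3 h1 h2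

end M2Config

end Groth.Agent.H37
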