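import Groth.Agent.H37.Config2

set_option autoImplicit false
set_option linter.unusedVariables false
set_option linter.unnecessarySeqFocus false
open Finset

namespace Groth.Agent.H37

namespace M2Config

variable {r : ℕ}

theorem star4_first (C : M2Config 4) (h01 : C.A 0 1 ≠ 0) (h02 : C.A 0 2 ≠ 0) (h03 : C.A 0 3 ≠ 0) :
    C.A 0 1 = C.W 0 ∧ C.W 1 = C.W 0 := by
  have hw0 := C.W_pos 0
  have hw1 := C.W_pos 1
  have hw2 := C.W_pos 2
  have hw3 := C.W_pos 3
  have n12 := C.A_nonneg 1 2 (by decide)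
  have n13 := C.A_nonneg 1 3 (by decide)
  have n23 := C.A_nonneg 2 3 (by decide)
  have y10 := C.A_symm 1 0
  have y20 := C.A_symm 2 0
  have y30 := C.A_symm 3 0
  have y21 := C.A_symm 2 1
  have y31 := C.A_symm 3 1
  have y32 := C.A_symm 3 2
  have l02 := C.W_le_left (s := 0) (t := 2) (by decide) h02
  have r02 := C.W_le_right (s := 0) (t := 2) (by decide) h02
  have l03 := C.W_le_left (s := 0) (t := 3) (by decide) h03
  have r03 := C.W_le_right (s := 0) (t := 3) (by decide) h03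
  rcases C.edge (a := 0) (b := 1) (by decide) h01 with
    ⟨e1, e2⟩ | ⟨e1, e2⟩ | ⟨e1, e2⟩ | ⟨e1, e2⟩ | ⟨e1, e2⟩
  · exact ⟨e1, e2⟩
  · exfalso
    apply C.no_sub ![2, 2, 1, 1]
    · intro s; fin_cases s <;> simp
    · intro h; have := congrFun h 0; simp at this
    · intro s; fin_cases s <;> simp [Fin.sum_univ_succ, C.A_diag] <;> linarith
  · exfalso
    apply C.no_sub ![2, 1, 1, 1]
    · intro s; fin_cases s <;> simp
    · intro h; have := congrFun h 0; simp at this
    · intro s; fin_cases s <;> simp [Fin.sum_univ_succ, C.A_diag] <;> linarith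
  · exfalso
    apply C.no_sub ![2, 3, 1, 1]
    · intro s; fin_cases s <;> simp
    · intro h; have := congrFun h 0; simp at this
    · intro s; fin_cases s <;> simp [Fin.sum_univ_succ, C.A_diag] <;> linarith
  · exfalso
    apply C.no_sub ![2, 1, 1, 1]
    · intro s; fin_cases s <;> simp
    · intro h; have := congrFun h 0; simp at this
    · intro s; fin_cases s <;> simp [Fin.sum_univ_succ, C.A_diag] <;> linarith

/-- Classification of the `D4` configurations: vertex `0` joined to `1`, `2`, `3`. -/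
theorem star4 (C : M2Config 4) (h01 : C.A 0 1 ≠ 0) (h02 : C.A 0 2 ≠ 0) (h03 : C.A 0 3 ≠ 0) :
    C.W 1 = C.W 0 ∧ C.W 2 = C.W 0 ∧ C.W 3 = C.W 0 ∧
    C.A 0 1 = C.W 0 ∧ C.A 0 2 = C.W 0 ∧ C.A 0 3 = C.W 0 ∧
    C.A 1 2 = 0 ∧ C.A 1 3 = 0 ∧ C.A 2 3 = 0 := by
  have y10 := C.A_symm 1 0
  have y20 := C.A_symm 2 0
  have y30 := C.A_symm 3 0
  have h1 := C.star4_first h01 h02 h03
  have h2 := (C.restrict ![0, 2, 1, 3] (by decide)).star4_first h02 h01 h03
  have h3 := (C.restrict ![0, 3, 2, 1] (by decide)).star4_first h03 h02 h01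
  simp at h2 h3
  have z12 := (C.chain3' (a := 1) (b := 0) (c := 2) (by decide) (by decide) (by decide)
    (by rw [y10]; exact h01) h02).1
  have z13 := (C.chain3' (a := 1) (b := 0) (c := 3) (by decide) (by decide) (by decide)
    (by rw [y10]; exact h01) h03).1
  have z23 := (C.chain3' (a := 2) (b := 0) (c := 3) (by decide) (by decide) (by decide)
    (by rw [y20]; exact h02) h03).1
  exact ⟨h1.2, h2.2, h3.2, h1.1, h2.1, h3.1, z12, z13, z23⟩

theorem inj4 {a b c d : Fin r} (hab : a ≠ b) (hac : a ≠ c) (had : a ≠ d) (hbc : b ≠ c)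
    (hbd : b ≠ d) (hcd : c ≠ d) : Function.Injective ![a, b, c, d] := by
  intro s t hst
  fin_cases s <;> fin_cases t <;> simp_all

/-- `D4` inside a configuration: `h` joined to `x`, `y`, `z`. -/
theorem star4' (C : M2Config r) {h x y z : Fin r} (hx : h ≠ x) (hy : h ≠ y) (hz : h ≠ z)
    (hxy : x ≠ y) (hxz : x ≠ z) (hyz : y ≠ z)
    (h1 : C.A h x ≠ 0) (h2 : C.A h y ≠ 0) (h3 : C.A h z ≠ 0) :
    C.W x = C.W h ∧ C.W y = C.W h ∧ C.W z = C.W h ∧
    C.A h x = C.W h ∧ C.A h y = C.W h ∧ C.A h z = C.W h ∧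
    C.A x y = 0 ∧ C.A x z = 0 ∧ C.A y z = 0 :=
  (C.restrict ![h, x, y, z] (inj4 hx hy hz hxy hxz hyz)).star4 h1 h2 h3

/-- No vertex is joined to four others. -/
theorem no_star5 (C : M2Config 5) (h01 : C.A 0 1 ≠ 0) (h02 : C.A 0 2 ≠ 0) (h03 : C.A 0 3 ≠ 0)
    (h04 : C.A 0 4 ≠ 0) : False := by
  have n12 := C.A_nonneg 1 2 (by decide)
  have n13 := C.A_nonneg 1 3 (by decide)
  have n14 := C.A_nonneg 1 4 (by decide)
  have n23 := C.A_nonneg 2 3 (by decide)
  have n24 := C.A_nonneg 2 4 (by decide)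
  have n34 := C.A_nonneg 3 4 (by decide)
  have y10 := C.A_symm 1 0
  have y20 := C.A_symm 2 0
  have y30 := C.A_symm 3 0
  have y40 := C.A_symm 4 0
  have y21 := C.A_symm 2 1
  have y31 := C.A_symm 3 1
  have y41 := C.A_symm 4 1
  have y32 := C.A_symm 3 2
  have y42 := C.A_symm 4 2
  have y43 := C.A_symm 4 3
  have l01 := C.W_le_left (s := 0) (t := 1) (by decide) h01
  have r01 := C.W_le_right (s := 0) (t := 1) (by decide) h01
  have l02 := C.W_le_left (s := 0) (t := 2) (by decide) h02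
  have r02 := C.W_le_right (s := 0) (t := 2) (by decide) h02
  have l03 := C.W_le_left (s := 0) (t := 3) (by decide) h03
  have r03 := C.W_le_right (s := 0) (t := 3) (by decide) h03
  have l04 := C.W_le_left (s := 0) (t := 4) (by decide) h04
  have r04 := C.W_le_right (s := 0) (t := 4) (by decide) h04
  apply C.no_sub ![2, 1, 1, 1, 1]
  · intro s; fin_cases s <;> simp
  · intro h; have := congrFun h 0; simp at this
  · intro s; fin_cases s <;> simp [Fin.sum_univ_succ, C.A_diag] <;> linarith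

end M2Config

end Groth.Agent.H37
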