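import Groth.Agent.H37.Config3

set_option autoImplicit false
set_option linter.unusedVariables false
set_option linter.unnecessarySeqFocus false
open Finset

namespace Groth.Agent.H37

namespace M2Config

variable {r : ℕ}

/-- Classification of `D5`: chain `0 1 2` with `3` and `4` joined to `2`. -/
theorem d5 (C : M2Config 5) (h01 : C.A 0 1 ≠ 0) (h12 : C.A 1 2 ≠ 0) (h23 : C.A 2 3 ≠ 0)
    (h24 : C.A 2 4 ≠ 0) :
    C.W 0 = C.W 2 ∧ C.W 1 = C.W 2 ∧ C.W 3 = C.W 2 ∧ C.W 4 = C.W 2 ∧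
    C.A 0 1 = C.W 2 ∧ C.A 1 2 = C.W 2 ∧ C.A 2 3 = C.W 2 ∧ C.A 2 4 = C.W 2 ∧
    C.A 0 2 = 0 ∧ C.A 0 3 = 0 ∧ C.A 0 4 = 0 ∧ C.A 1 3 = 0 ∧ C.A 1 4 = 0 ∧ C.A 3 4 = 0 := by
  have hw0 := C.W_pos 0
  have hw1 := C.W_pos 1
  have hw2 := C.W_pos 2
  have hw3 := C.W_pos 3
  have hw4 := C.W_pos 4
  have n0_1 := C.A_nonneg 0 1 (by decide)
  have y1_0 := C.A_symm 1 0
  have n0_2 := C.A_nonneg 0 2 (by decide)
  have y2_0 := C.A_symm 2 0
  have n0_3 := C.A_nonneg 0 3 (by decide)
  have y3_0 := C.A_symm 3 0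
  have n0_4 := C.A_nonneg 0 4 (by decide)
  have y4_0 := C.A_symm 4 0
  have n1_2 := C.A_nonneg 1 2 (by decide)
  have y2_1 := C.A_symm 2 1
  have n1_3 := C.A_nonneg 1 3 (by decide)
  have y3_1 := C.A_symm 3 1
  have n1_4 := C.A_nonneg 1 4 (by decide)
  have y4_1 := C.A_symm 4 1
  have n2_3 := C.A_nonneg 2 3 (by decide)
  have y3_2 := C.A_symm 3 2
  have n2_4 := C.A_nonneg 2 4 (by decide)
  have y4_2 := C.A_symm 4 2
  have n3_4 := C.A_nonneg 3 4 (by decide)
  have y4_3 := C.A_symm 4 3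
  have l0_1 := C.W_le_left (s := 0) (t := 1) (by decide) h01
  have r0_1 := C.W_le_right (s := 0) (t := 1) (by decide) h01
  have l1_2 := C.W_le_left (s := 1) (t := 2) (by decide) h12
  have r1_2 := C.W_le_right (s := 1) (t := 2) (by decide) h12
  have l2_3 := C.W_le_left (s := 2) (t := 3) (by decide) h23
  have r2_3 := C.W_le_right (s := 2) (t := 3) (by decide) h23
  have l2_4 := C.W_le_left (s := 2) (t := 4) (by decide) h24
  have r2_4 := C.W_le_right (s := 2) (t := 4) (by decide) h24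
  obtain ⟨w1, w3, w4, a21, a23, a24, z13, z14, z34⟩ :=
    C.star4' (h := 2) (x := 1) (y := 3) (z := 4) (by decide) (by decide) (by decide)
      (by decide) (by decide) (by decide) (by rw [y2_1]; exact h12) h23 h24
  rw [y2_1] at a21
  obtain ⟨z02, hc⟩ := C.chain3' (a := 0) (b := 1) (c := 2) (by decide) (by decide) (by decide)
    h01 h12
  have main : C.W 0 = C.W 2 ∧ C.A 0 1 = C.W 2 := by
    rcases hc with ⟨e1, e2, e3, e4⟩ | ⟨e1, e2, e3, e4⟩ | ⟨e1, e2, e3, e4⟩ | ⟨e1, e2, e3, e4⟩ |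
      ⟨e1, e2, e3, e4⟩
    · constructor <;> linarith
    · exfalso; linarith
    · exfalso; linarith
    · exfalso
      apply C.no_sub ![1, 2, 2, 1, 1]
      · intro s; fin_cases s <;> simp
      · intro h; have := congrFun h 0; simp at this
      · intro s; fin_cases s <;> simp [Fin.sum_univ_succ, C.A_diag] <;> linarith
    · exfalso
      apply C.no_sub ![2, 2, 2, 1, 1]
      · intro s; fin_cases s <;> simp
      · intro h; have := congrFun h 0; simp at this
      · intro s; fin_cases s <;> simp [Fin.sum_univ_succ, C.A_diag] <;> linarith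
  have z03 : C.A 0 3 = 0 := by
    by_contra hne
    have l0_3 := C.W_le_left (s := 0) (t := 3) (by decide) hne
    have r0_3 := C.W_le_right (s := 0) (t := 3) (by decide) hne
    apply C.no_sub ![1, 1, 1, 1, 0]
    · intro s; fin_cases s <;> simp
    · intro h; have := congrFun h 0; simp at this
    · intro s; fin_cases s <;> simp [Fin.sum_univ_succ, C.A_diag] <;> linarith
  have z04 : C.A 0 4 = 0 := by
    by_contra hne
    have l0_4 := C.W_le_left (s := 0) (t := 4) (by decide) hne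
    have r0_4 := C.W_le_right (s := 0) (t := 4) (by decide) hne
    apply C.no_sub ![1, 1, 1, 0, 1]
    · intro s; fin_cases s <;> simp
    · intro h; have := congrFun h 0; simp at this
    · intro s; fin_cases s <;> simp [Fin.sum_univ_succ, C.A_diag] <;> linarith
  exact ⟨main.1, w1, w3, w4, main.2, a21, a23, a24, z02, z03, z04, z13, z14, z34⟩

theorem inj5 {a b c d e : Fin r} (hab : a ≠ b) (hac : a ≠ c) (had : a ≠ d) (hae : a ≠ e)
    (hbc : b ≠ c) (hbd : b ≠ d) (hbe : b ≠ e) (hcd : c ≠ d) (hce : c ≠ e) (hde : d ≠ e) :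
    Function.Injective ![a, b, c, d, e] := by
  intro s t hst
  fin_cases s <;> fin_cases t <;> simp_all

end M2Config

end Groth.Agent.H37
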