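import Groth.Agent.H37.Gen

set_option autoImplicit false
set_option linter.unusedVariables false
open Finset

namespace Groth.Agent.H37

namespace M2Config

variable {r : ℕ}

/-- A configuration cannot be a cycle. -/
theorem no_cycle_full (L : ℕ) (hL : 2 ≤ L) (C : M2Config (L + 1))
    (hadj : ∀ (i : ℕ) (hi : i + 1 < L + 1), C.A ⟨i, by omega⟩ ⟨i + 1, hi⟩ ≠ 0)
    (hclose : C.A ⟨0, by omega⟩ ⟨L, by omega⟩ ≠ 0) : False := by
  have fne2 : ∀ (k l : ℕ) (hk : k < L + 1) (hl : l < L + 1), k ≠ l →
      (⟨k, hk⟩ : Fin (L + 1)) ≠ ⟨l, hl⟩ := by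
    intro k l hk hl h hh
    exact h (congrArg Fin.val hh)
  obtain ⟨c, hc⟩ : ∃ c : Fin (L + 1) → ℤ, ∀ z, c z = 1 := ⟨fun _ => 1, fun _ => rfl⟩
  have hc0 : ∀ z : Fin (L + 1), (0 : ℤ) ≤ c z := fun z => by rw [hc]; norm_num
  apply C.no_sub c hc0
  · intro h0
    have := congrFun h0 ⟨0, by omega⟩
    rw [hc] at this
    simp at this
  · intro s
    obtain ⟨k, hk⟩ := s
    have hws := C.W_pos ⟨k, hk⟩
    have hdiag := C.A_diag ⟨k, hk⟩
    -- the two neighbours
    by_cases k0 : k = 0
    · subst k0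
      have hx := fne2 0 1 hk (by omega) (by omega)
      have hy := fne2 0 L hk (by omega) (by omega)
      have hxy := fne2 1 L (by omega) (by omega) (by omega)
      have hb := C.row_ge2 c hc0 hx hy hxy
      have a1 := C.W_le_left hx (hadj 0 (by omega))
      have a2 := C.W_le_left hy hclose
      rw [hc, hc, hc] at hb
      linarith
    by_cases kL : k = L
    · subst kL
      have hx := fne2 k (k - 1) hk (by omega) (by omega)
      have hy := fne2 k 0 hk (by omega) (by omega)
      have hxy := fne2 (k - 1) 0 (by omega) (by omega) (by omega)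
      have hb := C.row_ge2 c hc0 hx hy hxy
      have a1 : C.W ⟨k, hk⟩ ≤ C.A ⟨k, hk⟩ ⟨k - 1, by omega⟩ := by
        apply C.W_le_left hx
        rw [C.A_symm]
        have := hadj (k - 1) (by omega)
        have e : (⟨k - 1 + 1, by omega⟩ : Fin (k + 1)) = ⟨k, hk⟩ := by
          apply Fin.ext
          show k - 1 + 1 = k
          omega
        rw [e] at this
        exact this
      have a2 : C.W ⟨k, hk⟩ ≤ C.A ⟨k, hk⟩ ⟨0, by omega⟩ := by
        apply C.W_le_left hy
        rw [C.A_symm]
        exact hclose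
      rw [hc, hc, hc] at hb
      linarith
    · have hx := fne2 k (k - 1) hk (by omega) (by omega)
      have hy := fne2 k (k + 1) hk (by omega) (by omega)
      have hxy := fne2 (k - 1) (k + 1) (by omega) (by omega) (by omega)
      have hb := C.row_ge2 c hc0 hx hy hxy
      have a1 : C.W ⟨k, hk⟩ ≤ C.A ⟨k, hk⟩ ⟨k - 1, by omega⟩ := by
        apply C.W_le_left hx
        rw [C.A_symm]
        have := hadj (k - 1) (by omega)
        have e : (⟨k - 1 + 1, by omega⟩ : Fin (L + 1)) = ⟨k, hk⟩ := by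
          apply Fin.ext
          show k - 1 + 1 = k
          omega
        rw [e] at this
        exact this
      have a2 : C.W ⟨k, hk⟩ ≤ C.A ⟨k, hk⟩ ⟨k + 1, by omega⟩ :=
        C.W_le_left hy (hadj k (by omega))
      rw [hc, hc, hc] at hb
      linarith

/-- There is no cycle inside a configuration. -/
theorem no_cycle_path (C : M2Config r) (L : ℕ) (hL : 2 ≤ L) (p : Fin (L + 1) → Fin r)
    (hp : Function.Injective p)
    (hadj : ∀ (i : ℕ) (hi : i + 1 < L + 1), C.A (p ⟨i, by omega⟩) (p ⟨i + 1, hi⟩) ≠ 0)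
    (hclose : C.A (p ⟨0, by omega⟩) (p ⟨L, by omega⟩) ≠ 0) : False :=
  no_cycle_full L hL (C.restrict p hp) hadj hclose

end M2Config

end Groth.Agent.H37
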