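import Groth.Agent.H15.EpiLike
import Mathlib

/-!
# Descent of morphisms along a surjective submersive `h : U ⟶ V` with `O_V ≅ h_* O_U`
(after helper15's `QuotDesc`).
-/

set_option autoImplicit false
set_option linter.style.haveILetI false

universe u

open CategoryTheory AlgebraicGeometry

namespace Groth.Agent.H37

open Groth.Agent.H15.Quot

variable {U V : Scheme.{u}} {h : U ⟶ V}

theorem app_bijective_of_isIso_c [IsIso h.c] (O : V.Opens) :
    Function.Bijective (h.app O).hom := by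
  have : IsIso (h.app O) := by
    change IsIso (h.c.app (Opposite.op O))
    infer_instance
  exact ConcreteCategory.bijective_of_isIso (h.app O)

theorem epiLike_of_isIso_c [Surjective h] [IsIso h.c] : EpiLike h :=
  ⟨h.surjective, fun O => (app_bijective_of_isIso_c O).1⟩

theorem descIso_exists_desc_affine [IsIso h.c] {W : Scheme.{u}} (u : U ⟶ W) (W' : W.Opens)
    (hW : IsAffineOpen W') (V' : V.Opens) (hVW : h ⁻¹ᵁ V' ≤ u ⁻¹ᵁ W') :
    ∃ f : V'.toScheme ⟶ W, h.resLE V' (h ⁻¹ᵁ V') le_rfl ≫ f = (h ⁻¹ᵁ V').ι ≫ u := by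
  have : IsIso (h.app V') := by
    change IsIso (h.c.app (Opposite.op V'))
    infer_instance
  let ψ : Γ(W, W') ⟶ Γ(V, V') := u.appLE W' (h ⁻¹ᵁ V') hVW ≫ inv (h.app V')
  refine ⟨V'.toSpecΓ ≫ Spec.map ψ ≫ hW.fromSpec, ?_⟩
  have h1 : ψ ≫ h.app V' = u.appLE W' (h ⁻¹ᵁ V') hVW := by
    simp [ψ]
  rw [Scheme.Hom.resLE_eq_morphismRestrict, ← Scheme.Opens.toSpecΓ_naturality_assoc,
    ← Spec.map_comp_assoc, h1, Scheme.Opens.toSpecΓ_SpecMap_appLE_assoc,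
    IsAffineOpen.toSpecΓ_fromSpec, Scheme.Hom.resLE_comp_ι]

theorem descIso_exists_opens_preimage_eq (hq : Topology.IsQuotientMap h.base) {W : Scheme.{u}}
    (u : U ⟶ W) (hu : ∀ x y : U, h.base x = h.base y → u.base x = u.base y) (W' : W.Opens) :
    ∃ V' : V.Opens, h ⁻¹ᵁ V' = u ⁻¹ᵁ W' ∧ ∀ x : U, u.base x ∈ W' → h.base x ∈ V' := by
  have hpre : h.base ⁻¹' (h.base '' (u ⁻¹ᵁ W' : Set U)) = (u ⁻¹ᵁ W' : Set U) := by
    apply Set.Subset.antisymm
    · rintro x ⟨s, hs, hsx⟩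
      change u.base x ∈ W'
      rw [← hu s x hsx]
      exact hs
    · exact Set.subset_preimage_image _ _
  have hopen : IsOpen (h.base '' (u ⁻¹ᵁ W' : Set U)) := by
    rw [← hq.isOpen_preimage, hpre]
    exact (u ⁻¹ᵁ W').isOpen
  refine ⟨⟨_, hopen⟩, ?_, ?_⟩
  · ext x
    exact Set.ext_iff.mp hpre x
  · intro x hx
    exact ⟨x, hx, rfl⟩

theorem descIso_exists_desc [Surjective h] [IsIso h.c] (hq : Topology.IsQuotientMap h.base)
    {W : Scheme.{u}} (u : U ⟶ W)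
    (hu : ∀ x y : U, h.base x = h.base y → u.base x = u.base y) :
    ∃ v : V ⟶ W, h ≫ v = u := by
  have hepi : EpiLike h := epiLike_of_isIso_c
  choose V' hV hV' using fun W' : W.affineOpens => descIso_exists_opens_preimage_eq hq u hu W'.1
  have hcover : TopologicalSpace.IsOpenCover V' := by
    rw [TopologicalSpace.IsOpenCover, eq_top_iff]
    intro y _
    obtain ⟨x, rfl⟩ := h.surjective y
    obtain ⟨_, ⟨W', hW' : IsAffineOpen W', rfl⟩, hxW, -⟩ :=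
      W.isBasis_affineOpens.exists_subset_of_mem_open (Set.mem_univ (u.base x)) isOpen_univ
    exact TopologicalSpace.Opens.mem_iSup.mpr ⟨⟨W', hW'⟩, hV' ⟨W', hW'⟩ x hxW⟩
  choose f hf using fun W' : W.affineOpens =>
    descIso_exists_desc_affine u W'.1 W'.2 (V' W') (hV W').le
  have key : ∀ (W' : W.affineOpens) (V'' : V.Opens) (hle : V'' ≤ V' W'),
      h.resLE V'' (h ⁻¹ᵁ V'') le_rfl ≫ V.homOfLE hle ≫ f W' = (h ⁻¹ᵁ V'').ι ≫ u := by
    intro W' V'' hle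
    have hle' : h ⁻¹ᵁ V'' ≤ h ⁻¹ᵁ V' W' := fun x hx => hle hx
    rw [Scheme.Hom.resLE_map_assoc, ← Scheme.Hom.map_resLE_assoc h le_rfl hle', hf W',
      Scheme.homOfLE_ι_assoc]
  obtain ⟨g, hg⟩ := exists_glue V' hcover f (fun W₁ W₂ => by
    apply (hepi.resLE (V' W₁ ⊓ V' W₂)).eq_of_comp_eq
    rw [key W₁ _ inf_le_left, key W₂ _ inf_le_right])
  refine ⟨g, ?_⟩
  refine Scheme.hom_ext_of_forall _ _ fun x => ?_
  obtain ⟨_, ⟨W', hW' : IsAffineOpen W', rfl⟩, hxW, -⟩ :=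
    W.isBasis_affineOpens.exists_subset_of_mem_open (Set.mem_univ (u.base x)) isOpen_univ
  refine ⟨h ⁻¹ᵁ V' ⟨W', hW'⟩, hV' ⟨W', hW'⟩ x hxW, ?_⟩
  rw [← Scheme.Hom.resLE_comp_ι_assoc h (le_refl (h ⁻¹ᵁ V' ⟨W', hW'⟩)), hg, hf]

end Groth.Agent.H37
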