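import Groth.Agent.H37.Chain5

set_option autoImplicit false
set_option linter.unusedVariables false
set_option linter.unnecessarySeqFocus false
open Finset

namespace Groth.Agent.H37

namespace M2Config

variable {r : ℕ}

/-- `D5` (inside a configuration) -/
theorem d5' (C : M2Config r) {a b c d e : Fin r} (hab : a ≠ b) (hac : a ≠ c) (had : a ≠ d) (hae : a ≠ e) (hbc : b ≠ c) (hbd : b ≠ d) (hbe : b ≠ e) (hcd : c ≠ d) (hce : c ≠ e) (hde : d ≠ e)
    (k01 : C.A a b ≠ 0) (k12 : C.A b c ≠ 0) (k23 : C.A c d ≠ 0) (k24 : C.A c e ≠ 0) :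
    C.W a = C.W c ∧
    C.W b = C.W c ∧
    C.W d = C.W c ∧
    C.W e = C.W c ∧
    C.A a b = C.W c ∧
    C.A b c = C.W c ∧
    C.A c d = C.W c ∧
    C.A c e = C.W c ∧
    C.A a c = 0 ∧
    C.A a d = 0 ∧
    C.A a e = 0 ∧
    C.A b d = 0 ∧
    C.A b e = 0 ∧
    C.A d e = 0 :=
  (C.restrict ![a, b, c, d, e] (inj5 hab hac had hae hbc hbd hbe hcd hce hde)).d5 k01 k12 k23 k24

/-- Classification of `D6`. -/
theorem d6 (C : M2Config 6) (h01 : C.A 0 1 ≠ 0) (h12 : C.A 1 2 ≠ 0) (h23 : C.A 2 3 ≠ 0) (h34 : C.A 3 4 ≠ 0) (h35 : C.A 3 5 ≠ 0) :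
    C.W 0 = C.W 3 ∧
    C.W 1 = C.W 3 ∧
    C.W 2 = C.W 3 ∧
    C.W 4 = C.W 3 ∧
    C.W 5 = C.W 3 ∧
    C.A 0 1 = C.W 3 ∧
    C.A 1 2 = C.W 3 ∧
    C.A 2 3 = C.W 3 ∧
    C.A 3 4 = C.W 3 ∧
    C.A 3 5 = C.W 3 ∧
    C.A 0 2 = 0 ∧
    C.A 0 3 = 0 ∧
    C.A 0 4 = 0 ∧
    C.A 0 5 = 0 ∧
    C.A 1 3 = 0 ∧
    C.A 1 4 = 0 ∧
    C.A 1 5 = 0 ∧
    C.A 2 4 = 0 ∧
    C.A 2 5 = 0 ∧
    C.A 4 5 = 0 := by
  have hw0 := C.W_pos 0
  have hw1 := C.W_pos 1
  have hw2 := C.W_pos 2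
  have hw3 := C.W_pos 3
  have hw4 := C.W_pos 4
  have hw5 := C.W_pos 5
  have n0_1 := C.A_nonneg 0 1 (by decide)
  have y1_0 := C.A_symm 1 0
  have n0_2 := C.A_nonneg 0 2 (by decide)
  have y2_0 := C.A_symm 2 0
  have n0_3 := C.A_nonneg 0 3 (by decide)
  have y3_0 := C.A_symm 3 0
  have n0_4 := C.A_nonneg 0 4 (by decide)
  have y4_0 := C.A_symm 4 0
  have n0_5 := C.A_nonneg 0 5 (by decide)
  have y5_0 := C.A_symm 5 0
  have n1_2 := C.A_nonneg 1 2 (by decide)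
  have y2_1 := C.A_symm 2 1
  have n1_3 := C.A_nonneg 1 3 (by decide)
  have y3_1 := C.A_symm 3 1
  have n1_4 := C.A_nonneg 1 4 (by decide)
  have y4_1 := C.A_symm 4 1
  have n1_5 := C.A_nonneg 1 5 (by decide)
  have y5_1 := C.A_symm 5 1
  have n2_3 := C.A_nonneg 2 3 (by decide)
  have y3_2 := C.A_symm 3 2
  have n2_4 := C.A_nonneg 2 4 (by decide)
  have y4_2 := C.A_symm 4 2
  have n2_5 := C.A_nonneg 2 5 (by decide)
  have y5_2 := C.A_symm 5 2
  have n3_4 := C.A_nonneg 3 4 (by decide)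
  have y4_3 := C.A_symm 4 3
  have n3_5 := C.A_nonneg 3 5 (by decide)
  have y5_3 := C.A_symm 5 3
  have n4_5 := C.A_nonneg 4 5 (by decide)
  have y5_4 := C.A_symm 5 4
  have l0_1 := C.W_le_left (s := 0) (t := 1) (by decide) h01
  have r0_1 := C.W_le_right (s := 0) (t := 1) (by decide) h01
  have l1_2 := C.W_le_left (s := 1) (t := 2) (by decide) h12
  have r1_2 := C.W_le_right (s := 1) (t := 2) (by decide) h12
  have l2_3 := C.W_le_left (s := 2) (t := 3) (by decide) h23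
  have r2_3 := C.W_le_right (s := 2) (t := 3) (by decide) h23
  have l3_4 := C.W_le_left (s := 3) (t := 4) (by decide) h34
  have r3_4 := C.W_le_right (s := 3) (t := 4) (by decide) h34
  have l3_5 := C.W_le_left (s := 3) (t := 5) (by decide) h35
  have r3_5 := C.W_le_right (s := 3) (t := 5) (by decide) h35
  obtain ⟨w1, w2, w4, w5, a1_2, a2_3, a3_4, a3_5, z1_3, z1_4, z1_5, z2_4, z2_5, z4_5⟩ :=
    C.d5' (a := 1) (b := 2) (c := 3) (d := 4) (e := 5) (by decide) (by decide) (by decide) (by decide) (by decide) (by decide) (by decide) (by decide) (by decide) (by decide) h12 h23 h34 h35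
  obtain ⟨z0_2, hc⟩ := C.chain3' (a := 0) (b := 1) (c := 2) (by decide) (by decide) (by decide) h01 h12
  have main : C.W 0 = C.W 3 ∧ C.A 0 1 = C.W 3 := by
    rcases hc with ⟨e1, e2, e3, e4⟩ | ⟨e1, e2, e3, e4⟩ | ⟨e1, e2, e3, e4⟩ | ⟨e1, e2, e3, e4⟩ |
      ⟨e1, e2, e3, e4⟩
    · constructor <;> linarith
    · exfalso; linarith
    · exfalso; linarith
    · exfalso
      apply C.no_sub ![1, 2, 2, 2, 1, 1]
      · intro s; fin_cases s <;> simp
      · intro h; have := congrFun h 0; simp at this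
      · intro s; fin_cases s <;> simp [Fin.sum_univ_succ, C.A_diag] <;> linarith
    · exfalso
      apply C.no_sub ![2, 2, 2, 2, 1, 1]
      · intro s; fin_cases s <;> simp
      · intro h; have := congrFun h 0; simp at this
      · intro s; fin_cases s <;> simp [Fin.sum_univ_succ, C.A_diag] <;> linarith
  have z0_3 : C.A 0 3 = 0 := by
    by_contra hne
    have l0_3 := C.W_le_left (s := 0) (t := 3) (by decide) hne
    have r0_3 := C.W_le_right (s := 0) (t := 3) (by decide) hne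
    apply C.no_sub ![1, 1, 1, 1, 0, 0]
    · intro s; fin_cases s <;> simp
    · intro h; have := congrFun h 0; simp at this
    · intro s; fin_cases s <;> simp [Fin.sum_univ_succ, C.A_diag] <;> linarith
  have z0_4 : C.A 0 4 = 0 := by
    by_contra hne
    have l0_4 := C.W_le_left (s := 0) (t := 4) (by decide) hne
    have r0_4 := C.W_le_right (s := 0) (t := 4) (by decide) hne
    apply C.no_sub ![1, 1, 1, 1, 1, 0]
    · intro s; fin_cases s <;> simp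
    · intro h; have := congrFun h 0; simp at this
    · intro s; fin_cases s <;> simp [Fin.sum_univ_succ, C.A_diag] <;> linarith
  have z0_5 : C.A 0 5 = 0 := by
    by_contra hne
    have l0_5 := C.W_le_left (s := 0) (t := 5) (by decide) hne
    have r0_5 := C.W_le_right (s := 0) (t := 5) (by decide) hne
    apply C.no_sub ![1, 1, 1, 1, 0, 1]
    · intro s; fin_cases s <;> simp
    · intro h; have := congrFun h 0; simp at this
    · intro s; fin_cases s <;> simp [Fin.sum_univ_succ, C.A_diag] <;> linarith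
  exact ⟨main.1, w1, w2, w4, w5, main.2, a1_2, a2_3, a3_4, a3_5, z0_2, z0_3, z0_4, z0_5, z1_3, z1_4, z1_5, z2_4, z2_5, z4_5⟩

theorem inj6 {a b c d e f : Fin r} (hab : a ≠ b) (hac : a ≠ c) (had : a ≠ d) (hae : a ≠ e) (haf : a ≠ f) (hbc : b ≠ c) (hbd : b ≠ d) (hbe : b ≠ e) (hbf : b ≠ f) (hcd : c ≠ d) (hce : c ≠ e) (hcf : c ≠ f) (hde : d ≠ e) (hdf : d ≠ f) (hef : e ≠ f) :
    Function.Injective ![a, b, c, d, e, f] := by
  intro s t hst
  fin_cases s <;> fin_cases t <;> simp_all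

/-- `D6` (inside a configuration) -/
theorem d6' (C : M2Config r) {a b c d e f : Fin r} (hab : a ≠ b) (hac : a ≠ c) (had : a ≠ d) (hae : a ≠ e) (haf : a ≠ f) (hbc : b ≠ c) (hbd : b ≠ d) (hbe : b ≠ e) (hbf : b ≠ f) (hcd : c ≠ d) (hce : c ≠ e) (hcf : c ≠ f) (hde : d ≠ e) (hdf : d ≠ f) (hef : e ≠ f)
    (k01 : C.A a b ≠ 0) (k12 : C.A b c ≠ 0) (k23 : C.A c d ≠ 0) (k34 : C.A d e ≠ 0) (k35 : C.A d f ≠ 0) :
    C.W a = C.W d ∧
    C.W b = C.W d ∧
    C.W c = C.W d ∧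
    C.W e = C.W d ∧
    C.W f = C.W d ∧
    C.A a b = C.W d ∧
    C.A b c = C.W d ∧
    C.A c d = C.W d ∧
    C.A d e = C.W d ∧
    C.A d f = C.W d ∧
    C.A a c = 0 ∧
    C.A a d = 0 ∧
    C.A a e = 0 ∧
    C.A a f = 0 ∧
    C.A b d = 0 ∧
    C.A b e = 0 ∧
    C.A b f = 0 ∧
    C.A c e = 0 ∧
    C.A c f = 0 ∧
    C.A e f = 0 :=
  (C.restrict ![a, b, c, d, e, f] (inj6 hab hac had hae haf hbc hbd hbe hbf hcd hce hcf hde hdf hef)).d6 k01 k12 k23 k34 k35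

/-- Classification of `D7`. -/
theorem d7 (C : M2Config 7) (h01 : C.A 0 1 ≠ 0) (h12 : C.A 1 2 ≠ 0) (h23 : C.A 2 3 ≠ 0) (h34 : C.A 3 4 ≠ 0) (h45 : C.A 4 5 ≠ 0) (h46 : C.A 4 6 ≠ 0) :
    C.W 0 = C.W 4 ∧
    C.W 1 = C.W 4 ∧
    C.W 2 = C.W 4 ∧
    C.W 3 = C.W 4 ∧
    C.W 5 = C.W 4 ∧
    C.W 6 = C.W 4 ∧
    C.A 0 1 = C.W 4 ∧
    C.A 1 2 = C.W 4 ∧
    C.A 2 3 = C.W 4 ∧
    C.A 3 4 = C.W 4 ∧
    C.A 4 5 = C.W 4 ∧
    C.A 4 6 = C.W 4 ∧
    C.A 0 2 = 0 ∧
    C.A 0 3 = 0 ∧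
    C.A 0 4 = 0 ∧
    C.A 0 5 = 0 ∧
    C.A 0 6 = 0 ∧
    C.A 1 3 = 0 ∧
    C.A 1 4 = 0 ∧
    C.A 1 5 = 0 ∧
    C.A 1 6 = 0 ∧
    C.A 2 4 = 0 ∧
    C.A 2 5 = 0 ∧
    C.A 2 6 = 0 ∧
    C.A 3 5 = 0 ∧
    C.A 3 6 = 0 ∧
    C.A 5 6 = 0 := by
  have hw0 := C.W_pos 0
  have hw1 := C.W_pos 1
  have hw2 := C.W_pos 2
  have hw3 := C.W_pos 3
  have hw4 := C.W_pos 4
  have hw5 := C.W_pos 5
  have hw6 := C.W_pos 6
  have n0_1 := C.A_nonneg 0 1 (by decide)
  have y1_0 := C.A_symm 1 0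
  have n0_2 := C.A_nonneg 0 2 (by decide)
  have y2_0 := C.A_symm 2 0
  have n0_3 := C.A_nonneg 0 3 (by decide)
  have y3_0 := C.A_symm 3 0
  have n0_4 := C.A_nonneg 0 4 (by decide)
  have y4_0 := C.A_symm 4 0
  have n0_5 := C.A_nonneg 0 5 (by decide)
  have y5_0 := C.A_symm 5 0
  have n0_6 := C.A_nonneg 0 6 (by decide)
  have y6_0 := C.A_symm 6 0
  have n1_2 := C.A_nonneg 1 2 (by decide)
  have y2_1 := C.A_symm 2 1
  have n1_3 := C.A_nonneg 1 3 (by decide)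
  have y3_1 := C.A_symm 3 1
  have n1_4 := C.A_nonneg 1 4 (by decide)
  have y4_1 := C.A_symm 4 1
  have n1_5 := C.A_nonneg 1 5 (by decide)
  have y5_1 := C.A_symm 5 1
  have n1_6 := C.A_nonneg 1 6 (by decide)
  have y6_1 := C.A_symm 6 1
  have n2_3 := C.A_nonneg 2 3 (by decide)
  have y3_2 := C.A_symm 3 2
  have n2_4 := C.A_nonneg 2 4 (by decide)
  have y4_2 := C.A_symm 4 2
  have n2_5 := C.A_nonneg 2 5 (by decide)
  have y5_2 := C.A_symm 5 2
  have n2_6 := C.A_nonneg 2 6 (by decide)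
  have y6_2 := C.A_symm 6 2
  have n3_4 := C.A_nonneg 3 4 (by decide)
  have y4_3 := C.A_symm 4 3
  have n3_5 := C.A_nonneg 3 5 (by decide)
  have y5_3 := C.A_symm 5 3
  have n3_6 := C.A_nonneg 3 6 (by decide)
  have y6_3 := C.A_symm 6 3
  have n4_5 := C.A_nonneg 4 5 (by decide)
  have y5_4 := C.A_symm 5 4
  have n4_6 := C.A_nonneg 4 6 (by decide)
  have y6_4 := C.A_symm 6 4
  have n5_6 := C.A_nonneg 5 6 (by decide)
  have y6_5 := C.A_symm 6 5
  have l0_1 := C.W_le_left (s := 0) (t := 1) (by decide) h01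
  have r0_1 := C.W_le_right (s := 0) (t := 1) (by decide) h01
  have l1_2 := C.W_le_left (s := 1) (t := 2) (by decide) h12
  have r1_2 := C.W_le_right (s := 1) (t := 2) (by decide) h12
  have l2_3 := C.W_le_left (s := 2) (t := 3) (by decide) h23
  have r2_3 := C.W_le_right (s := 2) (t := 3) (by decide) h23
  have l3_4 := C.W_le_left (s := 3) (t := 4) (by decide) h34
  have r3_4 := C.W_le_right (s := 3) (t := 4) (by decide) h34
  have l4_5 := C.W_le_left (s := 4) (t := 5) (by decide) h45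
  have r4_5 := C.W_le_right (s := 4) (t := 5) (by decide) h45
  have l4_6 := C.W_le_left (s := 4) (t := 6) (by decide) h46
  have r4_6 := C.W_le_right (s := 4) (t := 6) (by decide) h46
  obtain ⟨w1, w2, w3, w5, w6, a1_2, a2_3, a3_4, a4_5, a4_6, z1_3, z1_4, z1_5, z1_6, z2_4, z2_5, z2_6, z3_5, z3_6, z5_6⟩ :=
    C.d6' (a := 1) (b := 2) (c := 3) (d := 4) (e := 5) (f := 6) (by decide) (by decide) (by decide) (by decide) (by decide) (by decide) (by decide) (by decide) (by decide) (by decide) (by decide) (by decide) (by decide) (by decide) (by decide) h12 h23 h34 h45 h46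
  obtain ⟨z0_2, hc⟩ := C.chain3' (a := 0) (b := 1) (c := 2) (by decide) (by decide) (by decide) h01 h12
  have main : C.W 0 = C.W 4 ∧ C.A 0 1 = C.W 4 := by
    rcases hc with ⟨e1, e2, e3, e4⟩ | ⟨e1, e2, e3, e4⟩ | ⟨e1, e2, e3, e4⟩ | ⟨e1, e2, e3, e4⟩ |
      ⟨e1, e2, e3, e4⟩
    · constructor <;> linarith
    · exfalso; linarith
    · exfalso; linarith
    · exfalso
      apply C.no_sub ![1, 2, 2, 2, 2, 1, 1]
      · intro s; fin_cases s <;> simp
      · intro h; have := congrFun h 0; simp at this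
      · intro s; fin_cases s <;> simp [Fin.sum_univ_succ, C.A_diag] <;> linarith
    · exfalso
      apply C.no_sub ![2, 2, 2, 2, 2, 1, 1]
      · intro s; fin_cases s <;> simp
      · intro h; have := congrFun h 0; simp at this
      · intro s; fin_cases s <;> simp [Fin.sum_univ_succ, C.A_diag] <;> linarith
  have z0_3 : C.A 0 3 = 0 := by
    by_contra hne
    have l0_3 := C.W_le_left (s := 0) (t := 3) (by decide) hne
    have r0_3 := C.W_le_right (s := 0) (t := 3) (by decide) hne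
    apply C.no_sub ![1, 1, 1, 1, 0, 0, 0]
    · intro s; fin_cases s <;> simp
    · intro h; have := congrFun h 0; simp at this
    · intro s; fin_cases s <;> simp [Fin.sum_univ_succ, C.A_diag] <;> linarith
  have z0_4 : C.A 0 4 = 0 := by
    by_contra hne
    have l0_4 := C.W_le_left (s := 0) (t := 4) (by decide) hne
    have r0_4 := C.W_le_right (s := 0) (t := 4) (by decide) hne
    apply C.no_sub ![1, 1, 1, 1, 1, 0, 0]
    · intro s; fin_cases s <;> simp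
    · intro h; have := congrFun h 0; simp at this
    · intro s; fin_cases s <;> simp [Fin.sum_univ_succ, C.A_diag] <;> linarith
  have z0_5 : C.A 0 5 = 0 := by
    by_contra hne
    have l0_5 := C.W_le_left (s := 0) (t := 5) (by decide) hne
    have r0_5 := C.W_le_right (s := 0) (t := 5) (by decide) hne
    apply C.no_sub ![1, 1, 1, 1, 1, 1, 0]
    · intro s; fin_cases s <;> simp
    · intro h; have := congrFun h 0; simp at this
    · intro s; fin_cases s <;> simp [Fin.sum_univ_succ, C.A_diag] <;> linarith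
  have z0_6 : C.A 0 6 = 0 := by
    by_contra hne
    have l0_6 := C.W_le_left (s := 0) (t := 6) (by decide) hne
    have r0_6 := C.W_le_right (s := 0) (t := 6) (by decide) hne
    apply C.no_sub ![1, 1, 1, 1, 1, 0, 1]
    · intro s; fin_cases s <;> simp
    · intro h; have := congrFun h 0; simp at this
    · intro s; fin_cases s <;> simp [Fin.sum_univ_succ, C.A_diag] <;> linarith
  exact ⟨main.1, w1, w2, w3, w5, w6, main.2, a1_2, a2_3, a3_4, a4_5, a4_6, z0_2, z0_3, z0_4, z0_5, z0_6, z1_3, z1_4, z1_5, z1_6, z2_4, z2_5, z2_6, z3_5, z3_6, z5_6⟩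

theorem inj7 {a b c d e f g : Fin r} (hab : a ≠ b) (hac : a ≠ c) (had : a ≠ d) (hae : a ≠ e) (haf : a ≠ f) (hag : a ≠ g) (hbc : b ≠ c) (hbd : b ≠ d) (hbe : b ≠ e) (hbf : b ≠ f) (hbg : b ≠ g) (hcd : c ≠ d) (hce : c ≠ e) (hcf : c ≠ f) (hcg : c ≠ g) (hde : d ≠ e) (hdf : d ≠ f) (hdg : d ≠ g) (hef : e ≠ f) (heg : e ≠ g) (hfg : f ≠ g) :
    Function.Injective ![a, b, c, d, e, f, g] := by
  intro s t hst
  fin_cases s <;> fin_cases t <;> simp_all

/-- `D7` (inside a configuration) -/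
theorem d7' (C : M2Config r) {a b c d e f g : Fin r} (hab : a ≠ b) (hac : a ≠ c) (had : a ≠ d) (hae : a ≠ e) (haf : a ≠ f) (hag : a ≠ g) (hbc : b ≠ c) (hbd : b ≠ d) (hbe : b ≠ e) (hbf : b ≠ f) (hbg : b ≠ g) (hcd : c ≠ d) (hce : c ≠ e) (hcf : c ≠ f) (hcg : c ≠ g) (hde : d ≠ e) (hdf : d ≠ f) (hdg : d ≠ g) (hef : e ≠ f) (heg : e ≠ g) (hfg : f ≠ g)
    (k01 : C.A a b ≠ 0) (k12 : C.A b c ≠ 0) (k23 : C.A c d ≠ 0) (k34 : C.A d e ≠ 0) (k45 : C.A e f ≠ 0) (k46 : C.A e g ≠ 0) :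
    C.W a = C.W e ∧
    C.W b = C.W e ∧
    C.W c = C.W e ∧
    C.W d = C.W e ∧
    C.W f = C.W e ∧
    C.W g = C.W e ∧
    C.A a b = C.W e ∧
    C.A b c = C.W e ∧
    C.A c d = C.W e ∧
    C.A d e = C.W e ∧
    C.A e f = C.W e ∧
    C.A e g = C.W e ∧
    C.A a c = 0 ∧
    C.A a d = 0 ∧
    C.A a e = 0 ∧
    C.A a f = 0 ∧
    C.A a g = 0 ∧
    C.A b d = 0 ∧
    C.A b e = 0 ∧
    C.A b f = 0 ∧
    C.A b g = 0 ∧
    C.A c e = 0 ∧
    C.A c f = 0 ∧
    C.A c g = 0 ∧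
    C.A d f = 0 ∧
    C.A d g = 0 ∧
    C.A f g = 0 :=
  (C.restrict ![a, b, c, d, e, f, g] (inj7 hab hac had hae haf hag hbc hbd hbe hbf hbg hcd hce hcf hcg hde hdf hdg hef heg hfg)).d7 k01 k12 k23 k34 k45 k46

end M2Config

end Groth.Agent.H37
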