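import Groth.Agent.H37.Cycle

set_option autoImplicit false
set_option linter.unusedVariables false
open Finset

namespace Groth.Agent.H37

namespace M2Config

/-- total indexing function into `Fin (t + 1)` -/
def idx (t : ℕ) (k : ℕ) : Fin (t + 1) := if h : k < t + 1 then ⟨k, h⟩ else ⟨0, by omega⟩

theorem idx_val {t k : ℕ} (h : k ≤ t) : (idx t k).val = k := by
  unfold idx
  rw [dif_pos (by omega)]

theorem idx_self {t : ℕ} (j : Fin (t + 1)) : idx t j.val = j := by
  apply Fin.ext
  rw [idx_val (by have := j.isLt; omega)]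

theorem idx_ne {t k l : ℕ} (hk : k ≤ t) (hl : l ≤ t) (h : k ≠ l) : idx t k ≠ idx t l := by
  intro hh
  apply h
  have := congrArg Fin.val hh
  rwa [idx_val hk, idx_val hl] at this

/-- contradiction vector for a non-simple edge at the end of the tail of a `D`-configuration -/
theorem tail_contra (t : ℕ) (C : M2Config (t + 1)) (k : ℕ) (hk : k + 4 ≤ t)
    (hW : ∀ i, k + 1 ≤ i → i ≤ t → C.W (idx t i) = C.W (idx t (t - 2)))
    (hA : ∀ i, k + 1 ≤ i → i + 1 < t → C.A (idx t i) (idx t (i + 1)) = C.W (idx t (t - 2)))
    (hB : C.A (idx t (t - 2)) (idx t t) = C.W (idx t (t - 2)))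
    (c0 : ℤ) (hc0 : 1 ≤ c0)
    (H1 : 0 ≤ -2 * C.W (idx t k) * c0 + 2 * C.A (idx t k) (idx t (k + 1)))
    (H2 : 0 ≤ C.A (idx t k) (idx t (k + 1)) * c0 - 2 * C.W (idx t (t - 2))) : False := by
  obtain ⟨c, cv0, cvk, cv2, cv1⟩ : ∃ c : Fin (t + 1) → ℤ,
      (∀ i, i < k → c (idx t i) = 0) ∧ c (idx t k) = c0 ∧
      (∀ i, k < i → i ≤ t - 2 → c (idx t i) = 2) ∧ (∀ i, t - 1 ≤ i → i ≤ t → c (idx t i) = 1) := by
    refine ⟨fun j => if j.val < k then 0 else if j.val = k then c0 else if j.val ≤ t - 2 then 2 else 1,
      ?_, ?_, ?_, ?_⟩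
    · intro i hi
      simp only [idx_val (show i ≤ t by omega)]
      rw [if_pos hi]
    · simp only [idx_val (show k ≤ t by omega)]
      rw [if_neg (by omega)]
      simp
    · intro i h1 h2
      simp only [idx_val (show i ≤ t by omega)]
      rw [if_neg (by omega), if_neg (by omega), if_pos h2]
    · intro i h1 h2
      simp only [idx_val (show i ≤ t by omega)]
      rw [if_neg (by omega), if_neg (by omega), if_neg (by omega)]
  have hc : ∀ z, 0 ≤ c z := by
    intro z
    rw [← idx_self z]
    have hz := z.isLt
    by_cases h1 : z.val < k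
    · rw [cv0 _ h1]
    by_cases h2 : z.val = k
    · rw [h2, cvk]; omega
    by_cases h3 : z.val ≤ t - 2
    · rw [cv2 _ (by omega) h3]; norm_num
    · rw [cv1 _ (by omega) (by omega)]; norm_num
  set Wf := C.W (idx t (t - 2)) with hWf
  have hWfpos : 0 < Wf := C.W_pos _
  apply C.no_sub c hc
  · intro h0
    have := congrFun h0 (idx t k)
    rw [cvk] at this
    simp at this
    omega
  · intro s
    rw [← idx_self s]
    have hs := s.isLt
    set i := s.val with hi
    have hdiag := C.A_diag (idx t i)
    by_cases h1 : i < k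
    · have hb := C.row_ge0 c hc (idx t i)
      rw [cv0 _ h1] at hb
      linarith
    by_cases h2 : i = k
    · rw [h2] at hdiag ⊢
      have hb := C.row_ge1 c hc (idx_ne (show k ≤ t by omega) (show k + 1 ≤ t by omega) (by omega))
      rw [cvk, cv2 _ (by omega) (by omega), hdiag] at hb
      linarith
    by_cases h3 : i = k + 1
    · rw [h3] at hdiag ⊢
      have hb := C.row_ge2 c hc (idx_ne (show k + 1 ≤ t by omega) (show k ≤ t by omega) (by omega))
        (idx_ne (show k + 1 ≤ t by omega) (show k + 1 + 1 ≤ t by omega) (by omega))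
        (idx_ne (show k ≤ t by omega) (show k + 1 + 1 ≤ t by omega) (by omega))
      rw [cvk, cv2 _ (by omega) (by omega), cv2 _ (by omega) (by omega), hdiag,
        hW (k + 1) (by omega) (by omega), hA (k + 1) (by omega) (by omega),
        C.A_symm (idx t (k + 1)) (idx t k)] at hb
      linarith
    by_cases h4 : i ≤ t - 3
    · have hb := C.row_ge2 c hc (idx_ne (show i ≤ t by omega) (show i - 1 ≤ t by omega) (by omega))
        (idx_ne (show i ≤ t by omega) (show i + 1 ≤ t by omega) (by omega))
        (idx_ne (show i - 1 ≤ t by omega) (show i + 1 ≤ t by omega) (by omega))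
      have e1 : C.A (idx t i) (idx t (i - 1)) = Wf := by
        rw [C.A_symm]
        have := hA (i - 1) (by omega) (by omega)
        rwa [show i - 1 + 1 = i by omega] at this
      rw [cv2 _ (by omega) (by omega), cv2 _ (by omega) (by omega), cv2 _ (by omega) (by omega), hdiag,
        hW i (by omega) (by omega), hA i (by omega) (by omega), e1] at hb
      linarith
    by_cases h5 : i = t - 2
    · rw [h5] at hdiag ⊢
      have hb := C.row_ge3 c hc (idx_ne (show t - 2 ≤ t by omega) (show t - 3 ≤ t by omega) (by omega))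
        (idx_ne (show t - 2 ≤ t by omega) (show t - 1 ≤ t by omega) (by omega))
        (idx_ne (show t - 2 ≤ t by omega) (show t ≤ t by omega) (by omega))
        (idx_ne (show t - 3 ≤ t by omega) (show t - 1 ≤ t by omega) (by omega))
        (idx_ne (show t - 3 ≤ t by omega) (show t ≤ t by omega) (by omega))
        (idx_ne (show t - 1 ≤ t by omega) (show t ≤ t by omega) (by omega))
      have e1 : C.A (idx t (t - 2)) (idx t (t - 3)) = Wf := by
        rw [C.A_symm]
        have := hA (t - 3) (by omega) (by omega)
        rwa [show t - 3 + 1 = t - 2 by omega] at this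
      have e2 : C.A (idx t (t - 2)) (idx t (t - 1)) = Wf := by
        have := hA (t - 2) (by omega) (by omega)
        rwa [show t - 2 + 1 = t - 1 by omega] at this
      rw [cv2 _ (by omega) (by omega), cv2 _ (by omega) (by omega), cv1 _ (by omega) (by omega),
        cv1 _ (by omega) (by omega), hdiag, e1, e2, hB] at hb
      linarith
    by_cases h6 : i = t - 1
    · rw [h6] at hdiag ⊢
      have hb := C.row_ge1 c hc (idx_ne (show t - 1 ≤ t by omega) (show t - 2 ≤ t by omega) (by omega))
      have e2 : C.A (idx t (t - 1)) (idx t (t - 2)) = Wf := by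
        rw [C.A_symm]
        have := hA (t - 2) (by omega) (by omega)
        rwa [show t - 2 + 1 = t - 1 by omega] at this
      rw [cv1 _ (by omega) (by omega), cv2 _ (by omega) (by omega), hdiag, e2,
        hW (t - 1) (by omega) (by omega)] at hb
      linarith
    · have h7 : i = t := by omega
      rw [h7] at hdiag ⊢
      have hb := C.row_ge1 c hc (idx_ne (show t ≤ t by omega) (show t - 2 ≤ t by omega) (by omega))
      have e2 : C.A (idx t t) (idx t (t - 2)) = Wf := by
        rw [C.A_symm]
        exact hB
      rw [cv1 _ (by omega) (by omega), cv2 _ (by omega) (by omega), hdiag, e2,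
        hW t (by omega) (by omega)] at hb
      linarith

end M2Config

end Groth.Agent.H37
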