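import Mathlib

/-! Invariant closed subsets of affine space under elementary automorphisms: algebra. -/

set_option autoImplicit false
universe u v

namespace Groth.Agent.H37

open MvPolynomial

variable {k : Type u} [Field k] {n : ℕ}

/-- `L`-points of an ideal -/
def ZL (I : Ideal (MvPolynomial (Fin n) k)) (L : Type v) [Field L] [Algebra k L] :
    Set (Fin n → L) :=
  {a | ∀ f ∈ I, MvPolynomial.aeval a f = 0}

/-- the elementary automorphism `x_i ↦ x_i + x_j ^ d` -/
noncomputable def shiftHom (i j : Fin n) (d : ℕ) :
    MvPolynomial (Fin n) k →ₐ[k] MvPolynomial (Fin n) k :=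
  MvPolynomial.aeval (Function.update MvPolynomial.X i (MvPolynomial.X i + MvPolynomial.X j ^ d))

/-- invariance of an ideal -/
def IsShiftInv (I : Ideal (MvPolynomial (Fin n) k)) : Prop :=
  ∀ i j : Fin n, i ≠ j → ∀ d : ℕ, ∀ f ∈ I, shiftHom i j d f ∈ I

theorem aeval_shiftHom {L : Type v} [Field L] [Algebra k L] (a : Fin n → L) (i j : Fin n) (d : ℕ)
    (f : MvPolynomial (Fin n) k) :
    MvPolynomial.aeval a (shiftHom i j d f) =
      MvPolynomial.aeval (Function.update a i (a i + a j ^ d)) f := by
  have := MvPolynomial.comp_aeval (R := k)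
    (Function.update (MvPolynomial.X : Fin n → MvPolynomial (Fin n) k) i
      (MvPolynomial.X i + MvPolynomial.X j ^ d)) (MvPolynomial.aeval a : _ →ₐ[k] L)
  have h2 := DFunLike.congr_fun this f
  simp only [AlgHom.comp_apply] at h2
  rw [shiftHom, h2]
  congr 2
  funext i'
  by_cases h : i' = i
  · subst h; simp
  · simp [Function.update_of_ne h]

theorem ZL_shift {I : Ideal (MvPolynomial (Fin n) k)} (hI : IsShiftInv I) {L : Type v} [Field L]
    [Algebra k L] {a : Fin n → L} (ha : a ∈ ZL I L) (i j : Fin n) (hij : i ≠ j) (d : ℕ) :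
    Function.update a i (a i + a j ^ d) ∈ ZL I L := by
  intro f hf
  rw [← aeval_shiftHom]
  exact ha _ (hI i j hij d f hf)

/-- the restriction of a polynomial function to a coordinate line is a polynomial -/
theorem exists_line_poly {L : Type v} [Field L] [Algebra k L] (a : Fin n → L) (i : Fin n)
    (f : MvPolynomial (Fin n) k) :
    ∃ g : Polynomial L, ∀ s : L, g.eval s = MvPolynomial.aeval (Function.update a i s) f := by
  refine ⟨MvPolynomial.aeval (Function.update (fun i' => Polynomial.C (a i')) i Polynomial.X) f, ?_⟩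
  intro s
  have := MvPolynomial.comp_aeval (R := k)
    (Function.update (fun i' => Polynomial.C (a i')) i Polynomial.X)
    ((Polynomial.aeval s : Polynomial L →ₐ[L] L).restrictScalars k)
  have h2 := DFunLike.congr_fun this f
  simp only [AlgHom.comp_apply, AlgHom.restrictScalars_apply] at h2
  rw [← Polynomial.coe_aeval_eq_eval, h2]
  congr 2
  funext i'
  by_cases h : i' = i
  · subst h; simp
  · simp [Function.update_of_ne h]

theorem ZL_line {I : Ideal (MvPolynomial (Fin n) k)} {L : Type v} [Field L] [Algebra k L]
    (a : Fin n → L) (i : Fin n) (S : Set L) (hS : S.Infinite)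
    (h : ∀ s ∈ S, Function.update a i s ∈ ZL I L) (s : L) : Function.update a i s ∈ ZL I L := by
  intro f hf
  obtain ⟨g, hg⟩ := exists_line_poly a i f
  have hg0 : g = 0 := by
    refine Polynomial.eq_zero_of_infinite_isRoot g ?_
    refine hS.mono ?_
    intro t ht
    show g.IsRoot t
    rw [Polynomial.IsRoot, hg t]
    exact h t ht f hf
  rw [← hg s, hg0]; simp

/-- infinite multiplicative order (in a strong sense: all powers distinct) -/
def InfOrd {L : Type v} [Field L] (u : L) : Prop := Function.Injective (fun d : ℕ => u ^ d)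

theorem InfOrd.pow {L : Type v} [Field L] {u : L} (hu : InfOrd u) {m : ℕ} (hm : 0 < m) :
    InfOrd (u ^ m) := by
  intro d d' h
  simp only [← pow_mul] at h
  have := hu h
  exact Nat.eq_of_mul_eq_mul_left hm this

theorem InfOrd.infinite_range {L : Type v} [Field L] {u : L} (hu : InfOrd u) :
    (Set.range (fun m : ℕ => u ^ (m + 1))).Infinite := by
  apply Set.infinite_range_of_injective
  intro m m' h
  have := hu h
  omega

theorem ZL_line_of_infOrd {I : Ideal (MvPolynomial (Fin n) k)} (hI : IsShiftInv I) {L : Type v}
    [Field L] [Algebra k L] {b : Fin n → L} (hb : b ∈ ZL I L) (i j : Fin n) (hij : i ≠ j)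
    (hj : InfOrd (b j)) (s : L) : Function.update b i s ∈ ZL I L := by
  refine ZL_line b i (Set.range (fun d : ℕ => b i + b j ^ d)) ?_ ?_ s
  · apply Set.infinite_range_of_injective
    intro d d' h
    exact hj (add_left_cancel h)
  · rintro _ ⟨d, rfl⟩
    exact ZL_shift hI hb i j hij d

theorem ZL_univ_of_infOrd {I : Ideal (MvPolynomial (Fin n) k)} (hI : IsShiftInv I) (hn : 2 ≤ n)
    {L : Type v} [Field L] [Algebra k L] {a : Fin n → L} (ha : a ∈ ZL I L) (j : Fin n)
    (hj : InfOrd (a j)) (c : Fin n → L) : c ∈ ZL I L := by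
  classical
  -- step 2: points agreeing with `a` at `j`
  have step2 : ∀ c : Fin n → L, c j = a j → c ∈ ZL I L := by
    intro c hc
    have key : ∀ F : Finset (Fin n), j ∉ F → (fun i => if i ∈ F then c i else a i) ∈ ZL I L := by
      intro F
      induction F using Finset.induction_on with
      | empty => intro _; simpa using ha
      | insert i F hiF ih =>
        intro hjF
        rw [Finset.mem_insert, not_or] at hjF
        have hb := ih hjF.2
        have hbj : (fun i => if i ∈ F then c i else a i) j = a j := by
          simp [hjF.2]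
        have := ZL_line_of_infOrd hI hb i j (Ne.symm hjF.1) (by show InfOrd ((fun i => if i ∈ F then c i else a i) j); rw [hbj]; exact hj) (c i)
        convert this using 1
        funext i'
        by_cases h : i' = i
        · subst h; simp
        · simp [Finset.mem_insert, h]
    have := key (Finset.univ.erase j) (by simp)
    convert this using 1
    funext i'
    by_cases h : i' = j
    · subst h; simp [hc]
    · simp [h]
  obtain ⟨i₀, hi₀⟩ : ∃ i₀ : Fin n, i₀ ≠ j := by
    by_cases h0 : j = ⟨0, by omega⟩
    · exact ⟨⟨1, by omega⟩, by rw [h0]; simp [Fin.ext_iff]⟩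
    · exact ⟨⟨0, by omega⟩, fun h => h0 h.symm⟩
  -- step 3: points with infinite order at `i₀`
  have step3 : ∀ c : Fin n → L, InfOrd (c i₀) → c ∈ ZL I L := by
    intro c hc
    have h1 : Function.update c j (a j) ∈ ZL I L := step2 _ (by simp)
    have := ZL_line_of_infOrd hI h1 j i₀ (Ne.symm hi₀)
      (by rw [Function.update_of_ne hi₀]; exact hc) (c j)
    rwa [Function.update_idem, Function.update_eq_self] at this
  -- step 4
  have := ZL_line (I := I) c i₀ _ hj.infinite_range (by
    rintro _ ⟨m, rfl⟩
    apply step3
    rw [Function.update_self]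
    exact hj.pow (by omega)) (c i₀)
  rwa [Function.update_eq_self] at this

theorem ideal_eq_bot_of_ZL_univ (I : Ideal (MvPolynomial (Fin n) k)) (L : Type v) [Field L]
    [Algebra k L] [Infinite L] (h : ∀ c : Fin n → L, c ∈ ZL I L) : I = ⊥ := by
  rw [eq_bot_iff]
  intro f hf
  rw [Ideal.mem_bot]
  have : MvPolynomial.map (algebraMap k L) f = 0 := by
    apply MvPolynomial.funext
    intro c
    rw [MvPolynomial.eval_map, ← MvPolynomial.aeval_def, map_zero]
    exact h c f hf
  exact MvPolynomial.map_injective (algebraMap k L) (algebraMap k L).injective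
    (by rw [this, map_zero])

theorem InfOrd.infinite {L : Type v} [Field L] {u : L} (hu : InfOrd u) : Infinite L :=
  Infinite.of_injective _ hu

/-- an invariant ideal with a point having a coordinate of infinite order vanishes -/
theorem ideal_eq_bot_of_infOrd {I : Ideal (MvPolynomial (Fin n) k)} (hI : IsShiftInv I)
    (hn : 2 ≤ n) {L : Type v} [Field L] [Algebra k L] {a : Fin n → L} (ha : a ∈ ZL I L)
    (j : Fin n) (hj : InfOrd (a j)) : I = ⊥ := by
  haveI := hj.infinite
  exact ideal_eq_bot_of_ZL_univ I L (ZL_univ_of_infOrd hI hn ha j hj)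

end Groth.Agent.H37
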