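import Groth.Agent.H37.ElemAut

/-! Invariant closed subsets of affine space under elementary automorphisms: residue fields. -/

set_option autoImplicit false
universe u v

namespace Groth.Agent.H37

open MvPolynomial

variable {k : Type u} [Field k] {n : ℕ}

theorem residue_point_mem (I P : Ideal (MvPolynomial (Fin n) k)) [P.IsPrime] (h : I ≤ P) :
    (fun i => algebraMap (MvPolynomial (Fin n) k) P.ResidueField (MvPolynomial.X i)) ∈
      ZL I P.ResidueField := by
  intro f hf
  have : MvPolynomial.aeval
      (fun i => algebraMap (MvPolynomial (Fin n) k) P.ResidueField (MvPolynomial.X i)) f =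
      algebraMap _ P.ResidueField f := by
    have := MvPolynomial.aeval_unique
      (IsScalarTower.toAlgHom k (MvPolynomial (Fin n) k) P.ResidueField)
    exact (DFunLike.congr_fun this f).symm
  rw [this, Ideal.algebraMap_residueField_eq_zero]
  exact h hf

theorem eq_zero_or_pow_eq_one_of_not_infOrd {L : Type v} [Field L] {u : L} (h : ¬ InfOrd u) :
    u = 0 ∨ ∃ r, 0 < r ∧ u ^ r = 1 := by
  unfold InfOrd Function.Injective at h
  push Not at h
  obtain ⟨d, d', hdd, hne⟩ := h
  change u ^ d = u ^ d' at hdd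
  wlog hlt : d < d' generalizing d d'
  · exact this d' d (Ne.symm hne) hdd.symm (by omega)
  by_cases hu : u = 0
  · left; exact hu
  · right
    refine ⟨d' - d, by omega, ?_⟩
    have : u ^ d * u ^ (d' - d) = u ^ d * 1 := by
      rw [← pow_add, mul_one, hdd]
      congr 1; omega
    exact mul_left_cancel₀ (pow_ne_zero d hu) this

theorem exists_frob_fix {L : Type v} [Field L] (p : ℕ) [hp : Fact p.Prime] [CharP L p] {u : L}
    (h : u = 0 ∨ ∃ r, 0 < r ∧ u ^ r = 1) : ∃ m, 0 < m ∧ u ^ (p ^ m) = u := by
  rcases h with rfl | ⟨r, hr, hur⟩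
  · exact ⟨1, by omega, zero_pow (pow_ne_zero _ hp.out.ne_zero)⟩
  · obtain ⟨s, r', hr', rfl⟩ := Nat.exists_eq_pow_mul_and_not_dvd hr.ne' p hp.out.ne_one
    haveI : ExpChar L p := ExpChar.prime hp.out
    rw [ExpChar.pow_prime_pow_mul_eq_one_iff] at hur
    have hcop : Nat.Coprime p r' := (Nat.Prime.coprime_iff_not_dvd hp.out).mpr hr'
    have hr'pos : 0 < r' := by
      rcases Nat.eq_zero_or_pos r' with h | h
      · subst h; simp at hr'
      · exact h
    have hmod := Nat.ModEq.pow_totient hcop
    refine ⟨Nat.totient r', Nat.totient_pos.mpr hr'pos, ?_⟩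
    have h1 : 1 ≤ p ^ Nat.totient r' := Nat.one_le_pow _ _ hp.out.pos
    obtain ⟨t, ht⟩ : ∃ t, p ^ Nat.totient r' = 1 + r' * t := by
      have := (Nat.modEq_iff_dvd' h1).mp hmod.symm
      obtain ⟨t, ht⟩ := this
      exact ⟨t, by omega⟩
    rw [ht, pow_add, pow_one, pow_mul, hur, one_pow, mul_one]

theorem isMaximal_of_coords {P : Ideal (MvPolynomial (Fin n) k)} [P.IsPrime]
    (h : ∀ i, ∃ q : ℕ, 1 < q ∧
      (algebraMap (MvPolynomial (Fin n) k) P.ResidueField (MvPolynomial.X i)) ^ q =
        algebraMap (MvPolynomial (Fin n) k) P.ResidueField (MvPolynomial.X i)) : P.IsMaximal := by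
  have hint : ∀ i, IsIntegral k (Ideal.Quotient.mk P (MvPolynomial.X i)) := by
    intro i
    obtain ⟨q, hq, he⟩ := h i
    have he' : (Ideal.Quotient.mk P (MvPolynomial.X i)) ^ q = Ideal.Quotient.mk P (MvPolynomial.X i) := by
      apply P.injective_algebraMap_quotient_residueField
      rw [map_pow, Ideal.algebraMap_quotient_residueField_mk]
      exact he
    refine ⟨Polynomial.X ^ q - Polynomial.X, Polynomial.monic_X_pow_sub (by
      rw [Polynomial.degree_X]; exact_mod_cast hq), ?_⟩
    simp [he']
  have htop : Algebra.adjoin k (Set.range fun i : Fin n => Ideal.Quotient.mk P (MvPolynomial.X i)) = ⊤ := by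
    have h1 : (Set.range fun i : Fin n => Ideal.Quotient.mk P (MvPolynomial.X i)) =
        (Ideal.Quotient.mkₐ k P) '' Set.range (MvPolynomial.X : Fin n → MvPolynomial (Fin n) k) := by
      rw [← Set.range_comp]; rfl
    rw [h1, Algebra.adjoin_image, MvPolynomial.adjoin_range_X, Algebra.map_top,
      AlgHom.range_eq_top]
    exact Ideal.Quotient.mkₐ_surjective k P
  have hall : Algebra.IsIntegral k (MvPolynomial (Fin n) k ⧸ P) := by
    refine ⟨fun x => ?_⟩
    have hx : x ∈ Algebra.adjoin k
        (Set.range fun i : Fin n => Ideal.Quotient.mk P (MvPolynomial.X i)) := by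
      rw [htop]; trivial
    have hle : Algebra.adjoin k
        (Set.range fun i : Fin n => Ideal.Quotient.mk P (MvPolynomial.X i)) ≤
        integralClosure k (MvPolynomial (Fin n) k ⧸ P) := by
      apply Algebra.adjoin_le
      rintro _ ⟨i, rfl⟩
      exact hint i
    exact hle hx
  have hf : IsField (MvPolynomial (Fin n) k ⧸ P) :=
    isField_of_isIntegral_of_isField' (Field.toIsField k)
  exact Ideal.Quotient.maximal_of_isField P hf

end Groth.Agent.H37
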