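import Groth.Agent.H37.ElemAut2

/-! Invariant closed subsets of affine space under elementary automorphisms: the prime
spectrum. -/

set_option autoImplicit false
universe u v

namespace Groth.Agent.H37

open MvPolynomial

variable {k : Type u} [Field k] {n : ℕ}

theorem infOrd_two {L : Type v} [Field L] [CharZero L] : InfOrd (2 : L) := by
  intro d d' h
  have h' : ((2 ^ d : ℕ) : L) = ((2 ^ d' : ℕ) : L) := by
    push_cast; exact h
  exact Nat.pow_right_injective (le_refl 2) (Nat.cast_injective h')

theorem elemAut_main (hn : 2 ≤ n) (Z : Set (PrimeSpectrum (MvPolynomial (Fin n) k)))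
    (hZc : IsClosed Z) (hZne : Z ≠ Set.univ)
    (hinv : ∀ i j : Fin n, i ≠ j → ∀ d : ℕ, ∀ x ∈ Z,
      PrimeSpectrum.comap (shiftHom (k := k) i j d).toRingHom x ∈ Z) :
    Z = ∅ ∨ ∃ p : ℕ, p.Prime ∧ CharP k p ∧ Z.Finite ∧ ∀ x ∈ Z, IsClosed ({x} : Set _) ∧
      ∀ i : Fin n, ∃ m : ℕ, 0 < m ∧
        (algebraMap (MvPolynomial (Fin n) k) x.asIdeal.ResidueField (MvPolynomial.X i)) ^ (p ^ m) =
          algebraMap (MvPolynomial (Fin n) k) x.asIdeal.ResidueField (MvPolynomial.X i) := by
  set I := PrimeSpectrum.vanishingIdeal Z with hIdef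
  have hZeq : PrimeSpectrum.zeroLocus (I : Set (MvPolynomial (Fin n) k)) = Z := by
    rw [hIdef, PrimeSpectrum.zeroLocus_vanishingIdeal_eq_closure, hZc.closure_eq]
  have hZI : ∀ x, x ∈ Z ↔ I ≤ x.asIdeal := by
    intro x
    rw [← hZeq, PrimeSpectrum.mem_zeroLocus]
    rfl
  have hI : IsShiftInv I := by
    intro i j hij d f hf
    rw [hIdef, PrimeSpectrum.mem_vanishingIdeal]
    intro Q hQ
    have hQ' := hinv i j hij d Q hQ
    have := (hZI _).mp hQ' hf
    exact this
  have hIne : I ≠ ⊥ := by
    intro h
    apply hZne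
    rw [← hZeq, h]
    simp
  have hno : ∀ x ∈ Z, ∀ j : Fin n,
      ¬ InfOrd (algebraMap (MvPolynomial (Fin n) k) x.asIdeal.ResidueField (MvPolynomial.X j)) :=
    fun x hx j hj => hIne (ideal_eq_bot_of_infOrd hI hn
      (residue_point_mem I x.asIdeal ((hZI x).mp hx)) j hj)
  obtain ⟨p, hp⟩ := CharP.exists k
  rcases CharP.char_is_prime_or_zero k p with hprime | hzero
  · right
    haveI : Fact p.Prime := ⟨hprime⟩
    have hcoord : ∀ x ∈ Z, ∀ i : Fin n, ∃ m : ℕ, 0 < m ∧
        (algebraMap (MvPolynomial (Fin n) k) x.asIdeal.ResidueField (MvPolynomial.X i)) ^ (p ^ m) =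
          algebraMap (MvPolynomial (Fin n) k) x.asIdeal.ResidueField (MvPolynomial.X i) := by
      intro x hx i
      haveI : CharP x.asIdeal.ResidueField p :=
        charP_of_injective_algebraMap (algebraMap k x.asIdeal.ResidueField).injective p
      exact exists_frob_fix p (eq_zero_or_pow_eq_one_of_not_infOrd (hno x hx i))
    have hmax : ∀ x ∈ Z, x.asIdeal.IsMaximal := by
      intro x hx
      apply isMaximal_of_coords
      intro i
      obtain ⟨m, hm, he⟩ := hcoord x hx i
      exact ⟨p ^ m, Nat.one_lt_pow hm.ne' hprime.one_lt, he⟩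
    refine ⟨p, hprime, hp, ?_, ?_⟩
    · have hfin := Ideal.finite_minimalPrimes_of_isNoetherianRing (MvPolynomial (Fin n) k) I
      have himg : (fun x : PrimeSpectrum (MvPolynomial (Fin n) k) => x.asIdeal) '' Z ⊆
          I.minimalPrimes := by
        rintro _ ⟨x, hx, rfl⟩
        obtain ⟨q, hq, hqle⟩ := Ideal.exists_minimalPrimes_le ((hZI x).mp hx)
        haveI : q.IsPrime := hq.1.1
        have hqZ : (⟨q, hq.1.1⟩ : PrimeSpectrum _) ∈ Z := (hZI _).mpr hq.1.2
        have hqmax := hmax _ hqZ
        have : q = x.asIdeal := hqmax.eq_of_le x.2.ne_top hqle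
        show x.asIdeal ∈ I.minimalPrimes
        rw [← this]; exact hq
      refine Set.Finite.of_finite_image (hfin.subset himg) ?_
      intro x _ y _ h
      exact PrimeSpectrum.ext h
    · intro x hx
      refine ⟨?_, hcoord x hx⟩
      haveI := hmax x hx
      exact (PrimeSpectrum.isClosed_singleton_iff_isMaximal x).mpr (hmax x hx)
  · left
    subst hzero
    haveI : CharZero k := CharP.charP_to_charZero k
    by_contra hne
    obtain ⟨x, hx⟩ := Set.nonempty_iff_ne_empty.mpr hne
    haveI : CharZero x.asIdeal.ResidueField :=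
      charZero_of_injective_algebraMap (algebraMap k x.asIdeal.ResidueField).injective
    set a : Fin n → x.asIdeal.ResidueField :=
      fun i => algebraMap (MvPolynomial (Fin n) k) x.asIdeal.ResidueField (MvPolynomial.X i)
    have ha : a ∈ ZL I x.asIdeal.ResidueField := residue_point_mem I x.asIdeal ((hZI x).mp hx)
    let i0 : Fin n := ⟨0, by omega⟩
    let j0 : Fin n := ⟨1, by omega⟩
    have hij : i0 ≠ j0 := by simp [i0, j0, Fin.ext_iff]
    have hstep : ∀ m : ℕ, Function.update a i0 (a i0 + m) ∈ ZL I x.asIdeal.ResidueField := by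
      intro m
      induction m with
      | zero => simpa using ha
      | succ m ih =>
        have := ZL_shift hI ih i0 j0 hij 0
        rw [Function.update_idem, Function.update_self, pow_zero] at this
        convert this using 2
        push_cast; ring
    have hb : Function.update a i0 2 ∈ ZL I x.asIdeal.ResidueField := by
      refine ZL_line a i0 (Set.range fun m : ℕ => a i0 + (m : x.asIdeal.ResidueField)) ?_ ?_ 2
      · apply Set.infinite_range_of_injective
        intro m m' h
        exact Nat.cast_injective (add_left_cancel h)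
      · rintro _ ⟨m, rfl⟩
        exact hstep m
    exact hIne (ideal_eq_bot_of_infOrd hI hn hb i0 (by
      rw [Function.update_self]; exact infOrd_two))

end Groth.Agent.H37
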