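import Groth.Agent.H37.Dn

set_option autoImplicit false
set_option linter.unusedVariables false
set_option linter.unnecessarySeqFocus false
set_option linter.unreachableTactic false
set_option linter.unusedTactic false
open Finset

namespace Groth.Agent.H37

namespace M2Config

variable {r : ℕ}

/-- Classification of `E6`. -/
theorem e6 (C : M2Config 6) (h01 : C.A 0 1 ≠ 0) (h12 : C.A 1 2 ≠ 0) (h23 : C.A 2 3 ≠ 0) (h34 : C.A 3 4 ≠ 0) (h25 : C.A 2 5 ≠ 0) :
    C.W 0 = C.W 2 ∧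
    C.W 1 = C.W 2 ∧
    C.W 3 = C.W 2 ∧
    C.W 4 = C.W 2 ∧
    C.W 5 = C.W 2 ∧
    C.A 0 1 = C.W 2 ∧
    C.A 1 2 = C.W 2 ∧
    C.A 2 3 = C.W 2 ∧
    C.A 3 4 = C.W 2 ∧
    C.A 2 5 = C.W 2 ∧
    C.A 0 2 = 0 ∧
    C.A 0 3 = 0 ∧
    C.A 0 4 = 0 ∧
    C.A 0 5 = 0 ∧
    C.A 1 3 = 0 ∧
    C.A 1 4 = 0 ∧
    C.A 1 5 = 0 ∧
    C.A 2 4 = 0 ∧
    C.A 3 5 = 0 ∧
    C.A 4 5 = 0 := by
  have hw0 := C.W_pos 0
  have hw1 := C.W_pos 1
  have hw2 := C.W_pos 2
  have hw3 := C.W_pos 3
  have hw4 := C.W_pos 4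
  have hw5 := C.W_pos 5
  have n0_1 := C.A_nonneg 0 1 (by decide)
  have y1_0 := C.A_symm 1 0
  have n0_2 := C.A_nonneg 0 2 (by decide)
  have y2_0 := C.A_symm 2 0
  have n0_3 := C.A_nonneg 0 3 (by decide)
  have y3_0 := C.A_symm 3 0
  have n0_4 := C.A_nonneg 0 4 (by decide)
  have y4_0 := C.A_symm 4 0
  have n0_5 := C.A_nonneg 0 5 (by decide)
  have y5_0 := C.A_symm 5 0
  have n1_2 := C.A_nonneg 1 2 (by decide)
  have y2_1 := C.A_symm 2 1
  have n1_3 := C.A_nonneg 1 3 (by decide)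
  have y3_1 := C.A_symm 3 1
  have n1_4 := C.A_nonneg 1 4 (by decide)
  have y4_1 := C.A_symm 4 1
  have n1_5 := C.A_nonneg 1 5 (by decide)
  have y5_1 := C.A_symm 5 1
  have n2_3 := C.A_nonneg 2 3 (by decide)
  have y3_2 := C.A_symm 3 2
  have n2_4 := C.A_nonneg 2 4 (by decide)
  have y4_2 := C.A_symm 4 2
  have n2_5 := C.A_nonneg 2 5 (by decide)
  have y5_2 := C.A_symm 5 2
  have n3_4 := C.A_nonneg 3 4 (by decide)
  have y4_3 := C.A_symm 4 3
  have n3_5 := C.A_nonneg 3 5 (by decide)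
  have y5_3 := C.A_symm 5 3
  have n4_5 := C.A_nonneg 4 5 (by decide)
  have y5_4 := C.A_symm 5 4
  have l0_1 := C.W_le_left (s := 0) (t := 1) (by decide) h01
  have r0_1 := C.W_le_right (s := 0) (t := 1) (by decide) h01
  have l1_2 := C.W_le_left (s := 1) (t := 2) (by decide) h12
  have r1_2 := C.W_le_right (s := 1) (t := 2) (by decide) h12
  have l2_3 := C.W_le_left (s := 2) (t := 3) (by decide) h23
  have r2_3 := C.W_le_right (s := 2) (t := 3) (by decide) h23
  have l3_4 := C.W_le_left (s := 3) (t := 4) (by decide) h34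
  have r3_4 := C.W_le_right (s := 3) (t := 4) (by decide) h34
  have l2_5 := C.W_le_left (s := 2) (t := 5) (by decide) h25
  have r2_5 := C.W_le_right (s := 2) (t := 5) (by decide) h25
  obtain ⟨p0_0, p0_1, p0_2, p0_3, p0_4, p0_5, p0_6, p0_7, p0_8, p0_9, p0_10, p0_11, p0_12, p0_13⟩ :=
    C.d5' (a := 0) (b := 1) (c := 2) (d := 3) (e := 5) (by decide) (by decide) (by decide) (by decide) (by decide) (by decide) (by decide) (by decide) (by decide) (by decide) h01 h12 h23 h25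
  obtain ⟨p1_0, p1_1, p1_2, p1_3, p1_4, p1_5, p1_6, p1_7, p1_8, p1_9, p1_10, p1_11, p1_12, p1_13⟩ :=
    C.d5' (a := 4) (b := 3) (c := 2) (d := 1) (e := 5) (by decide) (by decide) (by decide) (by decide) (by decide) (by decide) (by decide) (by decide) (by decide) (by decide) (by rw [y4_3]; exact h34) (by rw [y3_2]; exact h23) (by rw [y2_1]; exact h12) h25
  have w0 : C.W 0 = C.W 2 := by assumption
  have w1 : C.W 1 = C.W 2 := by assumption
  have w3 : C.W 3 = C.W 2 := by assumption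
  have w4 : C.W 4 = C.W 2 := by assumption
  have w5 : C.W 5 = C.W 2 := by assumption
  have a0_1 : C.A 0 1 = C.W 2 := by first | assumption | (rw [← y1_0]; assumption)
  have a1_2 : C.A 1 2 = C.W 2 := by first | assumption | (rw [← y2_1]; assumption)
  have a2_3 : C.A 2 3 = C.W 2 := by first | assumption | (rw [← y3_2]; assumption)
  have a3_4 : C.A 3 4 = C.W 2 := by first | assumption | (rw [← y4_3]; assumption)
  have a2_5 : C.A 2 5 = C.W 2 := by first | assumption | (rw [← y5_2]; assumption)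
  have z0_2 : C.A 0 2 = 0 := by first | assumption | (rw [← y2_0]; assumption)
  have z0_3 : C.A 0 3 = 0 := by first | assumption | (rw [← y3_0]; assumption)
  have z0_4 : C.A 0 4 = 0 := by
    by_contra hne
    have l0_4 := C.W_le_left (s := 0) (t := 4) (by decide) hne
    have r0_4 := C.W_le_right (s := 0) (t := 4) (by decide) hne
    apply C.no_sub ![1, 1, 1, 1, 1, 0]
    · intro s; fin_cases s <;> simp
    · intro h; have := congrFun h 0; simp at this
    · intro s; fin_cases s <;> simp [Fin.sum_univ_succ, C.A_diag] <;> linarith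
  have z0_5 : C.A 0 5 = 0 := by first | assumption | (rw [← y5_0]; assumption)
  have z1_3 : C.A 1 3 = 0 := by first | assumption | (rw [← y3_1]; assumption)
  have z1_4 : C.A 1 4 = 0 := by first | assumption | (rw [← y4_1]; assumption)
  have z1_5 : C.A 1 5 = 0 := by first | assumption | (rw [← y5_1]; assumption)
  have z2_4 : C.A 2 4 = 0 := by first | assumption | (rw [← y4_2]; assumption)
  have z3_5 : C.A 3 5 = 0 := by first | assumption | (rw [← y5_3]; assumption)
  have z4_5 : C.A 4 5 = 0 := by first | assumption | (rw [← y5_4]; assumption)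
  exact ⟨w0, w1, w3, w4, w5, a0_1, a1_2, a2_3, a3_4, a2_5, z0_2, z0_3, z0_4, z0_5, z1_3, z1_4, z1_5, z2_4, z3_5, z4_5⟩

/-- Classification of `E7`. -/
theorem e7 (C : M2Config 7) (h01 : C.A 0 1 ≠ 0) (h12 : C.A 1 2 ≠ 0) (h23 : C.A 2 3 ≠ 0) (h34 : C.A 3 4 ≠ 0) (h45 : C.A 4 5 ≠ 0) (h36 : C.A 3 6 ≠ 0) :
    C.W 0 = C.W 3 ∧
    C.W 1 = C.W 3 ∧
    C.W 2 = C.W 3 ∧
    C.W 4 = C.W 3 ∧
    C.W 5 = C.W 3 ∧
    C.W 6 = C.W 3 ∧
    C.A 0 1 = C.W 3 ∧
    C.A 1 2 = C.W 3 ∧
    C.A 2 3 = C.W 3 ∧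
    C.A 3 4 = C.W 3 ∧
    C.A 4 5 = C.W 3 ∧
    C.A 3 6 = C.W 3 ∧
    C.A 0 2 = 0 ∧
    C.A 0 3 = 0 ∧
    C.A 0 4 = 0 ∧
    C.A 0 5 = 0 ∧
    C.A 0 6 = 0 ∧
    C.A 1 3 = 0 ∧
    C.A 1 4 = 0 ∧
    C.A 1 5 = 0 ∧
    C.A 1 6 = 0 ∧
    C.A 2 4 = 0 ∧
    C.A 2 5 = 0 ∧
    C.A 2 6 = 0 ∧
    C.A 3 5 = 0 ∧
    C.A 4 6 = 0 ∧
    C.A 5 6 = 0 := by
  have hw0 := C.W_pos 0
  have hw1 := C.W_pos 1
  have hw2 := C.W_pos 2
  have hw3 := C.W_pos 3
  have hw4 := C.W_pos 4
  have hw5 := C.W_pos 5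
  have hw6 := C.W_pos 6
  have n0_1 := C.A_nonneg 0 1 (by decide)
  have y1_0 := C.A_symm 1 0
  have n0_2 := C.A_nonneg 0 2 (by decide)
  have y2_0 := C.A_symm 2 0
  have n0_3 := C.A_nonneg 0 3 (by decide)
  have y3_0 := C.A_symm 3 0
  have n0_4 := C.A_nonneg 0 4 (by decide)
  have y4_0 := C.A_symm 4 0
  have n0_5 := C.A_nonneg 0 5 (by decide)
  have y5_0 := C.A_symm 5 0
  have n0_6 := C.A_nonneg 0 6 (by decide)
  have y6_0 := C.A_symm 6 0
  have n1_2 := C.A_nonneg 1 2 (by decide)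
  have y2_1 := C.A_symm 2 1
  have n1_3 := C.A_nonneg 1 3 (by decide)
  have y3_1 := C.A_symm 3 1
  have n1_4 := C.A_nonneg 1 4 (by decide)
  have y4_1 := C.A_symm 4 1
  have n1_5 := C.A_nonneg 1 5 (by decide)
  have y5_1 := C.A_symm 5 1
  have n1_6 := C.A_nonneg 1 6 (by decide)
  have y6_1 := C.A_symm 6 1
  have n2_3 := C.A_nonneg 2 3 (by decide)
  have y3_2 := C.A_symm 3 2
  have n2_4 := C.A_nonneg 2 4 (by decide)
  have y4_2 := C.A_symm 4 2
  have n2_5 := C.A_nonneg 2 5 (by decide)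
  have y5_2 := C.A_symm 5 2
  have n2_6 := C.A_nonneg 2 6 (by decide)
  have y6_2 := C.A_symm 6 2
  have n3_4 := C.A_nonneg 3 4 (by decide)
  have y4_3 := C.A_symm 4 3
  have n3_5 := C.A_nonneg 3 5 (by decide)
  have y5_3 := C.A_symm 5 3
  have n3_6 := C.A_nonneg 3 6 (by decide)
  have y6_3 := C.A_symm 6 3
  have n4_5 := C.A_nonneg 4 5 (by decide)
  have y5_4 := C.A_symm 5 4
  have n4_6 := C.A_nonneg 4 6 (by decide)
  have y6_4 := C.A_symm 6 4
  have n5_6 := C.A_nonneg 5 6 (by decide)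
  have y6_5 := C.A_symm 6 5
  have l0_1 := C.W_le_left (s := 0) (t := 1) (by decide) h01
  have r0_1 := C.W_le_right (s := 0) (t := 1) (by decide) h01
  have l1_2 := C.W_le_left (s := 1) (t := 2) (by decide) h12
  have r1_2 := C.W_le_right (s := 1) (t := 2) (by decide) h12
  have l2_3 := C.W_le_left (s := 2) (t := 3) (by decide) h23
  have r2_3 := C.W_le_right (s := 2) (t := 3) (by decide) h23
  have l3_4 := C.W_le_left (s := 3) (t := 4) (by decide) h34
  have r3_4 := C.W_le_right (s := 3) (t := 4) (by decide) h34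
  have l4_5 := C.W_le_left (s := 4) (t := 5) (by decide) h45
  have r4_5 := C.W_le_right (s := 4) (t := 5) (by decide) h45
  have l3_6 := C.W_le_left (s := 3) (t := 6) (by decide) h36
  have r3_6 := C.W_le_right (s := 3) (t := 6) (by decide) h36
  obtain ⟨p0_0, p0_1, p0_2, p0_3, p0_4, p0_5, p0_6, p0_7, p0_8, p0_9, p0_10, p0_11, p0_12, p0_13, p0_14, p0_15, p0_16, p0_17, p0_18, p0_19⟩ :=
    C.d6' (a := 0) (b := 1) (c := 2) (d := 3) (e := 4) (f := 6) (by decide) (by decide) (by decide) (by decide) (by decide) (by decide) (by decide) (by decide) (by decide) (by decide) (by decide) (by decide) (by decide) (by decide) (by decide) h01 h12 h23 h34 h36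
  obtain ⟨p1_0, p1_1, p1_2, p1_3, p1_4, p1_5, p1_6, p1_7, p1_8, p1_9, p1_10, p1_11, p1_12, p1_13⟩ :=
    C.d5' (a := 5) (b := 4) (c := 3) (d := 2) (e := 6) (by decide) (by decide) (by decide) (by decide) (by decide) (by decide) (by decide) (by decide) (by decide) (by decide) (by rw [y5_4]; exact h45) (by rw [y4_3]; exact h34) (by rw [y3_2]; exact h23) h36
  have w0 : C.W 0 = C.W 3 := by assumption
  have w1 : C.W 1 = C.W 3 := by assumption
  have w2 : C.W 2 = C.W 3 := by assumption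
  have w4 : C.W 4 = C.W 3 := by assumption
  have w5 : C.W 5 = C.W 3 := by assumption
  have w6 : C.W 6 = C.W 3 := by assumption
  have a0_1 : C.A 0 1 = C.W 3 := by first | assumption | (rw [← y1_0]; assumption)
  have a1_2 : C.A 1 2 = C.W 3 := by first | assumption | (rw [← y2_1]; assumption)
  have a2_3 : C.A 2 3 = C.W 3 := by first | assumption | (rw [← y3_2]; assumption)
  have a3_4 : C.A 3 4 = C.W 3 := by first | assumption | (rw [← y4_3]; assumption)
  have a4_5 : C.A 4 5 = C.W 3 := by first | assumption | (rw [← y5_4]; assumption)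
  have a3_6 : C.A 3 6 = C.W 3 := by first | assumption | (rw [← y6_3]; assumption)
  have z0_2 : C.A 0 2 = 0 := by first | assumption | (rw [← y2_0]; assumption)
  have z0_3 : C.A 0 3 = 0 := by first | assumption | (rw [← y3_0]; assumption)
  have z0_4 : C.A 0 4 = 0 := by first | assumption | (rw [← y4_0]; assumption)
  have z0_5 : C.A 0 5 = 0 := by
    by_contra hne
    have l0_5 := C.W_le_left (s := 0) (t := 5) (by decide) hne
    have r0_5 := C.W_le_right (s := 0) (t := 5) (by decide) hne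
    apply C.no_sub ![1, 1, 1, 1, 1, 1, 0]
    · intro s; fin_cases s <;> simp
    · intro h; have := congrFun h 0; simp at this
    · intro s; fin_cases s <;> simp [Fin.sum_univ_succ, C.A_diag] <;> linarith
  have z0_6 : C.A 0 6 = 0 := by first | assumption | (rw [← y6_0]; assumption)
  have z1_3 : C.A 1 3 = 0 := by first | assumption | (rw [← y3_1]; assumption)
  have z1_4 : C.A 1 4 = 0 := by first | assumption | (rw [← y4_1]; assumption)
  have z1_5 : C.A 1 5 = 0 := by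
    by_contra hne
    have l1_5 := C.W_le_left (s := 1) (t := 5) (by decide) hne
    have r1_5 := C.W_le_right (s := 1) (t := 5) (by decide) hne
    apply C.no_sub ![0, 1, 1, 1, 1, 1, 0]
    · intro s; fin_cases s <;> simp
    · intro h; have := congrFun h 1; simp at this
    · intro s; fin_cases s <;> simp [Fin.sum_univ_succ, C.A_diag] <;> linarith
  have z1_6 : C.A 1 6 = 0 := by first | assumption | (rw [← y6_1]; assumption)
  have z2_4 : C.A 2 4 = 0 := by first | assumption | (rw [← y4_2]; assumption)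
  have z2_5 : C.A 2 5 = 0 := by first | assumption | (rw [← y5_2]; assumption)
  have z2_6 : C.A 2 6 = 0 := by first | assumption | (rw [← y6_2]; assumption)
  have z3_5 : C.A 3 5 = 0 := by first | assumption | (rw [← y5_3]; assumption)
  have z4_6 : C.A 4 6 = 0 := by first | assumption | (rw [← y6_4]; assumption)
  have z5_6 : C.A 5 6 = 0 := by first | assumption | (rw [← y6_5]; assumption)
  exact ⟨w0, w1, w2, w4, w5, w6, a0_1, a1_2, a2_3, a3_4, a4_5, a3_6, z0_2, z0_3, z0_4, z0_5, z0_6, z1_3, z1_4, z1_5, z1_6, z2_4, z2_5, z2_6, z3_5, z4_6, z5_6⟩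

/-- Classification of `E8`. -/
theorem e8 (C : M2Config 8) (h01 : C.A 0 1 ≠ 0) (h12 : C.A 1 2 ≠ 0) (h23 : C.A 2 3 ≠ 0) (h34 : C.A 3 4 ≠ 0) (h45 : C.A 4 5 ≠ 0) (h56 : C.A 5 6 ≠ 0) (h47 : C.A 4 7 ≠ 0) :
    C.W 0 = C.W 4 ∧
    C.W 1 = C.W 4 ∧
    C.W 2 = C.W 4 ∧
    C.W 3 = C.W 4 ∧
    C.W 5 = C.W 4 ∧
    C.W 6 = C.W 4 ∧
    C.W 7 = C.W 4 ∧
    C.A 0 1 = C.W 4 ∧
    C.A 1 2 = C.W 4 ∧
    C.A 2 3 = C.W 4 ∧
    C.A 3 4 = C.W 4 ∧
    C.A 4 5 = C.W 4 ∧
    C.A 5 6 = C.W 4 ∧
    C.A 4 7 = C.W 4 ∧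
    C.A 0 2 = 0 ∧
    C.A 0 3 = 0 ∧
    C.A 0 4 = 0 ∧
    C.A 0 5 = 0 ∧
    C.A 0 6 = 0 ∧
    C.A 0 7 = 0 ∧
    C.A 1 3 = 0 ∧
    C.A 1 4 = 0 ∧
    C.A 1 5 = 0 ∧
    C.A 1 6 = 0 ∧
    C.A 1 7 = 0 ∧
    C.A 2 4 = 0 ∧
    C.A 2 5 = 0 ∧
    C.A 2 6 = 0 ∧
    C.A 2 7 = 0 ∧
    C.A 3 5 = 0 ∧
    C.A 3 6 = 0 ∧
    C.A 3 7 = 0 ∧
    C.A 4 6 = 0 ∧
    C.A 5 7 = 0 ∧
    C.A 6 7 = 0 := by
  have hw0 := C.W_pos 0
  have hw1 := C.W_pos 1
  have hw2 := C.W_pos 2
  have hw3 := C.W_pos 3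
  have hw4 := C.W_pos 4
  have hw5 := C.W_pos 5
  have hw6 := C.W_pos 6
  have hw7 := C.W_pos 7
  have n0_1 := C.A_nonneg 0 1 (by decide)
  have y1_0 := C.A_symm 1 0
  have n0_2 := C.A_nonneg 0 2 (by decide)
  have y2_0 := C.A_symm 2 0
  have n0_3 := C.A_nonneg 0 3 (by decide)
  have y3_0 := C.A_symm 3 0
  have n0_4 := C.A_nonneg 0 4 (by decide)
  have y4_0 := C.A_symm 4 0
  have n0_5 := C.A_nonneg 0 5 (by decide)
  have y5_0 := C.A_symm 5 0
  have n0_6 := C.A_nonneg 0 6 (by decide)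
  have y6_0 := C.A_symm 6 0
  have n0_7 := C.A_nonneg 0 7 (by decide)
  have y7_0 := C.A_symm 7 0
  have n1_2 := C.A_nonneg 1 2 (by decide)
  have y2_1 := C.A_symm 2 1
  have n1_3 := C.A_nonneg 1 3 (by decide)
  have y3_1 := C.A_symm 3 1
  have n1_4 := C.A_nonneg 1 4 (by decide)
  have y4_1 := C.A_symm 4 1
  have n1_5 := C.A_nonneg 1 5 (by decide)
  have y5_1 := C.A_symm 5 1
  have n1_6 := C.A_nonneg 1 6 (by decide)
  have y6_1 := C.A_symm 6 1
  have n1_7 := C.A_nonneg 1 7 (by decide)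
  have y7_1 := C.A_symm 7 1
  have n2_3 := C.A_nonneg 2 3 (by decide)
  have y3_2 := C.A_symm 3 2
  have n2_4 := C.A_nonneg 2 4 (by decide)
  have y4_2 := C.A_symm 4 2
  have n2_5 := C.A_nonneg 2 5 (by decide)
  have y5_2 := C.A_symm 5 2
  have n2_6 := C.A_nonneg 2 6 (by decide)
  have y6_2 := C.A_symm 6 2
  have n2_7 := C.A_nonneg 2 7 (by decide)
  have y7_2 := C.A_symm 7 2
  have n3_4 := C.A_nonneg 3 4 (by decide)
  have y4_3 := C.A_symm 4 3
  have n3_5 := C.A_nonneg 3 5 (by decide)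
  have y5_3 := C.A_symm 5 3
  have n3_6 := C.A_nonneg 3 6 (by decide)
  have y6_3 := C.A_symm 6 3
  have n3_7 := C.A_nonneg 3 7 (by decide)
  have y7_3 := C.A_symm 7 3
  have n4_5 := C.A_nonneg 4 5 (by decide)
  have y5_4 := C.A_symm 5 4
  have n4_6 := C.A_nonneg 4 6 (by decide)
  have y6_4 := C.A_symm 6 4
  have n4_7 := C.A_nonneg 4 7 (by decide)
  have y7_4 := C.A_symm 7 4
  have n5_6 := C.A_nonneg 5 6 (by decide)
  have y6_5 := C.A_symm 6 5
  have n5_7 := C.A_nonneg 5 7 (by decide)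
  have y7_5 := C.A_symm 7 5
  have n6_7 := C.A_nonneg 6 7 (by decide)
  have y7_6 := C.A_symm 7 6
  have l0_1 := C.W_le_left (s := 0) (t := 1) (by decide) h01
  have r0_1 := C.W_le_right (s := 0) (t := 1) (by decide) h01
  have l1_2 := C.W_le_left (s := 1) (t := 2) (by decide) h12
  have r1_2 := C.W_le_right (s := 1) (t := 2) (by decide) h12
  have l2_3 := C.W_le_left (s := 2) (t := 3) (by decide) h23
  have r2_3 := C.W_le_right (s := 2) (t := 3) (by decide) h23
  have l3_4 := C.W_le_left (s := 3) (t := 4) (by decide) h34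
  have r3_4 := C.W_le_right (s := 3) (t := 4) (by decide) h34
  have l4_5 := C.W_le_left (s := 4) (t := 5) (by decide) h45
  have r4_5 := C.W_le_right (s := 4) (t := 5) (by decide) h45
  have l5_6 := C.W_le_left (s := 5) (t := 6) (by decide) h56
  have r5_6 := C.W_le_right (s := 5) (t := 6) (by decide) h56
  have l4_7 := C.W_le_left (s := 4) (t := 7) (by decide) h47
  have r4_7 := C.W_le_right (s := 4) (t := 7) (by decide) h47
  obtain ⟨p0_0, p0_1, p0_2, p0_3, p0_4, p0_5, p0_6, p0_7, p0_8, p0_9, p0_10, p0_11, p0_12, p0_13, p0_14, p0_15, p0_16, p0_17, p0_18, p0_19, p0_20, p0_21, p0_22, p0_23, p0_24, p0_25, p0_26⟩ :=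
    C.d7' (a := 0) (b := 1) (c := 2) (d := 3) (e := 4) (f := 5) (g := 7) (by decide) (by decide) (by decide) (by decide) (by decide) (by decide) (by decide) (by decide) (by decide) (by decide) (by decide) (by decide) (by decide) (by decide) (by decide) (by decide) (by decide) (by decide) (by decide) (by decide) (by decide) h01 h12 h23 h34 h45 h47
  obtain ⟨p1_0, p1_1, p1_2, p1_3, p1_4, p1_5, p1_6, p1_7, p1_8, p1_9, p1_10, p1_11, p1_12, p1_13⟩ :=
    C.d5' (a := 6) (b := 5) (c := 4) (d := 3) (e := 7) (by decide) (by decide) (by decide) (by decide) (by decide) (by decide) (by decide) (by decide) (by decide) (by decide) (by rw [y6_5]; exact h56) (by rw [y5_4]; exact h45) (by rw [y4_3]; exact h34) h47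
  have w0 : C.W 0 = C.W 4 := by assumption
  have w1 : C.W 1 = C.W 4 := by assumption
  have w2 : C.W 2 = C.W 4 := by assumption
  have w3 : C.W 3 = C.W 4 := by assumption
  have w5 : C.W 5 = C.W 4 := by assumption
  have w6 : C.W 6 = C.W 4 := by assumption
  have w7 : C.W 7 = C.W 4 := by assumption
  have a0_1 : C.A 0 1 = C.W 4 := by first | assumption | (rw [← y1_0]; assumption)
  have a1_2 : C.A 1 2 = C.W 4 := by first | assumption | (rw [← y2_1]; assumption)
  have a2_3 : C.A 2 3 = C.W 4 := by first | assumption | (rw [← y3_2]; assumption)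
  have a3_4 : C.A 3 4 = C.W 4 := by first | assumption | (rw [← y4_3]; assumption)
  have a4_5 : C.A 4 5 = C.W 4 := by first | assumption | (rw [← y5_4]; assumption)
  have a5_6 : C.A 5 6 = C.W 4 := by first | assumption | (rw [← y6_5]; assumption)
  have a4_7 : C.A 4 7 = C.W 4 := by first | assumption | (rw [← y7_4]; assumption)
  have z0_2 : C.A 0 2 = 0 := by first | assumption | (rw [← y2_0]; assumption)
  have z0_3 : C.A 0 3 = 0 := by first | assumption | (rw [← y3_0]; assumption)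
  have z0_4 : C.A 0 4 = 0 := by first | assumption | (rw [← y4_0]; assumption)
  have z0_5 : C.A 0 5 = 0 := by first | assumption | (rw [← y5_0]; assumption)
  have z0_6 : C.A 0 6 = 0 := by
    by_contra hne
    have l0_6 := C.W_le_left (s := 0) (t := 6) (by decide) hne
    have r0_6 := C.W_le_right (s := 0) (t := 6) (by decide) hne
    apply C.no_sub ![1, 1, 1, 1, 1, 1, 1, 0]
    · intro s; fin_cases s <;> simp
    · intro h; have := congrFun h 0; simp at this
    · intro s; fin_cases s <;> simp [Fin.sum_univ_succ, C.A_diag] <;> linarith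
  have z0_7 : C.A 0 7 = 0 := by first | assumption | (rw [← y7_0]; assumption)
  have z1_3 : C.A 1 3 = 0 := by first | assumption | (rw [← y3_1]; assumption)
  have z1_4 : C.A 1 4 = 0 := by first | assumption | (rw [← y4_1]; assumption)
  have z1_5 : C.A 1 5 = 0 := by first | assumption | (rw [← y5_1]; assumption)
  have z1_6 : C.A 1 6 = 0 := by
    by_contra hne
    have l1_6 := C.W_le_left (s := 1) (t := 6) (by decide) hne
    have r1_6 := C.W_le_right (s := 1) (t := 6) (by decide) hne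
    apply C.no_sub ![0, 1, 1, 1, 1, 1, 1, 0]
    · intro s; fin_cases s <;> simp
    · intro h; have := congrFun h 1; simp at this
    · intro s; fin_cases s <;> simp [Fin.sum_univ_succ, C.A_diag] <;> linarith
  have z1_7 : C.A 1 7 = 0 := by first | assumption | (rw [← y7_1]; assumption)
  have z2_4 : C.A 2 4 = 0 := by first | assumption | (rw [← y4_2]; assumption)
  have z2_5 : C.A 2 5 = 0 := by first | assumption | (rw [← y5_2]; assumption)
  have z2_6 : C.A 2 6 = 0 := by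
    by_contra hne
    have l2_6 := C.W_le_left (s := 2) (t := 6) (by decide) hne
    have r2_6 := C.W_le_right (s := 2) (t := 6) (by decide) hne
    apply C.no_sub ![0, 0, 1, 1, 1, 1, 1, 0]
    · intro s; fin_cases s <;> simp
    · intro h; have := congrFun h 2; simp at this
    · intro s; fin_cases s <;> simp [Fin.sum_univ_succ, C.A_diag] <;> linarith
  have z2_7 : C.A 2 7 = 0 := by first | assumption | (rw [← y7_2]; assumption)
  have z3_5 : C.A 3 5 = 0 := by first | assumption | (rw [← y5_3]; assumption)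
  have z3_6 : C.A 3 6 = 0 := by first | assumption | (rw [← y6_3]; assumption)
  have z3_7 : C.A 3 7 = 0 := by first | assumption | (rw [← y7_3]; assumption)
  have z4_6 : C.A 4 6 = 0 := by first | assumption | (rw [← y6_4]; assumption)
  have z5_7 : C.A 5 7 = 0 := by first | assumption | (rw [← y7_5]; assumption)
  have z6_7 : C.A 6 7 = 0 := by first | assumption | (rw [← y7_6]; assumption)
  exact ⟨w0, w1, w2, w3, w5, w6, w7, a0_1, a1_2, a2_3, a3_4, a4_5, a5_6, a4_7, z0_2, z0_3, z0_4, z0_5, z0_6, z0_7, z1_3, z1_4, z1_5, z1_6, z1_7, z2_4, z2_5, z2_6, z2_7, z3_5, z3_6, z3_7, z4_6, z5_7, z6_7⟩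

end M2Config

end Groth.Agent.H37
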