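import Groth.Agent.H37.FpqcMod
import Mathlib.AlgebraicGeometry.Sites.Fpqc
import Mathlib.AlgebraicGeometry.PullbackCarrier

/-!
# The flattening-type functors `genPSp` are fpqc sheaves: general plumbing and base change squares
-/

set_option autoImplicit false
universe u

open CategoryTheory AlgebraicGeometry Limits Opposite

namespace Groth.Agent.H37

/-- range of the first projection of a cartesian square of schemes. -/
lemma range_fst_of_isPullback {P A B Z : Scheme.{u}} {a : P ⟶ A} {b : P ⟶ B} {c : A ⟶ Z}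
    {d : B ⟶ Z} (sq : IsPullback a b c d) : Set.range a = c ⁻¹' Set.range d := by
  ext x
  constructor
  · rintro ⟨p, rfl⟩
    exact ⟨b p, by rw [← Scheme.Hom.comp_apply, ← Scheme.Hom.comp_apply, sq.w]⟩
  · rintro ⟨y, hy⟩
    obtain ⟨z, hz1, hz2⟩ := Scheme.Pullback.exists_preimage_pullback x y hy.symm
    refine ⟨sq.isoPullback.inv z, ?_⟩
    rw [← Scheme.Hom.comp_apply, sq.isoPullback_inv_fst]
    exact hz1

section Sheaf

variable {S : Scheme.{u}}

/-- a stable, fpqc-local condition defines an fpqc sheaf `genPSp`. -/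
theorem isSheaf_genPSp (P : Over S → Prop)
    (hstab : ∀ ⦃T T₀ : Over S⦄ (_ : T ⟶ T₀), P T₀ → P T)
    (hloc : ∀ (T : Over S) (E : PreZeroHypercover.{u + 1} T.left),
      E.presieve₀ ∈ Scheme.fpqcPrecoverage T.left →
        (∀ i, P (Over.mk (E.f i ≫ T.hom))) → P T) :
    Presheaf.IsSheaf (QuotSh.J Scheme.fpqcPrecoverage S) (FlatFun.genPSp S P) := by
  rw [isSheaf_iff_isSheaf_of_type]
  intro T R hR
  rw [GrothendieckTopology.mem_over_iff,
    Precoverage.mem_toGrothendieck_iff_of_isStableUnderComposition] at hR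
  obtain ⟨R₀, hR₀, hle⟩ := hR
  obtain ⟨E, rfl⟩ := R₀.exists_eq_preZeroHypercover
  intro x hx
  have hPT : P T := by
    refine hloc T E hR₀ (fun i => ?_)
    have h1 : (Sieve.overEquiv T R).arrows (E.f i) := hle _ (E.f i) ⟨i⟩
    have h2 : R.arrows (Over.homMk (E.f i) : Over.mk (E.f i ≫ T.hom) ⟶ T) :=
      (Sieve.overEquiv_iff R _).1 h1
    exact (FlatFun.genPSp_nonempty_iff_of_stable P hstab _).1 ⟨x _ h2⟩
  refine ⟨⟨⟨⟨T, 𝟙 T, hPT⟩⟩⟩, ?_, ?_⟩
  · intro Y g hg
    exact Subsingleton.elim _ _
  · intro y _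
    exact Subsingleton.elim _ _

end Sheaf

section BaseChange

variable {X S : Scheme.{u}} (f : X ⟶ S)

theorem isPullback_XTmap {T T' : Over S} (g : T' ⟶ T) :
    IsPullback (PicF.XTmap f g) (pullback.snd f T'.hom) (pullback.snd f T.hom) g.left := by
  have hbig : IsPullback (PicF.XTmap f g ≫ pullback.fst f T.hom) (pullback.snd f T'.hom) f
      (g.left ≫ T.hom) := by
    rw [FGA.XTmap_fst, Over.w g]
    exact IsPullback.of_hasPullback f T'.hom
  refine IsPullback.of_right hbig ?_ (IsPullback.of_hasPullback f T.hom)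
  simp [PicF.XTmap, pullback.map, pullback.lift_snd]

theorem flat_XTmap {T T' : Over S} (g : T' ⟶ T) (hg : Flat g.left) : Flat (PicF.XTmap f g) :=
  MorphismProperty.of_isPullback (P := @Flat) (isPullback_XTmap f g).flip hg

theorem XTmap_jointly_surjective {T : Over S} {ι : Type*} (Ti : ι → Over S) (g : ∀ i, Ti i ⟶ T)
    (hs : ∀ t : T.left, ∃ i, t ∈ Set.range (g i).left) (y : PicF.XT f T) :
    ∃ i, y ∈ Set.range (PicF.XTmap f (g i)) := by
  obtain ⟨i, hi⟩ := hs (pullback.snd f T.hom y)
  refine ⟨i, ?_⟩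
  rw [range_fst_of_isPullback (isPullback_XTmap f (g i))]
  exact hi

/-- `E_{T'}` is the pullback of `E_T` along `X_{T'} ⟶ X_T`, functorially. -/
noncomputable def pullIso {T T' : Over S} (g : T' ⟶ T) :
    Scheme.Modules.pullback (pullback.fst f T.hom) ⋙ Scheme.Modules.pullback (PicF.XTmap f g) ≅
      Scheme.Modules.pullback (pullback.fst f T'.hom) :=
  Scheme.Modules.pullbackComp _ _ ≪≫ Scheme.Modules.pullbackCongr (FGA.XTmap_fst f g)

variable {F G : X.Modules} (u : F ⟶ G)

/-! ### stability under base change -/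

theorem isIso_stable ⦃T T₀ : Over S⦄ (g : T ⟶ T₀)
    (h : IsIso ((Scheme.Modules.pullback (pullback.fst f T₀.hom)).map u)) :
    IsIso ((Scheme.Modules.pullback (pullback.fst f T.hom)).map u) := by
  refine isIso_map_of_natIso (pullIso f g).symm u ?_
  rw [Functor.comp_map]
  infer_instance

theorem epi_stable ⦃T T₀ : Over S⦄ (g : T ⟶ T₀)
    (h : Epi ((Scheme.Modules.pullback (pullback.fst f T₀.hom)).map u)) :
    Epi ((Scheme.Modules.pullback (pullback.fst f T.hom)).map u) := by
  refine epi_map_of_natIso (pullIso f g).symm u ?_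
  rw [Functor.comp_map]
  infer_instance

theorem zero_stable ⦃T T₀ : Over S⦄ (g : T ⟶ T₀)
    (h : (Scheme.Modules.pullback (pullback.fst f T₀.hom)).map u = 0) :
    (Scheme.Modules.pullback (pullback.fst f T.hom)).map u = 0 := by
  refine map_eq_zero_of_natIso (pullIso f g).symm u ?_
  rw [Functor.comp_map, h, Functor.map_zero]

/-! ### descent along jointly surjective flat families -/

variable {T : Over S} {ι : Type*} (Ti : ι → Over S) (g : ∀ i, Ti i ⟶ T)
  (hflat : ∀ i, Flat (g i).left) (hs : ∀ t : T.left, ∃ i, t ∈ Set.range (g i).left)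

include hflat hs

theorem isIso_descent
    (h : ∀ i, IsIso ((Scheme.Modules.pullback (pullback.fst f (Ti i).hom)).map u)) :
    IsIso ((Scheme.Modules.pullback (pullback.fst f T.hom)).map u) := by
  haveI : ∀ i, Flat (PicF.XTmap f (g i)) := fun i => flat_XTmap f (g i) (hflat i)
  refine isIso_of_pullback_family (fun i => PicF.XTmap f (g i))
    (XTmap_jointly_surjective f Ti g hs) _ (fun i => ?_)
  have := isIso_map_of_natIso (pullIso f (g i)) u (h i)
  rwa [Functor.comp_map] at this

theorem epi_descent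
    (h : ∀ i, Epi ((Scheme.Modules.pullback (pullback.fst f (Ti i).hom)).map u)) :
    Epi ((Scheme.Modules.pullback (pullback.fst f T.hom)).map u) := by
  haveI : ∀ i, Flat (PicF.XTmap f (g i)) := fun i => flat_XTmap f (g i) (hflat i)
  refine epi_of_pullback_family (fun i => PicF.XTmap f (g i))
    (XTmap_jointly_surjective f Ti g hs) _ (fun i => ?_)
  have := epi_map_of_natIso (pullIso f (g i)) u (h i)
  rwa [Functor.comp_map] at this

theorem mono_descent
    (h : ∀ i, Mono ((Scheme.Modules.pullback (pullback.fst f (Ti i).hom)).map u)) :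
    Mono ((Scheme.Modules.pullback (pullback.fst f T.hom)).map u) := by
  haveI : ∀ i, Flat (PicF.XTmap f (g i)) := fun i => flat_XTmap f (g i) (hflat i)
  refine mono_of_pullback_family (fun i => PicF.XTmap f (g i))
    (XTmap_jointly_surjective f Ti g hs) _ (fun i => ?_)
  have := mono_map_of_natIso (pullIso f (g i)) u (h i)
  rwa [Functor.comp_map] at this

theorem zero_descent
    (h : ∀ i, (Scheme.Modules.pullback (pullback.fst f (Ti i).hom)).map u = 0) :
    (Scheme.Modules.pullback (pullback.fst f T.hom)).map u = 0 := by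
  haveI : ∀ i, Flat (PicF.XTmap f (g i)) := fun i => flat_XTmap f (g i) (hflat i)
  refine eq_zero_of_pullback_family (fun i => PicF.XTmap f (g i))
    (XTmap_jointly_surjective f Ti g hs) _ (fun i => ?_)
  have := map_eq_zero_of_natIso (pullIso f (g i)) u (h i)
  rwa [Functor.comp_map] at this

omit hs in
theorem mono_ascent (i : ι)
    (h : Mono ((Scheme.Modules.pullback (pullback.fst f T.hom)).map u)) :
    Mono ((Scheme.Modules.pullback (pullback.fst f (Ti i).hom)).map u) := by
  haveI : Flat (PicF.XTmap f (g i)) := flat_XTmap f (g i) (hflat i)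
  refine mono_map_of_natIso (pullIso f (g i)).symm u ?_
  rw [Functor.comp_map]
  exact Groth.Agent.H33.SchemeDer.mono_pullback_map_of_flatMorphism _ _

end BaseChange

end Groth.Agent.H37
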