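import Groth.Agent.H37.FpqcMod2
import Groth.Agent.H70.RelFlatBC.Descent
import Groth.Agent.H70.RelFlatBC.Iso
import Groth.Agent.H71.QCoh.FlatBaseChange

/-!
# The flatness functor: stability under base change and descent along flat jointly surjective families
-/

set_option autoImplicit false
universe u w

open CategoryTheory AlgebraicGeometry Limits Opposite

namespace Groth.Agent.H37

/-- the data carried by an fpqc covering family. -/
theorem fpqc_data {T : Scheme.{u}} (E : PreZeroHypercover.{w} T)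
    (hE : E.presieve₀ ∈ Scheme.fpqcPrecoverage T) :
    (∀ i, Flat (E.f i)) ∧ ∀ t : T, ∃ i, t ∈ Set.range (E.f i) := by
  have h2 := (Scheme.presieve₀_mem_precoverage_iff E).mp hE.2
  exact ⟨h2.2, h2.1⟩

section Flat

variable {X S : Scheme.{u}} (f : X ⟶ S) (F : X.Modules) [F.IsQuasicoherent]

theorem flatOver_stable ⦃T T₀ : Over S⦄ (g : T ⟶ T₀)
    (h : FlatMod.IsFlatOver (PicF.XTproj f T₀) (FGA.ET f F T₀)) :
    FlatMod.IsFlatOver (PicF.XTproj f T) (FGA.ET f F T) := by
  intro x'
  refine Groth.Agent.H70.RelFlatBC.isFlatOverAt_of_iso _ ((pullIso f g).app F) x' ?_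
  exact Groth.Agent.H71.QCoh.isFlatOverAt_baseChange (isPullback_XTmap f g) (FGA.ET f F T₀) x'
    (h (PicF.XTmap f g x'))

theorem flatOver_descent {T : Over S} {ι : Type*} (Ti : ι → Over S) (g : ∀ i, Ti i ⟶ T)
    (hflat : ∀ i, Flat (g i).left) (hs : ∀ t : T.left, ∃ i, t ∈ Set.range (g i).left)
    (h : ∀ i, FlatMod.IsFlatOver (PicF.XTproj f (Ti i)) (FGA.ET f F (Ti i))) :
    FlatMod.IsFlatOver (PicF.XTproj f T) (FGA.ET f F T) := by
  intro x
  obtain ⟨i, xi, rfl⟩ := XTmap_jointly_surjective f Ti g hs x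
  haveI := hflat i
  refine Groth.Agent.H70.RelFlatBC.isFlatOverAt_of_isFlatOverAt_pullback
    (isPullback_XTmap f (g i)) (FGA.ET f F T) xi (Flat.stalkMap (g i).left _) ?_
  exact Groth.Agent.H70.RelFlatBC.isFlatOverAt_of_iso _ ((pullIso f (g i)).app F).symm xi (h i xi)

end Flat

end Groth.Agent.H37
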