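import Mathlib

/-! Closed points of a scheme locally of finite type over a field `k` are the orbits of
`Aut(K/k)` on `K`-points, `K` an algebraic closure. -/

set_option autoImplicit false
universe u

open CategoryTheory CategoryTheory.Limits AlgebraicGeometry

namespace Groth.Agent.H37

/-- Two `k`-embeddings of `L` into an algebraic closure `K` of `k` differ by an automorphism. -/
theorem exists_algEquiv_comp_eq {k L K : Type*} [Field k] [Field L] [Field K] [Algebra k K]
    [IsAlgClosure k K] [Algebra k L] (ι₁ ι₂ : L →ₐ[k] K) :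
    ∃ σ : K ≃ₐ[k] K, ∀ a, σ (ι₁ a) = ι₂ a := by
  letI : Algebra L K := ι₁.toRingHom.toAlgebra
  haveI : IsScalarTower k L K := IsScalarTower.of_algebraMap_eq fun r => (ι₁.commutes r).symm
  haveI : Algebra.IsAlgebraic k K := IsAlgClosure.isAlgebraic
  haveI : IsAlgClosed K := IsAlgClosure.isAlgClosed k
  haveI : Algebra.IsAlgebraic L K := Algebra.IsAlgebraic.tower_top (K := k) L
  obtain ⟨φ, hφ⟩ := IsAlgClosed.surjective_domRestrict_of_isAlgebraic (K := k) (L := L) (E := K)
    (M := K) ι₂
  refine ⟨AlgEquiv.ofBijective φ (Algebra.IsAlgebraic.algHom_bijective φ), fun a => ?_⟩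
  exact congr($hφ a)

variable {k : Type u} [Field k] {X : Scheme.{u}} (f : X ⟶ Spec (CommRingCat.of k))

/-- the structure map `k ⟶ κ(x)` -/
noncomputable def resStr (x : X) : CommRingCat.of k ⟶ X.residueField x :=
  Spec.preimage (X.fromSpecResidueField x ≫ f)

theorem SpecMap_resStr (x : X) : Spec.map (resStr f x) = X.fromSpecResidueField x ≫ f :=
  Spec.map_preimage _

/-- A `K`-point is given by its image point and an embedding of the residue field. -/
theorem exists_rep_of_point {K : Type u} [Field K] (p : Spec (CommRingCat.of K) ⟶ X) :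
    ∃ (x : X) (ι : X.residueField x ⟶ CommRingCat.of K),
      x = p (IsLocalRing.closedPoint K) ∧ p = Spec.map ι ≫ X.fromSpecResidueField x :=
  ⟨_, _, rfl, (Scheme.descResidueField_stalkClosedPointTo_fromSpecResidueField K X p).symm⟩

theorem resStr_comp_of_over {K : Type u} [Field K] [Algebra k K] (x : X)
    (ι : X.residueField x ⟶ CommRingCat.of K)
    (h : (Spec.map ι ≫ X.fromSpecResidueField x) ≫ f =
      Spec.map (CommRingCat.ofHom (algebraMap k K))) :
    resStr f x ≫ ι = CommRingCat.ofHom (algebraMap k K) := by
  apply Spec.map_injective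
  rw [Spec.map_comp, SpecMap_resStr, ← Category.assoc]
  exact h

end Groth.Agent.H37
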