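import Groth.Agent.H37.Config3

set_option autoImplicit false
set_option linter.unusedVariables false
open Finset

namespace Groth.Agent.H37

namespace M2Config

variable {r : ℕ} (C : M2Config r)

theorem row_ge_of_subset (c : Fin r → ℤ) (hc : ∀ z, 0 ≤ c z) (s : Fin r) (S : Finset (Fin r))
    (hs : s ∈ S) : ∑ z ∈ S, C.A s z * c z ≤ ∑ z, C.A s z * c z := by
  apply Finset.sum_le_sum_of_subset_of_nonneg (subset_univ _)
  intro z _ hz
  have hne : s ≠ z := by
    intro h
    apply hz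
    rw [← h]
    exact hs
  exact mul_nonneg (C.A_nonneg s z hne) (hc z)

theorem row_ge1 (c : Fin r → ℤ) (hc : ∀ z, 0 ≤ c z) {s x : Fin r} (hx : s ≠ x) :
    C.A s s * c s + C.A s x * c x ≤ ∑ z, C.A s z * c z := by
  classical
  have h := C.row_ge_of_subset c hc s {s, x} (by simp)
  rw [Finset.sum_pair hx] at h
  exact h

theorem row_ge2 (c : Fin r → ℤ) (hc : ∀ z, 0 ≤ c z) {s x y : Fin r} (hx : s ≠ x) (hy : s ≠ y)
    (hxy : x ≠ y) :
    C.A s s * c s + C.A s x * c x + C.A s y * c y ≤ ∑ z, C.A s z * c z := by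
  classical
  have h := C.row_ge_of_subset c hc s {s, x, y} (by simp)
  rw [Finset.sum_insert (by simp [hx, hy]), Finset.sum_pair hxy] at h
  linarith

theorem row_ge3 (c : Fin r → ℤ) (hc : ∀ z, 0 ≤ c z) {s x y z : Fin r} (hx : s ≠ x) (hy : s ≠ y)
    (hz : s ≠ z) (hxy : x ≠ y) (hxz : x ≠ z) (hyz : y ≠ z) :
    C.A s s * c s + C.A s x * c x + C.A s y * c y + C.A s z * c z ≤ ∑ u, C.A s u * c u := by
  classical
  have h := C.row_ge_of_subset c hc s {s, x, y, z} (by simp)
  rw [Finset.sum_insert (by simp [hx, hy, hz]), Finset.sum_insert (by simp [hxy, hxz]),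
    Finset.sum_pair hyz] at h
  linarith

theorem row_ge0 (c : Fin r → ℤ) (hc : ∀ z, 0 ≤ c z) (s : Fin r) :
    C.A s s * c s ≤ ∑ z, C.A s z * c z := by
  classical
  have h := C.row_ge_of_subset c hc s {s} (by simp)
  simpa using h

end M2Config

end Groth.Agent.H37
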