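import Groth.Agent.H37.Parity

set_option autoImplicit false
set_option linter.unusedVariables false
open Finset

namespace Groth.Agent.H37

/-- the five chain cases of the genus one classification on three indices -/
def ChainCases (T : Models.NumericalType 3) (i j k : Fin 3) (m w : ℤ) : Prop :=
        (T.m i = m ∧ T.m j = 2 * m ∧ T.m k = m ∧ T.a i i = -2 * w ∧ T.a i j = w ∧ T.a i k = 0 ∧ T.a j j = -2 * w ∧
          T.a j k = 3 * w ∧ T.a k k = -6 * w ∧ T.w i = w ∧ T.w j = w ∧ T.w k = 3 * w) ∨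
        (T.m i = m ∧ T.m j = 2 * m ∧ T.m k = 3 * m ∧ T.a i i = -6 * w ∧ T.a i j = 3 * w ∧ T.a i k = 0 ∧ T.a j j = -6 * w ∧
          T.a j k = 3 * w ∧ T.a k k = -2 * w ∧ T.w i = 3 * w ∧ T.w j = 3 * w ∧ T.w k = w) ∨
        (T.m i = 2 * m ∧ T.m j = 2 * m ∧ T.m k = m ∧ T.a i i = -2 * w ∧ T.a i j = 2 * w ∧ T.a i k = 0 ∧ T.a j j = -4 * w ∧
          T.a j k = 4 * w ∧ T.a k k = -8 * w ∧ T.w i = w ∧ T.w j = 2 * w ∧ T.w k = 4 * w) ∨
        (T.m i = m ∧ T.m j = m ∧ T.m k = m ∧ T.a i i = -2 * w ∧ T.a i j = 2 * w ∧ T.a i k = 0 ∧ T.a j j = -4 * w ∧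
          T.a j k = 2 * w ∧ T.a k k = -2 * w ∧ T.w i = w ∧ T.w j = 2 * w ∧ T.w k = w) ∨
        (T.m i = m ∧ T.m j = 2 * m ∧ T.m k = m ∧ T.a i i = -4 * w ∧ T.a i j = 2 * w ∧ T.a i k = 0 ∧ T.a j j = -2 * w ∧
          T.a j k = 2 * w ∧ T.a k k = -4 * w ∧ T.w i = 2 * w ∧ T.w j = w ∧ T.w k = 2 * w)

theorem sum_fin3 {i j k : Fin 3} (hij : i ≠ j) (hjk : j ≠ k) (hik : i ≠ k) (f : Fin 3 → ℤ) :
    ∑ t, f t = f i + f j + f k := by
  rw [Fin.sum_univ_three]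
  fin_cases i <;> fin_cases j <;> fin_cases k <;> simp at hij hjk hik ⊢ <;> ring

theorem pos_factor {a b : ℤ} (ha : 0 < a) (hab : 0 < a * b) : 1 ≤ b := by
  by_contra hcon
  have : b ≤ 0 := by omega
  have := mul_nonpos_of_nonneg_of_nonpos (le_of_lt ha) this
  omega

theorem cancel_pos {a b : ℤ} (ha : 0 < a) (hab : a * b = 0) : b = 0 := by
  rcases mul_eq_zero.mp hab with h | h
  · omega
  · exact h

/-- chains on three indices -/
theorem chain_lemma (T : Models.NumericalType 3) (h2 : ∀ i, T.IsMinusTwo i) {i j k : Fin 3}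
    (hij : i ≠ j) (hjk : j ≠ k) (hik : i ≠ k) (hz : T.a i k = 0) :
    ∃ m w : ℤ, ChainCases T i j k m w ∨ ChainCases T k j i m w := by
  obtain ⟨gi, di⟩ := h2 i
  obtain ⟨gj, dj⟩ := h2 j
  obtain ⟨gk, dk⟩ := h2 k
  have ri := nt_row_sum T i
  have rj := nt_row_sum T j
  have rk := nt_row_sum T k
  rw [sum_fin3 hij hjk hik] at ri rj rk
  have sji := nt_symm T j i
  have skj := nt_symm T k j
  have ski := nt_symm T k i
  rw [di, hz] at ri
  rw [sji, dj] at rj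
  rw [ski, hz, skj, dk] at rk
  have hmi := T.m_pos i
  have hmj := T.m_pos j
  have hmk := T.m_pos k
  have hwi := T.w_pos i
  have hwj := T.w_pos j
  have hwk := T.w_pos k
  obtain ⟨p, hp⟩ := T.w_dvd i j
  obtain ⟨q, hq⟩ : T.w j ∣ T.a i j := by rw [← sji]; exact T.w_dvd j i
  obtain ⟨p', hp'⟩ := T.w_dvd j k
  obtain ⟨q', hq'⟩ : T.w k ∣ T.a j k := by rw [← skj]; exact T.w_dvd k j
  have e1 : p * T.m j = 2 * T.m i := by
    have : T.w i * (p * T.m j - 2 * T.m i) = 0 := by rw [hp] at ri; linarith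
    have := cancel_pos hwi this
    linarith
  have e3 : q' * T.m j = 2 * T.m k := by
    have : T.w k * (q' * T.m j - 2 * T.m k) = 0 := by rw [hq'] at rk; linarith
    have := cancel_pos hwk this
    linarith
  have e2 : q * T.m i + p' * T.m k = 2 * T.m j := by
    have : T.w j * (q * T.m i + p' * T.m k - 2 * T.m j) = 0 := by
      have h := rj
      rw [hp'] at h
      rw [hq] at h
      linarith
    have := cancel_pos hwj this
    linarith
  have hp1 : 1 ≤ p := pos_factor hmj (by rw [mul_comm]; linarith)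
  have hq'1 : 1 ≤ q' := pos_factor hmj (by rw [mul_comm]; linarith)
  have hX : 0 < T.a i j := by rw [hp]; exact mul_pos hwi (by omega)
  have hZ : 0 < T.a j k := by rw [hq']; exact mul_pos hwk (by omega)
  have hq1 : 1 ≤ q := pos_factor hwj (by rw [← hq]; exact hX)
  have hp'1 : 1 ≤ p' := pos_factor hwj (by rw [← hp']; exact hZ)
  have hsum : p * q + p' * q' = 4 := by
    have h : (p * q + p' * q' - 4) * T.m j = 0 := by
      have h1 : q * (p * T.m j) + p' * (q' * T.m j) = 4 * T.m j := by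
        rw [e1, e3]; linarith
      linarith
    rcases mul_eq_zero.mp h with h | h
    · linarith
    · omega
  have hpq1 : 1 ≤ p * q := by nlinarith
  have hpq2 : 1 ≤ p' * q' := by nlinarith
  have hp3 : p ≤ 3 := by nlinarith
  have hq3 : q ≤ 3 := by nlinarith
  have hp'3 : p' ≤ 3 := by nlinarith
  have hq'3 : q' ≤ 3 := by nlinarith
  have hww1 : T.w i * p = T.w j * q := by rw [← hp, ← hq]
  have hww2 : T.w j * p' = T.w k * q' := by rw [← hp', ← hq']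
  interval_cases p <;> interval_cases q <;> try omega
  all_goals (interval_cases p' <;> interval_cases q' <;> try omega)
  · -- (1,1,1,3)
    refine ⟨T.m i, T.w k, Or.inl ?_⟩
    unfold ChainCases
    refine Or.inr (Or.inl ⟨?_, ?_, ?_, ?_, ?_, ?_, ?_, ?_, ?_, ?_, ?_, ?_⟩) <;> linarith
  · -- (1,1,3,1)
    refine ⟨T.m i, T.w i, Or.inl ?_⟩
    unfold ChainCases
    refine Or.inl ⟨?_, ?_, ?_, ?_, ?_, ?_, ?_, ?_, ?_, ?_, ?_, ?_⟩ <;> linarith
  · -- (1,2,1,2)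
    refine ⟨T.m i, T.w k, Or.inr ?_⟩
    unfold ChainCases
    refine Or.inr (Or.inr (Or.inl ⟨?_, ?_, ?_, ?_, ?_, ?_, ?_, ?_, ?_, ?_, ?_, ?_⟩)) <;> linarith
  · -- (1,2,2,1)
    refine ⟨T.m i, T.w j, Or.inl ?_⟩
    unfold ChainCases
    refine Or.inr (Or.inr (Or.inr (Or.inr ⟨?_, ?_, ?_, ?_, ?_, ?_, ?_, ?_, ?_, ?_, ?_, ?_⟩))) <;>
      linarith
  · -- (1,3,1,1)
    refine ⟨T.m i, T.w j, Or.inr ?_⟩
    unfold ChainCases
    refine Or.inl ⟨?_, ?_, ?_, ?_, ?_, ?_, ?_, ?_, ?_, ?_, ?_, ?_⟩ <;> linarith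
  · -- (2,1,1,2)
    refine ⟨T.m i, T.w i, Or.inl ?_⟩
    unfold ChainCases
    refine Or.inr (Or.inr (Or.inr (Or.inl ⟨?_, ?_, ?_, ?_, ?_, ?_, ?_, ?_, ?_, ?_, ?_, ?_⟩))) <;>
      linarith
  · -- (2,1,2,1)
    refine ⟨T.m k, T.w i, Or.inl ?_⟩
    unfold ChainCases
    refine Or.inr (Or.inr (Or.inl ⟨?_, ?_, ?_, ?_, ?_, ?_, ?_, ?_, ?_, ?_, ?_, ?_⟩)) <;> linarith
  · -- (3,1,1,1)
    refine ⟨T.m k, T.w i, Or.inr ?_⟩
    unfold ChainCases
    refine Or.inr (Or.inl ⟨?_, ?_, ?_, ?_, ?_, ?_, ?_, ?_, ?_, ?_, ?_, ?_⟩) <;> linarith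

end Groth.Agent.H37
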