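import Groth.Agent.H37.GeomCatQuot
import Mathlib

/-! Mumford's criterion: invariant functions + closed images of closed invariant sets
give a categorical quotient and a submersion. -/

set_option autoImplicit false
universe u

open CategoryTheory CategoryTheory.Limits AlgebraicGeometry MonoidalCategory
  CartesianMonoidalCategory

namespace Groth.Agent.H37

open Groth.Agent.H15.Quot

variable {S : Scheme.{u}} {G X Y : Over S} [GrpObj G]

theorem isCatQuot_of_desc (a : AlgGrp.Action G X) (φ : X ⟶ Y) (hepi : EpiLike φ.left)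
    (hinv : GIT.IsInvariant a φ)
    (hdesc : ∀ (Z : Over S) (ψ : X ⟶ Z), GIT.IsInvariant a ψ →
      ∃ v : Y.left ⟶ Z.left, φ.left ≫ v = ψ.left) :
    GIT.IsCatQuot a φ := by
  refine ⟨hinv, fun Z ψ hψ => ?_⟩
  obtain ⟨v, hv⟩ := hdesc Z ψ hψ
  have hv' : v ≫ Z.hom = Y.hom := by
    apply hepi.eq_of_comp_eq
    rw [← Category.assoc, hv, Over.w, Over.w]
  refine ⟨Over.homMk v hv', ?_, fun χ hχ => ?_⟩
  · ext
    exact hv
  · ext
    apply hepi.eq_of_comp_eq
    have hχ' : φ ≫ χ = ψ := hχ
    change φ.left ≫ χ.left = φ.left ≫ v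
    rw [hv, ← Over.comp_left, hχ']

/-- preimages under an invariant morphism are invariant sets -/
theorem invariant_preimage (a : AlgGrp.Action G X) {Z : Over S} (ψ : X ⟶ Z)
    (hψ : GIT.IsInvariant a ψ) (s : Set Z.left) :
    a.act.left.base '' ((snd G X).left.base ⁻¹' (ψ.left.base ⁻¹' s)) ⊆ ψ.left.base ⁻¹' s := by
  rintro _ ⟨t, ht, rfl⟩
  change ψ.left.base (a.act.left.base t) ∈ s
  have : ψ.left.base (a.act.left.base t) = ψ.left.base ((snd G X).left.base t) :=
    congr($(hψ.left).base t)
  rw [this]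
  exact ht

theorem mumford_criterion (a : AlgGrp.Action G X) (φ : X ⟶ Y) (hi : GIT.IsInvariant a φ)
    (hii : ∀ U : Y.left.Opens,
      Function.Injective (φ.left.app U) ∧ Set.range (φ.left.app U) = {f | GIT.IsInvSection a φ U f})
    (hiii : ∀ W : Set X.left, IsClosed W → a.act.left.base '' ((snd G X).left.base ⁻¹' W) ⊆ W →
      IsClosed (φ.left.base '' W))
    (hiii' : ∀ (J : Type u) (W : J → Set X.left),
      (∀ i, IsClosed (W i) ∧ a.act.left.base '' ((snd G X).left.base ⁻¹' W i) ⊆ W i) →
      φ.left.base '' (⋂ i, W i) = ⋂ i, φ.left.base '' W i) :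
    GIT.IsCatQuot a φ ∧ Topology.IsQuotientMap φ.left.base := by
  have hsurj : Function.Surjective φ.left.base := by
    have := hiii' PEmpty (fun i => i.elim) (fun i => i.elim)
    simp only [Set.iInter_of_empty, Set.image_univ] at this
    exact Set.range_eq_univ.mp this
  have hepi : EpiLike φ.left := ⟨hsurj, fun U => (hii U).1⟩
  constructor
  · refine isCatQuot_of_desc a φ hepi hi fun Z ψ hψ => ?_
    refine descGen_exists hepi ψ.left ?_ (fun W' V' hle s => by
      have := isInvSection_appLE a φ ψ hψ W' V' hle s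
      have h2 := (hii V').2
      exact (Set.ext_iff.mp h2 _).mpr this)
    intro y
    let F : Z.left.affineOpens → Set X.left := fun W' => ψ.left.base ⁻¹' ((W'.1 : Set Z.left)ᶜ)
    have hF : ∀ i, IsClosed (F i) ∧ a.act.left.base '' ((snd G X).left.base ⁻¹' F i) ⊆ F i := by
      intro i
      refine ⟨?_, invariant_preimage a ψ hψ _⟩
      exact (i.1.isOpen.isClosed_compl).preimage ψ.left.continuous
    have hF0 : ⋂ i, F i = ∅ := by
      apply Set.eq_empty_of_forall_notMem
      intro x hx
      obtain ⟨_, ⟨W', hW' : IsAffineOpen W', rfl⟩, hxW, -⟩ :=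
        Z.left.isBasis_affineOpens.exists_subset_of_mem_open (Set.mem_univ (ψ.left.base x))
          isOpen_univ
      exact (Set.mem_iInter.mp hx ⟨W', hW'⟩) hxW
    have h1 := hiii' _ F hF
    rw [hF0, Set.image_empty] at h1
    have hy : y ∉ ⋂ i, φ.left.base '' F i := by rw [← h1]; exact Set.notMem_empty y
    rw [Set.mem_iInter, not_forall] at hy
    obtain ⟨i, hi'⟩ := hy
    have hcl : IsClosed (φ.left.base '' F i) := hiii _ (hF i).1 (hF i).2
    refine ⟨⟨(φ.left.base '' F i)ᶜ, hcl.isOpen_compl⟩, i.1, hi', i.2, ?_⟩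
    intro x hx
    by_contra hcon
    exact hx ⟨x, hcon, rfl⟩
  · rw [Topology.isQuotientMap_iff_isClosed]
    refine ⟨hsurj, fun s => ⟨fun hs => hs.preimage φ.left.continuous, fun hs => ?_⟩⟩
    have := hiii _ hs (invariant_preimage a φ hi s)
    rwa [Set.image_preimage_eq s hsurj] at this

end Groth.Agent.H37
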