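import Groth.Prelude.Def_W4bk4git07Quot
import Mathlib

/-! A geometric quotient by a universally open group scheme is universally open. -/

set_option autoImplicit false
universe u

open CategoryTheory CategoryTheory.Limits AlgebraicGeometry MonoidalCategory
  CartesianMonoidalCategory

namespace Groth.Agent.H37

theorem universallyOpen_of_isGeomQuot {S : Scheme.{u}} (G X Y : Over S) [GrpObj G]
    [UniversallyOpen G.hom] (a : AlgGrp.Action G X) (φ : X ⟶ Y) (h : GIT.IsGeomQuot a φ) :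
    UniversallyOpen φ.left := by
  refine ⟨fun X' Y' i₁ i₂ φ' sq => ?_⟩
  have hq : Topology.IsQuotientMap φ'.base := h.subm i₁ i₂ φ' sq
  intro U' hU'
  rw [← hq.isOpen_preimage]
  -- the relevant pullbacks
  let q₁ := pullback.fst φ' φ'
  let q₂ := pullback.snd φ' φ'
  let pr₁ := pullback.fst φ.left φ.left
  let pr₂ := pullback.snd φ.left φ.left
  let m : pullback φ' φ' ⟶ pullback φ.left φ.left :=
    pullback.map φ' φ' φ.left φ.left i₁ i₁ i₂ sq.w sq.w
  have hm1 : m ≫ pr₁ = q₁ ≫ i₁ := pullback.lift_fst _ _ _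
  have hm2 : m ≫ pr₂ = q₂ ≫ i₁ := pullback.lift_snd _ _ _
  have sqR : IsPullback m q₂ pr₂ i₁ := by
    refine IsPullback.of_right ?_ hm2 (IsPullback.of_hasPullback φ.left φ.left)
    rw [hm1, ← sq.w]
    exact (IsPullback.of_hasPullback φ' φ').paste_horiz sq.flip
  let Ψ := GIT.PsiY a φ h.inv
  have hΨ2 : Ψ ≫ pr₂ = (snd G X).left := pullback.lift_snd _ _ _
  let w₁ := pullback.fst Ψ m
  let w₂ := pullback.snd Ψ m
  haveI : Surjective Ψ := ⟨h.orbit⟩
  haveI : Surjective w₂ := inferInstance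
  have sqW : IsPullback w₁ (w₂ ≫ q₂) (Ψ ≫ pr₂) i₁ :=
    (IsPullback.of_hasPullback Ψ m).paste_vert sqR
  haveI : UniversallyOpen (Ψ ≫ pr₂) := by
    rw [hΨ2]
    change UniversallyOpen (pullback.snd G.hom X.hom)
    infer_instance
  haveI : UniversallyOpen (w₂ ≫ q₂) :=
    MorphismProperty.of_isPullback (P := @UniversallyOpen) sqW inferInstance
  have hopen : IsOpenMap (w₂ ≫ q₂).base := (w₂ ≫ q₂).isOpenMap
  have hset : φ'.base ⁻¹' (φ'.base '' U') = (w₂ ≫ q₂).base '' ((w₂ ≫ q₁).base ⁻¹' U') := by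
    ext x'
    constructor
    · rintro ⟨u, hu, hux⟩
      obtain ⟨z', hz1, hz2⟩ := Scheme.Pullback.exists_preimage_pullback (f := φ') (g := φ') u x' hux
      obtain ⟨z, rfl⟩ := w₂.surjective z'
      exact ⟨z, by simpa [q₁] using (show q₁.base (w₂.base z) ∈ U' by rw [hz1]; exact hu),
        by simpa [q₂] using hz2⟩
    · rintro ⟨z, hz, rfl⟩
      refine ⟨(w₂ ≫ q₁).base z, hz, ?_⟩
      have := congr($(pullback.condition (f := φ') (g := φ')).base (w₂.base z))
      simpa [q₁, q₂] using this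
  rw [hset]
  exact hopen _ (hU'.preimage (w₂ ≫ q₁).continuous)

end Groth.Agent.H37
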