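import Groth.Agent.H37.QuotLoc5
import Mathlib

/-! Geometric transitivity from transitivity on fibres + normal residue extensions +
surjectivity of stabilizers onto the automorphism groups of the residue extensions. -/

set_option autoImplicit false
universe u

open CategoryTheory CategoryTheory.Limits AlgebraicGeometry

namespace Groth.Agent.H37

/-- Two embeddings of a normal extension `E/F` into `Ω` agreeing on `F` differ by an
`F`-automorphism of `E`. -/
theorem exists_algEquiv_of_normal {F E Ω : Type*} [Field F] [Field E] [Field Ω] [Algebra F E]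
    [Normal F E] (ι₁ ι₂ : E →+* Ω)
    (h : ι₁.comp (algebraMap F E) = ι₂.comp (algebraMap F E)) :
    ∃ σ : E ≃ₐ[F] E, ∀ x, ι₁ (σ x) = ι₂ x := by
  letI : Algebra E Ω := ι₁.toAlgebra
  letI : Algebra F Ω := (ι₁.comp (algebraMap F E)).toAlgebra
  haveI : IsScalarTower F E Ω := IsScalarTower.of_algebraMap_eq fun _ => rfl
  let ϕ : E →ₐ[F] Ω := { ι₂ with commutes' := fun r => (congr($h r)).symm }
  refine ⟨ϕ.restrictNormal' E, fun x => ?_⟩
  have := ϕ.restrictNormal_commutes E x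
  exact this

theorem exists_mul_of_same_point {X S : Scheme.{u}} (q : X ⟶ S)
    {G : Type u} [Group G] (ρ : G →* Aut X)
    (x : X)
    (h2 : @Normal (S.residueField (q x)) (X.residueField x) _ _
      (q.residueFieldMap x).hom.toAlgebra)
    (h3 : ∀ (σ : X.residueField x ≅ X.residueField x),
      q.residueFieldMap x ≫ σ.hom = q.residueFieldMap x →
      ∃ g : G, X.fromSpecResidueField x ≫ (ρ g).hom = Spec.map σ.hom ≫ X.fromSpecResidueField x)
    (Ω : Type u) [Field Ω] (ι₁ ι₂ : X.residueField x ⟶ CommRingCat.of Ω)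
    (hτ : (Spec.map ι₁ ≫ X.fromSpecResidueField x) ≫ q =
      (Spec.map ι₂ ≫ X.fromSpecResidueField x) ≫ q) :
    ∃ g : G, (Spec.map ι₁ ≫ X.fromSpecResidueField x) ≫ (ρ g).hom =
      Spec.map ι₂ ≫ X.fromSpecResidueField x := by
  have hagree : q.residueFieldMap x ≫ ι₁ = q.residueFieldMap x ≫ ι₂ := by
    apply Spec.map_injective
    rw [← cancel_mono (S.fromSpecResidueField (q x))]
    simp only [Spec.map_comp, Category.assoc,
      Scheme.Hom.SpecMap_residueFieldMap_fromSpecResidueField]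
    simpa only [Category.assoc] using hτ
  letI : Algebra (S.residueField (q x)) (X.residueField x) :=
    (q.residueFieldMap x).hom.toAlgebra
  haveI : Normal (S.residueField (q x)) (X.residueField x) := h2
  obtain ⟨σ, hσ⟩ := exists_algEquiv_of_normal (F := S.residueField (q x))
    (E := X.residueField x) (Ω := Ω) ι₁.hom ι₂.hom (by
      have := congrArg CommRingCat.Hom.hom hagree
      simp only [CommRingCat.hom_comp] at this
      exact this)
  let σ' : X.residueField x ≅ X.residueField x := σ.toRingEquiv.toCommRingCatIso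
  obtain ⟨g, hg⟩ := h3 σ' (by
    ext r
    exact σ.commutes r)
  refine ⟨g, ?_⟩
  rw [Category.assoc, hg, ← Category.assoc, ← Spec.map_comp]
  congr 2
  ext r
  exact hσ r

theorem geomTransitive_same_point {X S : Scheme.{u}} (q : X ⟶ S)
    {G : Type u} [Group G] (ρ : G →* Aut X)
    (h2 : ∀ x : X, @Normal (S.residueField (q x)) (X.residueField x) _ _
      (q.residueFieldMap x).hom.toAlgebra)
    (h3 : ∀ (x : X) (σ : X.residueField x ≅ X.residueField x),
      q.residueFieldMap x ≫ σ.hom = q.residueFieldMap x →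
      ∃ g : G, X.fromSpecResidueField x ≫ (ρ g).hom = Spec.map σ.hom ≫ X.fromSpecResidueField x)
    (Ω : Type u) [Field Ω] (τ₁ τ₂ : Spec (CommRingCat.of Ω) ⟶ X)
    (hpt : τ₁ (IsLocalRing.closedPoint Ω) = τ₂ (IsLocalRing.closedPoint Ω))
    (hτ : τ₁ ≫ q = τ₂ ≫ q) :
    ∃ g : G, τ₁ ≫ (ρ g).hom = τ₂ := by
  have hrep : ∀ τ : Spec (CommRingCat.of Ω) ⟶ X, ∃ (x : X) (ι : X.residueField x ⟶ CommRingCat.of Ω),
      x = τ (IsLocalRing.closedPoint Ω) ∧ τ = Spec.map ι ≫ X.fromSpecResidueField x := fun τ =>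
    ⟨_, _, rfl, (Scheme.descResidueField_stalkClosedPointTo_fromSpecResidueField Ω X τ).symm⟩
  obtain ⟨x₁, ι₁, hx₁, rfl⟩ := hrep τ₁
  obtain ⟨x₂, ι₂, hx₂, rfl⟩ := hrep τ₂
  have hx : x₁ = x₂ := by rw [hx₁, hx₂]; exact hpt
  subst hx
  exact exists_mul_of_same_point q ρ x₁ (h2 x₁) (h3 x₁) Ω ι₁ ι₂ hτ

theorem geomTransitive_of_pointwise {X S : Scheme.{u}} (q : X ⟶ S)
    {G : Type u} [Group G] (ρ : G →* Aut X) (hρ : ∀ g : G, (ρ g).hom ≫ q = q)
    (h1 : ∀ x y : X, q x = q y → ∃ g : G, (ρ g).hom x = y)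
    (h2 : ∀ x : X, @Normal (S.residueField (q x)) (X.residueField x) _ _
      (q.residueFieldMap x).hom.toAlgebra)
    (h3 : ∀ (x : X) (σ : X.residueField x ≅ X.residueField x),
      q.residueFieldMap x ≫ σ.hom = q.residueFieldMap x →
      ∃ g : G, X.fromSpecResidueField x ≫ (ρ g).hom = Spec.map σ.hom ≫ X.fromSpecResidueField x)
    (Ω : Type u) [Field Ω] (τ₁ τ₂ : Spec (CommRingCat.of Ω) ⟶ X) (hτ : τ₁ ≫ q = τ₂ ≫ q) :
    ∃ g : G, τ₁ ≫ (ρ g).hom = τ₂ := by
  let pt := IsLocalRing.closedPoint Ω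
  have hq : q (τ₁ pt) = q (τ₂ pt) := congr($(hτ).base pt)
  obtain ⟨g₀, hg₀⟩ := h1 _ _ hq
  have hτ' : (τ₁ ≫ (ρ g₀).hom) ≫ q = τ₂ ≫ q := by rw [Category.assoc, hρ, hτ]
  obtain ⟨g, hg⟩ := geomTransitive_same_point q ρ h2 h3 Ω (τ₁ ≫ (ρ g₀).hom) τ₂ hg₀ hτ'
  exact ⟨g * g₀, by rw [rho_mul, ← Category.assoc, hg]⟩

end Groth.Agent.H37
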