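import Groth.Agent.H37.GeomTrans
import Mathlib

/-! Consequences of geometric transitivity of a finite group action along a finite morphism. -/

set_option autoImplicit false
universe u

open CategoryTheory CategoryTheory.Limits AlgebraicGeometry

namespace Groth.Agent.H37

/-- A quasi-finite local homomorphism of local rings induces a finite residue field extension. -/
theorem finite_residueField_of_quasiFinite' {R S : Type*} [CommRing R] [CommRing S] [IsLocalRing R]
    [IsLocalRing S] [Algebra R S] [IsLocalHom (algebraMap R S)] [Algebra.QuasiFinite R S] :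
    Module.Finite (IsLocalRing.ResidueField R) (IsLocalRing.ResidueField S) := by
  have h1 : Algebra.QuasiFinite R (IsLocalRing.ResidueField S) :=
    inferInstanceAs (Algebra.QuasiFinite R (S ⧸ IsLocalRing.maximalIdeal S))
  have h2 : Algebra.QuasiFinite (IsLocalRing.ResidueField R) (IsLocalRing.ResidueField S) :=
    .of_restrictScalars R _ _
  exact Module.Finite.of_quasiFinite

theorem finite_residueField_map_of_quasiFinite' {R S : Type*} [CommRing R] [CommRing S]
    [IsLocalRing R] [IsLocalRing S] (φ : R →+* S) [IsLocalHom φ] (h : φ.QuasiFinite) :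
    (IsLocalRing.ResidueField.map φ).Finite := by
  algebraize [φ]
  have : IsLocalHom (algebraMap R S) := ‹IsLocalHom φ›
  have := finite_residueField_of_quasiFinite' (R := R) (S := S)
  have heq : IsLocalRing.ResidueField.map φ =
      algebraMap (IsLocalRing.ResidueField R) (IsLocalRing.ResidueField S) := by
    ext x
    obtain ⟨x, rfl⟩ := IsLocalRing.residue_surjective x
    rw [IsLocalRing.ResidueField.algebraMap_residue]
    rfl
  rw [heq]
  exact RingHom.finite_algebraMap.mpr this

theorem finite_residueFieldMap_of_locallyQuasiFinite {X S : Scheme.{u}} (f : X ⟶ S)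
    [LocallyQuasiFinite f] (x : X) : (f.residueFieldMap x).hom.Finite :=
  finite_residueField_map_of_quasiFinite' (f.stalkMap x).hom (f.quasiFiniteAt x)

/-- Geometric transitivity implies transitivity on the points of each fibre. -/
theorem exists_act_eq_of_geomTransitive {X S : Scheme.{u}} (q : X ⟶ S) [LocallyQuasiFinite q]
    {G : Type u} [Group G] (ρ : G →* Aut X)
    (htrans : ∀ (Ω : Type u) [Field Ω] [IsAlgClosed Ω] (τ₁ τ₂ : Spec (CommRingCat.of Ω) ⟶ X),
      τ₁ ≫ q = τ₂ ≫ q → ∃ g : G, τ₁ ≫ (ρ g).hom = τ₂)
    (x y : X) (hxy : q x = q y) : ∃ g : G, (ρ g).hom x = y := by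
  let Ω := AlgebraicClosure (X.residueField x)
  let ι₁ : X.residueField x ⟶ CommRingCat.of Ω :=
    CommRingCat.ofHom (algebraMap (X.residueField x) Ω)
  let e := S.residueFieldCongr hxy.symm
  let j : S.residueField (q y) ⟶ CommRingCat.of Ω := e.hom ≫ q.residueFieldMap x ≫ ι₁
  letI : Algebra (S.residueField (q y)) Ω := j.hom.toAlgebra
  letI : Algebra (S.residueField (q y)) (X.residueField y) := (q.residueFieldMap y).hom.toAlgebra
  haveI : Module.Finite (S.residueField (q y)) (X.residueField y) :=
    finite_residueFieldMap_of_locallyQuasiFinite q y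
  let ι₂' : X.residueField y →ₐ[S.residueField (q y)] Ω := IsAlgClosed.lift
  let ι₂ : X.residueField y ⟶ CommRingCat.of Ω := CommRingCat.ofHom ι₂'.toRingHom
  have hι₂ : q.residueFieldMap y ≫ ι₂ = j := by
    ext a
    exact ι₂'.commutes a
  obtain ⟨g, hg⟩ := htrans Ω (Spec.map ι₁ ≫ X.fromSpecResidueField x)
    (Spec.map ι₂ ≫ X.fromSpecResidueField y) (by
      rw [Category.assoc, Category.assoc,
        ← Scheme.Hom.SpecMap_residueFieldMap_fromSpecResidueField,
        ← Scheme.Hom.SpecMap_residueFieldMap_fromSpecResidueField,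
        ← Spec.map_comp_assoc, ← Spec.map_comp_assoc, hι₂]
      simp only [j, Spec.map_comp, Category.assoc]
      rw [Scheme.residueFieldCongr_fromSpecResidueField])
  refine ⟨g, ?_⟩
  have := congr($(hg).base (IsLocalRing.closedPoint Ω))
  simpa using this

end Groth.Agent.H37
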