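import Groth.Agent.H37.GeomTrans2
import Mathlib

/-! Transitivity on irreducible components. -/

set_option autoImplicit false
universe u

open CategoryTheory CategoryTheory.Limits AlgebraicGeometry

namespace Groth.Agent.H37

/-- An irreducible set contained in a finite union of closed sets is contained in one of them. -/
theorem IsIrreducible.subset_of_subset_iUnion_finite {α ι : Type*} [TopologicalSpace α] [Finite ι]
    {T : Set α} (hT : IsIrreducible T) (Z : ι → Set α) (hZ : ∀ i, IsClosed (Z i))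
    (h : T ⊆ ⋃ i, Z i) : ∃ i, T ⊆ Z i := by
  classical
  haveI := Fintype.ofFinite ι
  obtain ⟨z, hz, hTz⟩ := isIrreducible_iff_sUnion_isClosed.mp hT (Finset.univ.image Z)
    (by
      intro z hz
      obtain ⟨i, -, rfl⟩ := Finset.mem_image.mp hz
      exact hZ i)
    (by
      intro x hx
      obtain ⟨i, hi⟩ := Set.mem_iUnion.mp (h hx)
      exact ⟨Z i, Finset.mem_coe.mpr (Finset.mem_image.mpr ⟨i, Finset.mem_univ _, rfl⟩), hi⟩)
  obtain ⟨i, -, rfl⟩ := Finset.mem_image.mp hz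
  exact ⟨i, hTz⟩

theorem components_of_pointwise_transitive {X S : Scheme.{u}} [IrreducibleSpace ↥S]
    [TopologicalSpace.NoetherianSpace ↥X] (q : X ⟶ S) (hcl : IsClosedMap q.base)
    (hsurj : Function.Surjective q.base)
    {G : Type u} [Group G] [Finite G] (ρ : G →* Aut X) (hρ : ∀ g : G, (ρ g).hom ≫ q = q)
    (h1 : ∀ x y : X, q x = q y → ∃ g : G, (ρ g).hom x = y) :
    (∀ T ∈ irreducibleComponents ↥X, Set.image (fun x => q x) T = Set.univ) ∧
      ∀ T₁ ∈ irreducibleComponents ↥X, ∀ T₂ ∈ irreducibleComponents ↥X,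
        ∃ g : G, Set.image (fun x => (ρ g).hom x) T₁ = T₂ := by
  have hfin : (irreducibleComponents ↥X).Finite :=
    TopologicalSpace.NoetherianSpace.finite_irreducibleComponents
  haveI : Finite (irreducibleComponents ↥X) := hfin.to_subtype
  have hqρ : ∀ (g : G) (x : X), q ((ρ g).hom x) = q x := fun g x => congr($(hρ g).base x)
  -- a component mapping onto `S`
  obtain ⟨⟨T₀, hT₀⟩, hT₀S⟩ : ∃ T : irreducibleComponents ↥X, (Set.univ : Set S) ⊆ q.base '' T.1 := by
    refine IsIrreducible.subset_of_subset_iUnion_finite (IrreducibleSpace.isIrreducible_univ S)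
      (fun T : irreducibleComponents ↥X => q.base '' T.1)
      (fun T => hcl _ (isClosed_of_mem_irreducibleComponents T.1 T.2)) ?_
    intro s _
    obtain ⟨x, rfl⟩ := hsurj s
    have hx : x ∈ ⋃₀ irreducibleComponents ↥X := by
      rw [sUnion_irreducibleComponents]; trivial
    obtain ⟨T, hT, hxT⟩ := hx
    exact Set.mem_iUnion.mpr ⟨⟨T, hT⟩, x, hxT, rfl⟩
  -- every component is a translate of `T₀`
  have htrans : ∀ T ∈ irreducibleComponents ↥X, ∃ g : G, (ρ g).hom.base '' T₀ = T := by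
    intro T hT
    have hTirr : IsIrreducible T := hT.1
    have hcl' : ∀ g : G, IsClosed ((ρ g).hom.base '' T₀) := fun g =>
      (ρ g).hom.homeomorph.isClosedMap _ (isClosed_of_mem_irreducibleComponents T₀ hT₀)
    obtain ⟨g, hg⟩ := IsIrreducible.subset_of_subset_iUnion_finite hTirr
      (fun g : G => (ρ g).hom.base '' T₀) hcl' (by
        intro x hx
        obtain ⟨x₀, hx₀, hqx⟩ := hT₀S (Set.mem_univ (q x))
        obtain ⟨g, hg⟩ := h1 x₀ x hqx
        exact Set.mem_iUnion.mpr ⟨g, x₀, hx₀, hg⟩)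
    refine ⟨g, ?_⟩
    have hirr : IsIrreducible ((ρ g).hom.base '' T₀) :=
      hT₀.1.image _ (ρ g).hom.continuous.continuousOn
    exact (Set.Subset.antisymm (hT.2 hirr hg) hg)
  constructor
  · intro T hT
    obtain ⟨g, rfl⟩ := htrans T hT
    apply Set.eq_univ_of_univ_subset
    intro s hs
    obtain ⟨x₀, hx₀, rfl⟩ := hT₀S hs
    exact ⟨(ρ g).hom x₀, ⟨x₀, hx₀, rfl⟩, hqρ g x₀⟩
  · intro T₁ hT₁ T₂ hT₂
    obtain ⟨g₁, rfl⟩ := htrans T₁ hT₁
    obtain ⟨g₂, rfl⟩ := htrans T₂ hT₂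
    refine ⟨g₂ * g₁⁻¹, ?_⟩
    ext y
    constructor
    · rintro ⟨_, ⟨x₀, hx₀, rfl⟩, rfl⟩
      refine ⟨x₀, hx₀, ?_⟩
      change (ρ g₂).hom x₀ = (ρ (g₂ * g₁⁻¹)).hom ((ρ g₁).hom x₀)
      rw [rho_mul, Scheme.Hom.comp_apply, rho_inv_apply]
    · rintro ⟨x₀, hx₀, rfl⟩
      refine ⟨(ρ g₁).hom x₀, ⟨x₀, hx₀, rfl⟩, ?_⟩
      change (ρ (g₂ * g₁⁻¹)).hom ((ρ g₁).hom x₀) = (ρ g₂).hom x₀
      rw [rho_mul, Scheme.Hom.comp_apply, rho_inv_apply]

end Groth.Agent.H37
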