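import Groth.Agent.H37.FinSigma
import Mathlib

/-! The map `∐_G Y ⟶ Y ×_S X` of translates of a graph is finite surjective. -/

set_option autoImplicit false
universe u

open CategoryTheory CategoryTheory.Limits AlgebraicGeometry

namespace Groth.Agent.H37

theorem isFinite_surjective_sigmaDesc_graph {X S Y : Scheme.{u}} (q : X ⟶ S) [IsFinite q]
    {G : Type u} [Group G] [Finite G] (ρ : G →* Aut X)
    (htrans : ∀ (Ω : Type u) [Field Ω] [IsAlgClosed Ω] (τ₁ τ₂ : Spec (CommRingCat.of Ω) ⟶ X),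
      τ₁ ≫ q = τ₂ ≫ q → ∃ g : G, τ₁ ≫ (ρ g).hom = τ₂)
    (r : Y ⟶ X) (υ : (∐ fun _ : G => Y) ⟶ pullback (r ≫ q) q)
    (hυ₁ : ∀ σ : G, Sigma.ι (fun _ : G => Y) σ ≫ υ ≫ pullback.fst (r ≫ q) q = 𝟙 Y)
    (hυ₂ : ∀ σ : G, Sigma.ι (fun _ : G => Y) σ ≫ υ ≫ pullback.snd (r ≫ q) q = r ≫ (ρ σ).hom) :
    IsFinite υ ∧ Surjective υ := by
  constructor
  · have hfold : υ ≫ pullback.fst (r ≫ q) q = Sigma.desc (fun _ : G => 𝟙 Y) := by
      apply Sigma.hom_ext
      intro σ
      rw [hυ₁ σ, Sigma.ι_desc]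
    haveI : IsFinite (υ ≫ pullback.fst (r ≫ q) q) := by
      rw [hfold]
      exact isFinite_sigmaDesc_of_finite Y G (fun _ => Y) (fun _ => 𝟙 Y) (fun _ => inferInstance)
    exact IsFinite.of_comp υ (pullback.fst (r ≫ q) q)
  · refine ⟨fun z => ?_⟩
    let P := pullback (r ≫ q) q
    let Ω := AlgebraicClosure (P.residueField z)
    let τ : Spec (CommRingCat.of Ω) ⟶ P :=
      Spec.map (CommRingCat.ofHom (algebraMap (P.residueField z) Ω)) ≫ P.fromSpecResidueField z
    have hτz : τ (IsLocalRing.closedPoint Ω) = z :=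
      Scheme.fromSpecResidueField_apply z _
    obtain ⟨σ, hσ⟩ := htrans Ω (τ ≫ pullback.fst (r ≫ q) q ≫ r) (τ ≫ pullback.snd (r ≫ q) q) (by
      simp only [Category.assoc]
      rw [pullback.condition])
    have hτ : τ = (τ ≫ pullback.fst (r ≫ q) q) ≫ Sigma.ι (fun _ : G => Y) σ ≫ υ := by
      apply pullback.hom_ext
      · simp only [Category.assoc]
        rw [hυ₁ σ, Category.comp_id]
      · simp only [Category.assoc]
        rw [hυ₂ σ]
        simpa only [Category.assoc] using hσ.symm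
    refine ⟨(Sigma.ι (fun _ : G => Y) σ) ((τ ≫ pullback.fst (r ≫ q) q) (IsLocalRing.closedPoint Ω)),
      ?_⟩
    exact (congr($(hτ).base (IsLocalRing.closedPoint Ω))).symm.trans hτz

end Groth.Agent.H37
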