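import Mathlib
import Groth.Agent.S14772
import Groth.Agent.S14766
import Groth.Agent.H6.SubtrLC
import Groth.Agent.H6.SubmSubtr
import Groth.Agent.H22.DVRSpec

set_option autoImplicit false

universe u

namespace Groth.Agent.H37.SubmSubtr

open CategoryTheory Limits AlgebraicGeometry TopologicalSpace IsLocalRing

instance univSubmersive_isStableUnderBaseChange :
    (SGA1.UnivSubmersive.{u}).IsStableUnderBaseChange := by
  unfold SGA1.UnivSubmersive; infer_instance

/-- a quasi-compact morphism with the pair-lifting property is submersive -/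
theorem isQuotientMap_of_isSSubtrusive {X Y : Scheme.{u}} (f : X ⟶ Y) [QuasiCompact f]
    (hf : Subtr.IsSSubtrusive f) : Topology.IsQuotientMap f := by
  have hsurj : Function.Surjective f := fun y => by
    obtain ⟨x, _, _, hx, _⟩ := hf (specializes_rfl : y ⤳ y)
    exact ⟨x, hx⟩
  rw [Topology.isQuotientMap_iff_isClosed]
  refine ⟨hsurj, fun s => ⟨fun hs => hs.preimage f.continuous, fun hs => ?_⟩⟩
  have h1 : f '' (f ⁻¹' s) = s := Set.image_preimage_eq s hsurj
  rw [← h1]
  apply Groth.Agent.H6.SubtrLC.isClosed_image_of_stable f hs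
  rw [h1]
  intro a b hab ha
  obtain ⟨x, x', hxx', hx, hx'⟩ := hf hab
  have hx's : x' ∈ f ⁻¹' s := by
    change f x' ∈ s
    rw [hx']; exact ha
  have hxs : x ∈ f ⁻¹' s := hs.stableUnderSpecialization hxx' hx's
  rw [← hx]
  exact hxs

theorem univSubmersive_of_univSSubtrusive {X Y : Scheme.{u}} (f : X ⟶ Y) [QuasiCompact f]
    (hf : Subtr.UnivSSubtrusive f) : SGA1.UnivSubmersive f := by
  intro X' Y' i₁ i₂ f' sq
  haveI : QuasiCompact f' := MorphismProperty.of_isPullback sq.flip inferInstance
  exact isQuotientMap_of_isSSubtrusive f' (hf i₁ i₂ f' sq)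

theorem univSSubtrusive_of_univSubmersive {X Y : Scheme.{u}} [IsLocallyNoetherian Y] (f : X ⟶ Y)
    [QuasiCompact f] (hf : SGA1.UnivSubmersive f) : Subtr.UnivSSubtrusive f := by
  rw [Groth.Agent.S14772.result f]
  intro n _
  haveI : IsLocallyNoetherian (AffineSpace (ULift.{u} (Fin n)) Y) :=
    LocallyOfFiniteType.isLocallyNoetherian (AffineSpace (ULift.{u} (Fin n)) Y ↘ Y)
  exact Groth.Agent.H6.SubmSubtr.isSSubtrusive_of_univSubmersive _
    (MorphismProperty.pullback_snd (P := SGA1.UnivSubmersive) f _ hf)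

section dvr

/-- points of the spectrum, typed as points of the scheme -/
abbrev Pt (D : Type u) [CommRing D] : Type u := ↥(Spec (CommRingCat.of D))

/-- the generic point of the spectrum of a domain -/
def gen (D : Type u) [CommRing D] [IsDomain D] : Pt D :=
  (⟨⊥, Ideal.isPrime_bot⟩ : PrimeSpectrum D)

/-- the closed point of the spectrum of a local ring -/
def cl (D : Type u) [CommRing D] [IsLocalRing D] : Pt D := (closedPoint D : PrimeSpectrum D)

variable (D : Type u) [CommRing D] [IsDomain D] [IsDiscreteValuationRing D]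

theorem dvr_point_cases (x : Pt D) : x = gen D ∨ x = cl D := by
  let x₀ : PrimeSpectrum D := x
  by_cases h : x₀.asIdeal = ⊥
  · left; exact PrimeSpectrum.ext h
  · right
    apply PrimeSpectrum.ext
    haveI : x₀.asIdeal.IsMaximal := x₀.isPrime.isMaximal h
    exact IsLocalRing.eq_maximalIdeal this

theorem gen_ne_cl : gen D ≠ cl D := by
  intro h
  have : (⊥ : Ideal D) = maximalIdeal D := congrArg PrimeSpectrum.asIdeal h
  exact IsDiscreteValuationRing.not_a_field D this.symm

omit [IsDiscreteValuationRing D] in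
theorem gen_specializes (x : Pt D) : gen D ⤳ x := by
  let x₀ : PrimeSpectrum D := x
  change (⟨⊥, Ideal.isPrime_bot⟩ : PrimeSpectrum D) ⤳ x₀
  rw [← PrimeSpectrum.le_iff_specializes]
  exact bot_le (a := x₀.asIdeal)

omit [IsDiscreteValuationRing D] in
theorem eq_gen_of_specializes {x : Pt D} (h : x ⤳ gen D) : x = gen D := by
  let x₀ : PrimeSpectrum D := x
  change x₀ ⤳ (⟨⊥, Ideal.isPrime_bot⟩ : PrimeSpectrum D) at h
  rw [← PrimeSpectrum.le_iff_specializes] at h
  exact PrimeSpectrum.ext (le_bot_iff.mp h)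

theorem eq_cl_of_specializes {x : Pt D} (h : cl D ⤳ x) : x = cl D := by
  rcases dvr_point_cases D x with h1 | h1
  · exfalso
    rw [h1] at h
    change (closedPoint D : PrimeSpectrum D) ⤳ (⟨⊥, Ideal.isPrime_bot⟩ : PrimeSpectrum D) at h
    rw [← PrimeSpectrum.le_iff_specializes] at h
    have : maximalIdeal D = ⊥ := le_bot_iff.mp h
    exact IsDiscreteValuationRing.not_a_field D this
  · exact h1

variable {D} in
/-- a surjective map between spectra of discrete valuation rings preserves the generic and the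
closed point -/
theorem map_points_of_surjective {D' : Type u} [CommRing D'] [IsDomain D']
    [IsDiscreteValuationRing D'] (b : Spec (CommRingCat.of D') ⟶ Spec (CommRingCat.of D))
    (hb : Function.Surjective b) : b (gen D') = gen D ∧ b (cl D') = cl D := by
  have hsp : b (gen D') ⤳ b (cl D') := (gen_specializes D' (cl D')).map b.continuous
  constructor
  · obtain ⟨z, hz⟩ := hb (gen D)
    rcases dvr_point_cases D' z with h1 | h1
    · rw [← hz, h1]
    · rw [h1] at hz
      rw [hz] at hsp
      exact eq_gen_of_specializes D hsp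
  · obtain ⟨z, hz⟩ := hb (cl D)
    rcases dvr_point_cases D' z with h1 | h1
    · rw [h1] at hz
      rw [hz] at hsp
      exact eq_cl_of_specializes D hsp
    · rw [← hz, h1]

end dvr

/-- the lifting condition for discrete valuation rings -/
def DVRLift {X Y : Scheme.{u}} (f : X ⟶ Y) : Prop :=
  ∀ (D : Type u) [CommRing D] [IsDomain D] [IsDiscreteValuationRing D]
    (g : Spec (CommRingCat.of D) ⟶ Y),
    ∃ (D' : Type u) (_ : CommRing D') (_ : IsDomain D') (_ : IsDiscreteValuationRing D')
      (a : Spec (CommRingCat.of D') ⟶ X) (b : Spec (CommRingCat.of D') ⟶ Spec (CommRingCat.of D)),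
      Surjective b ∧ a ≫ f = b ≫ g

theorem DVRLift.pullback_snd {X Y Y₁ : Scheme.{u}} {f : X ⟶ Y} (h : DVRLift f) (g₁ : Y₁ ⟶ Y) :
    DVRLift (pullback.snd f g₁) := by
  intro D _ _ _ g
  obtain ⟨D', i1, i2, i3, a, b, hb, hab⟩ := h D (g ≫ g₁)
  refine ⟨D', i1, i2, i3, pullback.lift a (b ≫ g) (by rw [hab, Category.assoc]), b, hb, ?_⟩
  rw [pullback.lift_snd]

/-- the image of the generic point under the DVR through a specialization -/
theorem map_gen_of_comm {Y : Scheme.{u}} {y' : Y} (A : ValuationSubring (Y.residueField y'))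
    (h : Spec (CommRingCat.of A) ⟶ Y)
    (hcomm : Spec.map (CommRingCat.ofHom A.subtype) ≫ h = Y.fromSpecResidueField y') :
    h (gen A) = y' := by
  let pt : ↥(Spec (CommRingCat.of ↑(Y.residueField y'))) := closedPoint (Y.residueField y')
  have h1 : (Spec.map (CommRingCat.ofHom A.subtype) ≫ h) pt = y' := by
    rw [hcomm]
    exact Scheme.fromSpecResidueField_apply y' pt
  rw [Scheme.Hom.comp_apply] at h1
  have h2 : Spec.map (CommRingCat.ofHom A.subtype) pt = gen A := by
    apply PrimeSpectrum.ext
    change Ideal.comap A.subtype (maximalIdeal _) = ⊥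
    rw [IsLocalRing.maximalIdeal_eq_bot]
    exact (RingHom.injective_iff_ker_eq_bot _).mp A.subtype_injective
  rw [h2] at h1
  exact h1

/-- over a locally Noetherian base the DVR lifting condition gives the pair-lifting property -/
theorem isSSubtrusive_of_dvrLift {X Y : Scheme.{u}} [IsLocallyNoetherian Y] (f : X ⟶ Y)
    (H : DVRLift f) : Subtr.IsSSubtrusive f := by
  intro y y' hyy'
  by_cases hne : y = y'
  · subst hne
    let K : Type u := Y.residueField y
    let c : Spec (CommRingCat.of (PowerSeries K)) ⟶ Spec (Y.residueField y) :=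
      Spec.map (CommRingCat.ofHom (PowerSeries.C : K →+* PowerSeries K))
    obtain ⟨D', _, _, _, a, b, -, hab⟩ := H (PowerSeries K) (c ≫ Y.fromSpecResidueField y)
    refine ⟨a (cl D'), a (cl D'), specializes_rfl, ?_, ?_⟩ <;>
    · rw [← Scheme.Hom.comp_apply, hab, Scheme.Hom.comp_apply, Scheme.Hom.comp_apply]
      exact Scheme.fromSpecResidueField_apply y _
  · obtain ⟨A, h, hA, hcl, hcomm⟩ :=
      Groth.Agent.H22.DVRSpec.exists_dvr_through_specialization (𝟙 Y) y' y hyy' hne
    rw [Category.comp_id] at hcomm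
    obtain ⟨D', _, _, _, a, b, hb, hab⟩ := H A h
    obtain ⟨hb1, hb2⟩ := map_points_of_surjective b hb.surj
    refine ⟨a (cl D'), a (gen D'), (gen_specializes D' (cl D')).map a.continuous, ?_, ?_⟩
    · rw [← Scheme.Hom.comp_apply, hab, Scheme.Hom.comp_apply, hb2]
      exact hcl
    · rw [← Scheme.Hom.comp_apply, hab, Scheme.Hom.comp_apply, hb1]
      exact map_gen_of_comm A h hcomm

theorem univSSubtrusive_of_dvrLift {X Y : Scheme.{u}} [IsLocallyNoetherian Y] (f : X ⟶ Y)
    [QuasiCompact f] (H : DVRLift f) : Subtr.UnivSSubtrusive f := by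
  rw [Groth.Agent.S14772.result f]
  intro n _
  haveI : IsLocallyNoetherian (AffineSpace (ULift.{u} (Fin n)) Y) :=
    LocallyOfFiniteType.isLocallyNoetherian (AffineSpace (ULift.{u} (Fin n)) Y ↘ Y)
  exact isSSubtrusive_of_dvrLift _ (H.pullback_snd _)

/-- universally submersive morphisms locally of finite type over a locally Noetherian base satisfy
the DVR lifting condition -/
theorem dvrLift_of_univSubmersive {X Y : Scheme.{u}} (f : X ⟶ Y)
    [LocallyOfFiniteType f] (hf : SGA1.UnivSubmersive f) : DVRLift f := by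
  intro D _ _ _ g
  let P := pullback f g
  let p : P ⟶ Spec (CommRingCat.of D) := pullback.snd f g
  have hq : Topology.IsQuotientMap p := hf _ _ _ (IsPullback.of_hasPullback f g).flip
  have hs : Subtr.IsSSubtrusive p := (Groth.Agent.S14766.result D p).mp hq
  obtain ⟨x, x', hxx', hx, hx'⟩ := hs (gen_specializes D (cl D))
  haveI : IsLocallyNoetherian P := LocallyOfFiniteType.isLocallyNoetherian p
  have hne : x ≠ x' := by
    intro h
    rw [h, hx'] at hx
    exact gen_ne_cl D hx
  obtain ⟨A, h, hA, hcl, hcomm⟩ :=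
    Groth.Agent.H22.DVRSpec.exists_dvr_through_specialization (𝟙 P) x' x hxx' hne
  rw [Category.comp_id] at hcomm
  have hgen : h (gen A) = x' := map_gen_of_comm A h hcomm
  refine ⟨A, inferInstance, inferInstance, hA, h ≫ pullback.fst f g, h ≫ p, ⟨?_⟩, ?_⟩
  · intro z
    rcases dvr_point_cases D z with hz | hz
    · refine ⟨gen A, ?_⟩
      rw [Scheme.Hom.comp_apply, hgen, hx', hz]
    · refine ⟨cl A, ?_⟩
      have hcl' : h (cl A) = x := hcl
      rw [Scheme.Hom.comp_apply, hcl', hx, hz]
  · rw [Category.assoc, Category.assoc, pullback.condition]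

end Groth.Agent.H37.SubmSubtr
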