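import Groth.Agent.H37.VCover

set_option autoImplicit false
universe w w' u
open CategoryTheory CategoryTheory.Limits AlgebraicGeometry

namespace Groth.Agent.H37

/-- A V covering of `Y` can be refined, over any affine scheme mapping to `Y`, by a standard
V covering. -/
theorem exists_standardV_refinesOver {X Y : Scheme.{u}} [IsAffine X] (f : X ⟶ Y)
    (F : PreZeroHypercover.{w} Y) (hF : HTop.IsVCover F) :
    ∃ H : PreZeroHypercover.{0} X, HTop.IsStandardV H ∧ HTop.RefinesOver f H F := by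
  have h1 : ∀ x : X, ∃ (W : Y.affineOpens) (D : X.affineOpens), x ∈ (D : X.Opens) ∧
      (D : X.Opens) ≤ f ⁻¹ᵁ (W : Y.Opens) := by
    intro x
    obtain ⟨_, ⟨W, hW, rfl⟩, hxW, -⟩ := Y.isBasis_affineOpens.exists_subset_of_mem_open
      (Set.mem_univ (f x)) isOpen_univ
    obtain ⟨_, ⟨D, hD, rfl⟩, hxD, hDW⟩ := X.isBasis_affineOpens.exists_subset_of_mem_open
      (show x ∈ ((f ⁻¹ᵁ W : X.Opens) : Set X) from hxW) (f ⁻¹ᵁ W).2
    exact ⟨⟨W, hW⟩, ⟨D, hD⟩, hxD, hDW⟩
  choose W D hxD hDW using h1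
  obtain ⟨t, ht⟩ := isCompact_univ.elim_finite_subcover
    (fun x : X => ((D x : X.Opens) : Set X)) (fun x => (D x : X.Opens).2)
    (fun x _ => Set.mem_iUnion.mpr ⟨x, hxD x⟩)
  choose G hG1 hG2 using fun x => hF (W x)
  let e := t.equivFin.symm
  let pt : Fin t.card → X := fun a => (e a).1
  let O : PreZeroHypercover.{0} X :=
    { I₀ := Fin t.card
      X := fun a => ((D (pt a) : X.Opens) : Scheme.{u})
      f := fun a => (D (pt a) : X.Opens).ι }
  have hOaff : ∀ a, IsAffine (O.X a) := fun a => (D (pt a)).2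
  have hO : HTop.IsStandardV O := by
    refine standardV_of_openImmersions O inferInstance hOaff
      (fun a => (inferInstance : IsOpenImmersion (D (pt a) : X.Opens).ι)) ?_
    intro x
    have hx := ht (Set.mem_univ x)
    simp only [Set.mem_iUnion] at hx
    obtain ⟨y, hyt, hxy⟩ := hx
    refine ⟨e.symm ⟨y, hyt⟩, ?_⟩
    show x ∈ Set.range (D (pt (e.symm ⟨y, hyt⟩)) : X.Opens).ι
    rw [Scheme.Opens.range_ι]
    have : pt (e.symm ⟨y, hyt⟩) = y := by
      show (e (e.symm ⟨y, hyt⟩)).1 = y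
      rw [Equiv.apply_symm_apply]
    rw [this]
    exact hxy
  let h : ∀ a, O.X a ⟶ ((W (pt a) : Y.Opens) : Scheme.{u}) := fun a => f.resLE _ _ (hDW (pt a))
  let P : ∀ a, PreZeroHypercover.{0} (O.X a) := fun a => (G (pt a)).pullback₁ (h a)
  have hP : ∀ a, HTop.IsStandardV (P a) := fun a =>
    haveI := hOaff a
    standardV_pullback (h a) (G (pt a)) (hG1 (pt a))
  refine ⟨O.bind P, standardV_bind O hO P hP, ?_⟩
  rintro ⟨a, j⟩
  obtain ⟨i, k, hk⟩ := hG2 (pt a) j
  refine ⟨i, pullback.snd (h a) ((G (pt a)).f j) ≫ k, ?_⟩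
  show (pullback.snd (h a) ((G (pt a)).f j) ≫ k) ≫ F.f i =
    (pullback.fst (h a) ((G (pt a)).f j) ≫ (D (pt a) : X.Opens).ι) ≫ f
  rw [Category.assoc, hk, ← Category.assoc, ← pullback.condition, Category.assoc, Category.assoc,
    Scheme.Hom.resLE_comp_ι]

end Groth.Agent.H37
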