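import Groth.Prelude.Def_HTop
import Groth.Agent.H37.SchemeAux

set_option autoImplicit false
universe w w' u
open CategoryTheory CategoryTheory.Limits AlgebraicGeometry

namespace Groth.Agent.H37

/-- base change of a standard V covering along a morphism of affine schemes -/
theorem standardV_pullback {T T' : Scheme.{u}} [IsAffine T'] (g : T' ⟶ T)
    (E : PreZeroHypercover.{w} T) (hE : HTop.IsStandardV E) : HTop.IsStandardV (E.pullback₁ g) := by
  have hT := hE.isAffine
  have hobj := hE.isAffine_obj
  refine ⟨inferInstance, hE.finite_index, ?_, ?_⟩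
  · intro j
    show IsAffine (pullback g (E.f j))
    infer_instance
  · intro V _ _ h
    obtain ⟨W, hW1, hW2, φ, hφ, j, g', hg'⟩ := hE.lift V (h ≫ g)
    refine ⟨W, hW1, hW2, φ, hφ, j, ?_, ?_⟩
    · exact pullback.lift (Spec.map φ ≫ h) g' (by rw [hg', Category.assoc])
    · show pullback.lift (Spec.map φ ≫ h) g' _ ≫ pullback.fst g (E.f j) = Spec.map φ ≫ h
      exact pullback.lift_fst _ _ _

/-- composition of standard V coverings -/
theorem standardV_bind {T : Scheme.{u}} (E : PreZeroHypercover.{w} T) (hE : HTop.IsStandardV E)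
    (F : ∀ j, PreZeroHypercover.{w'} (E.X j)) (hF : ∀ j, HTop.IsStandardV (F j)) :
    HTop.IsStandardV (E.bind F) := by
  have hfin := hE.finite_index
  have hfin' := fun j => (hF j).finite_index
  refine ⟨hE.isAffine, ?_, ?_, ?_⟩
  · show Finite (Σ (i : E.I₀), (F i).I₀)
    infer_instance
  · rintro ⟨j, i⟩
    exact (hF j).isAffine_obj i
  · intro V _ _ g
    obtain ⟨W, hW1, hW2, φ, hφ, j, g', hg'⟩ := hE.lift V g
    obtain ⟨W', hW'1, hW'2, ψ, hψ, i, g'', hg''⟩ := (hF j).lift W g'
    refine ⟨W', hW'1, hW'2, φ ≫ ψ, ?_, ⟨j, i⟩, g'', ?_⟩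
    · refine ⟨?_, ?_⟩
      · rw [CommRingCat.hom_comp]
        exact hψ.1.comp hφ.1
      · rw [CommRingCat.hom_comp]
        have := hφ.2
        have := hψ.2
        exact RingHom.isLocalHom_comp _ _
    · show g'' ≫ (F j).f i ≫ E.f j = Spec.map (φ ≫ ψ) ≫ g
      rw [← Category.assoc, hg'', Category.assoc, hg', Spec.map_comp, Category.assoc]

/-- a morphism from the spectrum of a local ring whose closed point lands in the range of an
open immersion factors through it -/
theorem range_subset_of_closedPoint {X Y : Scheme.{u}} (R : CommRingCat.{u}) [IsLocalRing R]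
    (g : Spec R ⟶ X) (f : Y ⟶ X) [IsOpenImmersion f]
    (h : g (IsLocalRing.closedPoint R) ∈ Set.range f) : Set.range g ⊆ Set.range f := by
  rintro _ ⟨p, rfl⟩
  have hs : p ⤳ IsLocalRing.closedPoint R := IsLocalRing.specializes_closedPoint p
  exact (hs.map g.continuous).mem_open f.isOpenEmbedding.isOpen_range h

/-- a finite jointly surjective family of open immersions of affine schemes into an affine
scheme is a standard V covering -/
theorem standardV_of_openImmersions {T : Scheme.{u}} [IsAffine T] (E : PreZeroHypercover.{w} T)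
    (hfin : Finite E.I₀) (haff : ∀ j, IsAffine (E.X j)) (hopen : ∀ j, IsOpenImmersion (E.f j))
    (hsurj : ∀ t : T, ∃ j, t ∈ Set.range (E.f j)) : HTop.IsStandardV E := by
  refine ⟨inferInstance, hfin, haff, ?_⟩
  intro V _ _ g
  obtain ⟨j, hj⟩ := hsurj (g (IsLocalRing.closedPoint V))
  have := hopen j
  refine ⟨V, inferInstance, inferInstance, 𝟙 V, ⟨?_, ?_⟩, j,
    IsOpenImmersion.lift (E.f j) g (range_subset_of_closedPoint V g (E.f j) hj), ?_⟩
  · exact fun a b hab => hab
  · exact ⟨fun a ha => ha⟩
  · rw [IsOpenImmersion.lift_fac, Spec.map_id, Category.id_comp]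

end Groth.Agent.H37
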