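import Mathlib
import Groth.Agent.H37.SubmSubtr
import Groth.Agent.H37.VCover2
import Groth.Agent.H90.ValLift3
import Groth.Prelude.Def_HTop

set_option autoImplicit false

universe u

namespace Groth.Agent.H37.HCoverSubm

open CategoryTheory Limits AlgebraicGeometry TopologicalSpace IsLocalRing

theorem vl_of_univSSubtrusive {X Y : Scheme.{u}} (f : X ⟶ Y) (hf : Subtr.UnivSSubtrusive f) :
    H90.VL f := by
  rw [H90.vl_iff_specializes]
  intro Z g z' z hz
  obtain ⟨w, w', hww', hw, hw'⟩ :=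
    hf (pullback.snd g f) g (pullback.fst g f) (IsPullback.of_hasPullback g f) hz
  exact ⟨w', w, hww', hw', hw⟩

theorem univSSubtrusive_of_vl {X Y : Scheme.{u}} (f : X ⟶ Y) (hf : H90.VL f) :
    Subtr.UnivSSubtrusive f := by
  rw [H90.vl_iff_specializes] at hf
  intro X' Y' i₁ i₂ f' sq y y' hyy'
  obtain ⟨w', w, hww', hw', hw⟩ := hf Y' i₂ y' y hyy'
  refine ⟨sq.isoPullback.inv w, sq.isoPullback.inv w', hww'.map sq.isoPullback.inv.continuous,
    ?_, ?_⟩
  · rw [← Scheme.Hom.comp_apply, sq.isoPullback_inv_fst]; exact hw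
  · rw [← Scheme.Hom.comp_apply, sq.isoPullback_inv_fst]; exact hw'

theorem quasiCompact_sigmaDesc {Y : Scheme.{u}} {ι : Type u} [Finite ι] (X : ι → Scheme.{u})
    (f : ∀ i, X i ⟶ Y) [∀ i, QuasiCompact (f i)] : QuasiCompact (Sigma.desc f) := by
  rw [quasiCompact_iff_forall_isAffineOpen]
  intro U hU
  have h1 : ((Sigma.desc f ⁻¹ᵁ U : (∐ X).Opens) : Set ↑(∐ X)) =
      ⋃ i, (Sigma.ι X i) '' ((f i ⁻¹ᵁ U : (X i).Opens) : Set (X i)) := by
    ext x
    obtain ⟨⟨i, z⟩, rfl⟩ := (sigmaMk X).surjective x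
    rw [sigmaMk_mk]
    simp only [Opens.map_coe, Set.mem_preimage, SetLike.mem_coe, Set.mem_iUnion, Set.mem_image]
    constructor
    · intro hz
      refine ⟨i, z, ?_, rfl⟩
      rw [← Scheme.Hom.comp_apply, Sigma.ι_desc] at hz
      exact hz
    · rintro ⟨i', z', hz', hzz'⟩
      rw [← hzz', ← Scheme.Hom.comp_apply, Sigma.ι_desc]
      exact hz'
  rw [h1]
  exact isCompact_iUnion fun i =>
    ((f i).isCompact_preimage hU.isCompact).image (Sigma.ι X i).continuous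

/-- the members of a family form a V covering if the induced morphism from the coproduct has
the valuation lifting property -/
theorem isVCover_of_vl_sigmaDesc {Y : Scheme.{u}} (E : PreZeroHypercover.{u} Y) [Finite E.I₀]
    [∀ i, QuasiCompact (E.f i)] (hvl : H90.VL (Sigma.desc E.f)) : HTop.IsVCover E := by
  intro U
  let g : ∐ E.X ⟶ Y := Sigma.desc E.f
  haveI : QuasiCompact g := quasiCompact_sigmaDesc E.X E.f
  have hUaff : IsAffine ((U : Y.Opens) : Scheme.{u}) := U.2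
  have hc : IsCompact ((g ⁻¹ᵁ (U : Y.Opens) : (∐ E.X).Opens) : Set ↑(∐ E.X)) :=
    g.isCompact_preimage U.2.isCompact
  -- local choice of affine opens inside a component
  have hloc : ∀ x : {x : ↑(∐ E.X) // x ∈ g ⁻¹ᵁ (U : Y.Opens)}, ∃ (i : E.I₀) (D : (∐ E.X).Opens),
      IsAffineOpen D ∧ x.1 ∈ D ∧ D ≤ g ⁻¹ᵁ (U : Y.Opens) ∧ D ≤ (Sigma.ι E.X i).opensRange := by
    rintro ⟨x, hx⟩
    obtain ⟨⟨i, z⟩, hz⟩ := (sigmaMk E.X).surjective x
    rw [sigmaMk_mk] at hz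
    subst hz
    obtain ⟨_, ⟨D, hD, rfl⟩, hxD, hDO⟩ :=
      (∐ E.X).isBasis_affineOpens.exists_subset_of_mem_open
        (show Sigma.ι E.X i z ∈ ((g ⁻¹ᵁ (U : Y.Opens) ⊓ (Sigma.ι E.X i).opensRange :
          (∐ E.X).Opens) : Set ↑(∐ E.X)) from ⟨hx, ⟨z, rfl⟩⟩)
        (g ⁻¹ᵁ (U : Y.Opens) ⊓ (Sigma.ι E.X i).opensRange).2
    exact ⟨i, D, hD, hxD, fun y hy => (hDO hy).1, fun y hy => (hDO hy).2⟩
  choose idx D₀ hD₀ hxD₀ hD₀U hD₀i using hloc
  obtain ⟨t, ht⟩ := hc.elim_finite_subcover (fun x => (D₀ x : Set ↑(∐ E.X)))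
    (fun x => (D₀ x).2) (fun x hx => Set.mem_iUnion.mpr ⟨⟨x, hx⟩, hxD₀ ⟨x, hx⟩⟩)
  let e := t.equivFin
  let n := t.card
  let D : Fin n → (∐ E.X).Opens := fun k => D₀ (e.symm k).1
  have hD : ∀ k, IsAffineOpen (D k) := fun k => hD₀ _
  have hDle : ∀ k, D k ≤ g ⁻¹ᵁ (U : Y.Opens) := fun k => hD₀U _
  have hcov : ∀ x : ↑(∐ E.X), x ∈ g ⁻¹ᵁ (U : Y.Opens) → ∃ k, x ∈ D k := by
    intro x hx
    have := ht hx
    simp only [Set.mem_iUnion] at this
    obtain ⟨y, hy, hxy⟩ := this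
    refine ⟨e ⟨y, hy⟩, ?_⟩
    change x ∈ D₀ (e.symm (e ⟨y, hy⟩)).1
    rw [Equiv.symm_apply_apply]
    exact hxy
  let F : PreZeroHypercover.{0} ((U : Y.Opens) : Scheme.{u}) :=
    { I₀ := Fin n
      X := fun k => ((D k : (∐ E.X).Opens) : Scheme.{u})
      f := fun k => g.resLE (U : Y.Opens) (D k) (hDle k) }
  have hfac : ∀ k : Fin n, F.f k ≫ (U : Y.Opens).ι = (D k).ι ≫ g :=
    fun k => Scheme.Hom.resLE_comp_ι g (hDle k)
  refine ⟨F, ⟨hUaff, inferInstanceAs (Finite (Fin n)), fun k => hD k, ?_⟩, ?_⟩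
  · intro V _ _ g₀
    obtain ⟨W, hW1, hW2, φ, hφ, g', hg'⟩ := hvl V (g₀ ≫ (U : Y.Opens).ι)
    have hIsLoc : IsLocalRing W := inferInstance
    let pt : ↥(Spec W) := closedPoint W
    have hx : g' pt ∈ g ⁻¹ᵁ (U : Y.Opens) := by
      show (g' ≫ g) pt ∈ (U : Y.Opens)
      rw [hg', ← Category.assoc, Scheme.Hom.comp_apply]
      exact ((Spec.map φ ≫ g₀) pt).2
    obtain ⟨k, hk⟩ := hcov _ hx
    have hrange : Set.range g' ⊆ Set.range (D k).ι := by
      apply H37.range_subset_of_closedPoint W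
      rw [Scheme.Opens.range_ι]
      exact hk
    refine ⟨W, hW1, hW2, φ, hφ, k, IsOpenImmersion.lift (D k).ι g' hrange, ?_⟩
    rw [← cancel_mono (U : Y.Opens).ι, Category.assoc, hfac, ← Category.assoc,
      IsOpenImmersion.lift_fac, hg', Category.assoc]
  · intro k
    let i := idx (e.symm k).1
    have hrange : Set.range (D k).ι ⊆ Set.range (Sigma.ι E.X i) := by
      rw [Scheme.Opens.range_ι]
      exact hD₀i (e.symm k).1
    let h : F.X k ⟶ E.X i := IsOpenImmersion.lift (Sigma.ι E.X i) (D k).ι hrange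
    have hh : h ≫ Sigma.ι E.X i = (D k).ι := IsOpenImmersion.lift_fac _ _ _
    refine ⟨i, h, ?_⟩
    have h1 : Sigma.ι E.X i ≫ g = E.f i := Sigma.ι_desc _ _
    rw [hfac, ← h1, ← Category.assoc, hh]

theorem vl_sigmaDesc_of_isVCover {Y : Scheme.{u}} (E : PreZeroHypercover.{u} Y)
    (hE : HTop.IsVCover E) : H90.VL (Sigma.desc E.f) := by
  intro V _ _ g
  obtain ⟨H, hH1, hH2⟩ := H37.exists_standardV_refinesOver g E hE
  obtain ⟨W, hW1, hW2, φ, hφ, j, g', hg'⟩ := hH1.lift V (𝟙 _)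
  obtain ⟨i, k, hk⟩ := hH2 j
  refine ⟨W, hW1, hW2, φ, hφ, g' ≫ k ≫ Sigma.ι E.X i, ?_⟩
  rw [Category.assoc, Category.assoc, Sigma.ι_desc, hk, ← Category.assoc, hg', Category.assoc,
    Category.id_comp]

/-- **Over a Noetherian scheme, a finite family of finite type morphisms is an h covering iff
the induced morphism from the coproduct is universally submersive.** -/
theorem main {X : Scheme.{u}} [IsNoetherian X] (E : PreZeroHypercover.{u} X) [Finite E.I₀]
    [∀ i, LocallyOfFiniteType (E.f i)] [∀ i, QuasiCompact (E.f i)] :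
    SGA1.UnivSubmersive (Sigma.desc E.f) ↔ HTop.IsHCover E := by
  haveI : QuasiCompact (Sigma.desc E.f) := quasiCompact_sigmaDesc E.X E.f
  constructor
  · intro h
    refine ⟨fun i => inferInstance, isVCover_of_vl_sigmaDesc E ?_⟩
    exact vl_of_univSSubtrusive _ (SubmSubtr.univSSubtrusive_of_univSubmersive _ h)
  · rintro ⟨-, hV⟩
    exact SubmSubtr.univSubmersive_of_univSSubtrusive _
      (univSSubtrusive_of_vl _ (vl_sigmaDesc_of_isVCover E hV))

end Groth.Agent.H37.HCoverSubm
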