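import Groth.Agent.H37.IdealDesc
import Groth.Agent.H37.FpqcMod2
import Groth.Agent.H1.Descent
import Groth.Agent.H40.FpqcTors
import Groth.Prelude.Def_HilbD

/-!
# fpqc sheaf property of the Hilbert functor of points, single cover
-/

set_option autoImplicit false
universe u

open CategoryTheory AlgebraicGeometry Limits

namespace Groth.Agent.H37

/-- `HilbD.pull` is the pullback of ideal sheaves. -/
theorem hilbPull_eq_comap {X S : Scheme.{u}} (f : X ⟶ S) {T T' : Over S} (g : T' ⟶ T)
    (I : (PicF.XT f T).IdealSheafData) : HilbD.pull f g I = I.comap (PicF.XTmap f g) := by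
  unfold HilbD.pull Scheme.IdealSheafData.comap
  rw [← pullbackSymmetry_hom_comp_fst, Scheme.Hom.ker_comp_of_isIso]

/-- pullback of ideal sheaves along a flat surjective morphism is injective. -/
theorem comap_injective_of_flat_surjective {X' X : Scheme.{u}} (p : X' ⟶ X) [Flat p] [Surjective p]
    (I₁ I₂ : X.IdealSheafData) (h : I₁.comap p = I₂.comap p) : I₁ = I₂ := by
  let Y₁ : Subobject X := Subobject.mk I₁.subschemeι
  let Y₂ : Subobject X := Subobject.mk I₂.subschemeι
  have h₁ : Y₁.arrow.ker = I₁ := by rw [ker_mk_arrow, Scheme.IdealSheafData.ker_subschemeι]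
  have h₂ : Y₂.arrow.ker = I₂ := by rw [ker_mk_arrow, Scheme.IdealSheafData.ker_subschemeι]
  have hp : (Subobject.pullback p).obj Y₁ = (Subobject.pullback p).obj Y₂ := by
    apply subobject_eq_of_ker_eq
    rw [ker_arrow_subobject_pullback, ker_arrow_subobject_pullback, h₁, h₂, h]
  have hY : Y₁ = Y₂ :=
    le_antisymm (Groth.Agent.H40.CD.le_of_pullback_le p Y₁ Y₂ hp.le)
      (Groth.Agent.H40.CD.le_of_pullback_le p Y₂ Y₁ hp.ge)
  rw [← h₁, ← h₂, hY]

section

variable {X S : Scheme.{u}} (f : X ⟶ S) (T : Over S) {T' : Scheme.{u}} (g : T' ⟶ T.left)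

/-- the comparison `X_{T'} ×_{X_T} X_{T'} ⟶ X_{T' ×_T T'}`. -/
noncomputable def overlapCmp :
    pullback (PicF.XTmap f (HilbD.coverHom T g)) (PicF.XTmap f (HilbD.coverHom T g)) ⟶
      PicF.XT f (HilbD.overlapOver T g) :=
  pullback.lift
    (pullback.fst _ _ ≫ pullback.fst f (HilbD.coverOver T g).hom)
    (pullback.lift
      (pullback.fst _ _ ≫ pullback.snd f (HilbD.coverOver T g).hom)
      (pullback.snd _ _ ≫ pullback.snd f (HilbD.coverOver T g).hom)
      (by
        have h1 := (isPullback_XTmap f (HilbD.coverHom T g)).w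
        have h2 : (HilbD.coverHom T g).left = g := Over.homMk_left _ _
        rw [h2] at h1
        rw [Category.assoc, Category.assoc, ← h1, pullback.condition_assoc]))
    (by
      change (_ ≫ pullback.fst f (g ≫ T.hom)) ≫ f = _ ≫ (pullback.fst g g ≫ g) ≫ T.hom
      rw [Category.assoc, pullback.condition]
      simp only [Category.assoc]
      rw [pullback.lift_fst_assoc, Category.assoc]
      rfl)

theorem overlapCmp_fst : overlapCmp f T g ≫ PicF.XTmap f (HilbD.overlapFst T g) =
    pullback.fst _ _ := by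
  apply pullback.hom_ext
  · rw [Category.assoc, FGA.XTmap_fst]
    exact pullback.lift_fst _ _ _
  · rw [Category.assoc, (isPullback_XTmap f (HilbD.overlapFst T g)).w]
    have h2 : (HilbD.overlapFst T g).left = pullback.fst g g := Over.homMk_left _ _
    rw [h2]
    unfold overlapCmp
    rw [pullback.lift_snd_assoc, pullback.lift_fst]

theorem overlapCmp_snd : overlapCmp f T g ≫ PicF.XTmap f (HilbD.overlapSnd T g) =
    pullback.snd _ _ := by
  apply pullback.hom_ext
  · rw [Category.assoc, FGA.XTmap_fst]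
    unfold overlapCmp
    rw [pullback.lift_fst]
    have h1 := FGA.XTmap_fst f (HilbD.coverHom T g)
    rw [← h1, pullback.condition_assoc]
  · rw [Category.assoc, (isPullback_XTmap f (HilbD.overlapSnd T g)).w]
    have h2 : (HilbD.overlapSnd T g).left = pullback.snd g g := Over.homMk_left _ _
    rw [h2]
    unfold overlapCmp
    rw [pullback.lift_snd_assoc, pullback.lift_snd]

variable [QuasiCompact g] [Flat g] [Surjective g]

instance flat_XTmap_coverHom : Flat (PicF.XTmap f (HilbD.coverHom T g)) :=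
  flat_XTmap f (HilbD.coverHom T g) (inferInstanceAs (Flat g))

instance surjective_XTmap_coverHom : Surjective (PicF.XTmap f (HilbD.coverHom T g)) :=
  MorphismProperty.of_isPullback (P := @Surjective) (isPullback_XTmap f (HilbD.coverHom T g)).flip
    (inferInstanceAs (Surjective g))

instance quasiCompact_XTmap_coverHom : QuasiCompact (PicF.XTmap f (HilbD.coverHom T g)) :=
  MorphismProperty.of_isPullback (P := @QuasiCompact) (isPullback_XTmap f (HilbD.coverHom T g)).flip
    (inferInstanceAs (QuasiCompact g))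

/-- the base change square of a closed subscheme of `X_T` along `g`. -/
theorem isPullback_subscheme_cover (J : (PicF.XT f T).IdealSheafData) :
    IsPullback ((J.comapIso (PicF.XTmap f (HilbD.coverHom T g))).hom ≫ pullback.snd _ _)
      ((J.comap (PicF.XTmap f (HilbD.coverHom T g))).subschemeι ≫
        PicF.XTproj f (HilbD.coverOver T g))
      (J.subschemeι ≫ PicF.XTproj f T) g := by
  have sq1 : IsPullback ((J.comapIso (PicF.XTmap f (HilbD.coverHom T g))).hom ≫ pullback.snd _ _)
      (J.comap (PicF.XTmap f (HilbD.coverHom T g))).subschemeι J.subschemeι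
      (PicF.XTmap f (HilbD.coverHom T g)) := by
    have h0 := (IsPullback.of_hasPullback (PicF.XTmap f (HilbD.coverHom T g)) J.subschemeι).flip
    refine IsPullback.of_iso h0 (J.comapIso (PicF.XTmap f (HilbD.coverHom T g))).symm (Iso.refl _)
      (Iso.refl _) (Iso.refl _) ?_ ?_ ?_ ?_
    · rw [Iso.symm_hom, Iso.inv_hom_id_assoc, Iso.refl_hom, Category.comp_id]
    · rw [Iso.symm_hom, Iso.refl_hom, Category.comp_id,
        Scheme.IdealSheafData.comapIso_inv_subschemeι]
    · rw [Iso.refl_hom, Iso.refl_hom, Category.comp_id, Category.id_comp]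
    · rw [Iso.refl_hom, Iso.refl_hom, Category.comp_id, Category.id_comp]
  exact sq1.paste_vert (isPullback_XTmap f (HilbD.coverHom T g))

/-- finite locally free of degree `d` descends along the fpqc cover `g`. -/
theorem isFinLocFreeOfDeg_of_cover (d : ℕ) (J : (PicF.XT f T).IdealSheafData)
    (h : Mor2.IsFinLocFreeOfDeg d
      ((J.comap (PicF.XTmap f (HilbD.coverHom T g))).subschemeι ≫
        PicF.XTproj f (HilbD.coverOver T g))) :
    Mor2.IsFinLocFreeOfDeg d (J.subschemeι ≫ PicF.XTproj f T) := by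
  obtain ⟨⟨h1, h2, h3⟩, h4⟩ := h
  have sq := isPullback_subscheme_cover f T g J
  have hg : (@Surjective ⊓ @Flat ⊓ @QuasiCompact : MorphismProperty Scheme.{u}) g :=
    ⟨⟨inferInstance, inferInstance⟩, inferInstance⟩
  have hfin : IsFinite (J.subschemeι ≫ PicF.XTproj f T) :=
    haveI := Groth.Agent.H1.isFinite_descendsAlong_fpqc.{u}
    MorphismProperty.of_isPullback_of_descendsAlong (P := @IsFinite)
      (Q := @Surjective ⊓ @Flat ⊓ @QuasiCompact) sq.flip hg h1
  have hflat : Flat (J.subschemeι ≫ PicF.XTproj f T) :=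
    haveI := Groth.Agent.H40.flat_descendsAlong.{u}
    MorphismProperty.of_isPullback_of_descendsAlong (P := @Flat)
      (Q := @Surjective ⊓ @Flat ⊓ @QuasiCompact) sq.flip hg h2
  have hlfp : LocallyOfFinitePresentation (J.subschemeι ≫ PicF.XTproj f T) :=
    MorphismProperty.of_isPullback_of_descendsAlong (P := @LocallyOfFinitePresentation)
      (Q := @Surjective ⊓ @Flat ⊓ @QuasiCompact) sq.flip hg h3
  refine ⟨⟨hfin, hflat, hlfp⟩, fun y => ?_⟩
  obtain ⟨y', rfl⟩ := g.surjective y
  rw [← Scheme.Hom.finrank_of_isPullback _ _ _ _ sq y']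
  exact h4 y'

/-- **fpqc sheaf property of `Hilb^d` for a single cover.** -/
theorem hilbD_sheaf_single_cover (d : ℕ) (Z' : HilbD.Obj f d (HilbD.coverOver T g))
    (hZ' : HilbD.pull f (HilbD.overlapFst T g) Z'.1 = HilbD.pull f (HilbD.overlapSnd T g) Z'.1) :
    ∃! I : (PicF.XT f T).IdealSheafData, Mor2.IsFinLocFreeOfDeg d (I.subschemeι ≫ PicF.XTproj f T) ∧
      HilbD.pull f (HilbD.coverHom T g) I = Z'.1 := by
  rw [hilbPull_eq_comap, hilbPull_eq_comap] at hZ'
  have hst : Z'.1.comap (pullback.fst (PicF.XTmap f (HilbD.coverHom T g))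
      (PicF.XTmap f (HilbD.coverHom T g))) =
      Z'.1.comap (pullback.snd (PicF.XTmap f (HilbD.coverHom T g))
      (PicF.XTmap f (HilbD.coverHom T g))) := by
    rw [← overlapCmp_fst f T g, ← overlapCmp_snd f T g, Scheme.IdealSheafData.comap_comp,
      Scheme.IdealSheafData.comap_comp, hZ']
  obtain ⟨J, hJ⟩ := exists_idealSheafData_comap_eq (PicF.XTmap f (HilbD.coverHom T g)) Z'.1 hst
  refine ⟨J, ⟨?_, ?_⟩, ?_⟩
  · apply isFinLocFreeOfDeg_of_cover f T g d J
    rw [hJ]
    exact Z'.2
  · rw [hilbPull_eq_comap, hJ]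
  · rintro I ⟨-, hI⟩
    rw [hilbPull_eq_comap] at hI
    exact comap_injective_of_flat_surjective (PicF.XTmap f (HilbD.coverHom T g)) I J
      (hI.trans hJ.symm)

end

end Groth.Agent.H37
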