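import Mathlib
import Groth.Agent.H24.LimitClosedImmStage
import Groth.Agent.H24.LimitImmStructure

/-!
# An immersion into a cofiltered limit is an immersion into a stage (helper37)

`ImmStage.exists_isImmersion_comp_π`: for a cofiltered limit `c.pt = lim D` with affine transition
maps and an immersion `h : X ⟶ c.pt` with `X` quasi-compact and `h ≫ c.π.app i₀` locally of finite
type, some `h ≫ c.π.app j` (with `j ⟶ i₀`) is an immersion.
-/

set_option autoImplicit false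
universe u
open CategoryTheory CategoryTheory.Limits AlgebraicGeometry

namespace Groth.Agent.H37.ImmStage

variable {I : Type u} [Category.{u} I] [IsCofiltered I] {D : I ⥤ Scheme.{u}} {c : Cone D}
  [∀ {i j} (f : i ⟶ j), IsAffineHom (D.map f)]

set_option backward.isDefEq.respectTransparency false in
theorem exists_isImmersion_comp_π (hc : IsLimit c) (i₀ : I)
    {X : Scheme.{u}} [CompactSpace X] (h : X ⟶ c.pt) [IsImmersion h]
    [LocallyOfFiniteType (h ≫ c.π.app i₀)] :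
    ∃ (j : I) (_ : j ⟶ i₀), IsImmersion (h ≫ c.π.app j) := by
  classical
  let U : c.pt.Opens := h.coborderRange
  have hB := isBasis_preimage_isAffineOpen D c hc
  have hex : ∀ x : X, ∃ W : c.pt.Opens, IsCompact (W : Set c.pt) ∧ h x ∈ W ∧ W ≤ U := by
    intro x
    have hx : h x ∈ U := subset_coborder ⟨x, rfl⟩
    obtain ⟨_, ⟨_, ⟨i, V, hV, rfl⟩, rfl⟩, hxW, hWU⟩ := hB.exists_subset_of_mem_open hx U.2
    refine ⟨_, ?_, hxW, hWU⟩
    have := isAffineHom_π_app D c hc i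
    exact (hV.preimage (c.π.app i)).isCompact
  choose W hWc hxW hWU using hex
  obtain ⟨K, hK⟩ : ∃ K : Finset X,
      (Set.univ : Set X) ⊆ ⋃ x ∈ K, ((h ⁻¹ᵁ W x : X.Opens) : Set X) :=
    isCompact_univ.elim_finite_subcover (fun x => ((h ⁻¹ᵁ W x : X.Opens) : Set X))
      (fun x => (h ⁻¹ᵁ W x).2) (fun x _ => Set.mem_iUnion.mpr ⟨x, hxW x⟩)
  let U' : c.pt.Opens := ⨆ x : K, W x.1
  have hU'U : U' ≤ U := iSup_le fun x => hWU x.1
  have hU'c : IsCompact (U' : Set c.pt) := by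
    have : ((U' : c.pt.Opens) : Set c.pt) = ⋃ x : K, (W x.1 : Set c.pt) := by simp [U']
    rw [this]; exact isCompact_iUnion fun x => hWc x.1
  have hrange : ∀ x : X, h x ∈ U' := by
    intro x
    have hx := hK (Set.mem_univ x)
    simp only [Set.mem_iUnion] at hx
    obtain ⟨y, hy, hxy⟩ := hx
    exact TopologicalSpace.Opens.mem_iSup.mpr ⟨⟨y, hy⟩, hxy⟩
  obtain ⟨i₁, V, hVc, hV⟩ := exists_preimage_eq D c hc U' hU'c
  let k := IsCofiltered.min i₁ i₀
  let a₁ : k ⟶ i₁ := IsCofiltered.minToLeft _ _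
  let a₀ : k ⟶ i₀ := IsCofiltered.minToRight _ _
  let Vk : (D.obj k).Opens := D.map a₁ ⁻¹ᵁ V
  have hVk : c.π.app k ⁻¹ᵁ Vk = U' := by
    rw [← Scheme.Hom.comp_preimage, c.w]; exact hV
  have hVkc : IsCompact (Vk : Set (D.obj k)) :=
    QuasiCompact.isCompact_preimage (f := D.map a₁) _ V.2 hVc
  -- the restricted system
  let D' := opensDiagram D k Vk
  let c' := opensCone D c k Vk
  have hc' : IsLimit c' := isLimitOpensCone D c hc k Vk
  have hr : Set.range h.base ⊆ Set.range (c.π.app k ⁻¹ᵁ Vk).ι.base := by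
    rintro _ ⟨x, rfl⟩
    rw [Scheme.Opens.range_ι, hVk]
    exact hrange x
  let h' : X ⟶ c'.pt := IsOpenImmersion.lift (c.π.app k ⁻¹ᵁ Vk).ι h hr
  have hh' : h' ≫ (c.π.app k ⁻¹ᵁ Vk).ι = h := IsOpenImmersion.lift_fac _ _ _
  have hcl : IsClosedImmersion h' :=
    Groth.Agent.H24.isClosedImmersion_of_le_coborderRange h (c.π.app k ⁻¹ᵁ Vk)
      (hVk ▸ hU'U) h' hh'
  let ψ₀ : Over k := Over.mk (𝟙 k)
  have hcomp : CompactSpace (D'.obj ψ₀) := by
    apply isCompact_iff_compactSpace.mp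
    have : (D.map ψ₀.hom ⁻¹ᵁ Vk) = Vk := by
      change D.map (𝟙 k) ⁻¹ᵁ Vk = Vk
      rw [D.map_id]; rfl
    change IsCompact ((D.map ψ₀.hom ⁻¹ᵁ Vk : (D.obj k).Opens) : Set (D.obj k))
    rw [this]; exact hVkc
  have hπ : ∀ ψ : Over k, (h' ≫ c'.π.app ψ) ≫ (D.map ψ.hom ⁻¹ᵁ Vk).ι = h ≫ c.π.app ψ.left := by
    intro ψ
    change (h' ≫ (c.π.app ψ.left).resLE _ _ _) ≫ _ = _
    rw [Category.assoc, Scheme.Hom.resLE_comp_ι, ← Category.assoc, hh']
  have hlft : LocallyOfFiniteType (h' ≫ c'.π.app ψ₀) := by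
    have h1 : LocallyOfFiniteType ((h ≫ c.π.app k) ≫ D.map a₀) := by
      rw [Category.assoc, c.w]; infer_instance
    have h2 : LocallyOfFiniteType (h ≫ c.π.app k) := locallyOfFiniteType_of_comp _ (D.map a₀)
    have h3 : LocallyOfFiniteType ((h' ≫ c'.π.app ψ₀) ≫ (D.map ψ₀.hom ⁻¹ᵁ Vk).ι) := by
      rw [hπ]; exact h2
    exact locallyOfFiniteType_of_comp _ (D.map ψ₀.hom ⁻¹ᵁ Vk).ι
  obtain ⟨j, hj⟩ := Groth.Agent.H24.exists_isClosedImmersion_comp_π hc' ψ₀ h'
  refine ⟨j.left.left, j.left.hom ≫ a₀, ?_⟩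
  rw [← hπ j.left]
  infer_instance

end Groth.Agent.H37.ImmStage
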