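import Groth.Agent.H40.FpqcTors
import Groth.Agent.H40.ActPts
import Groth.Prelude.Def_W4bk4git07Quot

/-! Locally isotrivial bundles are principal: points. -/

set_option autoImplicit false
universe v u

open CategoryTheory CategoryTheory.Limits AlgebraicGeometry MonoidalCategory
  CartesianMonoidalCategory MonObj

namespace Groth.Agent.H37

/-- a base change of `f` is an isomorphism as soon as points of the target over the new base lift
uniquely -/
theorem isIso_pullback_map_of_existsUnique {C : Type u} [Category.{v} C] [HasPullbacks C]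
    {A B X U : C} (f : A ⟶ B) (a : A ⟶ X) (b : B ⟶ X) (hf : f ≫ b = a) (c : U ⟶ X)
    (h : ∀ (W : C) (y : W ⟶ B) (u : W ⟶ U), y ≫ b = u ≫ c → ∃! x : W ⟶ A, x ≫ f = y) :
    IsIso (pullback.map a c b c f (𝟙 U) (𝟙 X) (by simp [hf]) (by simp)) := by
  rw [isIso_iff_yoneda_map_bijective]
  intro W
  constructor
  · intro z z' hz
    have hz1 : z ≫ pullback.fst a c ≫ f = z' ≫ pullback.fst a c ≫ f := by
      have := congrArg (· ≫ pullback.fst b c) hz
      simpa [pullback.map, pullback.lift_fst, pullback.lift_snd] using this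
    have hz2 : z ≫ pullback.snd a c = z' ≫ pullback.snd a c := by
      have := congrArg (· ≫ pullback.snd b c) hz
      simpa [pullback.map, pullback.lift_fst, pullback.lift_snd] using this
    obtain ⟨x, -, hx⟩ := h W (z ≫ pullback.fst a c ≫ f) (z ≫ pullback.snd a c) (by
      rw [Category.assoc, Category.assoc, hf, pullback.condition, Category.assoc])
    apply pullback.hom_ext
    · rw [hx (z ≫ pullback.fst a c) (by simp), hx (z' ≫ pullback.fst a c) (by simp [hz1])]
    · exact hz2
  · intro w
    obtain ⟨x, hx, -⟩ := h W (w ≫ pullback.fst b c) (w ≫ pullback.snd b c) (by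
      rw [Category.assoc, Category.assoc, pullback.condition])
    refine ⟨pullback.lift x (w ≫ pullback.snd b c) ?_, ?_⟩
    · rw [← hf, ← Category.assoc, hx, Category.assoc, Category.assoc, pullback.condition]
    · apply pullback.hom_ext
      · simp [pullback.map, pullback.lift_fst, pullback.lift_fst_assoc, hx]
      · simp [pullback.map, pullback.lift_snd]

open Groth.Agent.H40

/-- unique lifting of points through `PsiY` over a trivialising base -/
theorem existsUnique_lift_psiY {S : Scheme.{u}} {G P X T : Over S} [GrpObj G]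
    (a : AlgGrp.Action G P) (π : P ⟶ X) (hinv : GIT.IsInvariant a π)
    (cT : T ⟶ X) (s : T ⟶ P)
    (H : IsPullback (fst T G).left (lift (snd T G) (fst T G ≫ s) ≫ a.act).left cT.left π.left)
    (W : Scheme.{u}) (y : W ⟶ pullback π.left π.left) (u : W ⟶ T.left)
    (hyu : y ≫ pullback.fst π.left π.left ≫ π.left = u ≫ cT.left) :
    ∃! x : W ⟶ (G ⊗ P).left, x ≫ GIT.PsiY a π hinv = y := by
  let Wk : Over S := Over.mk (u ≫ T.hom)
  let uT : Wk ⟶ T := Over.homMk u rfl
  let z : Wk ⟶ P := uT ≫ s
  have hcT : cT.left ≫ X.hom = T.hom := Over.w cT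
  have hπ : π.left ≫ X.hom = P.hom := Over.w π
  have hyu2 : y ≫ pullback.snd π.left π.left ≫ π.left = u ≫ cT.left := by
    rw [← pullback.condition]; exact hyu
  have hy1 : (y ≫ pullback.fst π.left π.left) ≫ P.hom = Wk.hom := by
    show (y ≫ pullback.fst π.left π.left) ≫ P.hom = u ≫ T.hom
    rw [← hπ, ← hcT, Category.assoc, ← Category.assoc u, ← hyu]
    simp only [Category.assoc]
  have hy2 : (y ≫ pullback.snd π.left π.left) ≫ P.hom = Wk.hom := by
    show (y ≫ pullback.snd π.left π.left) ≫ P.hom = u ≫ T.hom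
    rw [← hπ, ← hcT, Category.assoc, ← Category.assoc u, ← hyu2]
    simp only [Category.assoc]
  let p1 : Wk ⟶ P := Over.homMk (y ≫ pullback.fst _ _) hy1
  let p2 : Wk ⟶ P := Over.homMk (y ≫ pullback.snd _ _) hy2
  -- the trivialisation on points
  have hα : ∀ τ : Wk ⟶ T ⊗ G,
      τ ≫ (lift (snd T G) (fst T G ≫ s) ≫ a.act) = psmul a (τ ≫ snd T G) ((τ ≫ fst T G) ≫ s) := by
    intro τ
    rw [psmul_def, ← Category.assoc, comp_lift, Category.assoc]
  have key : ∀ p : Wk ⟶ P, p.left ≫ π.left = u ≫ cT.left → ∃ g : Wk ⟶ G, psmul a g z = p := by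
    intro p hp
    let t : W ⟶ (T ⊗ G).left := H.lift u p.left hp.symm
    have ht1 : t ≫ (fst T G).left = u := H.lift_fst _ _ _
    have ht2 : t ≫ (lift (snd T G) (fst T G ≫ s) ≫ a.act).left = p.left := H.lift_snd _ _ _
    have htw : t ≫ (T ⊗ G).hom = Wk.hom := by
      show t ≫ (T ⊗ G).hom = u ≫ T.hom
      rw [← Over.w (fst T G), ← Category.assoc, ht1]
    let τ : Wk ⟶ T ⊗ G := Over.homMk t htw
    have hτ1 : τ ≫ fst T G = uT := by
      apply Over.OverMorphism.ext
      exact ht1
    refine ⟨τ ≫ snd T G, ?_⟩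
    have := hα τ
    rw [hτ1] at this
    rw [← this]
    apply Over.OverMorphism.ext
    exact ht2
  have keyu : ∀ g g' : Wk ⟶ G, psmul a g z = psmul a g' z → g = g' := by
    intro g g' hgg
    have h1 : (lift uT g).left = (lift uT g').left := by
      apply H.hom_ext
      · have e1 : lift uT g ≫ fst T G = lift uT g' ≫ fst T G := by simp
        exact congrArg CommaMorphism.left e1
      · have e2 : lift uT g ≫ (lift (snd T G) (fst T G ≫ s) ≫ a.act) =
            lift uT g' ≫ (lift (snd T G) (fst T G ≫ s) ≫ a.act) := by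
          rw [hα, hα]
          simpa using hgg
        exact congrArg CommaMorphism.left e2
    have h2 : lift uT g = lift uT g' := Over.OverMorphism.ext h1
    have := congrArg (· ≫ snd T G) h2
    simpa using this
  obtain ⟨g1, hg1⟩ := key p1 hyu
  obtain ⟨g2, hg2⟩ := key p2 hyu2
  have hΨ1 : GIT.PsiY a π hinv ≫ pullback.fst π.left π.left = a.act.left := by
    rw [GIT.PsiY, pullback.lift_fst]
  have hΨ2 : GIT.PsiY a π hinv ≫ pullback.snd π.left π.left = (snd G P).left := by
    rw [GIT.PsiY, pullback.lift_snd]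
  refine ⟨(lift (g1 * g2⁻¹) p2).left, ?_, ?_⟩
  · apply pullback.hom_ext
    · rw [Category.assoc, hΨ1]
      have e : lift (g1 * g2⁻¹) p2 ≫ a.act = p1 := by
        rw [← psmul_def, ← hg2, mul_psmul, inv_psmul_psmul, hg1]
      exact congrArg CommaMorphism.left e
    · rw [Category.assoc, hΨ2]
      have e : lift (g1 * g2⁻¹) p2 ≫ snd G P = p2 := by simp
      exact congrArg CommaMorphism.left e
  · intro x' hx'
    have hx1 : x' ≫ a.act.left = y ≫ pullback.fst π.left π.left := by
      rw [← hΨ1, ← Category.assoc, hx']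
    have hx2 : x' ≫ (snd G P).left = y ≫ pullback.snd π.left π.left := by
      rw [← hΨ2, ← Category.assoc, hx']
    have hxw : x' ≫ (G ⊗ P).hom = Wk.hom := by
      rw [← Over.w (snd G P), ← Category.assoc, hx2]
      exact hy2
    let ξ : Wk ⟶ G ⊗ P := Over.homMk x' hxw
    have hξ2 : ξ ≫ snd G P = p2 := by
      apply Over.OverMorphism.ext
      exact hx2
    have hξ : ξ = lift (ξ ≫ fst G P) p2 := by
      apply CartesianMonoidalCategory.hom_ext
      · simp
      · simp [hξ2]
    have hξa : psmul a (ξ ≫ fst G P) p2 = p1 := by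
      rw [psmul_def, ← hξ]
      apply Over.OverMorphism.ext
      exact hx1
    have hh : ξ ≫ fst G P = g1 * g2⁻¹ := by
      have e1 : psmul a ((ξ ≫ fst G P) * g2) z = psmul a g1 z := by
        rw [mul_psmul, hg2, hξa, hg1]
      have e2 := keyu _ _ e1
      rw [← e2, mul_inv_cancel_right]
    have : ξ = lift (g1 * g2⁻¹) p2 := by rw [hξ, hh]
    exact congrArg CommaMorphism.left this

end Groth.Agent.H37
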