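import Groth.Agent.H37.IsoTriv

/-! Locally isotrivial bundles are principal. -/

set_option autoImplicit false
universe v u

open CategoryTheory CategoryTheory.Limits AlgebraicGeometry MonoidalCategory
  CartesianMonoidalCategory MonObj

namespace Groth.Agent.H37

open Groth.Agent.H40

theorem psiY_isIso_and_flat_of_locallyTrivial {S : Scheme.{u}} {G P X : Over S} [GrpObj G]
    [Flat G.hom] (a : AlgGrp.Action G P) (π : P ⟶ X) (hinv : GIT.IsInvariant a π)
    (hli : ∀ x : ↥X.left, ∃ (U : X.left.Opens) (_ : x ∈ U) (U' : Scheme.{u}) (φ : U' ⟶ ↑U)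
      (_ : Flat φ) (_ : LocallyOfFinitePresentation φ) (_ : Surjective φ)
      (s : Over.mk (φ ≫ U.ι ≫ X.hom) ⟶ P),
      IsPullback (fst (Over.mk (φ ≫ U.ι ≫ X.hom)) G).left
        (lift (snd (Over.mk (φ ≫ U.ι ≫ X.hom)) G) (fst (Over.mk (φ ≫ U.ι ≫ X.hom)) G ≫ s) ≫
          a.act).left (φ ≫ U.ι) π.left) :
    IsIso (GIT.PsiY a π hinv) ∧ Flat π.left := by
  choose U hxU U' φ hfl hlfp hsurj s H using hli
  let c : ∀ x, U' x ⟶ X.left := fun x => φ x ≫ (U x).ι
  have hR : Presieve.ofArrows U' c ∈ Scheme.fpqcPrecoverage X.left := by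
    apply Scheme.fppfPrecoverage_le_fpqcPrecoverage
    rw [Scheme.fppfPrecoverage, Scheme.ofArrows_mem_precoverage_iff]
    refine ⟨fun x => ⟨x, ?_⟩, fun x => ⟨?_, ?_⟩⟩
    · obtain ⟨y, hy⟩ := (hsurj x).surj ⟨x, hxU x⟩
      refine ⟨y, ?_⟩
      show (φ x ≫ (U x).ι) y = x
      rw [Scheme.Hom.comp_apply, hy]
      rfl
    · haveI := hfl x
      show Flat (φ x ≫ (U x).ι)
      infer_instance
    · haveI := hlfp x
      show LocallyOfFinitePresentation (φ x ≫ (U x).ι)
      infer_instance
  constructor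
  · let A : Over X.left := Over.mk ((snd G P).left ≫ π.left)
    let B : Over X.left := Over.mk (pullback.fst π.left π.left ≫ π.left)
    have hΨ1 : GIT.PsiY a π hinv ≫ pullback.fst π.left π.left = a.act.left := by
      rw [GIT.PsiY, pullback.lift_fst]
    have hw : GIT.PsiY a π hinv ≫ B.hom = A.hom := by
      show GIT.PsiY a π hinv ≫ pullback.fst π.left π.left ≫ π.left = (snd G P).left ≫ π.left
      rw [← Category.assoc, hΨ1]
      exact hinv.left
    let Φ : A ⟶ B := Over.homMk (GIT.PsiY a π hinv) hw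
    have key : (MorphismProperty.isomorphisms Scheme.{u}) Φ.left := by
      refine prop_left_of_fpqc_family (MorphismProperty.isomorphisms Scheme.{u}) inferInstance Φ hR ?_
      rintro V g ⟨x⟩
      show IsIso ((Φ ▷ Over.mk (c x)).left)
      rw [Over.whiskerRight_left]
      let cT : Over.mk (φ x ≫ (U x).ι ≫ X.hom) ⟶ X := Over.homMk (c x) (by simp [c])
      exact isIso_pullback_map_of_existsUnique Φ.left A.hom B.hom hw (c x)
        (fun W y u hyu => existsUnique_lift_psiY a π hinv cT (s x) (H x) W y u hyu)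
    exact key
  · refine prop_of_fpqcPresieve @Flat flat_descendsAlong π.left hR ?_
    rintro V g ⟨x⟩
    have hpb := (H x).flip
    have e : pullback.snd π.left (c x) = hpb.isoPullback.inv ≫
        (fst (Over.mk (φ x ≫ (U x).ι ≫ X.hom)) G).left := by
      rw [Iso.eq_inv_comp]
      exact hpb.isoPullback_hom_snd
    have hpbG : IsPullback (fst (Over.mk (φ x ≫ (U x).ι ≫ X.hom)) G).left
        (snd (Over.mk (φ x ≫ (U x).ι ≫ X.hom)) G).left
        (Over.mk (φ x ≫ (U x).ι ≫ X.hom)).hom G.hom := by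
      simpa using IsPullback.of_hasPullback (Over.mk (φ x ≫ (U x).ι ≫ X.hom)).hom G.hom
    haveI : Flat (fst (Over.mk (φ x ≫ (U x).ι ≫ X.hom)) G).left :=
      MorphismProperty.of_isPullback (P := @Flat) hpbG.flip inferInstance
    show Flat (pullback.snd π.left (c x))
    rw [e]
    infer_instance

end Groth.Agent.H37
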