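import Mathlib

/-!
# Descent of finiteness of a module along a finite jointly faithfully flat family of algebras
-/

set_option autoImplicit false
universe u v

open TensorProduct

namespace Groth.Agent.H37

section

variable {A : Type u} [CommRing A] {Q : Type v} [AddCommGroup Q] [Module A Q]

/-- a module killed by tensoring with each member of a jointly faithfully flat family vanishes. -/
theorem subsingleton_of_tensor_family {J : Type*} (B : J → Type u) [∀ j, CommRing (B j)]
    [∀ j, Algebra A (B j)] [∀ j, Module.Flat A (B j)]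
    (hsurj : ∀ m : Ideal A, m.IsMaximal → ∃ (j : J) (q : Ideal (B j)), q.IsPrime ∧
      q.comap (algebraMap A (B j)) = m)
    (h : ∀ j, Subsingleton (B j ⊗[A] Q)) : Subsingleton Q := by
  refine ⟨fun x y => ?_⟩
  suffices H : ∀ x : Q, x = 0 by rw [H x, H y]
  intro x
  let I : Ideal A := LinearMap.ker (LinearMap.toSpanSingleton A Q x)
  by_contra hx
  have hI : I ≠ ⊤ := by
    intro hI
    apply hx
    have : (1 : A) ∈ I := hI ▸ Submodule.mem_top
    simpa [I] using this
  obtain ⟨m, hm, hIm⟩ := Ideal.exists_le_maximal I hI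
  obtain ⟨j, q, hq, hqm⟩ := hsurj m hm
  -- `A ⧸ I` embeds into `Q`
  let ι : (A ⧸ I) →ₗ[A] Q := Submodule.liftQ I (LinearMap.toSpanSingleton A Q x) le_rfl
  have hι : Function.Injective ι := by
    rw [← LinearMap.ker_eq_bot]
    exact Submodule.ker_liftQ_eq_bot _ _ _ le_rfl
  have hinj : Function.Injective (ι.lTensor (B j)) :=
    Module.Flat.lTensor_preserves_injective_linearMap ι hι
  haveI := h j
  haveI : Subsingleton (B j ⊗[A] (A ⧸ I)) := hinj.subsingleton
  haveI : Subsingleton (B j ⧸ (I • (⊤ : Submodule A (B j)))) :=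
    (TensorProduct.tensorQuotEquivQuotSMul (B j) I).symm.injective.subsingleton
  have htop : I • (⊤ : Submodule A (B j)) = ⊤ := Submodule.Quotient.subsingleton_iff.mp ‹_›
  have hle : I • (⊤ : Submodule A (B j)) ≤ q.restrictScalars A := by
    rw [Submodule.smul_le]
    intro a ha b _
    have ha' : algebraMap A (B j) a ∈ q := by
      have : a ∈ q.comap (algebraMap A (B j)) := hqm ▸ hIm ha
      exact this
    show a • b ∈ q
    rw [Algebra.smul_def]
    exact q.mul_mem_right _ ha'
  have h1 : (1 : B j) ∈ q := by
    have h0 : (1 : B j) ∈ I • (⊤ : Submodule A (B j)) := by rw [htop]; exact Submodule.mem_top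
    have : (1 : B j) ∈ q.restrictScalars A := hle h0
    exact this
  exact hq.ne_top ((Ideal.eq_top_iff_one q).mpr h1)

end

section

variable {A : Type u} [CommRing A] {M : Type u} [AddCommGroup M] [Module A M]

/-- finiteness of a module descends along a finite jointly faithfully flat family of algebras. -/
theorem finite_of_tensor_family {J : Type*} [Finite J] (B : J → Type u) [∀ j, CommRing (B j)]
    [∀ j, Algebra A (B j)] [∀ j, Module.Flat A (B j)]
    (hsurj : ∀ m : Ideal A, m.IsMaximal → ∃ (j : J) (q : Ideal (B j)), q.IsPrime ∧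
      q.comap (algebraMap A (B j)) = m)
    (hfin : ∀ j, Module.Finite (B j) (B j ⊗[A] M)) : Module.Finite A M := by
  classical
  haveI := Fintype.ofFinite J
  -- finitely many elements of `M` generating each `B j ⊗ M`
  have hgen : ∀ j, ∃ S : Finset M, Submodule.span (B j)
      ((fun m : M => (1 : B j) ⊗ₜ[A] m) '' (S : Set M)) = ⊤ := by
    intro j
    have hspan : Submodule.span (B j) (Set.range fun m : M => (1 : B j) ⊗ₜ[A] m) = ⊤ := by
      rw [eq_top_iff]
      rintro z -
      induction z using TensorProduct.induction_on with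
      | zero => exact Submodule.zero_mem _
      | tmul b m =>
        have : b ⊗ₜ[A] m = b • ((1 : B j) ⊗ₜ[A] m) := by
          rw [TensorProduct.smul_tmul', smul_eq_mul, mul_one]
        rw [this]
        exact Submodule.smul_mem _ _ (Submodule.subset_span ⟨m, rfl⟩)
      | add z w hz hw => exact Submodule.add_mem _ hz hw
    have hfg : (Submodule.span (B j) (Set.range fun m : M => (1 : B j) ⊗ₜ[A] m)).FG := by
      rw [hspan]; exact (hfin j).fg_top
    obtain ⟨s', hs', hss'⟩ := (Submodule.fg_span_iff_fg_span_finset_subset _).mp hfg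
    rw [← Set.image_univ, Finset.subset_set_image_iff] at hs'
    obtain ⟨S, -, hS⟩ := hs'
    refine ⟨S, ?_⟩
    rw [← hspan, hss', ← hS, Finset.coe_image]
  choose S hS using hgen
  let N : Submodule A M := Submodule.span A (↑(Finset.univ.biUnion S) : Set M)
  have hNfg : N.FG := ⟨_, rfl⟩
  -- the quotient vanishes
  have hQ : Subsingleton (M ⧸ N) := by
    apply subsingleton_of_tensor_family B hsurj
    intro j
    have hsurj' : Function.Surjective (N.subtype.lTensor (B j)) := by
      have hbc : LinearMap.range (N.subtype.baseChange (B j)) = ⊤ := by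
        rw [eq_top_iff, ← hS j, Submodule.span_le]
        rintro _ ⟨m, hm, rfl⟩
        have hmN : m ∈ N := Submodule.subset_span (by
          simp only [Finset.coe_biUnion, Finset.coe_univ, Set.mem_univ, Set.iUnion_true,
            Set.mem_iUnion]
          exact ⟨j, hm⟩)
        exact ⟨(1 : B j) ⊗ₜ[A] (⟨m, hmN⟩ : N), by simp⟩
      intro z
      obtain ⟨w, hw⟩ := LinearMap.range_eq_top.mp hbc z
      exact ⟨w, hw⟩
    refine ⟨fun z z' => ?_⟩
    suffices H : ∀ z : B j ⊗[A] (M ⧸ N), z = 0 by rw [H z, H z']
    intro z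
    obtain ⟨y, rfl⟩ := LinearMap.lTensor_surjective (B j) N.mkQ_surjective z
    obtain ⟨w, rfl⟩ := hsurj' y
    rw [← LinearMap.comp_apply, ← LinearMap.lTensor_comp]
    have : N.mkQ.comp N.subtype = 0 := by
      ext n
      simp
    rw [this, LinearMap.lTensor_zero, LinearMap.zero_apply]
  have hN : N = ⊤ := Submodule.Quotient.subsingleton_iff.mp hQ
  exact ⟨hN ▸ hNfg⟩

end

end Groth.Agent.H37
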