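import Mathlib.AlgebraicGeometry.Sites.Etale
import Mathlib.AlgebraicGeometry.Sites.Fpqc
import Mathlib.AlgebraicGeometry.Morphisms.UniversallyOpen

set_option autoImplicit false
universe u
open CategoryTheory CategoryTheory.Limits AlgebraicGeometry

namespace Groth.Agent.H37

/-- the largest open on which a source-local property holds -/
theorem largest_open (Q P : MorphismProperty Scheme.{u}) [P.IsLocalAtSource (Scheme.precoverage Q)]
    (hQopen : ∀ {X Y : Scheme.{u}} (f : X ⟶ Y), IsOpenImmersion f → Q f)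
    (hQres : ∀ {X Y : Scheme.{u}} (f : X ⟶ Y) (U : Y.Opens) (V : X.Opens) (e : V ≤ f ⁻¹ᵁ U),
      Q f → Q (f.resLE U V e))
    (hQmap : ∀ {X Y : Scheme.{u}} (f : X ⟶ Y), Q f → IsOpenMap f)
    {X Y : Scheme.{u}} (f : X ⟶ Y) :
    ∃ W : X.Opens, (P (W.ι ≫ f) ∧ ∀ W' : X.Opens, P (W'.ι ≫ f) → W' ≤ W) ∧
      ∀ (X' : Scheme.{u}) (g : X' ⟶ X), Q g → ∀ (V : X'.Opens),
        (P (V.ι ≫ g ≫ f) ∧ ∀ V' : X'.Opens, P (V'.ι ≫ g ≫ f) → V' ≤ V) → V = g ⁻¹ᵁ W := by
  -- general principle: a union of opens with `P` has `P`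
  have hsup : ∀ {X₁ : Scheme.{u}} (f₁ : X₁ ⟶ Y) (𝒮 : Set X₁.Opens),
      (∀ W' ∈ 𝒮, P (W'.ι ≫ f₁)) → P ((sSup 𝒮 : X₁.Opens).ι ≫ f₁) := by
    intro X₁ f₁ 𝒮 h𝒮
    have hmem : Presieve.ofArrows (fun W' : 𝒮 => ((W' : X₁.Opens) : Scheme.{u}))
        (fun W' : 𝒮 => X₁.homOfLE (le_sSup W'.2)) ∈
        Scheme.precoverage Q ((sSup 𝒮 : X₁.Opens) : Scheme.{u}) := by
      rw [Scheme.ofArrows_mem_precoverage_iff]
      refine ⟨?_, fun W' => hQopen _ inferInstance⟩
      intro x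
      have hx : x.1 ∈ (sSup 𝒮 : X₁.Opens) := x.2
      rw [TopologicalSpace.Opens.mem_sSup] at hx
      obtain ⟨W', hW', hxW'⟩ := hx
      refine ⟨⟨W', hW'⟩, ⟨x.1, hxW'⟩, ?_⟩
      apply Subtype.ext
      exact congr($(X₁.homOfLE_ι (le_sSup hW')) ⟨x.1, hxW'⟩)
    apply MorphismProperty.IsLocalAtSource.of_forall_comp hmem
    rintro _ _ ⟨W'⟩
    rw [← Category.assoc, Scheme.homOfLE_ι]
    exact h𝒮 _ W'.2
  refine ⟨sSup {W' : X.Opens | P (W'.ι ≫ f)}, ⟨hsup f _ (fun W' hW' => hW'),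
    fun W' hW' => le_sSup hW'⟩, ?_⟩
  intro X' g hg V ⟨hV, hVmax⟩
  set W := sSup {W' : X.Opens | P (W'.ι ≫ f)} with hWdef
  have hW : P (W.ι ≫ f) := hsup f _ (fun W' hW' => hW')
  apply le_antisymm
  · -- the image of V is an open with P
    let W' : X.Opens := ⟨g '' (V : Set X'), hQmap g hg _ V.2⟩
    have hVW' : V ≤ g ⁻¹ᵁ W' := fun x hx => ⟨x, hx, rfl⟩
    have hmem : Presieve.singleton (g.resLE W' V hVW') ∈ Scheme.precoverage Q (W' : Scheme.{u}) := by
      rw [Scheme.singleton_mem_precoverage_iff]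
      refine ⟨?_, hQres g W' V hVW' hg⟩
      rintro ⟨y, x, hx, rfl⟩
      refine ⟨⟨x, hx⟩, ?_⟩
      apply Subtype.ext
      exact congr($(Scheme.Hom.resLE_comp_ι g hVW') ⟨x, hx⟩)
    have hPW' : P (W'.ι ≫ f) := by
      apply MorphismProperty.IsLocalAtSource.of_forall_comp hmem
      rintro _ _ ⟨⟩
      rw [← Category.assoc, Scheme.Hom.resLE_comp_ι, Category.assoc]
      exact hV
    have hW'W : W' ≤ W := le_sSup hPW'
    intro x hx
    exact hW'W ⟨x, hx, rfl⟩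
  · apply hVmax
    -- restrict g over W and use the covering {g ∣_ W, 𝟙}
    have hmem : Presieve.ofArrows (fun b : Bool => if b then ((g ⁻¹ᵁ W : X'.Opens) : Scheme.{u})
          else (W : Scheme.{u}))
        (fun b : Bool => match b with
          | true => (g ∣_ W : ((g ⁻¹ᵁ W : X'.Opens) : Scheme.{u}) ⟶ (W : Scheme.{u}))
          | false => 𝟙 (W : Scheme.{u})) ∈ Scheme.precoverage Q (W : Scheme.{u}) := by
      rw [Scheme.ofArrows_mem_precoverage_iff]
      refine ⟨fun x => ⟨false, x, rfl⟩, ?_⟩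
      rintro (_ | _)
      · show Q (𝟙 (W : Scheme.{u}))
        exact hQopen _ inferInstance
      · show Q (g ∣_ W)
        have := hQres g W (g ⁻¹ᵁ W) le_rfl hg
        rwa [Scheme.Hom.resLE, Scheme.homOfLE_rfl, Category.id_comp] at this
    have := MorphismProperty.IsLocalAtSource.comp (P := P) hmem _ (Presieve.ofArrows.mk true) hW
    rw [← Category.assoc, morphismRestrict_ι, Category.assoc] at this
    exact this

end Groth.Agent.H37
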