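import Mathlib.CategoryTheory.Limits.Shapes.Pullback.HasPullback
import Mathlib.CategoryTheory.Comma.Over.Basic
import Mathlib.CategoryTheory.Limits.IsLimit
import Mathlib.Order.Directed

/-!
# A morphism of cofiltered limits as a limit of fibre products (Stacks 09MV, categorical core)

Let `X = lim A_i` and `S = lim B_j` be limits of inverse systems indexed by directed sets, and
`f : X ⟶ S`.  Assume every `X ⟶ S ⟶ B_j` factors through some `A_i` (`hex`), essentially
uniquely (`hun`).  Then, in `Over S`, `X` is the limit of the directed system of the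
`A_i ×_{B_j} S`, indexed by the compatible triples `(i, j, φ : A_i ⟶ B_j)`.
-/

set_option autoImplicit false
universe v u w

open CategoryTheory Limits Opposite

namespace Groth.Agent.H37.LimFib

variable {C : Type u} [Category.{v} C] [HasPullbacks C]
variable {I J : Type w} [Preorder I] [Preorder J]
variable (A : Iᵒᵖ ⥤ C) (B : Jᵒᵖ ⥤ C) (cA : Cone A) (cB : Cone B) (f : cA.pt ⟶ cB.pt)

/-- compatible triples `(i, j, φ : A_i ⟶ B_j)`. -/
structure Idx where
  i : I
  j : J
  φ : A.obj (op i) ⟶ B.obj (op j)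
  w : cA.π.app (op i) ≫ φ = f ≫ cB.π.app (op j)

variable {A B cA cB f}

/-- the order on compatible triples. -/
def Idx.le (k k' : Idx A B cA cB f) : Prop :=
  ∃ (hi : k.i ≤ k'.i) (hj : k.j ≤ k'.j),
    A.map (homOfLE hi).op ≫ k.φ = k'.φ ≫ B.map (homOfLE hj).op

theorem Idx.le_rfl' (k : Idx A B cA cB f) : k.le k :=
  ⟨le_rfl, le_rfl, by
    rw [show homOfLE (_root_.le_refl k.i) = 𝟙 _ from rfl, show homOfLE (_root_.le_refl k.j) = 𝟙 _ from rfl,
      op_id, op_id, A.map_id, B.map_id, Category.id_comp, Category.comp_id]⟩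

theorem Idx.le_trans' {k k' k'' : Idx A B cA cB f} (h : k.le k') (h' : k'.le k'') : k.le k'' := by
  obtain ⟨hi, hj, e⟩ := h
  obtain ⟨hi', hj', e'⟩ := h'
  refine ⟨hi.trans hi', hj.trans hj', ?_⟩
  have e1 : homOfLE (hi.trans hi') = homOfLE hi ≫ homOfLE hi' := rfl
  have e2 : homOfLE (hj.trans hj') = homOfLE hj ≫ homOfLE hj' := rfl
  rw [e1, e2, op_comp, op_comp, A.map_comp, B.map_comp, Category.assoc, e, ← Category.assoc, e',
    Category.assoc]

instance : Preorder (Idx A B cA cB f) where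
  le := Idx.le
  le_refl := Idx.le_rfl'
  le_trans _ _ _ := Idx.le_trans'

theorem Idx.hi {k k' : Idx A B cA cB f} (h : k ≤ k') : k.i ≤ k'.i := h.1
theorem Idx.hj {k k' : Idx A B cA cB f} (h : k ≤ k') : k.j ≤ k'.j := h.2.1
theorem Idx.comm {k k' : Idx A B cA cB f} (h : k ≤ k') :
    A.map (homOfLE (Idx.hi h)).op ≫ k.φ = k'.φ ≫ B.map (homOfLE (Idx.hj h)).op := h.2.2

variable (A B cA cB f)

/-- existence of factorizations. -/
def HasFac : Prop :=
  ∀ j : J, ∃ (i : I) (φ : A.obj (op i) ⟶ B.obj (op j)),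
    cA.π.app (op i) ≫ φ = f ≫ cB.π.app (op j)

/-- essential uniqueness of factorizations. -/
def UniqFac : Prop :=
  ∀ (i : I) (j : J) (φ φ' : A.obj (op i) ⟶ B.obj (op j)),
    cA.π.app (op i) ≫ φ = cA.π.app (op i) ≫ φ' →
      ∃ (i' : I) (h : i ≤ i'), A.map (homOfLE h).op ≫ φ = A.map (homOfLE h).op ≫ φ'

variable {A B cA cB f}

/-- moving a triple to a larger first index. -/
def Idx.shift (k : Idx A B cA cB f) {i' : I} (h : k.i ≤ i') : Idx A B cA cB f where
  i := i'
  j := k.j
  φ := A.map (homOfLE h).op ≫ k.φ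
  w := by rw [← Category.assoc, cA.w, k.w]

theorem Idx.le_shift (k : Idx A B cA cB f) {i' : I} (h : k.i ≤ i') : k ≤ k.shift h :=
  ⟨h, le_rfl, by
    change _ = (A.map (homOfLE h).op ≫ k.φ) ≫ B.map (homOfLE (le_refl k.j)).op
    rw [show homOfLE (le_refl k.j) = 𝟙 _ from rfl, op_id, B.map_id, Category.comp_id]
    rfl⟩

/-- moving a triple to a smaller second index. -/
def Idx.lower (k : Idx A B cA cB f) {j' : J} (h : j' ≤ k.j) : Idx A B cA cB f where
  i := k.i
  j := j'
  φ := k.φ ≫ B.map (homOfLE h).op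
  w := by rw [← Category.assoc, k.w, Category.assoc, cB.w]

theorem Idx.lower_le (k : Idx A B cA cB f) {j' : J} (h : j' ≤ k.j) : k.lower h ≤ k :=
  ⟨le_rfl, h, by
    change A.map (homOfLE (le_refl k.i)).op ≫ k.φ ≫ B.map (homOfLE h).op = _
    rw [show homOfLE (le_refl k.i) = 𝟙 _ from rfl, op_id, A.map_id, Category.id_comp]
    rfl⟩

section directed

variable [IsDirected I (· ≤ ·)] [IsDirected J (· ≤ ·)]

/-- a triple is dominated by a shift of any triple with larger second index. -/
theorem exists_ge_of_le_j (hun : UniqFac A B cA) (k k₀ : Idx A B cA cB f)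
    (hj : k.j ≤ k₀.j) : ∃ (i' : I) (h : k₀.i ≤ i'), k ≤ k₀.shift h := by
  obtain ⟨i₁, h1, h2⟩ := exists_ge_ge k.i k₀.i
  obtain ⟨i₂, h3, e⟩ := hun i₁ k.j (A.map (homOfLE h1).op ≫ k.φ)
    (A.map (homOfLE h2).op ≫ k₀.φ ≫ B.map (homOfLE hj).op) (by
      rw [← Category.assoc, ← Category.assoc, cA.w, cA.w, k.w, ← Category.assoc, k₀.w,
        Category.assoc, cB.w])
  refine ⟨i₂, h2.trans h3, h1.trans h3, hj, ?_⟩
  change A.map (homOfLE (h1.trans h3)).op ≫ k.φ =
    (A.map (homOfLE (h2.trans h3)).op ≫ k₀.φ) ≫ B.map (homOfLE hj).op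
  have e1 : homOfLE (h1.trans h3) = homOfLE h1 ≫ homOfLE h3 := rfl
  have e2 : homOfLE (h2.trans h3) = homOfLE h2 ≫ homOfLE h3 := rfl
  rw [e1, e2, op_comp, op_comp, A.map_comp, A.map_comp]
  simp only [Category.assoc] at e ⊢
  exact e

theorem idx_directed (hex : HasFac A B cA cB f) (hun : UniqFac A B cA) :
    IsDirected (Idx A B cA cB f) (· ≤ ·) := by
  refine ⟨fun k k' => ?_⟩
  obtain ⟨j₀, hj, hj'⟩ := exists_ge_ge k.j k'.j
  obtain ⟨i₀, φ₀, w₀⟩ := hex j₀
  let k₀ : Idx A B cA cB f := ⟨i₀, j₀, φ₀, w₀⟩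
  obtain ⟨i₁, h1, le1⟩ := exists_ge_of_le_j hun k k₀ hj
  obtain ⟨i₂, h2, le2⟩ := exists_ge_of_le_j hun k' k₀ hj'
  obtain ⟨i₃, h3, h4⟩ := exists_ge_ge i₁ i₂
  refine ⟨k₀.shift (h1.trans h3), le_trans le1 ?_, le_trans le2 ?_⟩
  · refine ⟨h3, le_rfl, ?_⟩
    change A.map (homOfLE h3).op ≫ A.map (homOfLE h1).op ≫ k₀.φ =
      (A.map (homOfLE (h1.trans h3)).op ≫ k₀.φ) ≫ B.map (homOfLE (le_refl k₀.j)).op
    rw [show homOfLE (le_refl k₀.j) = 𝟙 _ from rfl, op_id, B.map_id, Category.comp_id,
      show homOfLE (h1.trans h3) = homOfLE h1 ≫ homOfLE h3 from rfl, op_comp, A.map_comp,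
      Category.assoc]
  · refine ⟨h4, le_rfl, ?_⟩
    change A.map (homOfLE h4).op ≫ A.map (homOfLE h2).op ≫ k₀.φ =
      (A.map (homOfLE (h1.trans h3)).op ≫ k₀.φ) ≫ B.map (homOfLE (le_refl k₀.j)).op
    rw [show homOfLE (le_refl k₀.j) = 𝟙 _ from rfl, op_id, B.map_id, Category.comp_id,
      ← Category.assoc, ← A.map_comp, ← op_comp]
    rfl

theorem idx_nonempty [Nonempty J] (hex : HasFac A B cA cB f) : Nonempty (Idx A B cA cB f) := by
  obtain ⟨j⟩ := ‹Nonempty J›
  obtain ⟨i, φ, w⟩ := hex j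
  exact ⟨⟨i, j, φ, w⟩⟩

/-- every first index is dominated by a triple. -/
theorem exists_idx_ge_i [Nonempty J] (hex : HasFac A B cA cB f) (i : I) :
    ∃ k : Idx A B cA cB f, i ≤ k.i := by
  obtain ⟨k⟩ := idx_nonempty hex
  obtain ⟨i', h1, h2⟩ := exists_ge_ge i k.i
  exact ⟨k.shift h2, h1⟩

/-- every second index occurs in a triple. -/
theorem exists_idx_j (hex : HasFac A B cA cB f) (j : J) :
    ∃ k : Idx A B cA cB f, k.j = j := by
  obtain ⟨i, φ, w⟩ := hex j
  exact ⟨⟨i, j, φ, w⟩, rfl⟩

end directed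

variable (A B cA cB f)
variable {T : C} (g : cB.pt ⟶ T)

/-- the stage `A_i ×_{B_j} S`, as an object over `T` (through `g : S ⟶ T`). -/
noncomputable abbrev stage (k : Idx A B cA cB f) : Over T :=
  Over.mk (pullback.snd k.φ (cB.π.app (op k.j)) ≫ g)

variable {A B cA cB f}

/-- the transition maps. -/
noncomputable def stageMap {k k' : Idx A B cA cB f} (h : k ≤ k') :
    stage A B cA cB f g k' ⟶ stage A B cA cB f g k :=
  Over.homMk (pullback.map k'.φ (cB.π.app (op k'.j)) k.φ (cB.π.app (op k.j))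
    (A.map (homOfLE (Idx.hi h)).op) (𝟙 cB.pt) (B.map (homOfLE (Idx.hj h)).op) (Idx.comm h).symm
    ((cB.w _).trans (Category.id_comp _).symm)) (by
      change pullback.map _ _ _ _ _ _ _ _ _ ≫ pullback.snd _ _ ≫ g = pullback.snd _ _ ≫ g
      rw [← Category.assoc, pullback.lift_snd, Category.comp_id])

@[reassoc]
theorem stageMap_left_fst {k k' : Idx A B cA cB f} (h : k ≤ k') :
    (stageMap g h).left ≫ pullback.fst k.φ (cB.π.app (op k.j)) =
      pullback.fst k'.φ (cB.π.app (op k'.j)) ≫ A.map (homOfLE (Idx.hi h)).op :=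
  pullback.lift_fst _ _ _

@[reassoc]
theorem stageMap_left_snd {k k' : Idx A B cA cB f} (h : k ≤ k') :
    (stageMap g h).left ≫ pullback.snd k.φ (cB.π.app (op k.j)) =
      pullback.snd k'.φ (cB.π.app (op k'.j)) :=
  (pullback.lift_snd _ _ _).trans (Category.comp_id _)

variable (A B cA cB f)

/-- the directed system of the `A_i ×_{B_j} S`. -/
noncomputable def diagram : (Idx A B cA cB f)ᵒᵖ ⥤ Over T where
  obj k := stage A B cA cB f g k.unop
  map {k k'} a := stageMap g (leOfHom a.unop)
  map_id k := by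
    apply Over.OverMorphism.ext
    apply pullback.hom_ext
    · rw [stageMap_left_fst, Over.id_left, Category.id_comp]
      have : (homOfLE (Idx.hi (leOfHom (𝟙 k).unop))).op = 𝟙 (op k.unop.i) := rfl
      rw [this, A.map_id, Category.comp_id]
    · rw [stageMap_left_snd, Over.id_left, Category.id_comp]
  map_comp {k k' k''} a a' := by
    apply Over.OverMorphism.ext
    apply pullback.hom_ext
    · rw [stageMap_left_fst, Over.comp_left, Category.assoc, stageMap_left_fst,
        stageMap_left_fst_assoc, ← A.map_comp]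
      rfl
    · rw [stageMap_left_snd, Over.comp_left, Category.assoc, stageMap_left_snd,
        stageMap_left_snd]

@[simp]
theorem diagram_map {k k' : (Idx A B cA cB f)ᵒᵖ} (a : k ⟶ k') :
    (diagram A B cA cB f g).map a = stageMap g (leOfHom a.unop) := rfl

/-- the projections from `X`. -/
noncomputable def coneπ (k : Idx A B cA cB f) : Over.mk (f ≫ g) ⟶ stage A B cA cB f g k :=
  Over.homMk (pullback.lift (cA.π.app (op k.i)) f k.w) (by
    change pullback.lift _ _ _ ≫ pullback.snd _ _ ≫ g = f ≫ g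
    rw [← Category.assoc, pullback.lift_snd])

@[reassoc (attr := simp)]
theorem coneπ_left_fst (k : Idx A B cA cB f) :
    (coneπ A B cA cB f g k).left ≫ pullback.fst k.φ (cB.π.app (op k.j)) = cA.π.app (op k.i) :=
  pullback.lift_fst _ _ _

@[reassoc (attr := simp)]
theorem coneπ_left_snd (k : Idx A B cA cB f) :
    (coneπ A B cA cB f g k).left ≫ pullback.snd k.φ (cB.π.app (op k.j)) = f :=
  pullback.lift_snd _ _ _

theorem coneπ_stageMap {k k' : Idx A B cA cB f} (h : k ≤ k') :
    coneπ A B cA cB f g k' ≫ stageMap g h = coneπ A B cA cB f g k := by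
  apply Over.OverMorphism.ext
  apply pullback.hom_ext
  · rw [Over.comp_left, Category.assoc, stageMap_left_fst, coneπ_left_fst_assoc, coneπ_left_fst]
    exact cA.w _
  · rw [Over.comp_left, Category.assoc, stageMap_left_snd, coneπ_left_snd, coneπ_left_snd]

/-- the cone with vertex `X`. -/
noncomputable def cone : Cone (diagram A B cA cB f g) where
  pt := Over.mk (f ≫ g)
  π :=
    { app := fun k => coneπ A B cA cB f g k.unop
      naturality := fun k k' a =>
        (Category.id_comp _).trans (coneπ_stageMap A B cA cB f g (leOfHom a.unop)).symm }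

section limit

variable {A B cA cB f g}
variable [IsDirected I (· ≤ ·)] [IsDirected J (· ≤ ·)] [Nonempty J]
variable (hex : HasFac A B cA cB f) (hun : UniqFac A B cA)
variable (s : Cone (diagram A B cA cB f g))

/-- the component of a cone over the diagram, with normalized type. -/
noncomputable def comp (k : Idx A B cA cB f) :
    s.pt.left ⟶ pullback k.φ (cB.π.app (op k.j)) := (s.π.app (op k)).left

omit [IsDirected I (· ≤ ·)] [IsDirected J (· ≤ ·)] [Nonempty J] in
@[reassoc]
theorem comp_stageMap {k k₂ : Idx A B cA cB f} (hk : k ≤ k₂) :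
    comp s k₂ ≫ (stageMap g hk).left = comp s k :=
  congrArg (fun t => t.left) (s.w (homOfLE hk).op)

omit [IsDirected I (· ≤ ·)] [IsDirected J (· ≤ ·)] [Nonempty J] in
@[reassoc]
theorem comp_snd_g (k : Idx A B cA cB f) :
    comp s k ≫ pullback.snd k.φ (cB.π.app (op k.j)) ≫ g = s.pt.hom :=
  Over.w (s.π.app (op k))

omit [IsDirected I (· ≤ ·)] [IsDirected J (· ≤ ·)] [Nonempty J] in
theorem comp_snd_mono {k k₂ : Idx A B cA cB f} (hk : k ≤ k₂) :
    comp s k ≫ pullback.snd k.φ (cB.π.app (op k.j)) =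
      comp s k₂ ≫ pullback.snd k₂.φ (cB.π.app (op k₂.j)) := by
  rw [← comp_stageMap s hk, Category.assoc, stageMap_left_snd]

omit [IsDirected I (· ≤ ·)] [IsDirected J (· ≤ ·)] [Nonempty J] in
theorem toA_key {i : I} {k k₂ : Idx A B cA cB f} (hk : k ≤ k₂) (h : i ≤ k.i) :
    comp s k ≫ pullback.fst k.φ (cB.π.app (op k.j)) ≫ A.map (homOfLE h).op =
      comp s k₂ ≫ pullback.fst k₂.φ (cB.π.app (op k₂.j)) ≫
        A.map (homOfLE (h.trans (Idx.hi hk))).op := by
  rw [← comp_stageMap s hk, Category.assoc, stageMap_left_fst_assoc, ← A.map_comp]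
  rfl

/-- the component to `A_i` of a cone over the diagram, through a chosen triple. -/
noncomputable def toA (i : I) : s.pt.left ⟶ A.obj (op i) :=
  comp s (exists_idx_ge_i hex i).choose ≫
    pullback.fst _ _ ≫ A.map (homOfLE (exists_idx_ge_i hex i).choose_spec).op

include hun in
theorem toA_eq (i : I) (k : Idx A B cA cB f) (h : i ≤ k.i) :
    toA hex s i = comp s k ≫ pullback.fst k.φ (cB.π.app (op k.j)) ≫
      A.map (homOfLE h).op := by
  have := idx_directed hex hun
  obtain ⟨k₂, hk0, hk⟩ := exists_ge_ge (exists_idx_ge_i hex i).choose k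
  unfold toA
  rw [toA_key s hk0, toA_key s hk]

/-- the component to `S` of a cone over the diagram, through a chosen triple. -/
noncomputable def toS : s.pt.left ⟶ cB.pt :=
  comp s (idx_nonempty hex).some ≫ pullback.snd _ _

include hun in
theorem toS_eq (k : Idx A B cA cB f) :
    toS hex s = comp s k ≫ pullback.snd k.φ (cB.π.app (op k.j)) := by
  have := idx_directed hex hun
  obtain ⟨k₂, hk0, hk⟩ := exists_ge_ge (idx_nonempty hex).some k
  unfold toS
  rw [comp_snd_mono s hk0, comp_snd_mono s hk]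

include hun in
theorem toS_g : toS hex s ≫ g = s.pt.hom := by
  rw [toS_eq hex hun s (idx_nonempty hex).some, Category.assoc, comp_snd_g]

/-- the induced cone over `A`. -/
noncomputable def coneA : Cone A where
  pt := s.pt.left
  π :=
    { app := fun i => toA hex s i.unop
      naturality := fun i i' a => by
        have hle : i'.unop ≤ i.unop := leOfHom a.unop
        have ha : a = (homOfLE hle).op := Subsingleton.elim _ _
        obtain ⟨k, hk⟩ := exists_idx_ge_i hex i.unop
        rw [toA_eq hex hun s i.unop k hk, toA_eq hex hun s i'.unop k (hle.trans hk)]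
        change 𝟙 _ ≫ _ = _
        rw [Category.id_comp, Category.assoc, Category.assoc, ha, ← A.map_comp]
        rfl }

variable (hA : IsLimit cA) (hB : IsLimit cB)

/-- the induced morphism to `X`. -/
noncomputable def lift' : s.pt.left ⟶ cA.pt := hA.lift (coneA hex hun s)

@[reassoc]
theorem lift'_π (i : I) : lift' hex hun s hA ≫ cA.π.app (op i) = toA hex s i :=
  hA.fac (coneA hex hun s) (op i)

@[reassoc]
theorem lift'_fst (k : Idx A B cA cB f) :
    lift' hex hun s hA ≫ cA.π.app (op k.i) =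
      comp s k ≫ pullback.fst k.φ (cB.π.app (op k.j)) := by
  rw [lift'_π, toA_eq hex hun s k.i k le_rfl]
  have : (homOfLE (le_refl k.i)).op = 𝟙 (op k.i) := rfl
  rw [this, A.map_id, Category.comp_id]

include hB in
theorem lift'_f : lift' hex hun s hA ≫ f = toS hex s := by
  apply hB.hom_ext
  intro j
  induction j using Opposite.rec with | op j => ?_
  obtain ⟨k, rfl⟩ := exists_idx_j hex j
  rw [Category.assoc, ← k.w, lift'_fst_assoc, pullback.condition, toS_eq hex hun s k,
    Category.assoc]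

/-- **`X` is the limit of the `A_i ×_{B_j} S` in `Over T`.** -/
noncomputable def isLimit : IsLimit (cone A B cA cB f g) where
  lift s := Over.homMk (lift' hex hun s hA) (by
    change lift' hex hun s hA ≫ f ≫ g = s.pt.hom
    rw [← Category.assoc, lift'_f hex hun s hA hB, toS_g hex hun s])
  fac s k := by
    induction k using Opposite.rec with | op k => ?_
    apply Over.OverMorphism.ext
    apply pullback.hom_ext
    · change (lift' hex hun s hA ≫ (coneπ A B cA cB f g k).left) ≫ _ = comp s k ≫ _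
      rw [Category.assoc, coneπ_left_fst, lift'_fst]
    · change (lift' hex hun s hA ≫ (coneπ A B cA cB f g k).left) ≫ _ = comp s k ≫ _
      rw [Category.assoc, coneπ_left_snd, lift'_f hex hun s hA hB, toS_eq hex hun s k]
  uniq s m hm := by
    apply Over.OverMorphism.ext
    change m.left = lift' hex hun s hA
    obtain ⟨m', hm'⟩ : ∃ m' : s.pt.left ⟶ cA.pt, m' = m.left := ⟨_, rfl⟩
    rw [← hm']
    apply hA.hom_ext
    intro i
    induction i using Opposite.rec with | op i => ?_
    obtain ⟨k, hk⟩ := exists_idx_ge_i hex i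
    rw [lift'_π, toA_eq hex hun s i k hk]
    have h1 : m' ≫ (coneπ A B cA cB f g k).left = comp s k := by
      rw [hm']
      exact congrArg (fun t => t.left) (hm (op k))
    rw [← h1, Category.assoc, coneπ_left_fst_assoc]
    exact congrArg (m' ≫ ·) (cA.w (homOfLE hk).op).symm

end limit

end Groth.Agent.H37.LimFib
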