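import Groth.Agent.H37.RelApx

/-!
# A morphism of qcqs schemes as a limit of morphisms of schemes of finite type over `ℤ`
(Stacks 01ZA-style, common directed index set)

Categorical part: with the notation of `LimFib`, both projections `Idx ⥤ I`, `Idx ⥤ J` are final,
so `X = lim_{Idx} A_{k.i}`, `S = lim_{Idx} B_{k.j}`, and `k ↦ k.φ` is a natural transformation.
-/

set_option autoImplicit false
universe v u w

open CategoryTheory Limits Opposite

namespace Groth.Agent.H37.LimFib

variable {C : Type u} [Category.{v} C] [HasPullbacks C]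
variable {I J : Type w} [Preorder I] [Preorder J]
variable (A : Iᵒᵖ ⥤ C) (B : Jᵒᵖ ⥤ C) (cA : Cone A) (cB : Cone B) (f : cA.pt ⟶ cB.pt)

/-- first projection. -/
def projI : Idx A B cA cB f ⥤ I :=
  Monotone.functor (f := fun k : Idx A B cA cB f => k.i) (fun _ _ h => Idx.hi h)

/-- second projection. -/
def projJ : Idx A B cA cB f ⥤ J :=
  Monotone.functor (f := fun k : Idx A B cA cB f => k.j) (fun _ _ h => Idx.hj h)

/-- the system of sources. -/
def srcDiagram : (Idx A B cA cB f)ᵒᵖ ⥤ C := (projI A B cA cB f).op ⋙ A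

/-- the system of targets. -/
def tgtDiagram : (Idx A B cA cB f)ᵒᵖ ⥤ C := (projJ A B cA cB f).op ⋙ B

/-- the morphism of systems. -/
def sysHom : srcDiagram A B cA cB f ⟶ tgtDiagram A B cA cB f where
  app k := k.unop.φ
  naturality k k' a := Idx.comm (leOfHom a.unop)

/-- the source cone. -/
def srcCone : Cone (srcDiagram A B cA cB f) := cA.whisker (projI A B cA cB f).op

/-- the target cone. -/
def tgtCone : Cone (tgtDiagram A B cA cB f) := cB.whisker (projJ A B cA cB f).op

theorem srcCone_π_sysHom (k : (Idx A B cA cB f)ᵒᵖ) :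
    (srcCone A B cA cB f).π.app k ≫ (sysHom A B cA cB f).app k =
      f ≫ (tgtCone A B cA cB f).π.app k := k.unop.w

variable {A B cA cB f}
variable [IsDirected I (· ≤ ·)] [IsDirected J (· ≤ ·)] [Nonempty J]

theorem projI_final (hex : HasFac A B cA cB f) (hun : UniqFac A B cA) :
    (projI A B cA cB f).Final := by
  haveI := idx_directed hex hun
  haveI := idx_nonempty hex
  haveI : IsFiltered (Idx A B cA cB f) := isFiltered_of_directed_le_nonempty _
  apply Functor.final_of_exists_of_isFiltered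
  · intro i
    obtain ⟨k, hk⟩ := exists_idx_ge_i hex i
    exact ⟨k, ⟨homOfLE hk⟩⟩
  · intro d c s s'
    exact ⟨c, 𝟙 _, Subsingleton.elim _ _⟩

theorem projJ_final (hex : HasFac A B cA cB f) (hun : UniqFac A B cA) :
    (projJ A B cA cB f).Final := by
  haveI := idx_directed hex hun
  haveI := idx_nonempty hex
  haveI : IsFiltered (Idx A B cA cB f) := isFiltered_of_directed_le_nonempty _
  apply Functor.final_of_exists_of_isFiltered
  · intro j
    obtain ⟨k, hk⟩ := exists_idx_j hex j
    exact ⟨k, ⟨homOfLE hk.ge⟩⟩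
  · intro d c s s'
    exact ⟨c, 𝟙 _, Subsingleton.elim _ _⟩

/-- `X = lim_{Idx} A_{k.i}`. -/
noncomputable def srcIsLimit (hex : HasFac A B cA cB f) (hun : UniqFac A B cA) (hA : IsLimit cA) :
    IsLimit (srcCone A B cA cB f) := by
  haveI := projI_final hex hun
  exact (Functor.Initial.isLimitWhiskerEquiv (projI A B cA cB f).op cA).symm hA

/-- `S = lim_{Idx} B_{k.j}`. -/
noncomputable def tgtIsLimit (hex : HasFac A B cA cB f) (hun : UniqFac A B cA) (hB : IsLimit cB) :
    IsLimit (tgtCone A B cA cB f) := by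
  haveI := projJ_final hex hun
  exact (Functor.Initial.isLimitWhiskerEquiv (projJ A B cA cB f).op cB).symm hB

end Groth.Agent.H37.LimFib

namespace Groth.Agent.H37.RelApx

open AlgebraicGeometry Groth.Agent.H20.NA Groth.Agent.H37.LimFib

universe u'

/-- **A morphism of qcqs schemes is a directed limit of morphisms of schemes of finite type over
`ℤ`** (common index set, affine transition maps). -/
theorem exists_limit_morphism {X S : Scheme.{u'}} (f : X ⟶ S) [CompactSpace X]
    [QuasiSeparatedSpace X] [CompactSpace S] [QuasiSeparatedSpace S] :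
    ∃ (I : Type u') (_ : Preorder I) (_ : IsDirected I (fun a b => a ≤ b)) (_ : Nonempty I)
      (DX DS : Iᵒᵖ ⥤ Scheme.{u'}) (φ : DX ⟶ DS)
      (cX : Limits.Cone DX) (cS : Limits.Cone DS) (_ : Limits.IsLimit cX) (_ : Limits.IsLimit cS)
      (eX : cX.pt ≅ X) (eS : cS.pt ≅ S),
      (∀ (i j : Iᵒᵖ) (a : i ⟶ j), IsAffineHom (DX.map a) ∧ IsAffineHom (DS.map a)) ∧
      (∀ i, CompactSpace (DX.obj i) ∧ CompactSpace (DS.obj i) ∧
        LocallyOfFiniteType (Limits.IsTerminal.from specULiftZIsTerminal (DX.obj i)) ∧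
        LocallyOfFiniteType (Limits.IsTerminal.from specULiftZIsTerminal (DS.obj i))) ∧
      (∀ i, cX.π.app i ≫ φ.app i = eX.hom ≫ f ≫ eS.inv ≫ cS.π.app i) := by
  obtain ⟨I, _, _, _, A, cA₀, hA₀, haffA, hftA, ⟨eX⟩⟩ := exists_absolute X
  obtain ⟨J, _, _, _, B, cB₀, hB₀, haffB, hftB, ⟨eS⟩⟩ := exists_absolute S
  let cA : Cone A := cA₀.extend eX.inv
  let cB : Cone B := cB₀.extend eS.inv
  have hA : IsLimit cA := hA₀.ofIsoLimit (Cone.extendIso cA₀ eX)
  have hB : IsLimit cB := hB₀.ofIsoLimit (Cone.extendIso cB₀ eS)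
  let f'' : cA.pt ⟶ cB.pt := f
  have hex : HasFac A B cA cB f'' := hasFac A B cA cB hA haffA hftA hftB f''
  have hun : UniqFac A B cA := uniqFac A B cA hA haffA hftA hftB
  refine ⟨Idx A B cA cB f'', inferInstance, idx_directed hex hun, idx_nonempty hex,
    srcDiagram A B cA cB f'', tgtDiagram A B cA cB f'', sysHom A B cA cB f'',
    srcCone A B cA cB f'', tgtCone A B cA cB f'', srcIsLimit hex hun hA, tgtIsLimit hex hun hB,
    Iso.refl _, Iso.refl _, ?_, ?_, ?_⟩
  · intro i j a
    exact ⟨haffA _ _ _, haffB _ _ _⟩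
  · intro i
    exact ⟨(hftA _).1, (hftB _).1, (hftA _).2, (hftB _).2⟩
  · intro k
    rw [srcCone_π_sysHom]
    simp only [Iso.refl_hom, Iso.refl_inv, Category.id_comp]
    rfl

end Groth.Agent.H37.RelApx
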