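import Mathlib
import Groth.Agent.H37.ImmStage
import Groth.Agent.H37.IntLim

/-!
# Immersion into the relative normalization vs. immersion-then-finite factorizations (helper37)
-/

set_option autoImplicit false
universe u
open CategoryTheory CategoryTheory.Limits AlgebraicGeometry

namespace Groth.Agent.H37.NormImm

/-- An immersion `g : X ⟶ X'` with `X' ⟶ Y` integral, `Y` qcqs and `X ⟶ Y` of finite type factors
as an immersion into a finite (finitely presented) `Y`-scheme. -/
theorem exists_fac_of_isImmersion_integral {X X' Y : Scheme.{u}} (g : X ⟶ X') (ν : X' ⟶ Y)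
    [CompactSpace Y] [QuasiSeparatedSpace Y] [IsIntegralHom ν] [IsImmersion g]
    [LocallyOfFiniteType (g ≫ ν)] [QuasiCompact (g ≫ ν)] :
    ∃ (Y' : Scheme.{u}) (f' : X ⟶ Y') (u : Y' ⟶ Y) (w : X' ⟶ Y'), IsImmersion f' ∧ IsFinite u ∧
      LocallyOfFinitePresentation u ∧ f' ≫ u = g ≫ ν ∧ g ≫ w = f' ∧ w ≫ u = ν := by
  obtain ⟨I, _, _, _, D, c, hc, hD, ⟨e⟩⟩ := IntLim.exists_limit_finite_fp ν
  haveI : IsFiltered I := isFiltered_of_directed_le_nonempty I
  let D' : Iᵒᵖ ⥤ Scheme.{u} := D ⋙ Over.forget Y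
  let c' : Cone D' := (Over.forget Y).mapCone c
  have hc' : IsLimit c' := isLimitOfPreserves (Over.forget Y) hc
  let t : ∀ i, D'.obj i ⟶ Y := fun i => (D.obj i).hom
  haveI : ∀ i, IsFinite (t i) := fun i => (hD i).1
  haveI : ∀ i, LocallyOfFinitePresentation (t i) := fun i => (hD i).2
  haveI : ∀ {i j : Iᵒᵖ} (a : i ⟶ j), IsAffineHom (D'.map a) := fun {i j} a => by
    have e1 : D'.map a ≫ t j = t i := Over.w (D.map a)
    haveI : IsAffineHom (D'.map a ≫ t j) := by rw [e1]; infer_instance
    exact IsAffineHom.of_comp (f := D'.map a) (g := t j)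
  let q : c'.pt ≅ X' := (Over.forget Y).mapIso e
  have e1 : ∀ i, c'.π.app i ≫ t i = c.pt.hom := fun i => Over.w (c.π.app i)
  have e2 : q.inv ≫ c.pt.hom = ν := Over.w e.inv
  haveI : CompactSpace X := QuasiCompact.compactSpace_of_compactSpace (g ≫ ν)
  let h : X ⟶ c'.pt := g ≫ q.inv
  haveI : IsImmersion h := inferInstanceAs (IsImmersion (g ≫ q.inv))
  obtain ⟨i₀⟩ : Nonempty Iᵒᵖ := ⟨Opposite.op (Classical.arbitrary I)⟩
  have e3 : ∀ i, (h ≫ c'.π.app i) ≫ t i = g ≫ ν := fun i => by
    simp only [h, Category.assoc, e1, e2]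
  haveI : LocallyOfFiniteType (h ≫ c'.π.app i₀) := by
    haveI : LocallyOfFiniteType ((h ≫ c'.π.app i₀) ≫ t i₀) := by rw [e3]; infer_instance
    exact locallyOfFiniteType_of_comp _ (t i₀)
  obtain ⟨j, _, hj⟩ := ImmStage.exists_isImmersion_comp_π hc' i₀ h
  refine ⟨D'.obj j, h ≫ c'.π.app j, t j, q.inv ≫ c'.π.app j, hj, inferInstance, inferInstance,
    e3 j, ?_, ?_⟩
  · simp only [h, Category.assoc]
  · rw [Category.assoc, e1, e2]

/-- **EGA IV 8.12.?**: a separated finite type morphism to a qcqs scheme factors as an immersion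
followed by a finite morphism iff the map to the relative normalization is an immersion. -/
theorem exists_fac_iff_isImmersion_toNormalization {X Y : Scheme.{u}} (f : X ⟶ Y)
    [CompactSpace Y] [QuasiSeparatedSpace Y] [QuasiSeparated f] [LocallyOfFiniteType f]
    [QuasiCompact f] :
    (∃ (Y' : Scheme.{u}) (f' : X ⟶ Y') (u : Y' ⟶ Y), IsImmersion f' ∧ IsFinite u ∧ f' ≫ u = f) ↔
      IsImmersion f.toNormalization := by
  constructor
  · rintro ⟨Y', f', u, hf', hu, H⟩
    haveI : IsImmersion (f.toNormalization ≫ f.normalizationDesc f' u H.symm) := by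
      rw [f.toNormalization_normalizationDesc f' u H.symm]; exact hf'
    exact IsImmersion.of_comp f.toNormalization (f.normalizationDesc f' u H.symm)
  · intro hg
    have e0 : f.toNormalization ≫ f.fromNormalization = f := f.toNormalization_fromNormalization
    haveI : LocallyOfFiniteType (f.toNormalization ≫ f.fromNormalization) := by
      rw [e0]; infer_instance
    haveI : QuasiCompact (f.toNormalization ≫ f.fromNormalization) := by
      rw [e0]; infer_instance
    obtain ⟨Y', f', u, w, h1, h2, -, h3, -, -⟩ :=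
      exists_fac_of_isImmersion_integral f.toNormalization f.fromNormalization
    exact ⟨Y', f', u, h1, h2, h3.trans e0⟩

end Groth.Agent.H37.NormImm
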