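import Groth.Agent.H37.NumQuad

set_option autoImplicit false
open Finset

namespace Groth.Agent.H37

open Models Models.NumericalType

variable {n : ℕ} (T : Models.NumericalType n)

theorem sum_extend_eq {r : ℕ} (v : Fin r → Fin n) (hv : Function.Injective v)
    (f : Fin n → ℤ) (hf : ∀ i, i ∉ Set.range v → f i = 0) :
    ∑ i, f i = ∑ s, f (v s) := by
  classical
  rw [← Finset.sum_image (s := univ) (g := v) (f := f) (fun a _ b _ h => hv h)]
  symm
  apply Finset.sum_subset (subset_univ _)
  intro i _ hi
  apply hf
  rintro ⟨s, rfl⟩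
  exact hi (mem_image_of_mem v (mem_univ s))

theorem ntQ_embed {r : ℕ} (v : Fin r → Fin n) (hv : Function.Injective v) (c : Fin r → ℤ) :
    ntQ T (Function.extend v c 0) = ∑ s, ∑ t, T.a (v s) (v t) * c s * c t := by
  unfold ntQ
  have hx : ∀ i, i ∉ Set.range v → Function.extend v c 0 i = 0 := by
    intro i hi
    rw [Function.extend_apply' _ _ _ (by simpa using hi)]
    rfl
  rw [sum_extend_eq v hv]
  · apply Finset.sum_congr rfl
    intro s _
    rw [sum_extend_eq v hv]
    · apply Finset.sum_congr rfl
      intro t _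
      rw [hv.extend_apply, hv.extend_apply]
    · intro j hj
      rw [hx j hj, mul_zero]
  · intro i hi
    apply Finset.sum_eq_zero
    intro j _
    rw [hx i hi, mul_zero, zero_mul]

theorem ntQ_embed_neg {r : ℕ} (v : Fin r → Fin n) (hv : Function.Injective v) (hr : r < n)
    (c : Fin r → ℤ) (hc : c ≠ 0) : ∑ s, ∑ t, T.a (v s) (v t) * c s * c t < 0 := by
  rw [← ntQ_embed T v hv c]
  have hk : ∃ k, k ∉ Set.range v := by
    by_contra hcon
    rw [not_exists] at hcon
    have hsurj : Function.Surjective v := fun k => by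
      have := hcon k
      rw [not_not] at this
      exact this
    have := Fintype.card_le_of_surjective v hsurj
    simp at this
    omega
  obtain ⟨k, hk⟩ := hk
  apply ntQ_neg T _ _ k
  · rw [Function.extend_apply' _ _ _ (by simpa using hk)]
    rfl
  · intro h0
    apply hc
    funext s
    have := congrFun h0 (v s)
    rw [hv.extend_apply] at this
    exact this

theorem ntQ_embed_nonpos {r : ℕ} (v : Fin r → Fin n) (hv : Function.Injective v)
    (c : Fin r → ℤ) : ∑ s, ∑ t, T.a (v s) (v t) * c s * c t ≤ 0 := by
  rw [← ntQ_embed T v hv c]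
  exact ntQ_nonpos T _

end Groth.Agent.H37
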