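import Groth.Agent.H37.NumType

set_option autoImplicit false
set_option linter.unusedVariables false
open Finset

namespace Groth.Agent.H37

/-- a symmetric double sum is congruent to its diagonal modulo two -/
theorem sum_sum_symm_parity : ∀ (n : ℕ) (f : Fin n → Fin n → ℤ), (∀ i j, f i j = f j i) →
    ∃ k : ℤ, ∑ i, ∑ j, f i j = ∑ i, f i i + 2 * k := by
  intro n
  induction n with
  | zero => intro f hf; exact ⟨0, by simp⟩
  | succ n ih =>
    intro f hf
    obtain ⟨k, hk⟩ := ih (fun i j => f i.succ j.succ) (fun i j => hf _ _)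
    refine ⟨k + ∑ j : Fin n, f 0 j.succ, ?_⟩
    rw [Fin.sum_univ_succ, Fin.sum_univ_succ]
    have h1 : ∑ i : Fin n, ∑ j : Fin (n + 1), f i.succ j =
        ∑ i : Fin n, f i.succ 0 + ∑ i : Fin n, ∑ j : Fin n, f i.succ j.succ := by
      rw [← Finset.sum_add_distrib]
      apply Finset.sum_congr rfl
      intro i _
      rw [Fin.sum_univ_succ]
    have h2 : ∑ i : Fin n, f i.succ 0 = ∑ j : Fin n, f 0 j.succ :=
      Finset.sum_congr rfl (fun i _ => hf _ _)
    rw [h1, hk, h2, Fin.sum_univ_succ (fun i : Fin (n + 1) => f i i)]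
    ring

variable {n : ℕ} (T : Models.NumericalType n)

/-- `Σ m_i a_ii` is even -/
theorem nt_parity : ∃ k : ℤ, ∑ i, T.m i * T.a i i = 2 * k := by
  obtain ⟨k, hk⟩ := sum_sum_symm_parity n (fun i j => T.m i * T.a i j * T.m j) (by
    intro i j
    rw [nt_symm T i j]
    ring)
  have h0 : ∑ i, ∑ j, T.m i * T.a i j * T.m j = 0 := by
    apply Finset.sum_eq_zero
    intro i _
    have : ∑ j, T.m i * T.a i j * T.m j = T.m i * ∑ j, T.a i j * T.m j := by
      rw [Finset.mul_sum]
      apply Finset.sum_congr rfl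
      intro j _
      ring
    rw [this, nt_row_sum, mul_zero]
  rw [h0] at hk
  have hev : ∀ i, ∃ c : ℤ, T.m i * T.m i - T.m i = 2 * c := by
    intro i
    obtain ⟨c, hc⟩ := Int.even_mul_pred_self (T.m i)
    exact ⟨c, by rw [mul_sub, mul_one] at hc; rw [hc]; ring⟩
  choose c hc using hev
  refine ⟨-k - ∑ i, c i * T.a i i, ?_⟩
  have h3 : ∑ i, T.m i * T.a i i =
      ∑ i, T.m i * T.a i i * T.m i - ∑ i, (T.m i * T.m i - T.m i) * T.a i i := by
    rw [← Finset.sum_sub_distrib]
    apply Finset.sum_congr rfl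
    intro i _
    ring
  have h4 : ∑ i, (T.m i * T.m i - T.m i) * T.a i i = 2 * ∑ i, c i * T.a i i := by
    rw [Finset.mul_sum]
    apply Finset.sum_congr rfl
    intro i _
    rw [hc i]
    ring
  rw [h3, h4]
  linarith

/-- for genus one, twice the sum of contributions vanishes -/
theorem nt_genus_one_sum (hg : T.genus = 1) :
    ∑ i, T.m i * (2 * T.w i * (T.g i - 1) - T.a i i) = 0 := by
  obtain ⟨k, hk⟩ := nt_parity T
  unfold Models.NumericalType.genus at hg
  rw [hk] at hg
  have h2 : (2 * k) / 2 = k := by omega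
  rw [h2] at hg
  have h3 : ∑ i, T.m i * (2 * T.w i * (T.g i - 1) - T.a i i) =
      2 * ∑ i, T.m i * T.w i * (T.g i - 1) - ∑ i, T.m i * T.a i i := by
    rw [Finset.mul_sum, ← Finset.sum_sub_distrib]
    apply Finset.sum_congr rfl
    intro i _
    ring
  rw [h3, hk]
  linarith

/-- a minimal numerical type of genus one with more than one index has only `(-2)`-indices -/
theorem nt_genus_one_minusTwo (hn : 1 < n) (hmin : T.IsMinimal) (hg : T.genus = 1) (i : Fin n) :
    T.IsMinusTwo i := by
  have hsum := nt_genus_one_sum T hg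
  have hnn : ∀ j ∈ (univ : Finset (Fin n)),
      0 ≤ T.m j * (2 * T.w j * (T.g j - 1) - T.a j j) := by
    intro j _
    by_contra hneg
    rw [not_le] at hneg
    -- j would be a (-1)-index
    apply hmin j
    have hm := T.m_pos j
    have hw := T.w_pos j
    have hgj := T.g_nonneg j
    have hdn := nt_diag_neg T hn j
    have h1 : 2 * T.w j * (T.g j - 1) - T.a j j < 0 := by
      by_contra hc
      rw [not_lt] at hc
      have := mul_nonneg (le_of_lt hm) hc
      linarith
    obtain ⟨c, hc⟩ := T.w_dvd j j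
    have hg0 : T.g j = 0 := by
      by_contra hne
      have h1' : 1 ≤ T.g j := by omega
      have : 0 ≤ 2 * T.w j * (T.g j - 1) := by
        apply mul_nonneg (by linarith)
        linarith
      linarith
    refine ⟨hg0, ?_⟩
    rw [hg0] at h1
    rw [hc] at h1 hdn ⊢
    have hc1 : c < 0 := by
      by_contra hcc
      rw [not_lt] at hcc
      have := mul_nonneg (le_of_lt hw) hcc
      linarith
    have hc2 : -2 < c := by
      by_contra hcc
      rw [not_lt] at hcc
      have : T.w j * c ≤ T.w j * (-2) := mul_le_mul_of_nonneg_left hcc (le_of_lt hw)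
      linarith
    have : c = -1 := by omega
    rw [this]; ring
  have hz := (Finset.sum_eq_zero_iff_of_nonneg hnn).mp hsum i (mem_univ i)
  have hm := T.m_pos i
  have hw := T.w_pos i
  have hgi := T.g_nonneg i
  have hdn := nt_diag_neg T hn i
  have h1 : 2 * T.w i * (T.g i - 1) - T.a i i = 0 := by
    rcases mul_eq_zero.mp hz with h0 | h0
    · linarith
    · exact h0
  have hg0 : T.g i = 0 := by
    by_contra hne
    have h1' : 1 ≤ T.g i := by omega
    have : 0 ≤ 2 * T.w i * (T.g i - 1) := by
      apply mul_nonneg (by linarith)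
      linarith
    linarith
  refine ⟨hg0, ?_⟩
  rw [hg0] at h1
  linarith

end Groth.Agent.H37
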