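import Groth.Agent.S7342
import Groth.Agent.S7343
import Groth.Agent.S7344
import Groth.Agent.S7345
import Groth.Agent.S7351
import Groth.Agent.H37.DnGen2
import Groth.Agent.H37.ChainGen3
import Groth.Agent.H37.Parity

/-! Genus one classification for `n ≥ 10`: forbidden configurations and classification lemmas in
terms of `ℕ`-indexed vertex enumerations. -/

set_option autoImplicit false
set_option linter.unusedVariables false
open Finset

namespace Groth.Agent.H37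

open Models Models.NumericalType

variable {n : ℕ} (T : Models.NumericalType n)

/-- injectivity on an initial segment -/
def InjLt (u : ℕ → Fin n) (r : ℕ) : Prop := ∀ i j, i < r → j < r → u i = u j → i = j

theorem InjLt.ne {u : ℕ → Fin n} {r : ℕ} (hu : InjLt u r) {i j : ℕ} (hi : i < r) (hj : j < r)
    (hij : i ≠ j) : u i ≠ u j := fun h => hij (hu i j hi hj h)

theorem InjLt.mono {u : ℕ → Fin n} {r r' : ℕ} (hu : InjLt u r) (h : r' ≤ r) : InjLt u r' :=
  fun i j hi hj => hu i j (by omega) (by omega)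

theorem InjLt.comp {u : ℕ → Fin n} {N : ℕ} (hu : InjLt u N) (c : ℕ → ℕ) (r : ℕ)
    (hc : ∀ i, i < r → c i < N) (hci : ∀ i j, i < r → j < r → c i = c j → i = j) :
    InjLt (fun i => u (c i)) r :=
  fun i j hi hj h => hci i j hi hj (hu _ _ (hc i hi) (hc j hj) h)

/-- the embedding attached to an enumeration -/
def embLt (u : ℕ → Fin n) (r : ℕ) (hu : InjLt u r) : Fin r ↪ Fin n :=
  ⟨fun j => u j.val, fun a b h => Fin.ext (hu _ _ a.2 b.2 h)⟩

@[simp] theorem embLt_apply (u : ℕ → Fin n) (r : ℕ) (hu : InjLt u r) (j : Fin r) :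
    embLt u r hu j = u j.val := rfl

theorem InjLt.le {u : ℕ → Fin n} {r : ℕ} (hu : InjLt u r) : r ≤ n := by
  have := Fintype.card_le_of_injective _ (embLt u r hu).injective
  simpa using this

/-- the configuration attached to an enumeration of a proper subset -/
def cfg (h2 : ∀ i, T.IsMinusTwo i) (u : ℕ → Fin n) (r : ℕ) (hu : InjLt u r) (hr : r < n) :
    M2Config r :=
  M2Config.ofType T (fun j : Fin r => u j.val) (embLt u r hu).injective hr (fun s => h2 _)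

theorem nt_pos_of_ne {x y : Fin n} (hxy : x ≠ y) (h : T.a x y ≠ 0) : 0 < T.a x y :=
  lt_of_le_of_ne (T.offDiag_nonneg x y hxy) (Ne.symm h)

variable (h2 : ∀ i, T.IsMinusTwo i)
include h2

/-- no proper cycle -/
theorem nt_no_cycle (u : ℕ → Fin n) (len : ℕ) (hlen : 2 ≤ len) (hn : len + 1 < n)
    (hu : InjLt u (len + 1)) (hadj : ∀ i, i < len → T.a (u i) (u (i + 1)) ≠ 0)
    (hclose : T.a (u 0) (u len) ≠ 0) : False :=
  M2Config.no_cycle_full len hlen (cfg T h2 u (len + 1) hu hn)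
    (fun i hi => hadj i (by omega)) hclose

/-- no vertex with four neighbours -/
theorem nt_no_star (hn : 5 < n) (u : ℕ → Fin n) (hu : InjLt u 5)
    (h1 : T.a (u 0) (u 1) ≠ 0) (h2' : T.a (u 0) (u 2) ≠ 0) (h3 : T.a (u 0) (u 3) ≠ 0)
    (h4 : T.a (u 0) (u 4) ≠ 0) : False :=
  Groth.Agent.S7351.result T hn (embLt u 5 hu) (fun j => h2 _)
    (nt_pos_of_ne T (hu.ne (by omega) (by omega) (by omega)) h1)
    (nt_pos_of_ne T (hu.ne (by omega) (by omega) (by omega)) h2')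
    (nt_pos_of_ne T (hu.ne (by omega) (by omega) (by omega)) h3)
    (nt_pos_of_ne T (hu.ne (by omega) (by omega) (by omega)) h4)

/-- no completed `E6` -/
theorem nt_no_e6 (hn : 7 < n) (u : ℕ → Fin n) (hu : InjLt u 7)
    (h01 : T.a (u 0) (u 1) ≠ 0) (h12 : T.a (u 1) (u 2) ≠ 0) (h34 : T.a (u 3) (u 4) ≠ 0)
    (h42 : T.a (u 4) (u 2) ≠ 0) (h56 : T.a (u 5) (u 6) ≠ 0) (h62 : T.a (u 6) (u 2) ≠ 0) : False :=
  Groth.Agent.S7343.result T hn (embLt u 7 hu) (fun j => h2 _) h01 h12 h34 h42 h56 h62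

/-- no completed `E7` -/
theorem nt_no_e7 (hn : 8 < n) (u : ℕ → Fin n) (hu : InjLt u 8)
    (h01 : T.a (u 0) (u 1) ≠ 0) (h12 : T.a (u 1) (u 2) ≠ 0) (h23 : T.a (u 2) (u 3) ≠ 0)
    (h34 : T.a (u 3) (u 4) ≠ 0) (h45 : T.a (u 4) (u 5) ≠ 0) (h56 : T.a (u 5) (u 6) ≠ 0)
    (h73 : T.a (u 7) (u 3) ≠ 0) : False :=
  Groth.Agent.S7344.result T hn (embLt u 8 hu) (fun j => h2 _) h01 h12 h23 h34 h45 h56 h73

/-- no completed `E8` -/
theorem nt_no_e8 (hn : 9 < n) (u : ℕ → Fin n) (hu : InjLt u 9)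
    (h01 : T.a (u 0) (u 1) ≠ 0) (h12 : T.a (u 1) (u 2) ≠ 0) (h23 : T.a (u 2) (u 3) ≠ 0)
    (h34 : T.a (u 3) (u 4) ≠ 0) (h45 : T.a (u 4) (u 5) ≠ 0) (h56 : T.a (u 5) (u 6) ≠ 0)
    (h67 : T.a (u 6) (u 7) ≠ 0) (h85 : T.a (u 8) (u 5) ≠ 0) : False :=
  Groth.Agent.S7345.result T hn (embLt u 9 hu) (fun j => h2 _) h01 h12 h23 h34 h45 h56 h67 h85

/-- no proper double fork: chain `u 1, …, u t`, `u 0` attached to `u 2`, `u (t+1)` attached to
`u (t-1)` -/
theorem nt_no_dd (t : ℕ) (ht : 4 ≤ t) (hn : t + 2 < n) (u : ℕ → Fin n) (hu : InjLt u (t + 2))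
    (hchain : ∀ i, 1 ≤ i → i + 1 ≤ t → T.a (u i) (u (i + 1)) ≠ 0)
    (h02 : T.a (u 0) (u 2) ≠ 0) (hlast : T.a (u (t - 1)) (u (t + 1)) ≠ 0) : False := by
  refine Groth.Agent.S7342.result T t ht hn (embLt u (t + 2) hu) (fun j => h2 _) ?_ ?_ ?_
  · intro j j' h1 h2' hjj'
    simp only [embLt_apply]
    rw [hjj']
    exact nt_pos_of_ne T (hu.ne (by omega) (by omega) (by omega)) (hchain j.val h1 h2')
  · intro j j' hj hj'
    simp only [embLt_apply]
    rw [hj, hj']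
    exact nt_pos_of_ne T (hu.ne (by omega) (by omega) (by omega)) h02
  · intro j j' hj hj'
    simp only [embLt_apply]
    rw [hj, hj']
    exact nt_pos_of_ne T (hu.ne (by omega) (by omega) (by omega)) hlast

/-- interior of a long proper chain -/
theorem nt_chain_interior (s : ℕ) (hs : 5 ≤ s) (hn : s + 1 < n) (u : ℕ → Fin n)
    (hu : InjLt u (s + 1)) (hadj : ∀ i, i < s → T.a (u i) (u (i + 1)) ≠ 0) :
    (∀ i, 1 ≤ i → i ≤ s - 1 → T.w (u i) = T.w (u 1)) ∧
    (∀ i, 1 ≤ i → i + 1 ≤ s - 1 → T.a (u i) (u (i + 1)) = T.w (u 1)) := by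
  have key := M2Config.chain_interior s hs (cfg T h2 u (s + 1) hu hn) (by
    intro i hi
    change T.a (u (M2Config.idx s i).val) (u (M2Config.idx s (i + 1)).val) ≠ 0
    rw [M2Config.idx_val (by omega), M2Config.idx_val (by omega)]
    exact hadj i (by omega))
  obtain ⟨k1, k2⟩ := key
  constructor
  · intro i h1 h2'
    have := k1 i h1 h2'
    change T.w (u (M2Config.idx s i).val) = T.w (u (M2Config.idx s 1).val) at this
    rwa [M2Config.idx_val (by omega), M2Config.idx_val (by omega)] at this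
  · intro i h1 h2'
    have := k2 i h1 h2'
    change T.a (u (M2Config.idx s i).val) (u (M2Config.idx s (i + 1)).val) =
      T.w (u (M2Config.idx s 1).val) at this
    rwa [M2Config.idx_val (by omega), M2Config.idx_val (by omega),
      M2Config.idx_val (by omega)] at this

/-- chains of three vertices -/
theorem nt_chain3 (hn : 3 < n) (x y z : Fin n) (hxy : x ≠ y) (hyz : y ≠ z) (hxz : x ≠ z)
    (h1 : T.a x y ≠ 0) (h2' : T.a y z ≠ 0) :
    T.a x z = 0 ∧
    ((T.w x = T.w y ∧ T.w z = T.w y ∧ T.a x y = T.w y ∧ T.a y z = T.w y) ∨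
     (T.w x = T.w y ∧ T.w y = 2 * T.w z ∧ T.a x y = T.w y ∧ T.a y z = T.w y) ∨
     (T.w x = T.w y ∧ T.w z = 2 * T.w y ∧ T.a x y = T.w y ∧ T.a y z = 2 * T.w y) ∨
     (T.w x = 2 * T.w y ∧ T.w z = T.w y ∧ T.a x y = 2 * T.w y ∧ T.a y z = T.w y) ∨
     (T.w y = 2 * T.w x ∧ T.w z = T.w y ∧ T.a x y = T.w y ∧ T.a y z = T.w y)) := by
  let u : ℕ → Fin n := fun i => if i = 0 then x else if i = 1 then y else z
  have hu : InjLt u 3 := by
    intro i j hi hj h
    interval_cases i <;> interval_cases j <;> simp_all [u]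
  have key := (cfg T h2 u 3 hu hn).chain3' (a := 0) (b := 1) (c := 2) (by decide) (by decide)
    (by decide) h1 h2'
  exact key

/-- proper `D`-configurations: chain `u 0, …, u (t-1)` and `u t` attached to `u (t-2)` -/
theorem nt_dn (t : ℕ) (ht : 3 ≤ t) (hn : t + 1 < n) (u : ℕ → Fin n) (hu : InjLt u (t + 1))
    (hchain : ∀ i, i + 1 < t → T.a (u i) (u (i + 1)) ≠ 0)
    (hbranch : T.a (u (t - 2)) (u t) ≠ 0) :
    (∀ j, j ≤ t → T.w (u j) = T.w (u (t - 2))) ∧
    (∀ i, i + 1 < t → T.a (u i) (u (i + 1)) = T.w (u (t - 2))) ∧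
    T.a (u (t - 2)) (u t) = T.w (u (t - 2)) ∧
    (∀ j k, j < k → k ≤ t → ¬ (k = j + 1 ∧ k < t) → ¬ (j + 2 = t ∧ k = t) →
      T.a (u j) (u k) = 0) := by
  have key := M2Config.dn_gen t ht (cfg T h2 u (t + 1) hu hn) (by
    intro j j' hjj' hj'
    change T.a (u j.val) (u j'.val) ≠ 0
    rw [hjj']
    exact hchain j.val (by omega)) (by
    intro j j' hj hj'
    change T.a (u j.val) (u j'.val) ≠ 0
    rw [hj', show j.val = t - 2 by omega]
    exact hbranch)
  obtain ⟨k1, k2, k3, k4⟩ := key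
  have hω : (cfg T h2 u (t + 1) hu hn).W (M2Config.idx t (t - 2)) = T.w (u (t - 2)) := by
    change T.w (u (M2Config.idx t (t - 2)).val) = _
    rw [M2Config.idx_val (by omega)]
  rw [hω] at k1 k2 k3
  refine ⟨?_, ?_, ?_, ?_⟩
  · intro j hj
    exact k1 ⟨j, by omega⟩
  · intro i hi
    exact k2 ⟨i, by omega⟩ ⟨i + 1, by omega⟩ rfl (by simpa using hi)
  · exact k3 ⟨t - 2, by omega⟩ ⟨t, by omega⟩ (by simp; omega) rfl
  · intro j k hjk hk h1 h2'
    exact k4 ⟨j, by omega⟩ ⟨k, by omega⟩ hjk h1 h2'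

end Groth.Agent.H37
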