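import Groth.Agent.H37.NumGenA

/-! Genus one classification for `n ≥ 10`: longest paths. -/

set_option autoImplicit false
set_option linter.unusedVariables false
open Finset

namespace Groth.Agent.H37

open Models Models.NumericalType

variable {n : ℕ} (T : Models.NumericalType n)

/-- a path in the dual graph -/
structure IsPath (p : ℕ → Fin n) (L : ℕ) : Prop where
  inj : InjLt p (L + 1)
  adj : ∀ i, i < L → T.a (p i) (p (i + 1)) ≠ 0

theorem nt_ne_symm {x y : Fin n} (h : T.a x y ≠ 0) : T.a y x ≠ 0 := by
  rwa [nt_symm T y x]

theorem nt_ne_of_adj {x y : Fin n} (hn : 1 < n) (h : T.a x y = 0) : x ≠ y := by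
  intro hxy
  subst hxy
  have := nt_diag_neg T hn x
  omega

theorem exists_longest_path (hpos : 0 < n) :
    ∃ (L : ℕ) (p : ℕ → Fin n), IsPath T p L ∧ ∀ (L' : ℕ) (p' : ℕ → Fin n), IsPath T p' L' → L' ≤ L := by
  classical
  let P : ℕ → Prop := fun L => ∃ p : ℕ → Fin n, IsPath T p L
  have h0 : P 0 := ⟨fun _ => ⟨0, hpos⟩, ⟨fun i j hi hj _ => by omega, fun i hi => by omega⟩⟩
  have hspec : P (Nat.findGreatest P n) := Nat.findGreatest_spec (Nat.zero_le n) h0
  obtain ⟨p, hp⟩ := hspec
  refine ⟨Nat.findGreatest P n, p, hp, fun L' p' hp' => ?_⟩
  have hle : L' ≤ n := by have := hp'.inj.le; omega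
  exact Nat.le_findGreatest hle ⟨p', hp'⟩

/-- the enumeration of a path followed by two more vertices -/
def ext2 (p : ℕ → Fin n) (L : ℕ) (q r : Fin n) : ℕ → Fin n :=
  fun i => if i ≤ L then p i else if i = L + 1 then q else r

theorem ext2_le (p : ℕ → Fin n) (L : ℕ) (q r : Fin n) {i : ℕ} (hi : i ≤ L) :
    ext2 p L q r i = p i := by
  unfold ext2
  rw [if_pos hi]

theorem ext2_q (p : ℕ → Fin n) (L : ℕ) (q r : Fin n) {i : ℕ} (hi : i = L + 1) :
    ext2 p L q r i = q := by
  unfold ext2
  rw [if_neg (by omega), if_pos hi]

theorem ext2_r (p : ℕ → Fin n) (L : ℕ) (q r : Fin n) {i : ℕ} (hi : L + 2 ≤ i) :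
    ext2 p L q r i = r := by
  unfold ext2
  rw [if_neg (by omega), if_neg (by omega)]

theorem injLt_ext2_one {p : ℕ → Fin n} {L : ℕ} (hp : InjLt p (L + 1)) (q r : Fin n)
    (hq : ∀ i, i ≤ L → p i ≠ q) : InjLt (ext2 p L q r) (L + 2) := by
  intro i j hi hj h
  by_cases hiL : i ≤ L
  · by_cases hjL : j ≤ L
    · rw [ext2_le p L q r hiL, ext2_le p L q r hjL] at h
      exact hp i j (by omega) (by omega) h
    · rw [ext2_le p L q r hiL, ext2_q p L q r (by omega : j = L + 1)] at h
      exact absurd h (hq i hiL)
  · by_cases hjL : j ≤ L
    · rw [ext2_le p L q r hjL, ext2_q p L q r (by omega : i = L + 1)] at h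
      exact absurd h.symm (hq j hjL)
    · omega

theorem injLt_ext2 {p : ℕ → Fin n} {L : ℕ} (hp : InjLt p (L + 1)) (q r : Fin n)
    (hq : ∀ i, i ≤ L → p i ≠ q) (hr : ∀ i, i ≤ L → p i ≠ r) (hqr : q ≠ r) :
    InjLt (ext2 p L q r) (L + 3) := by
  intro i j hi hj h
  by_cases hi2 : i < L + 2
  · by_cases hj2 : j < L + 2
    · exact injLt_ext2_one hp q r hq i j hi2 hj2 h
    · rw [ext2_r p L q r (by omega : L + 2 ≤ j)] at h
      by_cases hiL : i ≤ L
      · rw [ext2_le p L q r hiL] at h
        exact absurd h (hr i hiL)
      · rw [ext2_q p L q r (by omega : i = L + 1)] at h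
        exact absurd h hqr
  · by_cases hj2 : j < L + 2
    · rw [ext2_r p L q r (by omega : L + 2 ≤ i)] at h
      by_cases hjL : j ≤ L
      · rw [ext2_le p L q r hjL] at h
        exact absurd h.symm (hr j hjL)
      · rw [ext2_q p L q r (by omega : j = L + 1)] at h
        exact absurd h.symm hqr
    · omega

/-- the four possible shapes of the dual graph -/
structure IsCycleShape (e : ℕ → Fin n) : Prop where
  inj : InjLt e n
  adj : ∀ i, i + 1 < n → T.a (e i) (e (i + 1)) ≠ 0
  close : T.a (e 0) (e (n - 1)) ≠ 0

structure IsPathShape (e : ℕ → Fin n) : Prop where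
  inj : InjLt e n
  adj : ∀ i, i + 1 < n → T.a (e i) (e (i + 1)) ≠ 0
  ends : T.a (e 0) (e (n - 1)) = 0

structure IsForkShape (e : ℕ → Fin n) : Prop where
  inj : InjLt e n
  adj : ∀ i, i + 2 < n → T.a (e i) (e (i + 1)) ≠ 0
  branch : T.a (e (n - 3)) (e (n - 1)) ≠ 0
  leaf : ∀ j, 2 ≤ j → j < n → T.a (e 0) (e j) = 0

structure IsDForkShape (e : ℕ → Fin n) : Prop where
  inj : InjLt e n
  b0 : T.a (e 0) (e 2) ≠ 0
  b1 : T.a (e 1) (e 2) ≠ 0
  adj : ∀ i, 2 ≤ i → i + 2 < n → T.a (e i) (e (i + 1)) ≠ 0
  branch : T.a (e (n - 3)) (e (n - 1)) ≠ 0

section longest

variable {T}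
variable {p : ℕ → Fin n} {L : ℕ} (hp : IsPath T p L)
  (hmax : ∀ (L' : ℕ) (p' : ℕ → Fin n), IsPath T p' L' → L' ≤ L)
include hp hmax

/-- off-path vertices are not adjacent to the start of a longest path -/
theorem off_not_adj_start (x : Fin n) (hx : ∀ i, i ≤ L → p i ≠ x) : T.a (p 0) x = 0 := by
  by_contra hne
  have hpath : IsPath T (fun i => if i = 0 then x else p (i - 1)) (L + 1) := by
    constructor
    · intro i j hi hj h
      by_cases hi0 : i = 0
      · by_cases hj0 : j = 0
        · omega
        · simp only [hi0, hj0, if_true, if_false] at h
          exact absurd h.symm (hx (j - 1) (by omega))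
      · by_cases hj0 : j = 0
        · simp only [hi0, hj0, if_true, if_false] at h
          exact absurd h (hx (i - 1) (by omega))
        · simp only [hi0, hj0, if_false] at h
          have := hp.inj (i - 1) (j - 1) (by omega) (by omega) h
          omega
    · intro i hi
      by_cases hi0 : i = 0
      · subst hi0
        simp only [if_true, show (0 + 1 = 0) = False by simp, if_false]
        exact nt_ne_symm T hne
      · simp only [hi0, if_false, show ¬ (i + 1 = 0) by omega]
        have := hp.adj (i - 1) (by omega)
        rwa [show i - 1 + 1 = i + 1 - 1 by omega] at this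
  have := hmax _ _ hpath
  omega

/-- off-path vertices are not adjacent to the end of a longest path -/
theorem off_not_adj_end (x : Fin n) (hx : ∀ i, i ≤ L → p i ≠ x) : T.a (p L) x = 0 := by
  by_contra hne
  have hpath : IsPath T (fun i => if i ≤ L then p i else x) (L + 1) := by
    constructor
    · intro i j hi hj h
      by_cases hiL : i ≤ L
      · by_cases hjL : j ≤ L
        · simp only [hiL, hjL, if_true] at h
          exact hp.inj i j (by omega) (by omega) h
        · simp only [hiL, hjL, if_true, if_false] at h
          exact absurd h (hx i hiL)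
      · by_cases hjL : j ≤ L
        · simp only [hiL, hjL, if_true, if_false] at h
          exact absurd h.symm (hx j hjL)
        · omega
    · intro i hi
      by_cases hiL : i < L
      · simp only [show i ≤ L by omega, show i + 1 ≤ L by omega, if_true]
        exact hp.adj i hiL
      · have hiL' : i = L := by omega
        subst hiL'
        simp only [le_refl, if_true, show ¬ (i + 1 ≤ i) by omega, if_false]
        exact hne
  have := hmax _ _ hpath
  omega

/-- an off-path vertex attached to the path and adjacent to another off-path vertex is attached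
far from both ends -/
theorem off_off_bounds (q r : Fin n) (hq : ∀ i, i ≤ L → p i ≠ q) (hr : ∀ i, i ≤ L → p i ≠ r)
    (hqr : q ≠ r) (k : ℕ) (hk : k ≤ L) (hqk : T.a q (p k) ≠ 0) (hrq : T.a r q ≠ 0) :
    2 ≤ k ∧ k + 2 ≤ L := by
  constructor
  · -- the path r, q, p k, …, p L
    have hpath : IsPath T (fun i => if i = 0 then r else if i = 1 then q else p (k + i - 2))
        (L - k + 2) := by
      constructor
      · intro i j hi hj h
        by_cases hi0 : i = 0
        · by_cases hj0 : j = 0
          · omega
          · by_cases hj1 : j = 1
            · simp only [hi0, hj1, if_true, one_ne_zero, if_false] at h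
              exact absurd h.symm hqr
            · simp only [hi0, hj0, hj1, if_true, if_false] at h
              exact absurd h.symm (hr _ (by omega))
        · by_cases hi1 : i = 1
          · by_cases hj0 : j = 0
            · simp only [hi1, hj0, if_true, one_ne_zero, if_false] at h
              exact absurd h hqr
            · by_cases hj1 : j = 1
              · omega
              · simp only [hi1, hj0, hj1, if_true, one_ne_zero, if_false] at h
                exact absurd h.symm (hq _ (by omega))
          · by_cases hj0 : j = 0
            · simp only [hi0, hi1, hj0, if_true, if_false] at h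
              exact absurd h (hr _ (by omega))
            · by_cases hj1 : j = 1
              · simp only [hi0, hi1, hj1, if_true, one_ne_zero, if_false] at h
                exact absurd h (hq _ (by omega))
              · simp only [hi0, hi1, hj0, hj1, if_false] at h
                have := hp.inj _ _ (by omega) (by omega) h
                omega
      · intro i hi
        by_cases hi0 : i = 0
        · subst hi0
          simp only [if_true, zero_add, one_ne_zero, if_false]
          exact hrq
        · by_cases hi1 : i = 1
          · subst hi1
            simp only [one_ne_zero, if_false, if_true, show (1 + 1 = 0) = False by simp,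
              show (1 + 1 = 1) = False by simp]
            rw [show k + (1 + 1) - 2 = k by omega]
            exact hqk
          · simp only [hi0, hi1, if_false, show ¬ (i + 1 = 0) by omega,
              show ¬ (i + 1 = 1) by omega]
            have := hp.adj (k + i - 2) (by omega)
            rwa [show k + i - 2 + 1 = k + (i + 1) - 2 by omega] at this
    have := hmax _ _ hpath
    omega
  · -- the path r, q, p k, …, p 0
    have hpath : IsPath T (fun i => if i = 0 then r else if i = 1 then q else p (k + 2 - i))
        (k + 2) := by
      constructor
      · intro i j hi hj h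
        by_cases hi0 : i = 0
        · by_cases hj0 : j = 0
          · omega
          · by_cases hj1 : j = 1
            · simp only [hi0, hj1, if_true, one_ne_zero, if_false] at h
              exact absurd h.symm hqr
            · simp only [hi0, hj0, hj1, if_true, if_false] at h
              exact absurd h.symm (hr _ (by omega))
        · by_cases hi1 : i = 1
          · by_cases hj0 : j = 0
            · simp only [hi1, hj0, if_true, one_ne_zero, if_false] at h
              exact absurd h hqr
            · by_cases hj1 : j = 1
              · omega
              · simp only [hi1, hj0, hj1, if_true, one_ne_zero, if_false] at h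
                exact absurd h.symm (hq _ (by omega))
          · by_cases hj0 : j = 0
            · simp only [hi0, hi1, hj0, if_true, if_false] at h
              exact absurd h (hr _ (by omega))
            · by_cases hj1 : j = 1
              · simp only [hi0, hi1, hj1, if_true, one_ne_zero, if_false] at h
                exact absurd h (hq _ (by omega))
              · simp only [hi0, hi1, hj0, hj1, if_false] at h
                have := hp.inj _ _ (by omega) (by omega) h
                omega
      · intro i hi
        by_cases hi0 : i = 0
        · subst hi0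
          simp only [if_true, zero_add, one_ne_zero, if_false]
          exact hrq
        · by_cases hi1 : i = 1
          · subst hi1
            simp only [one_ne_zero, if_false, if_true, show (1 + 1 = 0) = False by simp,
              show (1 + 1 = 1) = False by simp]
            rw [show k + 2 - (1 + 1) = k by omega]
            exact hqk
          · simp only [hi0, hi1, if_false, show ¬ (i + 1 = 0) by omega,
              show ¬ (i + 1 = 1) by omega]
            have := hp.adj (k + 2 - (i + 1)) (by omega)
            rw [show k + 2 - (i + 1) + 1 = k + 2 - i by omega] at this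
            exact nt_ne_symm T this
    have := hmax _ _ hpath
    omega

end longest

end Groth.Agent.H37
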