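import Groth.Agent.H37.NumGenB

/-! Genus one classification for `n ≥ 10`: the shape of the dual graph. -/

set_option autoImplicit false
set_option linter.unusedVariables false
open Finset

namespace Groth.Agent.H37

open Models Models.NumericalType

variable {n : ℕ} (T : Models.NumericalType n)

/-- connectivity: a set of vertices closed under adjacency is everything -/
theorem nt_all_of_closed (S : Fin n → Prop) (x₀ : Fin n) (hx₀ : S x₀)
    (hcl : ∀ x y, S x → T.a x y ≠ 0 → S y) : ∀ x, S x := by
  classical
  by_contra hcon
  push Not at hcon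
  obtain ⟨y₀, hy₀⟩ := hcon
  have hne : (univ.filter fun x => S x).Nonempty := ⟨x₀, by simp [hx₀]⟩
  have hneu : (univ.filter fun x => S x) ≠ univ := by
    intro h
    have : y₀ ∈ univ.filter fun x => S x := by rw [h]; exact mem_univ _
    simp at this
    exact hy₀ this
  obtain ⟨i, hi, j, hj, hij⟩ := T.connected _ hne hneu
  simp only [mem_filter, mem_univ, true_and] at hi hj
  exact hj (hcl i j hi hij)

theorem card_le_of_enum (u : ℕ → Fin n) (r : ℕ) (hsurj : ∀ x : Fin n, ∃ i, i < r ∧ u i = x) :
    n ≤ r := by
  have h : Function.Surjective (fun j : Fin r => u j.val) := by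
    intro x
    obtain ⟨i, hi, hx⟩ := hsurj x
    exact ⟨⟨i, hi⟩, hx⟩
  have := Fintype.card_le_of_surjective _ h
  simpa using this

theorem exists_shape (hn : 10 ≤ n) (h2 : ∀ i, T.IsMinusTwo i) :
    ∃ e : ℕ → Fin n, IsCycleShape T e ∨ IsPathShape T e ∨ IsForkShape T e ∨ IsDForkShape T e := by
  obtain ⟨L, p, hp, hmax⟩ := exists_longest_path T (by omega)
  have hLn : L + 1 ≤ n := hp.inj.le
  by_cases hH1 : ∃ k, 2 ≤ k ∧ k ≤ L ∧ T.a (p 0) (p k) ≠ 0
  · obtain ⟨k, hk2, hkL, hk⟩ := hH1
    have hkn : ¬ (k + 1 < n) := fun hlt =>
      nt_no_cycle T h2 p k hk2 hlt (hp.inj.mono (by omega)) (fun i hi => hp.adj i (by omega)) hk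
    have hkeq : k = L := by omega
    have hnL : n = L + 1 := by omega
    subst hkeq
    refine ⟨p, Or.inl ⟨hp.inj.mono (by omega), fun i hi => hp.adj i (by omega), ?_⟩⟩
    rw [show n - 1 = k by omega]
    exact hk
  by_cases hH2 : ∃ k, k + 2 ≤ L ∧ T.a (p L) (p k) ≠ 0
  · obtain ⟨k, hkL, hk⟩ := hH2
    have hkn : ¬ (L - k + 1 < n) := fun hlt =>
      nt_no_cycle T h2 (fun i => p (k + i)) (L - k) (by omega) hlt
        (hp.inj.comp (fun i => k + i) _ (by intro i hi; omega) (by intro i j _ _ h; omega))
        (fun i hi => by
          have := hp.adj (k + i) (by omega)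
          simpa [add_assoc] using this)
        (by
          simp only [add_zero]
          rw [show k + (L - k) = L by omega]
          exact nt_ne_symm T hk)
    have hk0 : k = 0 := by omega
    subst hk0
    exact absurd ⟨L, by omega, le_refl _, nt_ne_symm T hk⟩ hH1
  push Not at hH1 hH2
  have hoff0 := fun x hx => off_not_adj_start hp hmax x hx
  have hoffL := fun x hx => off_not_adj_end hp hmax x hx
  have att_bounds : ∀ (q : Fin n) (k : ℕ), (∀ i, i ≤ L → p i ≠ q) → k ≤ L → T.a q (p k) ≠ 0 →
      1 ≤ k ∧ k + 1 ≤ L := by
    intro q k hq hk hqk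
    constructor
    · by_contra h0
      have hk0 : k = 0 := by omega
      subst hk0
      exact nt_ne_symm T hqk (hoff0 q hq)
    · by_contra h0
      have hkL : k = L := by omega
      subst hkL
      exact nt_ne_symm T hqk (hoffL q hq)
  by_cases hDD : ∃ (q r : Fin n) (j k : ℕ), q ≠ r ∧ (∀ i, i ≤ L → p i ≠ q) ∧
      (∀ i, i ≤ L → p i ≠ r) ∧ j ≤ k ∧ k ≤ L ∧ T.a q (p j) ≠ 0 ∧ T.a r (p k) ≠ 0
  · -- two attached vertices: a double fork
    obtain ⟨q, r, j, k, hqr, hq, hr, hjk, hkL, hqj, hrk⟩ := hDD
    obtain ⟨hj1, hjL⟩ := att_bounds q j hq (by omega) hqj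
    obtain ⟨hk1, hkL'⟩ := att_bounds r k hr hkL hrk
    have hinj3 := injLt_ext2 hp.inj q r hq hr hqr
    have hL3 : L + 3 ≤ n := hinj3.le
    rcases Nat.lt_or_ge j k with hlt | hge
    · have ht4 : 4 ≤ k - j + 3 := by omega
      let c : ℕ → ℕ := fun i => if i = 0 then L + 1 else if i = k - j + 4 then L + 2 else j + i - 2
      have c0 : c 0 = L + 1 := by simp [c]
      have cl : ∀ i, 1 ≤ i → i ≤ k - j + 3 → c i = j + i - 2 := fun i h1 h2' => by
        simp only [c]
        rw [if_neg (by omega), if_neg (by omega)]
      have ct : c (k - j + 4) = L + 2 := by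
        simp only [c]
        rw [if_neg (by omega)]
        simp
      have hu : InjLt (fun i => ext2 p L q r (c i)) (k - j + 3 + 2) := by
        refine hinj3.comp c _ ?_ ?_
        · intro i hi
          by_cases hi0 : i = 0
          · rw [hi0, c0]; omega
          · by_cases hit : i = k - j + 4
            · rw [hit, ct]; omega
            · rw [cl i (by omega) (by omega)]; omega
        · intro a b ha hb h
          by_cases ha0 : a = 0
          · by_cases hb0 : b = 0
            · omega
            · by_cases hbt : b = k - j + 4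
              · rw [ha0, hbt, c0, ct] at h; omega
              · rw [ha0, c0, cl b (by omega) (by omega)] at h; omega
          · by_cases hat : a = k - j + 4
            · by_cases hb0 : b = 0
              · rw [hat, hb0, c0, ct] at h; omega
              · by_cases hbt : b = k - j + 4
                · omega
                · rw [hat, ct, cl b (by omega) (by omega)] at h; omega
            · by_cases hb0 : b = 0
              · rw [hb0, c0, cl a (by omega) (by omega)] at h; omega
              · by_cases hbt : b = k - j + 4
                · rw [hbt, ct, cl a (by omega) (by omega)] at h; omega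
                · rw [cl a (by omega) (by omega), cl b (by omega) (by omega)] at h; omega
      by_cases hprop : k - j + 3 + 2 < n
      · exfalso
        refine nt_no_dd T h2 (k - j + 3) ht4 hprop _ hu ?_ ?_ ?_
        · intro i hi1 hi2
          show T.a (ext2 p L q r (c i)) (ext2 p L q r (c (i + 1))) ≠ 0
          rw [cl i hi1 (by omega), cl (i + 1) (by omega) hi2, ext2_le _ _ _ _ (by omega),
            ext2_le _ _ _ _ (by omega)]
          have := hp.adj (j + i - 2) (by omega)
          rwa [show j + i - 2 + 1 = j + (i + 1) - 2 by omega] at this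
        · show T.a (ext2 p L q r (c 0)) (ext2 p L q r (c 2)) ≠ 0
          rw [c0, cl 2 (by omega) (by omega), ext2_q _ _ _ _ rfl, ext2_le _ _ _ _ (by omega),
            show j + 2 - 2 = j by omega]
          exact hqj
        · show T.a (ext2 p L q r (c (k - j + 3 - 1))) (ext2 p L q r (c (k - j + 3 + 1))) ≠ 0
          rw [cl (k - j + 3 - 1) (by omega) (by omega), show k - j + 3 + 1 = k - j + 4 by omega,
            ct, ext2_le _ _ _ _ (by omega), ext2_r _ _ _ _ (by omega),
            show j + (k - j + 3 - 1) - 2 = k by omega]
          exact nt_ne_symm T hrk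
      · have hfacts : n = L + 3 ∧ j = 1 ∧ k + 1 = L := by
          have := hu.le
          omega
        obtain ⟨hnL, hj, hk⟩ := hfacts
        subst hj
        let d : ℕ → ℕ := fun i => if i = 0 then 0 else if i = 1 then L + 1 else
          if i ≤ L + 1 then i - 1 else L + 2
        have d0 : d 0 = 0 := by simp [d]
        have d1 : d 1 = L + 1 := by simp [d]
        have dl : ∀ i, 2 ≤ i → i ≤ L + 1 → d i = i - 1 := fun i h1 h2' => by
          simp only [d]
          rw [if_neg (by omega), if_neg (by omega), if_pos h2']
        have dt : d (L + 2) = L + 2 := by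
          simp only [d]
          rw [if_neg (by omega), if_neg (by omega), if_neg (by omega)]
        refine ⟨fun i => ext2 p L q r (d i), Or.inr (Or.inr (Or.inr ⟨?_, ?_, ?_, ?_, ?_⟩))⟩
        · refine (hinj3.comp d (L + 3) ?_ ?_).mono (by omega)
          · intro i hi
            by_cases hi0 : i = 0
            · rw [hi0, d0]; omega
            · by_cases hi1 : i = 1
              · rw [hi1, d1]; omega
              · by_cases hil : i ≤ L + 1
                · rw [dl i (by omega) hil]; omega
                · rw [show i = L + 2 by omega, dt]; omega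
          · intro a b ha hb h
            have hd : ∀ i, i < L + 3 → (i = 0 ∧ d i = 0) ∨ (i = 1 ∧ d i = L + 1) ∨
                (2 ≤ i ∧ i ≤ L + 1 ∧ d i = i - 1) ∨ (i = L + 2 ∧ d i = L + 2) := by
              intro i hi
              by_cases hi0 : i = 0
              · exact Or.inl ⟨hi0, by rw [hi0, d0]⟩
              · by_cases hi1 : i = 1
                · exact Or.inr (Or.inl ⟨hi1, by rw [hi1, d1]⟩)
                · by_cases hil : i ≤ L + 1
                  · exact Or.inr (Or.inr (Or.inl ⟨by omega, hil, dl i (by omega) hil⟩))
                  · have : i = L + 2 := by omega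
                    exact Or.inr (Or.inr (Or.inr ⟨this, by rw [this, dt]⟩))
            have ha' := hd a ha
            have hb' := hd b hb
            omega
        · show T.a (ext2 p L q r (d 0)) (ext2 p L q r (d 2)) ≠ 0
          rw [d0, dl 2 (by omega) (by omega), ext2_le _ _ _ _ (by omega),
            ext2_le _ _ _ _ (by omega)]
          exact hp.adj 0 (by omega)
        · show T.a (ext2 p L q r (d 1)) (ext2 p L q r (d 2)) ≠ 0
          rw [d1, dl 2 (by omega) (by omega), ext2_q _ _ _ _ rfl, ext2_le _ _ _ _ (by omega)]
          exact hqj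
        · intro i hi2 hin
          show T.a (ext2 p L q r (d i)) (ext2 p L q r (d (i + 1))) ≠ 0
          rw [dl i hi2 (by omega), dl (i + 1) (by omega) (by omega), ext2_le _ _ _ _ (by omega),
            ext2_le _ _ _ _ (by omega)]
          have := hp.adj (i - 1) (by omega)
          rwa [show i - 1 + 1 = i + 1 - 1 by omega] at this
        · show T.a (ext2 p L q r (d (n - 3))) (ext2 p L q r (d (n - 1))) ≠ 0
          rw [show n - 3 = L by omega, show n - 1 = L + 2 by omega, dl L (by omega) (by omega), dt,
            ext2_le _ _ _ _ (by omega), ext2_r _ _ _ _ (by omega), show L - 1 = k by omega]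
          exact nt_ne_symm T hrk
    · -- both attached at the same vertex: four neighbours
      have hjk' : j = k := by omega
      subst hjk'
      exfalso
      let c : ℕ → ℕ := fun i => if i = 0 then j else if i = 1 then j - 1 else
        if i = 2 then j + 1 else if i = 3 then L + 1 else L + 2
      have c0 : c 0 = j := by simp [c]
      have c1 : c 1 = j - 1 := by simp [c]
      have c2 : c 2 = j + 1 := by simp [c]
      have c3 : c 3 = L + 1 := by simp [c]
      have c4 : c 4 = L + 2 := by simp [c]
      refine nt_no_star T h2 (by omega) (fun i => ext2 p L q r (c i)) (hinj3.comp c 5 ?_ ?_)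
        ?_ ?_ ?_ ?_
      · intro i hi
        interval_cases i <;> simp only [c0, c1, c2, c3, c4] <;> omega
      · intro a b ha hb h
        interval_cases a <;> interval_cases b <;> simp only [c0, c1, c2, c3, c4] at h <;> omega
      · show T.a (ext2 p L q r (c 0)) (ext2 p L q r (c 1)) ≠ 0
        rw [c0, c1, ext2_le _ _ _ _ (by omega), ext2_le _ _ _ _ (by omega)]
        have := hp.adj (j - 1) (by omega)
        rw [show j - 1 + 1 = j by omega] at this
        exact nt_ne_symm T this
      · show T.a (ext2 p L q r (c 0)) (ext2 p L q r (c 2)) ≠ 0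
        rw [c0, c2, ext2_le _ _ _ _ (by omega), ext2_le _ _ _ _ (by omega)]
        exact hp.adj j (by omega)
      · show T.a (ext2 p L q r (c 0)) (ext2 p L q r (c 3)) ≠ 0
        rw [c0, c3, ext2_le _ _ _ _ (by omega), ext2_q _ _ _ _ rfl]
        exact nt_ne_symm T hqj
      · show T.a (ext2 p L q r (c 0)) (ext2 p L q r (c 4)) ≠ 0
        rw [c0, c4, ext2_le _ _ _ _ (by omega), ext2_r _ _ _ _ (by omega)]
        exact nt_ne_symm T hrk
  by_cases hS : ∃ (q : Fin n) (k : ℕ), (∀ i, i ≤ L → p i ≠ q) ∧ k ≤ L ∧ T.a q (p k) ≠ 0
  · -- exactly one attached vertex: a fork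
    obtain ⟨q, k, hq, hkL, hqk⟩ := hS
    push Not at hDD
    obtain ⟨hk1, hkL1⟩ := att_bounds q k hq hkL hqk
    have hall : ∀ x : Fin n, x = q ∨ ∃ i, i ≤ L ∧ p i = x := by
      apply nt_all_of_closed T (fun x => x = q ∨ ∃ i, i ≤ L ∧ p i = x) (p 0)
        (Or.inr ⟨0, by omega, rfl⟩)
      intro x y hx hxy
      by_contra hy
      push Not at hy
      obtain ⟨hyq, hyoff⟩ := hy
      rcases hx with rfl | ⟨i, hi, rfl⟩
      · -- `x = q` adjacent to an off-path `y`: a completed E6
        obtain ⟨hk2, hk2L⟩ := off_off_bounds hp hmax x y hq hyoff (Ne.symm hyq) k hkL hqk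
          (nt_ne_symm T hxy)
        let c : ℕ → ℕ := fun i => if i = 0 then k - 2 else if i = 1 then k - 1 else
          if i = 2 then k else if i = 3 then k + 2 else if i = 4 then k + 1 else
          if i = 5 then L + 2 else L + 1
        have hinj3 := injLt_ext2 hp.inj x y hq hyoff (Ne.symm hyq)
        have c0 : c 0 = k - 2 := by simp [c]
        have c1 : c 1 = k - 1 := by simp [c]
        have c2 : c 2 = k := by simp [c]
        have c3 : c 3 = k + 2 := by simp [c]
        have c4 : c 4 = k + 1 := by simp [c]
        have c5 : c 5 = L + 2 := by simp [c]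
        have c6 : c 6 = L + 1 := by simp [c]
        refine nt_no_e6 T h2 (by omega) (fun i => ext2 p L x y (c i)) (hinj3.comp c 7 ?_ ?_)
          ?_ ?_ ?_ ?_ ?_ ?_
        · intro i hi
          interval_cases i <;> simp only [c0, c1, c2, c3, c4, c5, c6] <;> omega
        · intro i j hi hj h
          interval_cases i <;> interval_cases j <;>
            simp only [c0, c1, c2, c3, c4, c5, c6] at h <;> omega
        · show T.a (ext2 p L x y (c 0)) (ext2 p L x y (c 1)) ≠ 0
          rw [c0, c1, ext2_le _ _ _ _ (by omega), ext2_le _ _ _ _ (by omega)]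
          have := hp.adj (k - 2) (by omega)
          rwa [show k - 2 + 1 = k - 1 by omega] at this
        · show T.a (ext2 p L x y (c 1)) (ext2 p L x y (c 2)) ≠ 0
          rw [c1, c2, ext2_le _ _ _ _ (by omega), ext2_le _ _ _ _ (by omega)]
          have := hp.adj (k - 1) (by omega)
          rwa [show k - 1 + 1 = k by omega] at this
        · show T.a (ext2 p L x y (c 3)) (ext2 p L x y (c 4)) ≠ 0
          rw [c3, c4, ext2_le _ _ _ _ (by omega), ext2_le _ _ _ _ (by omega)]
          exact nt_ne_symm T (hp.adj (k + 1) (by omega))
        · show T.a (ext2 p L x y (c 4)) (ext2 p L x y (c 2)) ≠ 0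
          rw [c4, c2, ext2_le _ _ _ _ (by omega), ext2_le _ _ _ _ (by omega)]
          exact nt_ne_symm T (hp.adj k (by omega))
        · show T.a (ext2 p L x y (c 5)) (ext2 p L x y (c 6)) ≠ 0
          rw [c5, c6, ext2_r _ _ _ _ (by omega), ext2_q _ _ _ _ rfl]
          exact nt_ne_symm T hxy
        · show T.a (ext2 p L x y (c 6)) (ext2 p L x y (c 2)) ≠ 0
          rw [c6, c2, ext2_q _ _ _ _ rfl, ext2_le _ _ _ _ (by omega)]
          exact hqk
      · -- a second attached vertex
        rcases le_total i k with hik | hki
        · exact hqk (hDD y q i k hyq hyoff hq hik hkL (nt_ne_symm T hxy))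
        · exact nt_ne_symm T hxy (hDD q y k i (Ne.symm hyq) hq hyoff hki hi hqk)
    have hinj2 := injLt_ext2_one hp.inj q q hq
    have hL2n : L + 2 ≤ n := hinj2.le
    have hnle : n ≤ L + 2 := card_le_of_enum (ext2 p L q q) (L + 2) (fun x => by
      rcases hall x with rfl | ⟨i, hi, rfl⟩
      · exact ⟨L + 1, by omega, ext2_q _ _ _ _ rfl⟩
      · exact ⟨i, by omega, ext2_le _ _ _ _ hi⟩)
    have hk : k = 1 ∨ k + 1 = L := by
      by_contra hcon
      push Not at hcon
      have hk2 : 2 ≤ k := by omega
      have hkL2 : k + 2 ≤ L := by omega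
      by_cases h33 : 3 ≤ k ∧ k + 3 ≤ L
      · -- completed E7
        let c : ℕ → ℕ := fun i => if i < 7 then k - 3 + i else L + 1
        have cl : ∀ i, i < 7 → c i = k - 3 + i := fun i hi => by simp [c, hi]
        have c7 : c 7 = L + 1 := by simp [c]
        have hstep : ∀ i, i < 6 → T.a (ext2 p L q q (c i)) (ext2 p L q q (c (i + 1))) ≠ 0 := by
          intro i hi
          rw [cl i (by omega), cl (i + 1) (by omega), ext2_le _ _ _ _ (by omega),
            ext2_le _ _ _ _ (by omega)]
          have := hp.adj (k - 3 + i) (by omega)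
          rwa [show k - 3 + i + 1 = k - 3 + (i + 1) by omega] at this
        refine nt_no_e7 T h2 (by omega) (fun i => ext2 p L q q (c i)) (hinj2.comp c 8 ?_ ?_)
          (hstep 0 (by omega)) (hstep 1 (by omega)) (hstep 2 (by omega)) (hstep 3 (by omega))
          (hstep 4 (by omega)) (hstep 5 (by omega)) ?_
        · intro i hi
          by_cases h7 : i < 7
          · rw [cl i h7]; omega
          · rw [show i = 7 by omega, c7]; omega
        · intro i j hi hj h
          by_cases hi7 : i < 7
          · by_cases hj7 : j < 7
            · rw [cl i hi7, cl j hj7] at h; omega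
            · rw [cl i hi7, show j = 7 by omega, c7] at h; omega
          · by_cases hj7 : j < 7
            · rw [cl j hj7, show i = 7 by omega, c7] at h; omega
            · omega
        · show T.a (ext2 p L q q (c 7)) (ext2 p L q q (c 3)) ≠ 0
          rw [c7, cl 3 (by omega), ext2_q _ _ _ _ rfl, ext2_le _ _ _ _ (by omega),
            show k - 3 + 3 = k by omega]
          exact hqk
      · by_cases hk2' : k = 2
        · -- completed E8, centre `p 2`
          subst hk2'
          let c : ℕ → ℕ := fun i => if i < 8 then 7 - i else L + 1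
          have cl : ∀ i, i < 8 → c i = 7 - i := fun i hi => by simp [c, hi]
          have c8 : c 8 = L + 1 := by simp [c]
          have hstep : ∀ i, i < 7 →
              T.a (ext2 p L q q (c i)) (ext2 p L q q (c (i + 1))) ≠ 0 := by
            intro i hi
            rw [cl i (by omega), cl (i + 1) (by omega), ext2_le _ _ _ _ (by omega),
              ext2_le _ _ _ _ (by omega)]
            have := hp.adj (7 - (i + 1)) (by omega)
            rw [show 7 - (i + 1) + 1 = 7 - i by omega] at this
            exact nt_ne_symm T this
          refine nt_no_e8 T h2 (by omega) (fun i => ext2 p L q q (c i)) (hinj2.comp c 9 ?_ ?_)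
            (hstep 0 (by omega)) (hstep 1 (by omega)) (hstep 2 (by omega)) (hstep 3 (by omega))
            (hstep 4 (by omega)) (hstep 5 (by omega)) (hstep 6 (by omega)) ?_
          · intro i hi
            by_cases h8 : i < 8
            · rw [cl i h8]; omega
            · rw [show i = 8 by omega, c8]; omega
          · intro i j hi hj h
            by_cases hi8 : i < 8
            · by_cases hj8 : j < 8
              · rw [cl i hi8, cl j hj8] at h; omega
              · rw [cl i hi8, show j = 8 by omega, c8] at h; omega
            · by_cases hj8 : j < 8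
              · rw [cl j hj8, show i = 8 by omega, c8] at h; omega
              · omega
          · show T.a (ext2 p L q q (c 8)) (ext2 p L q q (c 5)) ≠ 0
            rw [c8, cl 5 (by omega), ext2_q _ _ _ _ rfl, ext2_le _ _ _ _ (by omega)]
            exact hqk
        · -- completed E8, centre `p (L - 2)`
          have hkL' : k + 2 = L := by omega
          let c : ℕ → ℕ := fun i => if i < 8 then L - 7 + i else L + 1
          have cl : ∀ i, i < 8 → c i = L - 7 + i := fun i hi => by simp [c, hi]
          have c8 : c 8 = L + 1 := by simp [c]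
          have hstep : ∀ i, i < 7 →
              T.a (ext2 p L q q (c i)) (ext2 p L q q (c (i + 1))) ≠ 0 := by
            intro i hi
            rw [cl i (by omega), cl (i + 1) (by omega), ext2_le _ _ _ _ (by omega),
              ext2_le _ _ _ _ (by omega)]
            have := hp.adj (L - 7 + i) (by omega)
            rwa [show L - 7 + i + 1 = L - 7 + (i + 1) by omega] at this
          refine nt_no_e8 T h2 (by omega) (fun i => ext2 p L q q (c i)) (hinj2.comp c 9 ?_ ?_)
            (hstep 0 (by omega)) (hstep 1 (by omega)) (hstep 2 (by omega)) (hstep 3 (by omega))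
            (hstep 4 (by omega)) (hstep 5 (by omega)) (hstep 6 (by omega)) ?_
          · intro i hi
            by_cases h8 : i < 8
            · rw [cl i h8]; omega
            · rw [show i = 8 by omega, c8]; omega
          · intro i j hi hj h
            by_cases hi8 : i < 8
            · by_cases hj8 : j < 8
              · rw [cl i hi8, cl j hj8] at h; omega
              · rw [cl i hi8, show j = 8 by omega, c8] at h; omega
            · by_cases hj8 : j < 8
              · rw [cl j hj8, show i = 8 by omega, c8] at h; omega
              · omega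
          · show T.a (ext2 p L q q (c 8)) (ext2 p L q q (c 5)) ≠ 0
            rw [c8, cl 5 (by omega), ext2_q _ _ _ _ rfl, ext2_le _ _ _ _ (by omega),
              show L - 7 + 5 = k by omega]
            exact hqk
    rcases hk with hk | hk
    · -- attached at `p 1`: reverse the path
      subst hk
      let c : ℕ → ℕ := fun i => if i ≤ L then L - i else L + 1
      have cl : ∀ i, i ≤ L → c i = L - i := fun i hi => by simp [c, hi]
      have cL1 : c (L + 1) = L + 1 := by simp [c]
      refine ⟨fun i => ext2 p L q q (c i), Or.inr (Or.inr (Or.inl ⟨?_, ?_, ?_, ?_⟩))⟩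
      · refine (hinj2.comp c (L + 2) ?_ ?_).mono (by omega)
        · intro i hi
          by_cases hiL : i ≤ L
          · rw [cl i hiL]; omega
          · rw [show i = L + 1 by omega, cL1]; omega
        · intro i j hi hj h
          by_cases hiL : i ≤ L
          · by_cases hjL : j ≤ L
            · rw [cl i hiL, cl j hjL] at h; omega
            · rw [cl i hiL, show j = L + 1 by omega, cL1] at h; omega
          · by_cases hjL : j ≤ L
            · rw [cl j hjL, show i = L + 1 by omega, cL1] at h; omega
            · omega
      · intro i hi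
        show T.a (ext2 p L q q (c i)) (ext2 p L q q (c (i + 1))) ≠ 0
        rw [cl i (by omega), cl (i + 1) (by omega), ext2_le _ _ _ _ (by omega),
          ext2_le _ _ _ _ (by omega)]
        have := hp.adj (L - (i + 1)) (by omega)
        rw [show L - (i + 1) + 1 = L - i by omega] at this
        exact nt_ne_symm T this
      · show T.a (ext2 p L q q (c (n - 3))) (ext2 p L q q (c (n - 1))) ≠ 0
        rw [show n - 3 = L - 1 by omega, show n - 1 = L + 1 by omega, cl (L - 1) (by omega), cL1,
          ext2_le _ _ _ _ (by omega), ext2_q _ _ _ _ rfl, show L - (L - 1) = 1 by omega]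
        exact nt_ne_symm T hqk
      · intro j hj2 hjn
        show T.a (ext2 p L q q (c 0)) (ext2 p L q q (c j)) = 0
        rw [cl 0 (by omega), ext2_le _ _ _ _ (by omega), show L - 0 = L by omega]
        by_cases hjL : j ≤ L
        · rw [cl j hjL, ext2_le _ _ _ _ (by omega)]
          exact hH2 (L - j) (by omega)
        · rw [show j = L + 1 by omega, cL1, ext2_q _ _ _ _ rfl]
          exact hoffL q hq
    · -- attached at `p (L - 1)`
      refine ⟨ext2 p L q q, Or.inr (Or.inr (Or.inl ⟨hinj2.mono (by omega), ?_, ?_, ?_⟩))⟩
      · intro i hi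
        rw [ext2_le _ _ _ _ (by omega), ext2_le _ _ _ _ (by omega)]
        exact hp.adj i (by omega)
      · rw [show n - 3 = L - 1 by omega, show n - 1 = L + 1 by omega,
          ext2_le _ _ _ _ (by omega), ext2_q _ _ _ _ rfl, show L - 1 = k by omega]
        exact nt_ne_symm T hqk
      · intro j hj2 hjn
        rw [ext2_le _ _ _ _ (by omega)]
        by_cases hjL : j ≤ L
        · rw [ext2_le _ _ _ _ hjL]
          exact hH1 j hj2 hjL
        · rw [ext2_q _ _ _ _ (by omega)]
          exact hoff0 q hq
  · -- no attached vertex: a path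
    push Not at hS
    have hall : ∀ x : Fin n, ∃ i, i ≤ L ∧ p i = x := by
      apply nt_all_of_closed T (fun x => ∃ i, i ≤ L ∧ p i = x) (p 0) ⟨0, by omega, rfl⟩
      rintro x y ⟨i, hi, rfl⟩ hxy
      by_contra hy
      push Not at hy
      exact nt_ne_symm T hxy (hS y i hy hi)
    have hnle : n ≤ L + 1 := card_le_of_enum p (L + 1) (fun x => by
      obtain ⟨i, hi, hx⟩ := hall x
      exact ⟨i, by omega, hx⟩)
    refine ⟨p, Or.inr (Or.inl ⟨hp.inj.mono (by omega), fun i hi => hp.adj i (by omega), ?_⟩)⟩
    rw [show n - 1 = L by omega]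
    exact hH1 L (by omega) le_rfl

end Groth.Agent.H37
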