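import Groth.Agent.H37.NumGenB2

/-! Genus one classification for `n ≥ 10`: rows in terms of enumerations, the seven families. -/

set_option autoImplicit false
set_option linter.unusedVariables false
open Finset

namespace Groth.Agent.H37

open Models Models.NumericalType

variable {n : ℕ} (T : Models.NumericalType n)

/-- the row equations in terms of an enumeration of all vertices -/
theorem row_eq (e : ℕ → Fin n) (he : InjLt e n) (x : Fin n) :
    ∑ j ∈ range n, T.a x (e j) * T.m (e j) = 0 := by
  have hinj : Function.Injective (fun j : Fin n => e j.val) := (embLt e n he).injective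
  have hbij : Function.Bijective (fun j : Fin n => e j.val) :=
    ⟨hinj, Finite.injective_iff_surjective.mp hinj⟩
  have h1 := (Equiv.ofBijective _ hbij).sum_comp (fun y => T.a x y * T.m y)
  have h2 : ∑ j : Fin n, T.a x (e j.val) * T.m (e j.val) = 0 := by
    have := nt_row_sum T x
    rw [← h1] at this
    simpa using this
  rw [← h2]
  exact (Fin.sum_univ_eq_sum_range (fun j => T.a x (e j) * T.m (e j)) n).symm

theorem sum_range_eq2 (f : ℕ → ℤ) (n a b : ℕ) (ha : a < n) (hb : b < n) (hab : a ≠ b)
    (h0 : ∀ j, j < n → j ≠ a → j ≠ b → f j = 0) : ∑ j ∈ range n, f j = f a + f b := by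
  have hsub : ({a, b} : Finset ℕ) ⊆ range n := by
    intro x hx
    simp only [mem_insert, mem_singleton] at hx
    rcases hx with rfl | rfl <;> simpa
  rw [← Finset.sum_subset hsub (fun j hj hj' => by
    simp only [mem_insert, mem_singleton, not_or] at hj'
    exact h0 j (by simpa using hj) hj'.1 hj'.2)]
  rw [Finset.sum_pair hab]

theorem sum_range_eq3 (f : ℕ → ℤ) (n a b c : ℕ) (ha : a < n) (hb : b < n) (hc : c < n)
    (hab : a ≠ b) (hac : a ≠ c) (hbc : b ≠ c)
    (h0 : ∀ j, j < n → j ≠ a → j ≠ b → j ≠ c → f j = 0) :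
    ∑ j ∈ range n, f j = f a + f b + f c := by
  have hsub : ({a, b, c} : Finset ℕ) ⊆ range n := by
    intro x hx
    simp only [mem_insert, mem_singleton] at hx
    rcases hx with rfl | rfl | rfl <;> simpa
  rw [← Finset.sum_subset hsub (fun j hj hj' => by
    simp only [mem_insert, mem_singleton, not_or] at hj'
    exact h0 j (by simpa using hj) hj'.1 hj'.2.1 hj'.2.2)]
  rw [Finset.sum_insert (by simp [hab, hac]), Finset.sum_pair hbc]
  ring

theorem sum_range_eq4 (f : ℕ → ℤ) (n a b c d : ℕ) (ha : a < n) (hb : b < n) (hc : c < n)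
    (hd : d < n) (hab : a ≠ b) (hac : a ≠ c) (had : a ≠ d) (hbc : b ≠ c) (hbd : b ≠ d)
    (hcd : c ≠ d) (h0 : ∀ j, j < n → j ≠ a → j ≠ b → j ≠ c → j ≠ d → f j = 0) :
    ∑ j ∈ range n, f j = f a + f b + f c + f d := by
  have hsub : ({a, b, c, d} : Finset ℕ) ⊆ range n := by
    intro x hx
    simp only [mem_insert, mem_singleton] at hx
    rcases hx with rfl | rfl | rfl | rfl <;> simpa
  rw [← Finset.sum_subset hsub (fun j hj hj' => by
    simp only [mem_insert, mem_singleton, not_or] at hj'
    exact h0 j (by simpa using hj) hj'.1 hj'.2.1 hj'.2.2.1 hj'.2.2.2)]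
  rw [Finset.sum_insert (by simp [hab, hac, had]), Finset.sum_insert (by simp [hbc, hbd]),
    Finset.sum_pair hcd]
  ring

/-- a sequence which is harmonic on an interval is arithmetic there -/
theorem arith_of_harmonic (M : ℕ → ℤ) (a b : ℕ)
    (h : ∀ i, a < i → i < b → M (i - 1) + M (i + 1) = 2 * M i) :
    ∀ t, a + t ≤ b → M (a + t) = M a + t * (M (a + 1) - M a) := by
  intro t
  induction t using Nat.strong_induction_on with
  | _ t ih =>
    intro ht
    rcases t with _ | _ | t
    · simp
    · simp
    · have h1 := ih (t + 1) (by omega) (by omega)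
      have h0 := ih t (by omega) (by omega)
      have hh := h (a + (t + 1)) (by omega) (by omega)
      rw [show a + (t + 1) - 1 = a + t by omega, show a + (t + 1) + 1 = a + (t + 1 + 1) by omega]
        at hh
      push_cast at h1 h0 ⊢
      linarith

theorem int_cancel_pos {ω x : ℤ} (hω : 0 < ω) (h : ω * x = 0) : x = 0 := by
  rcases mul_eq_zero.mp h with h | h
  · omega
  · exact h

end Groth.Agent.H37
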