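import Groth.Agent.H37.NumGenFam

/-! Genus one classification for `n ≥ 10`: sparse rows, the cycle. -/

set_option autoImplicit false
set_option linter.unusedVariables false
open Finset

namespace Groth.Agent.H37

open Models Models.NumericalType

variable {n : ℕ} (T : Models.NumericalType n)

theorem row2 (e : ℕ → Fin n) (he : InjLt e n) (i a : ℕ) (hi : i < n) (ha : a < n) (hia : i ≠ a)
    (h0 : ∀ j, j < n → j ≠ i → j ≠ a → T.a (e i) (e j) = 0) :
    T.a (e i) (e i) * T.m (e i) + T.a (e i) (e a) * T.m (e a) = 0 := by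
  have h := row_eq T e he (e i)
  rwa [sum_range_eq2 _ n i a hi ha hia (fun j hj h1 h2 => by rw [h0 j hj h1 h2, zero_mul])] at h

theorem row3 (e : ℕ → Fin n) (he : InjLt e n) (i a b : ℕ) (hi : i < n) (ha : a < n) (hb : b < n)
    (hia : i ≠ a) (hib : i ≠ b) (hab : a ≠ b)
    (h0 : ∀ j, j < n → j ≠ i → j ≠ a → j ≠ b → T.a (e i) (e j) = 0) :
    T.a (e i) (e i) * T.m (e i) + T.a (e i) (e a) * T.m (e a) + T.a (e i) (e b) * T.m (e b) = 0 := by
  have h := row_eq T e he (e i)
  rwa [sum_range_eq3 _ n i a b hi ha hb hia hib hab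
    (fun j hj h1 h2 h3 => by rw [h0 j hj h1 h2 h3, zero_mul])] at h

theorem row4 (e : ℕ → Fin n) (he : InjLt e n) (i a b c : ℕ) (hi : i < n) (ha : a < n) (hb : b < n)
    (hc : c < n) (hia : i ≠ a) (hib : i ≠ b) (hic : i ≠ c) (hab : a ≠ b) (hac : a ≠ c) (hbc : b ≠ c)
    (h0 : ∀ j, j < n → j ≠ i → j ≠ a → j ≠ b → j ≠ c → T.a (e i) (e j) = 0) :
    T.a (e i) (e i) * T.m (e i) + T.a (e i) (e a) * T.m (e a) + T.a (e i) (e b) * T.m (e b) +
      T.a (e i) (e c) * T.m (e c) = 0 := by
  have h := row_eq T e he (e i)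
  rwa [sum_range_eq4 _ n i a b c hi ha hb hc hia hib hic hab hac hbc
    (fun j hj h1 h2 h3 h4 => by rw [h0 j hj h1 h2 h3 h4, zero_mul])] at h

variable (hn : 10 ≤ n) (h2 : ∀ i, T.IsMinusTwo i)
include hn h2

/-- chords of a chain of vertices which is not everything vanish -/
theorem chord_zero (e : ℕ → Fin n) (he : InjLt e n) (hadj : ∀ i, i + 1 < n → T.a (e i) (e (i + 1)) ≠ 0)
    (i j : ℕ) (hij : i + 2 ≤ j) (hj : j < n) (hne : ¬ (i = 0 ∧ j + 1 = n)) :
    T.a (e i) (e j) = 0 := by
  by_contra hcon
  refine nt_no_cycle T h2 (fun t => e (i + t)) (j - i) (by omega) (by omega)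
    (he.comp (fun t => i + t) _ (by intro t ht; omega) (by intro a b _ _ h; omega))
    (fun t ht => by
      have := hadj (i + t) (by omega)
      rwa [show i + t + 1 = i + (t + 1) by omega] at this) ?_
  show T.a (e (i + 0)) (e (i + (j - i))) ≠ 0
  rw [show i + 0 = i by omega, show i + (j - i) = j by omega]
  exact hcon

theorem cycle_fam (e : ℕ → Fin n) (hs : IsCycleShape T e) : ∃ m w, Fam1 T e m w := by
  have hdiag : ∀ i, T.a (e i) (e i) = -2 * T.w (e i) := fun i => (h2 _).2
  -- the three chains
  obtain ⟨k1, k2⟩ := nt_chain_interior T h2 (n - 2) (by omega) (by omega) e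
    (hs.inj.mono (by omega)) (fun i hi => hs.adj i (by omega))
  obtain ⟨k3, k4⟩ := nt_chain_interior T h2 (n - 2) (by omega) (by omega) (fun i => e (i + 1))
    (hs.inj.comp (fun i => i + 1) _ (by intro i hi; omega) (by intro a b _ _ h; omega))
    (fun i hi => hs.adj (i + 1) (by omega))
  let c : ℕ → ℕ := fun i => if i < 3 then n - 3 + i else i - 3
  have cl : ∀ i, i < 3 → c i = n - 3 + i := fun i hi => by simp [c, hi]
  have cr : ∀ i, 3 ≤ i → c i = i - 3 := fun i hi => by
    simp only [c]
    rw [if_neg (by omega)]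
  obtain ⟨k5, k6⟩ := nt_chain_interior T h2 5 (by omega) (by omega) (fun i => e (c i))
    (hs.inj.comp c _ (by
      intro i hi
      by_cases h3 : i < 3
      · rw [cl i h3]; omega
      · rw [cr i (by omega)]; omega) (by
      intro a b ha hb h
      by_cases ha3 : a < 3
      · by_cases hb3 : b < 3
        · rw [cl a ha3, cl b hb3] at h; omega
        · rw [cl a ha3, cr b (by omega)] at h; omega
      · by_cases hb3 : b < 3
        · rw [cr a (by omega), cl b hb3] at h; omega
        · rw [cr a (by omega), cr b (by omega)] at h; omega)) (by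
      intro i hi
      show T.a (e (c i)) (e (c (i + 1))) ≠ 0
      by_cases h2' : i < 2
      · rw [cl i (by omega), cl (i + 1) (by omega)]
        have := hs.adj (n - 3 + i) (by omega)
        rwa [show n - 3 + i + 1 = n - 3 + (i + 1) by omega] at this
      · by_cases h2'' : i = 2
        · rw [h2'', cl 2 (by omega), cr 3 (by omega), show n - 3 + 2 = n - 1 by omega,
            show 3 - 3 = 0 by omega]
          exact nt_ne_symm T hs.close
        · rw [cr i (by omega), cr (i + 1) (by omega)]
          have := hs.adj (i - 3) (by omega)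
          rwa [show i - 3 + 1 = i + 1 - 3 by omega] at this)
  have c1 : c 1 = n - 2 := by rw [cl 1 (by omega)]; omega
  have c2 : c 2 = n - 1 := by rw [cl 2 (by omega)]; omega
  have c3 : c 3 = 0 := by rw [cr 3 (by omega)]
  have c4 : c 4 = 1 := by rw [cr 4 (by omega)]
  have hω : T.w (e (n - 2)) = T.w (e 1) := by
    have := k5 4 (by omega) (by omega)
    rw [c4, c1] at this
    exact this.symm
  have hW2 : T.w (e 2) = T.w (e 1) := k1 2 (by omega) (by omega)
  have hW : ∀ i, i < n → T.w (e i) = T.w (e 1) := by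
    intro i hi
    by_cases h0 : i = 0
    · have := k5 3 (by omega) (by omega)
      rw [c3, c1, hω] at this
      rw [h0]; exact this
    · by_cases h1 : i ≤ n - 3
      · exact k1 i (by omega) h1
      · by_cases h2' : i = n - 2
        · rw [h2']; exact hω
        · have := k5 2 (by omega) (by omega)
          rw [c2, c1, hω] at this
          rw [show i = n - 1 by omega]; exact this
  have hA : ∀ i, i + 1 < n → T.a (e i) (e (i + 1)) = T.w (e 1) := by
    intro i hi
    by_cases h0 : i = 0
    · have := k6 3 (by omega) (by omega)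
      rw [c3, c4, c1, hω] at this
      rw [h0]; exact this
    · by_cases h1 : i + 1 ≤ n - 3
      · exact k2 i (by omega) h1
      · by_cases h2' : i = n - 3
        · have := k4 (n - 4) (by omega) (by omega)
          rw [show n - 4 + 1 = n - 3 by omega, show n - 3 + 1 = n - 2 by omega,
            show (1 : ℕ) + 1 = 2 by omega, hW2] at this
          rw [h2', show n - 3 + 1 = n - 2 by omega]; exact this
        · have := k6 1 (by omega) (by omega)
          rw [c1, c2, hω] at this
          rw [show i = n - 2 by omega, show n - 2 + 1 = n - 1 by omega]; exact this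
  have hclose : T.a (e 0) (e (n - 1)) = T.w (e 1) := by
    have := k6 2 (by omega) (by omega)
    rw [c2, c3, c1, hω] at this
    rw [nt_symm T]; exact this
  have hZ : ∀ i j, i < j → j < n → ¬ (j = i + 1) → ¬ (i = 0 ∧ j + 1 = n) →
      T.a (e i) (e j) = 0 := fun i j hij hj h1 h2' =>
    chord_zero T hn h2 e hs.inj hs.adj i j (by omega) hj h2'
  have hZ' : ∀ i j, i < n → j < n → i ≠ j → ¬ (j = i + 1) → ¬ (i = j + 1) →
      ¬ (i = 0 ∧ j + 1 = n) → ¬ (j = 0 ∧ i + 1 = n) → T.a (e i) (e j) = 0 := by
    intro i j hi hj hij h1 h2' h3 h4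
    rcases Nat.lt_or_ge i j with h | h
    · exact hZ i j h hj h1 h3
    · rw [nt_symm T]
      exact hZ j i (by omega) hi h2' h4
  have hωpos : 0 < T.w (e 1) := T.w_pos _
  -- the multiplicities
  have hharm : ∀ i, 0 < i → i < n - 1 → T.m (e (i - 1)) + T.m (e (i + 1)) = 2 * T.m (e i) := by
    intro i hi0 hi1
    have := row3 T e hs.inj i (i - 1) (i + 1) (by omega) (by omega) (by omega) (by omega)
      (by omega) (by omega) (fun j hj h1 h2' h3 =>
        hZ' i j (by omega) hj (Ne.symm h1) (by omega) (by omega) (by omega) (by omega))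
    rw [hdiag, hW i (by omega), hA i (by omega)] at this
    have h' : T.a (e i) (e (i - 1)) = T.w (e 1) := by
      rw [nt_symm T]
      have := hA (i - 1) (by omega)
      rwa [show i - 1 + 1 = i by omega] at this
    rw [h'] at this
    have h'' : T.w (e 1) * (T.m (e (i - 1)) + T.m (e (i + 1)) - 2 * T.m (e i)) = 0 := by
      linarith
    have := int_cancel_pos hωpos h''
    linarith
  have harith := arith_of_harmonic (fun i => T.m (e i)) 0 (n - 1) (by
    intro i hi0 hi1
    exact hharm i hi0 hi1)
  simp only [zero_add] at harith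
  have hrow0 := row3 T e hs.inj 0 1 (n - 1) (by omega) (by omega) (by omega) (by omega)
    (by omega) (by omega) (fun j hj h1 h2' h3 =>
      hZ' 0 j (by omega) hj (Ne.symm h1) (by omega) (by omega) (by omega) (by omega))
  rw [hdiag, hW 0 (by omega), hA 0 (by omega), hclose] at hrow0
  have hlast := harith (n - 1) (by omega)
  have hd : T.m (e 1) - T.m (e 0) = 0 := by
    have h' : T.w (e 1) * (T.m (e 1) + T.m (e (n - 1)) - 2 * T.m (e 0)) = 0 := by linarith
    have h'' := int_cancel_pos hωpos h'
    have hn' : ((n - 1 : ℕ) : ℤ) = (n : ℤ) - 1 := by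
      rw [Nat.cast_sub (by omega)]; simp
    rw [hn'] at hlast
    have hprod : (n : ℤ) * (T.m (e 1) - T.m (e 0)) = 0 := by
      have : T.m (e (n - 1)) = T.m (e 0) + ((n : ℤ) - 1) * (T.m (e 1) - T.m (e 0)) := hlast
      nlinarith
    rcases mul_eq_zero.mp hprod with h | h
    · exfalso
      have : (n : ℤ) ≥ 10 := by exact_mod_cast hn
      omega
    · exact h
  refine ⟨T.m (e 0), T.w (e 1), ?_, hW, ?_, ?_, hZ⟩
  · intro i hi
    have := harith i (by omega)
    rw [hd] at this
    simpa using this
  · intro i j hij hj hji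
    rw [hji]
    exact hA i (by omega)
  · intro i j hij hj h
    rw [h.1, show j = n - 1 by omega]
    exact hclose

end Groth.Agent.H37
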