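import Groth.Agent.H37.NumGenC1

/-! Genus one classification for `n ≥ 10`: the path. -/

set_option autoImplicit false
set_option linter.unusedVariables false
open Finset

namespace Groth.Agent.H37

open Models Models.NumericalType

variable {n : ℕ} (T : Models.NumericalType n)
variable (hn : 10 ≤ n) (h2 : ∀ i, T.IsMinusTwo i)
include hn h2

theorem path_fam (e : ℕ → Fin n) (hs : IsPathShape T e) (hle : T.w (e 0) ≤ T.w (e (n - 1))) :
    ∃ m w, Fam2 T e m w ∨ Fam3 T e m w ∨ Fam4 T e m w := by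
  have hdiag : ∀ i, T.a (e i) (e i) = -2 * T.w (e i) := fun i => (h2 _).2
  obtain ⟨k1, k2⟩ := nt_chain_interior T h2 (n - 2) (by omega) (by omega) e
    (hs.inj.mono (by omega)) (fun i hi => hs.adj i (by omega))
  obtain ⟨k3, k4⟩ := nt_chain_interior T h2 (n - 2) (by omega) (by omega) (fun i => e (i + 1))
    (hs.inj.comp (fun i => i + 1) _ (by intro i hi; omega) (by intro a b _ _ h; omega))
    (fun i hi => hs.adj (i + 1) (by omega))
  have hW2 : T.w (e 2) = T.w (e 1) := k1 2 (by omega) (by omega)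
  have hW : ∀ i, 1 ≤ i → i + 2 ≤ n → T.w (e i) = T.w (e 1) := by
    intro i h1 hi
    by_cases h : i ≤ n - 3
    · exact k1 i h1 h
    · have := k3 (n - 3) (by omega) (by omega)
      rw [show n - 3 + 1 = n - 2 by omega, show (1 : ℕ) + 1 = 2 by omega, hW2] at this
      rw [show i = n - 2 by omega]; exact this
  have hA : ∀ i, 1 ≤ i → i + 3 ≤ n → T.a (e i) (e (i + 1)) = T.w (e 1) := by
    intro i h1 hi
    by_cases h : i + 1 ≤ n - 3
    · exact k2 i h1 h
    · have := k4 (n - 4) (by omega) (by omega)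
      rw [show n - 4 + 1 = n - 3 by omega, show n - 3 + 1 = n - 2 by omega,
        show (1 : ℕ) + 1 = 2 by omega, hW2] at this
      rw [show i = n - 3 by omega, show n - 3 + 1 = n - 2 by omega]; exact this
  have hZ : ∀ i j, i + 2 ≤ j → j < n → T.a (e i) (e j) = 0 := by
    intro i j hij hj
    by_cases h : i = 0 ∧ j + 1 = n
    · rw [h.1, show j = n - 1 by omega]; exact hs.ends
    · exact chord_zero T hn h2 e hs.inj hs.adj i j hij hj h
  have hZ' : ∀ i j, i < n → j < n → i ≠ j → ¬ (j = i + 1) → ¬ (i = j + 1) →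
      T.a (e i) (e j) = 0 := by
    intro i j hi hj hij h1 h2'
    rcases Nat.lt_or_ge i j with h | h
    · exact hZ i j (by omega) hj
    · rw [nt_symm T]
      exact hZ j i (by omega) hi
  have hωpos : 0 < T.w (e 1) := T.w_pos _
  have hm0 : 0 < T.m (e 0) := T.m_pos _
  have hml : 0 < T.m (e (n - 1)) := T.m_pos _
  -- interior harmonicity
  have hharm : ∀ i, 1 < i → i < n - 2 → T.m (e (i - 1)) + T.m (e (i + 1)) = 2 * T.m (e i) := by
    intro i hi0 hi1
    have := row3 T e hs.inj i (i - 1) (i + 1) (by omega) (by omega) (by omega) (by omega)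
      (by omega) (by omega) (fun j hj h1 h2' h3 =>
        hZ' i j (by omega) hj (Ne.symm h1) (by omega) (by omega))
    rw [hdiag, hW i (by omega) (by omega), hA i (by omega) (by omega)] at this
    have h' : T.a (e i) (e (i - 1)) = T.w (e 1) := by
      rw [nt_symm T]
      have := hA (i - 1) (by omega) (by omega)
      rwa [show i - 1 + 1 = i by omega] at this
    rw [h'] at this
    have h'' : T.w (e 1) * (T.m (e (i - 1)) + T.m (e (i + 1)) - 2 * T.m (e i)) = 0 := by
      linarith
    have := int_cancel_pos hωpos h''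
    linarith
  have harith := arith_of_harmonic (fun i => T.m (e i)) 1 (n - 2) hharm
  have harith : ∀ t, 1 + t ≤ n - 2 → T.m (e (1 + t)) = T.m (e 1) + t * (T.m (e (1 + 1)) - T.m (e 1)) := harith
  have hMn2 := harith (n - 3) (by omega)
  have hMn3 := harith (n - 4) (by omega)
  rw [show 1 + (n - 3) = n - 2 by omega] at hMn2
  rw [show 1 + (n - 4) = n - 3 by omega] at hMn3
  rw [show (1 : ℕ) + 1 = 2 by omega] at hMn2 hMn3 harith
  have hcast3 : ((n - 3 : ℕ) : ℤ) = (n : ℤ) - 3 := by
    rw [Nat.cast_sub (by omega)]; simp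
  have hcast4 : ((n - 4 : ℕ) : ℤ) = (n : ℤ) - 4 := by
    rw [Nat.cast_sub (by omega)]; simp
  rw [hcast3] at hMn2
  rw [hcast4] at hMn3
  have hdd : T.m (e (n - 2)) - T.m (e (n - 3)) = T.m (e 2) - T.m (e 1) := by
    rw [hMn2, hMn3]; ring
  -- rows at the ends
  have r0 := row2 T e hs.inj 0 1 (by omega) (by omega) (by omega)
    (fun j hj h1 h2' => hZ 0 j (by omega) hj)
  have r1 := row3 T e hs.inj 1 0 2 (by omega) (by omega) (by omega) (by omega) (by omega)
    (by omega) (fun j hj h1 h2' h3 => hZ 1 j (by omega) hj)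
  have rl := row2 T e hs.inj (n - 1) (n - 2) (by omega) (by omega) (by omega)
    (fun j hj h1 h2' => hZ' (n - 1) j (by omega) hj (Ne.symm h1) (by omega) (by omega))
  have rl1 := row3 T e hs.inj (n - 2) (n - 3) (n - 1) (by omega) (by omega) (by omega) (by omega)
    (by omega) (by omega) (fun j hj h1 h2' h3 =>
      hZ' (n - 2) j (by omega) hj (Ne.symm h1) (by omega) (by omega))
  rw [hdiag] at r0 r1 rl rl1
  rw [hW 1 (by omega) (by omega), nt_symm T (e 1) (e 0), hA 1 (by omega) (by omega)] at r1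
  have hAl : T.a (e (n - 2)) (e (n - 3)) = T.w (e 1) := by
    rw [nt_symm T]
    have := hA (n - 3) (by omega) (by omega)
    rwa [show n - 3 + 1 = n - 2 by omega] at this
  rw [hW (n - 2) (by omega) (by omega), hAl, nt_symm T (e (n - 2)) (e (n - 1))] at rl1
  -- types of the two ends
  obtain ⟨-, hstart⟩ := nt_chain3 T h2 (by omega) (e 0) (e 1) (e 2)
    (hs.inj.ne (by omega) (by omega) (by omega)) (hs.inj.ne (by omega) (by omega) (by omega))
    (hs.inj.ne (by omega) (by omega) (by omega)) (hs.adj 0 (by omega)) (hs.adj 1 (by omega))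
  obtain ⟨-, hend⟩ := nt_chain3 T h2 (by omega) (e (n - 1)) (e (n - 2)) (e (n - 3))
    (hs.inj.ne (by omega) (by omega) (by omega)) (hs.inj.ne (by omega) (by omega) (by omega))
    (hs.inj.ne (by omega) (by omega) (by omega))
    (by
      have := hs.adj (n - 2) (by omega)
      rw [show n - 2 + 1 = n - 1 by omega] at this
      exact nt_ne_symm T this)
    (by
      have := hs.adj (n - 3) (by omega)
      rw [show n - 3 + 1 = n - 2 by omega] at this
      exact nt_ne_symm T this)
  rw [hW2] at hstart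
  rw [hW (n - 2) (by omega) (by omega), hW (n - 3) (by omega) (by omega)] at hend
  -- start: slope data
  have hS : (T.m (e 2) - T.m (e 1) = T.m (e 0)) ∨
      (T.m (e 2) - T.m (e 1) = 0 ∧ T.m (e 1) = T.m (e 0) ∧ T.w (e 1) = 2 * T.w (e 0) ∧
        T.a (e 0) (e 1) = T.w (e 1)) ∨
      (T.m (e 2) - T.m (e 1) = 0 ∧ T.m (e 1) = 2 * T.m (e 0) ∧ T.w (e 0) = 2 * T.w (e 1) ∧
        T.a (e 0) (e 1) = 2 * T.w (e 1)) := by
    rcases hstart with ⟨e1, e2, e3, e4⟩ | ⟨e1, e2, e3, e4⟩ | ⟨e1, e2, e3, e4⟩ |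
      ⟨e1, e2, e3, e4⟩ | ⟨e1, e2, e3, e4⟩
    · left
      rw [e1, e3] at r0
      rw [e3] at r1
      have h1 := int_cancel_pos hωpos (by linarith :
        T.w (e 1) * (T.m (e 1) - 2 * T.m (e 0)) = 0)
      have h2' := int_cancel_pos hωpos (by linarith :
        T.w (e 1) * (T.m (e 0) + T.m (e 2) - 2 * T.m (e 1)) = 0)
      linarith
    · exfalso; linarith
    · exfalso; linarith
    · right; right
      rw [e1, e3] at r0
      rw [e3] at r1
      have h1 := int_cancel_pos hωpos (by linarith :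
        T.w (e 1) * (2 * T.m (e 1) - 4 * T.m (e 0)) = 0)
      have h2' := int_cancel_pos hωpos (by linarith :
        T.w (e 1) * (2 * T.m (e 0) + T.m (e 2) - 2 * T.m (e 1)) = 0)
      exact ⟨by linarith, by linarith, e1, e3⟩
    · right; left
      rw [e3, e1] at r0
      rw [e3] at r1
      have hw0 : 0 < T.w (e 0) := T.w_pos _
      have h1 := int_cancel_pos hw0 (by linarith :
        T.w (e 0) * (2 * T.m (e 1) - 2 * T.m (e 0)) = 0)
      have h2' := int_cancel_pos hωpos (by linarith :
        T.w (e 1) * (T.m (e 0) + T.m (e 2) - 2 * T.m (e 1)) = 0)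
      exact ⟨by linarith, by linarith, e1, e3⟩
  have hE : (T.m (e (n - 2)) - T.m (e (n - 3)) = - T.m (e (n - 1))) ∨
      (T.m (e (n - 2)) - T.m (e (n - 3)) = 0 ∧ T.m (e (n - 2)) = T.m (e (n - 1)) ∧
        T.w (e 1) = 2 * T.w (e (n - 1)) ∧ T.a (e (n - 1)) (e (n - 2)) = T.w (e 1)) ∨
      (T.m (e (n - 2)) - T.m (e (n - 3)) = 0 ∧ T.m (e (n - 2)) = 2 * T.m (e (n - 1)) ∧
        T.w (e (n - 1)) = 2 * T.w (e 1) ∧ T.a (e (n - 1)) (e (n - 2)) = 2 * T.w (e 1)) := by
    rcases hend with ⟨e1, e2, e3, e4⟩ | ⟨e1, e2, e3, e4⟩ | ⟨e1, e2, e3, e4⟩ |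
      ⟨e1, e2, e3, e4⟩ | ⟨e1, e2, e3, e4⟩
    · left
      rw [e1, e3] at rl
      rw [e3] at rl1
      have h1 := int_cancel_pos hωpos (by linarith :
        T.w (e 1) * (T.m (e (n - 2)) - 2 * T.m (e (n - 1))) = 0)
      have h2' := int_cancel_pos hωpos (by linarith :
        T.w (e 1) * (T.m (e (n - 1)) + T.m (e (n - 3)) - 2 * T.m (e (n - 2))) = 0)
      linarith
    · exfalso; linarith
    · exfalso; linarith
    · right; right
      rw [e1, e3] at rl
      rw [e3] at rl1
      have h1 := int_cancel_pos hωpos (by linarith :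
        T.w (e 1) * (2 * T.m (e (n - 2)) - 4 * T.m (e (n - 1))) = 0)
      have h2' := int_cancel_pos hωpos (by linarith :
        T.w (e 1) * (2 * T.m (e (n - 1)) + T.m (e (n - 3)) - 2 * T.m (e (n - 2))) = 0)
      exact ⟨by linarith, by linarith, e1, e3⟩
    · right; left
      rw [e3, e1] at rl
      rw [e3] at rl1
      have hw0 : 0 < T.w (e (n - 1)) := T.w_pos _
      have h1 := int_cancel_pos hw0 (by linarith :
        T.w (e (n - 1)) * (2 * T.m (e (n - 2)) - 2 * T.m (e (n - 1))) = 0)
      have h2' := int_cancel_pos hωpos (by linarith :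
        T.w (e 1) * (T.m (e (n - 1)) + T.m (e (n - 3)) - 2 * T.m (e (n - 2))) = 0)
      exact ⟨by linarith, by linarith, e1, e3⟩
  -- A-types are impossible
  have hd0 : T.m (e 2) - T.m (e 1) = 0 := by
    rcases hS with hs1 | ⟨hs1, -⟩ | ⟨hs1, -⟩
    · rcases hE with he1 | ⟨he1, -⟩ | ⟨he1, -⟩
      · exfalso; linarith
      · exfalso; linarith
      · exfalso; linarith
    · exact hs1
    · exact hs1
  have hflat : ∀ i, 1 ≤ i → i + 2 ≤ n → T.m (e i) = T.m (e 1) := by
    intro i h1 hi
    have := harith (i - 1) (by omega)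
    rw [show 1 + (i - 1) = i by omega, hd0] at this
    simpa using this
  have hflat2 : T.m (e (n - 2)) = T.m (e 1) := hflat (n - 2) (by omega) (by omega)
  have hlast : T.a (e (n - 2)) (e (n - 1)) = T.a (e (n - 1)) (e (n - 2)) := nt_symm T _ _
  have hS' : (T.m (e 1) = T.m (e 0) ∧ T.w (e 1) = 2 * T.w (e 0) ∧
        T.a (e 0) (e 1) = T.w (e 1)) ∨
      (T.m (e 1) = 2 * T.m (e 0) ∧ T.w (e 0) = 2 * T.w (e 1) ∧
        T.a (e 0) (e 1) = 2 * T.w (e 1)) := by
    rcases hS with hs1 | ⟨-, h⟩ | ⟨-, h⟩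
    · exfalso; linarith
    · exact Or.inl h
    · exact Or.inr h
  have hE' : (T.m (e (n - 2)) = T.m (e (n - 1)) ∧
        T.w (e 1) = 2 * T.w (e (n - 1)) ∧ T.a (e (n - 1)) (e (n - 2)) = T.w (e 1)) ∨
      (T.m (e (n - 2)) = 2 * T.m (e (n - 1)) ∧
        T.w (e (n - 1)) = 2 * T.w (e 1) ∧ T.a (e (n - 1)) (e (n - 2)) = 2 * T.w (e 1)) := by
    rcases hE with he1 | ⟨-, h⟩ | ⟨-, h⟩
    · exfalso; linarith
    · exact Or.inl h
    · exact Or.inr h
  rcases hS' with ⟨s1, s2, s3⟩ | ⟨s1, s2, s3⟩
  · rcases hE' with ⟨t1, t2, t3⟩ | ⟨t1, t2, t3⟩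
    · -- Fam3
      refine ⟨T.m (e 1), T.w (e 0), Or.inr (Or.inl ⟨?_, ?_, ?_, ?_, ?_, ?_⟩)⟩
      · intro i hi
        rcases Nat.eq_zero_or_pos i with rfl | h0
        · exact s1.symm
        · by_cases hl : i + 1 = n
          · obtain rfl : i = n - 1 := by omega
            linarith
          · exact hflat i (by omega) (by omega)
      · rintro i hi rfl; rfl
      · rintro i hi ⟨h0, h1⟩
        rw [hW i (by omega) (by omega)]; exact s2
      · intro i hi hl
        obtain rfl : i = n - 1 := by omega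
        linarith
      · intro i j hij hj hji
        subst hji
        rcases Nat.eq_zero_or_pos i with rfl | h0
        · rw [s3]; exact s2
        · by_cases hl : i + 3 ≤ n
          · rw [hA i (by omega) hl]; exact s2
          · obtain rfl : i = n - 2 := by omega
            rw [show n - 2 + 1 = n - 1 by omega, hlast, t3]; exact s2
      · intro i j hij hj hji
        exact hZ i j (by omega) hj
    · -- Fam2
      refine ⟨T.m (e (n - 1)), T.w (e 0), Or.inl ⟨?_, ?_, ?_, ?_, ?_, ?_, ?_, ?_⟩⟩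
      · intro i hi hi1
        rcases Nat.eq_zero_or_pos i with rfl | h0
        · linarith
        · rw [hflat i (by omega) (by omega)]; linarith
      · intro i hi hl
        obtain rfl : i = n - 1 := by omega
        rfl
      · rintro i hi rfl; rfl
      · rintro i hi ⟨h0, h1⟩
        rw [hW i (by omega) (by omega)]; exact s2
      · intro i hi hl
        obtain rfl : i = n - 1 := by omega
        linarith
      · rintro i j hij hj ⟨hji, hj1⟩
        subst hji
        rcases Nat.eq_zero_or_pos i with rfl | h0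
        · rw [s3]; exact s2
        · rw [hA i (by omega) (by omega)]; exact s2
      · rintro i j hij hj ⟨hji, hj1⟩
        subst hji
        obtain rfl : i = n - 2 := by omega
        rw [show n - 2 + 1 = n - 1 by omega, hlast, t3]; linarith
      · intro i j hij hj h1 h2'
        exact hZ i j (by omega) hj
  · rcases hE' with ⟨t1, t2, t3⟩ | ⟨t1, t2, t3⟩
    · exfalso
      have := T.w_pos (e (n - 1))
      linarith
    · -- Fam4
      refine ⟨T.m (e 0), T.w (e 1), Or.inr (Or.inr ⟨?_, ?_, ?_, ?_, ?_, ?_, ?_, ?_, ?_, ?_⟩)⟩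
      · rintro i hi rfl; rfl
      · rintro i hi ⟨h0, h1⟩
        rw [hflat i (by omega) (by omega)]; exact s1
      · intro i hi hl
        obtain rfl : i = n - 1 := by omega
        linarith
      · rintro i hi rfl; exact s2
      · rintro i hi ⟨h0, h1⟩
        exact hW i (by omega) (by omega)
      · intro i hi hl
        obtain rfl : i = n - 1 := by omega
        exact t2
      · rintro i j hij hj ⟨rfl, rfl⟩
        exact s3
      · rintro i j hij hj ⟨hji, h1, hj2⟩
        subst hji
        exact hA i h1 (by omega)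
      · rintro i j hij hj ⟨hji, hj1⟩
        subst hji
        obtain rfl : i = n - 2 := by omega
        rw [show n - 2 + 1 = n - 1 by omega, hlast, t3]
      · intro i j hij hj h1 h2' h3
        exact hZ i j (by omega) hj

end Groth.Agent.H37
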