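import Groth.Agent.H37.NumGenC2

/-! Genus one classification for `n ≥ 10`: the fork. -/

set_option autoImplicit false
set_option linter.unusedVariables false
open Finset

namespace Groth.Agent.H37

open Models Models.NumericalType

variable {n : ℕ} (T : Models.NumericalType n)
variable (hn : 10 ≤ n) (h2 : ∀ i, T.IsMinusTwo i)
include hn h2

theorem fork_fam (e : ℕ → Fin n) (hs : IsForkShape T e) :
    ∃ m w, Fam5 T e m w ∨ Fam6 T e m w := by
  have hdiag : ∀ i, T.a (e i) (e i) = -2 * T.w (e i) := fun i => (h2 _).2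
  obtain ⟨d1, d2, d3, d4⟩ := nt_dn T h2 (n - 2) (by omega) (by omega) (fun i => e (i + 1))
    (hs.inj.comp (fun i => i + 1) _ (by intro i hi; omega) (by intro a b _ _ h; omega))
    (fun i hi => hs.adj (i + 1) (by omega))
    (by
      show T.a (e (n - 2 - 2 + 1)) (e (n - 2 + 1)) ≠ 0
      rw [show n - 2 - 2 + 1 = n - 3 by omega, show n - 2 + 1 = n - 1 by omega]
      exact hs.branch)
  have hW' : ∀ i, 1 ≤ i → i < n → T.w (e i) = T.w (e (n - 3)) := by
    intro i h1 hi
    have := d1 (i - 1) (by omega)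
    beta_reduce at this
    rwa [show i - 1 + 1 = i by omega, show n - 2 - 2 + 1 = n - 3 by omega] at this
  have hω : T.w (e (n - 3)) = T.w (e 1) := (hW' 1 (by omega) (by omega)).symm
  have hW : ∀ i, 1 ≤ i → i < n → T.w (e i) = T.w (e 1) := fun i h1 hi => by
    rw [hW' i h1 hi, hω]
  have hA : ∀ i, 1 ≤ i → i + 2 < n → T.a (e i) (e (i + 1)) = T.w (e 1) := by
    intro i h1 hi
    have := d2 (i - 1) (by omega)
    beta_reduce at this
    rwa [show i - 1 + 1 = i by omega, show n - 2 - 2 + 1 = n - 3 by omega, hω] at this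
  have hB : T.a (e (n - 3)) (e (n - 1)) = T.w (e 1) := by
    have := d3
    beta_reduce at this
    rwa [show n - 2 - 2 + 1 = n - 3 by omega, show n - 2 + 1 = n - 1 by omega, hω] at this
  have hZ : ∀ i j, i < j → j < n → ¬ (j = i + 1 ∧ j + 2 ≤ n) → ¬ (i + 3 = n ∧ j + 1 = n) →
      T.a (e i) (e j) = 0 := by
    intro i j hij hj h1 h2'
    rcases Nat.eq_zero_or_pos i with rfl | h0
    · exact hs.leaf j (by omega) hj
    · have := d4 (i - 1) (j - 1) (by omega) (by omega) (by omega) (by omega)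
      beta_reduce at this
      rwa [show i - 1 + 1 = i by omega, show j - 1 + 1 = j by omega] at this
  have hZs : ∀ i j, i < n → j < n → i ≠ j → ¬ (j = i + 1 ∧ j + 2 ≤ n) →
      ¬ (i = j + 1 ∧ i + 2 ≤ n) → ¬ (i + 3 = n ∧ j + 1 = n) → ¬ (j + 3 = n ∧ i + 1 = n) →
      T.a (e i) (e j) = 0 := by
    intro i j hi hj hij h1 h2' h3 h4
    rcases Nat.lt_or_ge i j with h | h
    · exact hZ i j h hj h1 h3
    · rw [nt_symm T]
      exact hZ j i (by omega) hi h2' h4
  have hωpos : 0 < T.w (e 1) := T.w_pos _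
  have hm0 : 0 < T.m (e 0) := T.m_pos _
  -- interior harmonicity
  have hharm : ∀ i, 1 < i → i < n - 3 → T.m (e (i - 1)) + T.m (e (i + 1)) = 2 * T.m (e i) := by
    intro i hi0 hi1
    have := row3 T e hs.inj i (i - 1) (i + 1) (by omega) (by omega) (by omega) (by omega)
      (by omega) (by omega) (fun j hj h1 h2' h3 =>
        hZs i j (by omega) hj (Ne.symm h1) (by omega) (by omega) (by omega) (by omega))
    rw [hdiag, hW i (by omega) (by omega), hA i (by omega) (by omega)] at this
    have h' : T.a (e i) (e (i - 1)) = T.w (e 1) := by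
      rw [nt_symm T]
      have := hA (i - 1) (by omega) (by omega)
      rwa [show i - 1 + 1 = i by omega] at this
    rw [h'] at this
    have h'' : T.w (e 1) * (T.m (e (i - 1)) + T.m (e (i + 1)) - 2 * T.m (e i)) = 0 := by
      linarith
    have := int_cancel_pos hωpos h''
    linarith
  have harith := arith_of_harmonic (fun i => T.m (e i)) 1 (n - 3) hharm
  have harith : ∀ t, 1 + t ≤ n - 3 →
      T.m (e (1 + t)) = T.m (e 1) + t * (T.m (e (1 + 1)) - T.m (e 1)) := harith
  have hMn3 := harith (n - 4) (by omega)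
  have hMn4 := harith (n - 5) (by omega)
  rw [show 1 + (n - 4) = n - 3 by omega] at hMn3
  rw [show 1 + (n - 5) = n - 4 by omega] at hMn4
  rw [show (1 : ℕ) + 1 = 2 by omega] at hMn3 hMn4 harith
  have hcast4 : ((n - 4 : ℕ) : ℤ) = (n : ℤ) - 4 := by
    rw [Nat.cast_sub (by omega)]; simp
  have hcast5 : ((n - 5 : ℕ) : ℤ) = (n : ℤ) - 5 := by
    rw [Nat.cast_sub (by omega)]; simp
  rw [hcast4] at hMn3
  rw [hcast5] at hMn4
  have hdd : T.m (e (n - 3)) - T.m (e (n - 4)) = T.m (e 2) - T.m (e 1) := by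
    rw [hMn3, hMn4]; ring
  -- rows
  have r0 := row2 T e hs.inj 0 1 (by omega) (by omega) (by omega)
    (fun j hj h1 h2' => hZ 0 j (by omega) hj (by omega) (by omega))
  have r1 := row3 T e hs.inj 1 0 2 (by omega) (by omega) (by omega) (by omega) (by omega)
    (by omega) (fun j hj h1 h2' h3 => hZ 1 j (by omega) hj (by omega) (by omega))
  have rl := row2 T e hs.inj (n - 1) (n - 3) (by omega) (by omega) (by omega)
    (fun j hj h1 h2' => hZs (n - 1) j (by omega) hj (Ne.symm h1) (by omega) (by omega)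
      (by omega) (by omega))
  have rl2 := row2 T e hs.inj (n - 2) (n - 3) (by omega) (by omega) (by omega)
    (fun j hj h1 h2' => hZs (n - 2) j (by omega) hj (Ne.symm h1) (by omega) (by omega)
      (by omega) (by omega))
  have rl3 := row4 T e hs.inj (n - 3) (n - 4) (n - 2) (n - 1) (by omega) (by omega) (by omega)
    (by omega) (by omega) (by omega) (by omega) (by omega) (by omega) (by omega)
    (fun j hj h1 h2' h3 h4 => hZs (n - 3) j (by omega) hj (Ne.symm h1) (by omega) (by omega)
      (by omega) (by omega))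
  rw [hdiag] at r0 r1 rl rl2 rl3
  rw [hW 1 (by omega) (by omega), nt_symm T (e 1) (e 0), hA 1 (by omega) (by omega)] at r1
  have hA3 : T.a (e (n - 3)) (e (n - 2)) = T.w (e 1) := by
    have := hA (n - 3) (by omega) (by omega)
    rwa [show n - 3 + 1 = n - 2 by omega] at this
  have hA4 : T.a (e (n - 3)) (e (n - 4)) = T.w (e 1) := by
    rw [nt_symm T]
    have := hA (n - 4) (by omega) (by omega)
    rwa [show n - 4 + 1 = n - 3 by omega] at this
  rw [hW (n - 1) (by omega) (by omega), nt_symm T (e (n - 1)) (e (n - 3)), hB] at rl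
  rw [hW (n - 2) (by omega) (by omega), nt_symm T (e (n - 2)) (e (n - 3)), hA3] at rl2
  rw [hW (n - 3) (by omega) (by omega), hA3, hA4, hB] at rl3
  have q1 := int_cancel_pos hωpos (by linarith :
    T.w (e 1) * (T.m (e (n - 3)) - 2 * T.m (e (n - 1))) = 0)
  have q2 := int_cancel_pos hωpos (by linarith :
    T.w (e 1) * (T.m (e (n - 3)) - 2 * T.m (e (n - 2))) = 0)
  have q3 := int_cancel_pos hωpos (by linarith :
    T.w (e 1) * (T.m (e (n - 4)) + T.m (e (n - 2)) + T.m (e (n - 1)) - 2 * T.m (e (n - 3))) = 0)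
  have hd0 : T.m (e 2) - T.m (e 1) = 0 := by rw [← hdd]; linarith
  have hflat : ∀ i, 1 ≤ i → i + 3 ≤ n → T.m (e i) = T.m (e 1) := by
    intro i h1 hi
    have := harith (i - 1) (by omega)
    rw [show 1 + (i - 1) = i by omega, hd0] at this
    simpa using this
  have hflat3 : T.m (e (n - 3)) = T.m (e 1) := hflat (n - 3) (by omega) (by omega)
  -- the type of the start
  obtain ⟨-, hstart⟩ := nt_chain3 T h2 (by omega) (e 0) (e 1) (e 2)
    (hs.inj.ne (by omega) (by omega) (by omega)) (hs.inj.ne (by omega) (by omega) (by omega))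
    (hs.inj.ne (by omega) (by omega) (by omega)) (hs.adj 0 (by omega)) (hs.adj 1 (by omega))
  rw [hW 2 (by omega) (by omega)] at hstart
  rcases hstart with ⟨e1, e2, e3, e4⟩ | ⟨e1, e2, e3, e4⟩ | ⟨e1, e2, e3, e4⟩ |
    ⟨e1, e2, e3, e4⟩ | ⟨e1, e2, e3, e4⟩
  · exfalso
    rw [e1, e3] at r0
    rw [e3] at r1
    have p1 := int_cancel_pos hωpos (by linarith :
      T.w (e 1) * (T.m (e 1) - 2 * T.m (e 0)) = 0)
    have p2 := int_cancel_pos hωpos (by linarith :
      T.w (e 1) * (T.m (e 0) + T.m (e 2) - 2 * T.m (e 1)) = 0)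
    linarith
  · exfalso; linarith
  · exfalso; linarith
  · -- Fam5
    rw [e1, e3] at r0
    rw [e3] at r1
    have p1 := int_cancel_pos hωpos (by linarith :
      T.w (e 1) * (2 * T.m (e 1) - 4 * T.m (e 0)) = 0)
    refine ⟨T.m (e 0), T.w (e 1), Or.inl ⟨?_, ?_, ?_, ?_, ?_, ?_, ?_, ?_, ?_⟩⟩
    · rintro i hi rfl; rfl
    · rintro i hi ⟨h0, h1⟩
      rw [hflat i h0 (by omega)]; linarith
    · intro i hi hl
      have : i = n - 2 ∨ i = n - 1 := by omega
      rcases this with rfl | rfl
      · linarith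
      · linarith
    · rintro i hi rfl; exact e1
    · intro i hi h0
      exact hW i h0 hi
    · rintro i j hij hj ⟨rfl, rfl⟩
      exact e3
    · rintro i j hij hj ⟨hji, h1, hj2⟩
      subst hji
      exact hA i h1 (by omega)
    · rintro i j hij hj ⟨hi3, hj1⟩
      obtain rfl : i = n - 3 := by omega
      obtain rfl : j = n - 1 := by omega
      exact hB
    · intro i j hij hj h1 h2' h3
      exact hZ i j hij hj (by omega) h3
  · -- Fam6
    rw [e3, e1] at r0
    rw [e3] at r1
    have hw0 : 0 < T.w (e 0) := T.w_pos _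
    have p1 := int_cancel_pos hw0 (by linarith :
      T.w (e 0) * (2 * T.m (e 1) - 2 * T.m (e 0)) = 0)
    refine ⟨T.m (e (n - 1)), T.w (e 0), Or.inr ⟨?_, ?_, ?_, ?_, ?_, ?_, ?_⟩⟩
    · intro i hi hi2
      rcases Nat.eq_zero_or_pos i with rfl | h0
      · linarith
      · rw [hflat i h0 (by omega)]; linarith
    · intro i hi hl
      have : i = n - 2 ∨ i = n - 1 := by omega
      rcases this with rfl | rfl
      · linarith
      · rfl
    · rintro i hi rfl; rfl
    · intro i hi h0
      rw [hW i h0 hi]; exact e1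
    · rintro i j hij hj ⟨hji, hj2⟩
      subst hji
      rcases Nat.eq_zero_or_pos i with rfl | h0
      · rw [e3]; exact e1
      · rw [hA i h0 (by omega)]; exact e1
    · rintro i j hij hj ⟨hi3, hj1⟩
      obtain rfl : i = n - 3 := by omega
      obtain rfl : j = n - 1 := by omega
      rw [hB]; exact e1
    · intro i j hij hj h1 h2'
      exact hZ i j hij hj h1 h2'

end Groth.Agent.H37
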