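import Groth.Agent.H37.NumGenC3

/-! Genus one classification for `n ≥ 10`: the double fork. -/

set_option autoImplicit false
set_option linter.unusedVariables false
open Finset

namespace Groth.Agent.H37

open Models Models.NumericalType

variable {n : ℕ} (T : Models.NumericalType n)
variable (hn : 10 ≤ n) (h2 : ∀ i, T.IsMinusTwo i)
include hn h2

theorem dfork_aux (e : ℕ → Fin n) (hs : IsDForkShape T e) (s : ℕ) (hs1 : s ≤ 1)
    (hbs : T.a (e s) (e 2) ≠ 0) :
    T.w (e s) = T.w (e 2) ∧ (∀ i, 2 ≤ i → i < n → T.w (e i) = T.w (e 2)) ∧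
    T.a (e s) (e 2) = T.w (e 2) ∧
    (∀ i, 2 ≤ i → i + 2 < n → T.a (e i) (e (i + 1)) = T.w (e 2)) ∧
    T.a (e (n - 3)) (e (n - 1)) = T.w (e 2) ∧
    (∀ j, 3 ≤ j → j < n → T.a (e s) (e j) = 0) ∧
    (∀ i j, 2 ≤ i → i < j → j < n → ¬ (j = i + 1 ∧ j + 2 ≤ n) → ¬ (i + 3 = n ∧ j + 1 = n) →
      T.a (e i) (e j) = 0) := by
  let c : ℕ → ℕ := fun i => if i = 0 then s else i + 1
  have c0 : c 0 = s := by simp [c]
  have cp : ∀ i, 1 ≤ i → c i = i + 1 := fun i hi => by
    simp only [c]; rw [if_neg (by omega)]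
  obtain ⟨d1, d2, d3, d4⟩ := nt_dn T h2 (n - 2) (by omega) (by omega) (fun i => e (c i))
    (hs.inj.comp c _ (by
      intro i hi
      rcases Nat.eq_zero_or_pos i with rfl | h0
      · rw [c0]; omega
      · rw [cp i h0]; omega) (by
      intro a b ha hb h
      rcases Nat.eq_zero_or_pos a with rfl | ha0
      · rcases Nat.eq_zero_or_pos b with rfl | hb0
        · rfl
        · rw [c0, cp b hb0] at h; omega
      · rcases Nat.eq_zero_or_pos b with rfl | hb0
        · rw [c0, cp a ha0] at h; omega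
        · rw [cp a ha0, cp b hb0] at h; omega))
    (by
      intro i hi
      show T.a (e (c i)) (e (c (i + 1))) ≠ 0
      rcases Nat.eq_zero_or_pos i with rfl | h0
      · rw [c0, cp (0 + 1) (by omega)]; exact hbs
      · rw [cp i h0, cp (i + 1) (by omega)]
        exact hs.adj (i + 1) (by omega) (by omega))
    (by
      show T.a (e (c (n - 2 - 2))) (e (c (n - 2))) ≠ 0
      rw [cp _ (by omega), cp _ (by omega), show n - 2 - 2 + 1 = n - 3 by omega,
        show n - 2 + 1 = n - 1 by omega]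
      exact hs.branch)
  have d1 : ∀ j, j ≤ n - 2 → T.w (e (c j)) = T.w (e (c (n - 2 - 2))) := d1
  have d2 : ∀ i, i + 1 < n - 2 → T.a (e (c i)) (e (c (i + 1))) = T.w (e (c (n - 2 - 2))) := d2
  have d3 : T.a (e (c (n - 2 - 2))) (e (c (n - 2))) = T.w (e (c (n - 2 - 2))) := d3
  have d4 : ∀ j k, j < k → k ≤ n - 2 → ¬ (k = j + 1 ∧ k < n - 2) → ¬ (j + 2 = n - 2 ∧ k = n - 2) →
      T.a (e (c j)) (e (c k)) = 0 := d4
  have cn4 : c (n - 2 - 2) = n - 3 := by rw [cp _ (by omega)]; omega
  have cn2 : c (n - 2) = n - 1 := by rw [cp _ (by omega)]; omega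
  rw [cn4] at d1 d2 d3
  rw [cn2] at d3
  have hW' : ∀ i, 2 ≤ i → i < n → T.w (e i) = T.w (e (n - 3)) := by
    intro i h1 hi
    have := d1 (i - 1) (by omega)
    rwa [cp _ (by omega), show i - 1 + 1 = i by omega] at this
  have hω : T.w (e (n - 3)) = T.w (e 2) := (hW' 2 (by omega) (by omega)).symm
  rw [hω] at d1 d2 d3
  refine ⟨?_, ?_, ?_, ?_, d3, ?_, ?_⟩
  · have := d1 0 (by omega)
    rwa [c0] at this
  · intro i h1 hi
    rw [hW' i h1 hi, hω]
  · have := d2 0 (by omega)
    rwa [c0, cp (0 + 1) (by omega)] at this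
  · intro i h1 hi
    have := d2 (i - 1) (by omega)
    rwa [cp _ (by omega), cp _ (by omega), show i - 1 + 1 = i by omega] at this
  · intro j h3 hj
    have := d4 0 (j - 1) (by omega) (by omega) (by omega) (by omega)
    rwa [c0, cp _ (by omega), show j - 1 + 1 = j by omega] at this
  · intro i j hi hij hj h1 h2'
    have := d4 (i - 1) (j - 1) (by omega) (by omega) (by omega) (by omega)
    rwa [cp _ (by omega), cp _ (by omega), show i - 1 + 1 = i by omega,
      show j - 1 + 1 = j by omega] at this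

theorem dfork_fam (e : ℕ → Fin n) (hs : IsDForkShape T e) : ∃ m w, Fam7 T e m w := by
  have hdiag : ∀ i, T.a (e i) (e i) = -2 * T.w (e i) := fun i => (h2 _).2
  obtain ⟨ws0, hW, as0, hA, hB, z0, hZ2⟩ := dfork_aux T hn h2 e hs 0 (by omega) hs.b0
  obtain ⟨ws1, -, as1, -, -, z1, -⟩ := dfork_aux T hn h2 e hs 1 (by omega) hs.b1
  obtain ⟨z01, -⟩ := nt_chain3 T h2 (by omega) (e 0) (e 2) (e 1)
    (hs.inj.ne (by omega) (by omega) (by omega)) (hs.inj.ne (by omega) (by omega) (by omega))
    (hs.inj.ne (by omega) (by omega) (by omega)) hs.b0 (nt_ne_symm T hs.b1)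
  have hZ : ∀ i j, i < j → j < n → ¬ (i = 0 ∧ j = 2) → ¬ (i = 1 ∧ j = 2) →
      ¬ (j = i + 1 ∧ 2 ≤ i ∧ j + 2 ≤ n) → ¬ (i + 3 = n ∧ j + 1 = n) → T.a (e i) (e j) = 0 := by
    intro i j hij hj h1 h2' h3 h4
    by_cases hi0 : i = 0
    · subst hi0
      by_cases hj1 : j = 1
      · subst hj1; exact z01
      · exact z0 j (by omega) hj
    · by_cases hi1 : i = 1
      · subst hi1
        exact z1 j (by omega) hj
      · exact hZ2 i j (by omega) hij hj (by omega) h4
  have hZs : ∀ i j, i < n → j < n → i ≠ j → ¬ (i = 0 ∧ j = 2) → ¬ (i = 1 ∧ j = 2) →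
      ¬ (j = i + 1 ∧ 2 ≤ i ∧ j + 2 ≤ n) → ¬ (i + 3 = n ∧ j + 1 = n) →
      ¬ (j = 0 ∧ i = 2) → ¬ (j = 1 ∧ i = 2) →
      ¬ (i = j + 1 ∧ 2 ≤ j ∧ i + 2 ≤ n) → ¬ (j + 3 = n ∧ i + 1 = n) → T.a (e i) (e j) = 0 := by
    intro i j hi hj hij h1 h2' h3 h4 h5 h6 h7 h8
    rcases Nat.lt_or_ge i j with h | h
    · exact hZ i j h hj h1 h2' h3 h4
    · rw [nt_symm T]
      exact hZ j i (by omega) hi h5 h6 h7 h8
  have hωpos : 0 < T.w (e 2) := T.w_pos _
  -- interior harmonicity
  have hharm : ∀ i, 2 < i → i < n - 3 → T.m (e (i - 1)) + T.m (e (i + 1)) = 2 * T.m (e i) := by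
    intro i hi0 hi1
    have := row3 T e hs.inj i (i - 1) (i + 1) (by omega) (by omega) (by omega) (by omega)
      (by omega) (by omega) (fun j hj h1 h2' h3 =>
        hZs i j (by omega) hj (Ne.symm h1) (by omega) (by omega) (by omega) (by omega)
          (by omega) (by omega) (by omega) (by omega))
    rw [hdiag, hW i (by omega) (by omega), hA i (by omega) (by omega)] at this
    have h' : T.a (e i) (e (i - 1)) = T.w (e 2) := by
      rw [nt_symm T]
      have := hA (i - 1) (by omega) (by omega)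
      rwa [show i - 1 + 1 = i by omega] at this
    rw [h'] at this
    have h'' : T.w (e 2) * (T.m (e (i - 1)) + T.m (e (i + 1)) - 2 * T.m (e i)) = 0 := by
      linarith
    have := int_cancel_pos hωpos h''
    linarith
  have harith := arith_of_harmonic (fun i => T.m (e i)) 2 (n - 3) hharm
  have harith : ∀ t, 2 + t ≤ n - 3 →
      T.m (e (2 + t)) = T.m (e 2) + t * (T.m (e (2 + 1)) - T.m (e 2)) := harith
  rw [show (2 : ℕ) + 1 = 3 by omega] at harith
  -- rows
  have r0 := row2 T e hs.inj 0 2 (by omega) (by omega) (by omega)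
    (fun j hj h1 h2' => hZ 0 j (by omega) hj (by omega) (by omega) (by omega) (by omega))
  have r1 := row2 T e hs.inj 1 2 (by omega) (by omega) (by omega)
    (fun j hj h1 h2' => hZs 1 j (by omega) hj (Ne.symm h1) (by omega) (by omega) (by omega)
      (by omega) (by omega) (by omega) (by omega) (by omega))
  have r2 := row4 T e hs.inj 2 0 1 3 (by omega) (by omega) (by omega)
    (by omega) (by omega) (by omega) (by omega) (by omega) (by omega) (by omega)
    (fun j hj h1 h2' h3 h4 => hZs 2 j (by omega) hj (Ne.symm h1) (by omega) (by omega)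
      (by omega) (by omega) (by omega) (by omega) (by omega) (by omega))
  have rl := row2 T e hs.inj (n - 1) (n - 3) (by omega) (by omega) (by omega)
    (fun j hj h1 h2' => hZs (n - 1) j (by omega) hj (Ne.symm h1) (by omega) (by omega)
      (by omega) (by omega) (by omega) (by omega) (by omega) (by omega))
  have rl2 := row2 T e hs.inj (n - 2) (n - 3) (by omega) (by omega) (by omega)
    (fun j hj h1 h2' => hZs (n - 2) j (by omega) hj (Ne.symm h1) (by omega) (by omega)
      (by omega) (by omega) (by omega) (by omega) (by omega) (by omega))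
  rw [hdiag] at r0 r1 r2 rl rl2
  have hA3 : T.a (e (n - 3)) (e (n - 2)) = T.w (e 2) := by
    have := hA (n - 3) (by omega) (by omega)
    rwa [show n - 3 + 1 = n - 2 by omega] at this
  have hA2 : T.a (e 2) (e 3) = T.w (e 2) := hA 2 (by omega) (by omega)
  rw [ws0, as0] at r0
  rw [ws1, as1] at r1
  rw [nt_symm T (e 2) (e 0), nt_symm T (e 2) (e 1), as0, as1, hA2] at r2
  rw [hW (n - 1) (by omega) (by omega), nt_symm T (e (n - 1)) (e (n - 3)), hB] at rl
  rw [hW (n - 2) (by omega) (by omega), nt_symm T (e (n - 2)) (e (n - 3)), hA3] at rl2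
  have q0 := int_cancel_pos hωpos (by linarith :
    T.w (e 2) * (T.m (e 2) - 2 * T.m (e 0)) = 0)
  have q1 := int_cancel_pos hωpos (by linarith :
    T.w (e 2) * (T.m (e 2) - 2 * T.m (e 1)) = 0)
  have q2 := int_cancel_pos hωpos (by linarith :
    T.w (e 2) * (T.m (e 0) + T.m (e 1) + T.m (e 3) - 2 * T.m (e 2)) = 0)
  have ql := int_cancel_pos hωpos (by linarith :
    T.w (e 2) * (T.m (e (n - 3)) - 2 * T.m (e (n - 1))) = 0)
  have ql2 := int_cancel_pos hωpos (by linarith :
    T.w (e 2) * (T.m (e (n - 3)) - 2 * T.m (e (n - 2))) = 0)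
  have hd0 : T.m (e 3) - T.m (e 2) = 0 := by linarith
  have hflat : ∀ i, 2 ≤ i → i + 3 ≤ n → T.m (e i) = T.m (e 2) := by
    intro i h1 hi
    have := harith (i - 2) (by omega)
    rw [show 2 + (i - 2) = i by omega, hd0] at this
    simpa using this
  have hflat3 : T.m (e (n - 3)) = T.m (e 2) := hflat (n - 3) (by omega) (by omega)
  refine ⟨T.m (e 0), T.w (e 2), ?_, ?_, ?_, ?_, ?_, ?_, ?_, ?_, ?_⟩
  · intro i hi hi1
    have : i = 0 ∨ i = 1 := by omega
    rcases this with rfl | rfl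
    · rfl
    · linarith
  · rintro i hi ⟨h0, h1⟩
    rw [hflat i h0 (by omega)]; linarith
  · intro i hi hl
    have : i = n - 2 ∨ i = n - 1 := by omega
    rcases this with rfl | rfl
    · linarith
    · linarith
  · intro i hi
    by_cases hi0 : i = 0
    · subst hi0; exact ws0
    · by_cases hi1 : i = 1
      · subst hi1; exact ws1
      · exact hW i (by omega) hi
  · rintro i j hij hj ⟨rfl, rfl⟩
    exact as0
  · rintro i j hij hj ⟨rfl, rfl⟩
    exact as1
  · rintro i j hij hj ⟨hji, h1, hj2⟩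
    subst hji
    exact hA i h1 (by omega)
  · rintro i j hij hj ⟨hi3, hj1⟩
    obtain rfl : i = n - 3 := by omega
    obtain rfl : j = n - 1 := by omega
    exact hB
  · intro i j hij hj h1 h2' h3 h4
    exact hZ i j hij hj h1 h2' h3 h4

end Groth.Agent.H37
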