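import Groth.Agent.H37.NumGenC4

/-! Genus one classification for `n ≥ 10`: assembling the families. -/

set_option autoImplicit false
set_option linter.unusedVariables false
open Finset

namespace Groth.Agent.H37

open Models Models.NumericalType

variable {n : ℕ} (T : Models.NumericalType n)

theorem pathShape_rev (hn : 2 ≤ n) (e : ℕ → Fin n) (hs : IsPathShape T e) :
    IsPathShape T (fun i => e (n - 1 - i)) where
  inj := hs.inj.comp (fun i => n - 1 - i) n (by intro i hi; omega) (by intro a b ha hb h; omega)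
  adj := fun i hi => by
    show T.a (e (n - 1 - i)) (e (n - 1 - (i + 1))) ≠ 0
    have := hs.adj (n - 1 - (i + 1)) (by omega)
    rw [show n - 1 - (i + 1) + 1 = n - 1 - i by omega] at this
    exact nt_ne_symm T this
  ends := by
    show T.a (e (n - 1 - 0)) (e (n - 1 - (n - 1))) = 0
    rw [show n - 1 - 0 = n - 1 by omega, show n - 1 - (n - 1) = 0 by omega, nt_symm T]
    exact hs.ends

theorem genus_one_fam (hn : 10 ≤ n) (h2 : ∀ i, T.IsMinusTwo i) :
    ∃ (e : ℕ → Fin n) (m w : ℤ), InjLt e n ∧ (Fam1 T e m w ∨ Fam2 T e m w ∨ Fam3 T e m w ∨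
      Fam4 T e m w ∨ Fam5 T e m w ∨ Fam6 T e m w ∨ Fam7 T e m w) := by
  obtain ⟨e, h | h | h | h⟩ := exists_shape T hn h2
  · obtain ⟨m, w, hf⟩ := cycle_fam T hn h2 e h
    exact ⟨e, m, w, h.inj, Or.inl hf⟩
  · have key : ∀ e' : ℕ → Fin n, IsPathShape T e' → T.w (e' 0) ≤ T.w (e' (n - 1)) →
        ∃ (e : ℕ → Fin n) (m w : ℤ), InjLt e n ∧ (Fam1 T e m w ∨ Fam2 T e m w ∨ Fam3 T e m w ∨
          Fam4 T e m w ∨ Fam5 T e m w ∨ Fam6 T e m w ∨ Fam7 T e m w) := by
      intro e' h' hle
      obtain ⟨m, w, hf⟩ := path_fam T hn h2 e' h' hle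
      refine ⟨e', m, w, h'.inj, ?_⟩
      rcases hf with hf | hf | hf
      · exact Or.inr (Or.inl hf)
      · exact Or.inr (Or.inr (Or.inl hf))
      · exact Or.inr (Or.inr (Or.inr (Or.inl hf)))
    by_cases hle : T.w (e 0) ≤ T.w (e (n - 1))
    · exact key e h hle
    · refine key _ (pathShape_rev T (by omega) e h) ?_
      show T.w (e (n - 1 - 0)) ≤ T.w (e (n - 1 - (n - 1)))
      rw [show n - 1 - 0 = n - 1 by omega, show n - 1 - (n - 1) = 0 by omega]
      omega
  · obtain ⟨m, w, hf⟩ := fork_fam T hn h2 e h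
    refine ⟨e, m, w, h.inj, ?_⟩
    rcases hf with hf | hf
    · exact Or.inr (Or.inr (Or.inr (Or.inr (Or.inl hf))))
    · exact Or.inr (Or.inr (Or.inr (Or.inr (Or.inr (Or.inl hf)))))
  · obtain ⟨m, w, hf⟩ := dfork_fam T hn h2 e h
    exact ⟨e, m, w, h.inj, Or.inr (Or.inr (Or.inr (Or.inr (Or.inr (Or.inr hf)))))⟩

/-- the permutation attached to an enumeration -/
theorem exists_perm_of_injLt (e : ℕ → Fin n) (he : InjLt e n) :
    ∃ σ : Equiv.Perm (Fin n), ∀ i : Fin n, σ i = e i.val := by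
  have hinj : Function.Injective (fun j : Fin n => e j.val) := (embLt e n he).injective
  have hbij : Function.Bijective (fun j : Fin n => e j.val) :=
    ⟨hinj, Finite.injective_iff_surjective.mp hinj⟩
  exact ⟨Equiv.ofBijective _ hbij, fun i => rfl⟩

end Groth.Agent.H37
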