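import Groth.Agent.H37.NumGenC0

/-! Genus one classification for `n ≥ 10`: the seven families in terms of an enumeration. -/

set_option autoImplicit false
set_option linter.unusedVariables false
open Finset

namespace Groth.Agent.H37

open Models Models.NumericalType

variable {n : ℕ} (T : Models.NumericalType n) (e : ℕ → Fin n) (m w : ℤ)

def Fam1 : Prop :=
  (∀ i, i < n → T.m (e i) = m) ∧
  (∀ i, i < n → T.w (e i) = w) ∧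
  (∀ i j, i < j → j < n → j = i + 1 → T.a (e i) (e j) = w) ∧
  (∀ i j, i < j → j < n → i = 0 ∧ j + 1 = n → T.a (e i) (e j) = w) ∧
  (∀ i j, i < j → j < n → ¬ (j = i + 1) → ¬ (i = 0 ∧ j + 1 = n) → T.a (e i) (e j) = 0)

def Fam2 : Prop :=
  (∀ i, i < n → i + 1 < n → T.m (e i) = 2 * m) ∧
  (∀ i, i < n → i + 1 = n → T.m (e i) = m) ∧
  (∀ i, i < n → i = 0 → T.w (e i) = w) ∧
  (∀ i, i < n → 0 < i ∧ i + 1 < n → T.w (e i) = 2 * w) ∧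
  (∀ i, i < n → i + 1 = n → T.w (e i) = 4 * w) ∧
  (∀ i j, i < j → j < n → j = i + 1 ∧ j + 1 < n → T.a (e i) (e j) = 2 * w) ∧
  (∀ i j, i < j → j < n → j = i + 1 ∧ j + 1 = n → T.a (e i) (e j) = 4 * w) ∧
  (∀ i j, i < j → j < n → ¬ (j = i + 1 ∧ j + 1 < n) → ¬ (j = i + 1 ∧ j + 1 = n) →
    T.a (e i) (e j) = 0)

def Fam3 : Prop :=
  (∀ i, i < n → T.m (e i) = m) ∧
  (∀ i, i < n → i = 0 → T.w (e i) = w) ∧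
  (∀ i, i < n → 0 < i ∧ i + 1 < n → T.w (e i) = 2 * w) ∧
  (∀ i, i < n → i + 1 = n → T.w (e i) = w) ∧
  (∀ i j, i < j → j < n → j = i + 1 → T.a (e i) (e j) = 2 * w) ∧
  (∀ i j, i < j → j < n → ¬ (j = i + 1) → T.a (e i) (e j) = 0)

def Fam4 : Prop :=
  (∀ i, i < n → i = 0 → T.m (e i) = m) ∧
  (∀ i, i < n → 0 < i ∧ i + 1 < n → T.m (e i) = 2 * m) ∧
  (∀ i, i < n → i + 1 = n → T.m (e i) = m) ∧
  (∀ i, i < n → i = 0 → T.w (e i) = 2 * w) ∧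
  (∀ i, i < n → 0 < i ∧ i + 1 < n → T.w (e i) = w) ∧
  (∀ i, i < n → i + 1 = n → T.w (e i) = 2 * w) ∧
  (∀ i j, i < j → j < n → i = 0 ∧ j = 1 → T.a (e i) (e j) = 2 * w) ∧
  (∀ i j, i < j → j < n → j = i + 1 ∧ 1 ≤ i ∧ j + 2 ≤ n → T.a (e i) (e j) = w) ∧
  (∀ i j, i < j → j < n → j = i + 1 ∧ j + 1 = n → T.a (e i) (e j) = 2 * w) ∧
  (∀ i j, i < j → j < n → ¬ (i = 0 ∧ j = 1) → ¬ (j = i + 1 ∧ 1 ≤ i ∧ j + 2 ≤ n) →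
    ¬ (j = i + 1 ∧ j + 1 = n) → T.a (e i) (e j) = 0)

def Fam5 : Prop :=
  (∀ i, i < n → i = 0 → T.m (e i) = m) ∧
  (∀ i, i < n → 1 ≤ i ∧ i + 2 < n → T.m (e i) = 2 * m) ∧
  (∀ i, i < n → n ≤ i + 2 → T.m (e i) = m) ∧
  (∀ i, i < n → i = 0 → T.w (e i) = 2 * w) ∧
  (∀ i, i < n → 0 < i → T.w (e i) = w) ∧
  (∀ i j, i < j → j < n → i = 0 ∧ j = 1 → T.a (e i) (e j) = 2 * w) ∧
  (∀ i j, i < j → j < n → j = i + 1 ∧ 1 ≤ i ∧ j + 2 ≤ n → T.a (e i) (e j) = w) ∧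
  (∀ i j, i < j → j < n → i + 3 = n ∧ j + 1 = n → T.a (e i) (e j) = w) ∧
  (∀ i j, i < j → j < n → ¬ (i = 0 ∧ j = 1) → ¬ (j = i + 1 ∧ 1 ≤ i ∧ j + 2 ≤ n) →
    ¬ (i + 3 = n ∧ j + 1 = n) → T.a (e i) (e j) = 0)

def Fam6 : Prop :=
  (∀ i, i < n → i + 2 < n → T.m (e i) = 2 * m) ∧
  (∀ i, i < n → n ≤ i + 2 → T.m (e i) = m) ∧
  (∀ i, i < n → i = 0 → T.w (e i) = w) ∧
  (∀ i, i < n → 0 < i → T.w (e i) = 2 * w) ∧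
  (∀ i j, i < j → j < n → j = i + 1 ∧ j + 2 ≤ n → T.a (e i) (e j) = 2 * w) ∧
  (∀ i j, i < j → j < n → i + 3 = n ∧ j + 1 = n → T.a (e i) (e j) = 2 * w) ∧
  (∀ i j, i < j → j < n → ¬ (j = i + 1 ∧ j + 2 ≤ n) → ¬ (i + 3 = n ∧ j + 1 = n) →
    T.a (e i) (e j) = 0)

def Fam7 : Prop :=
  (∀ i, i < n → i ≤ 1 → T.m (e i) = m) ∧
  (∀ i, i < n → 2 ≤ i ∧ i + 2 < n → T.m (e i) = 2 * m) ∧
  (∀ i, i < n → n ≤ i + 2 → T.m (e i) = m) ∧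
  (∀ i, i < n → T.w (e i) = w) ∧
  (∀ i j, i < j → j < n → i = 0 ∧ j = 2 → T.a (e i) (e j) = w) ∧
  (∀ i j, i < j → j < n → i = 1 ∧ j = 2 → T.a (e i) (e j) = w) ∧
  (∀ i j, i < j → j < n → j = i + 1 ∧ 2 ≤ i ∧ j + 2 ≤ n → T.a (e i) (e j) = w) ∧
  (∀ i j, i < j → j < n → i + 3 = n ∧ j + 1 = n → T.a (e i) (e j) = w) ∧
  (∀ i j, i < j → j < n → ¬ (i = 0 ∧ j = 2) → ¬ (i = 1 ∧ j = 2) →
    ¬ (j = i + 1 ∧ 2 ≤ i ∧ j + 2 ≤ n) → ¬ (i + 3 = n ∧ j + 1 = n) → T.a (e i) (e j) = 0)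

end Groth.Agent.H37
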