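import Groth.Agent.H37.NumType
import Mathlib.Combinatorics.SimpleGraph.Acyclic

set_option autoImplicit false
open Finset

namespace Groth.Agent.H37

open Models Models.NumericalType

variable {n : ℕ} (T : Models.NumericalType n)

/-- The dual graph of a numerical type. -/
def ntGraph : SimpleGraph (Fin n) where
  Adj i j := i ≠ j ∧ T.a i j ≠ 0
  symm := ⟨fun i j h => ⟨h.1.symm, by rw [nt_symm T j i]; exact h.2⟩⟩
  loopless := ⟨fun i h => h.1 rfl⟩

instance : DecidableRel (ntGraph T).Adj := fun i j => by
  unfold ntGraph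
  exact inferInstanceAs (Decidable (i ≠ j ∧ T.a i j ≠ 0))

theorem ntGraph_connected : (ntGraph T).Connected := by
  have : Nonempty (Fin n) := ⟨⟨0, T.pos⟩⟩
  refine ⟨?_⟩
  intro u v
  classical
  by_contra hcon
  let I : Finset (Fin n) := univ.filter fun x => (ntGraph T).Reachable u x
  have hI : I.Nonempty := ⟨u, by simp [I]⟩
  have hne : I ≠ univ := by
    intro h
    have : v ∈ I := by rw [h]; exact mem_univ v
    simp [I] at this
    exact hcon this
  obtain ⟨i, hi, j, hj, hij⟩ := T.connected I hI hne
  have hiR : (ntGraph T).Reachable u i := by simpa [I] using hi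
  have hne' : i ≠ j := by
    intro h
    subst h
    exact hj hi
  have hadj : (ntGraph T).Adj i j := ⟨hne', hij⟩
  apply hj
  have : (ntGraph T).Reachable u j := hiR.trans hadj.reachable
  simpa [I] using this

theorem ntGraph_card_edges : (ntGraph T).edgeFinset.card = T.edgeCount := by
  unfold Models.NumericalType.edgeCount
  symm
  apply Finset.card_bij (fun p _ => s(p.1, p.2))
  · intro p hp
    rw [mem_filter] at hp
    rw [SimpleGraph.mem_edgeFinset, SimpleGraph.mem_edgeSet]
    exact ⟨ne_of_lt hp.2.1, ne_of_gt hp.2.2⟩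
  · intro p hp q hq h
    rw [mem_filter] at hp hq
    rw [Sym2.eq_iff] at h
    rcases h with ⟨h1, h2⟩ | ⟨h1, h2⟩
    · exact Prod.ext h1 h2
    · exfalso
      have := hp.2.1
      have := hq.2.1
      rw [h1, h2] at *
      exact lt_asymm ‹q.2 < q.1› ‹q.1 < q.2›
  · intro e he
    induction e using Sym2.ind with
    | _ x y =>
      rw [SimpleGraph.mem_edgeFinset, SimpleGraph.mem_edgeSet] at he
      have hxy : x ≠ y := he.1
      rcases lt_or_gt_of_ne hxy with h | h
      · refine ⟨(x, y), ?_, rfl⟩
        rw [mem_filter]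
        exact ⟨mem_univ _, h, lt_of_le_of_ne (T.offDiag_nonneg _ _ hxy) (Ne.symm he.2)⟩
      · refine ⟨(y, x), ?_, Sym2.eq_swap⟩
        rw [mem_filter]
        refine ⟨mem_univ _, h, lt_of_le_of_ne (T.offDiag_nonneg _ _ hxy.symm) ?_⟩
        rw [nt_symm T y x]
        exact Ne.symm he.2

theorem nt_card_le_edgeCount_add_one : n ≤ T.edgeCount + 1 := by
  have h := (ntGraph_connected T).card_vert_le_card_edgeSet_add_one
  rw [Nat.card_eq_fintype_card, Fintype.card_fin, Nat.card_eq_fintype_card,
    ← SimpleGraph.edgeFinset_card, ntGraph_card_edges] at h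
  exact h

end Groth.Agent.H37
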