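import Groth.Agent.H37.NumType
import Mathlib.Tactic

set_option autoImplicit false
open Finset

namespace Groth.Agent.H37

open Models Models.NumericalType

variable {n : ℕ} (T : Models.NumericalType n)

/-- the quadratic form of the intersection matrix -/
def ntQ (x : Fin n → ℤ) : ℤ := ∑ i, ∑ j, T.a i j * x i * x j

theorem nt_row_sumQ (i : Fin n) : ∑ j, (T.a i j : ℚ) * (T.m j : ℚ) = 0 := by
  have h := nt_row_sum T i
  have h2 : ((∑ j, T.a i j * T.m j : ℤ) : ℚ) = 0 := by rw [h]; simp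
  push_cast at h2
  exact h2

theorem nt_col_sumQ (j : Fin n) : ∑ i, (T.a i j : ℚ) * (T.m i : ℚ) = 0 := by
  have h := nt_row_sumQ T j
  rw [← h]
  apply Finset.sum_congr rfl
  intro i _
  rw [nt_symm T i j]

theorem nt_quad_identity (r : Fin n → ℚ) :
    2 * ∑ i, ∑ j, (T.a i j : ℚ) * ((T.m i : ℚ) * r i) * ((T.m j : ℚ) * r j) =
      - ∑ i, ∑ j, (T.a i j : ℚ) * (T.m i : ℚ) * (T.m j : ℚ) * (r i - r j) ^ 2 := by
  have e1 : ∑ i, ∑ j, (T.a i j : ℚ) * (T.m i : ℚ) * (T.m j : ℚ) * (r i - r j) ^ 2 =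
      (∑ i, ∑ j, (T.a i j : ℚ) * (T.m i : ℚ) * (T.m j : ℚ) * (r i) ^ 2)
      - 2 * (∑ i, ∑ j, (T.a i j : ℚ) * ((T.m i : ℚ) * r i) * ((T.m j : ℚ) * r j))
      + ∑ i, ∑ j, (T.a i j : ℚ) * (T.m i : ℚ) * (T.m j : ℚ) * (r j) ^ 2 := by
    rw [Finset.mul_sum, ← Finset.sum_sub_distrib, ← Finset.sum_add_distrib]
    apply Finset.sum_congr rfl
    intro i _
    rw [Finset.mul_sum, ← Finset.sum_sub_distrib, ← Finset.sum_add_distrib]
    apply Finset.sum_congr rfl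
    intro j _
    ring
  have e2 : ∑ i, ∑ j, (T.a i j : ℚ) * (T.m i : ℚ) * (T.m j : ℚ) * (r i) ^ 2 = 0 := by
    apply Finset.sum_eq_zero
    intro i _
    have : ∑ j, (T.a i j : ℚ) * (T.m i : ℚ) * (T.m j : ℚ) * (r i) ^ 2 =
        ((T.m i : ℚ) * (r i) ^ 2) * ∑ j, (T.a i j : ℚ) * (T.m j : ℚ) := by
      rw [Finset.mul_sum]
      apply Finset.sum_congr rfl
      intro j _
      ring
    rw [this, nt_row_sumQ, mul_zero]
  have e3 : ∑ i, ∑ j, (T.a i j : ℚ) * (T.m i : ℚ) * (T.m j : ℚ) * (r j) ^ 2 = 0 := by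
    rw [Finset.sum_comm]
    apply Finset.sum_eq_zero
    intro j _
    have : ∑ i, (T.a i j : ℚ) * (T.m i : ℚ) * (T.m j : ℚ) * (r j) ^ 2 =
        ((T.m j : ℚ) * (r j) ^ 2) * ∑ i, (T.a i j : ℚ) * (T.m i : ℚ) := by
      rw [Finset.mul_sum]
      apply Finset.sum_congr rfl
      intro i _
      ring
    rw [this, nt_col_sumQ, mul_zero]
  rw [e1, e2, e3]
  ring

theorem nt_term_nonneg (r : Fin n → ℚ) (i j : Fin n) :
    0 ≤ (T.a i j : ℚ) * (T.m i : ℚ) * (T.m j : ℚ) * (r i - r j) ^ 2 := by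
  by_cases hij : i = j
  · subst hij
    simp
  · have h1 : (0 : ℚ) ≤ (T.a i j : ℚ) := by exact_mod_cast T.offDiag_nonneg i j hij
    have h2 : (0 : ℚ) < (T.m i : ℚ) := by exact_mod_cast T.m_pos i
    have h3 : (0 : ℚ) < (T.m j : ℚ) := by exact_mod_cast T.m_pos j
    positivity

theorem ntQ_cast (x : Fin n → ℤ) :
    ((ntQ T x : ℤ) : ℚ) = ∑ i, ∑ j, (T.a i j : ℚ) * ((T.m i : ℚ) * ((x i : ℚ) / (T.m i : ℚ))) *
      ((T.m j : ℚ) * ((x j : ℚ) / (T.m j : ℚ))) := by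
  unfold ntQ
  push_cast
  apply Finset.sum_congr rfl
  intro i _
  apply Finset.sum_congr rfl
  intro j _
  have h2 : (T.m i : ℚ) ≠ 0 := by exact_mod_cast (ne_of_gt (T.m_pos i))
  have h3 : (T.m j : ℚ) ≠ 0 := by exact_mod_cast (ne_of_gt (T.m_pos j))
  rw [mul_div_cancel₀ _ h2, mul_div_cancel₀ _ h3]

theorem ntQ_nonpos (x : Fin n → ℤ) : ntQ T x ≤ 0 := by
  obtain ⟨r, hr⟩ : ∃ r : Fin n → ℚ, r = fun i => (x i : ℚ) / (T.m i : ℚ) := ⟨_, rfl⟩
  have h := nt_quad_identity T r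
  have hc := ntQ_cast T x
  have hc' : ((ntQ T x : ℤ) : ℚ) =
      ∑ i, ∑ j, (T.a i j : ℚ) * ((T.m i : ℚ) * r i) * ((T.m j : ℚ) * r j) := by
    rw [hc, hr]
  have hnn : 0 ≤ ∑ i, ∑ j, (T.a i j : ℚ) * (T.m i : ℚ) * (T.m j : ℚ) * (r i - r j) ^ 2 :=
    Finset.sum_nonneg fun i _ => Finset.sum_nonneg fun j _ => nt_term_nonneg T _ i j
  have : ((ntQ T x : ℤ) : ℚ) ≤ 0 := by
    rw [hc']
    linarith
  exact_mod_cast this

theorem ntQ_neg (x : Fin n → ℤ) (hx : x ≠ 0) (k : Fin n) (hk : x k = 0) : ntQ T x < 0 := by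
  rcases lt_or_eq_of_le (ntQ_nonpos T x) with h | h
  · exact h
  exfalso
  obtain ⟨r, hr⟩ : ∃ r : Fin n → ℚ, r = fun i => (x i : ℚ) / (T.m i : ℚ) := ⟨_, rfl⟩
  have hid := nt_quad_identity T r
  have hc := ntQ_cast T x
  rw [h] at hc
  have hsum0 : ∑ i, ∑ j, (T.a i j : ℚ) * (T.m i : ℚ) * (T.m j : ℚ) * (r i - r j) ^ 2 = 0 := by
    have : (0 : ℚ) = ∑ i, ∑ j, (T.a i j : ℚ) * ((T.m i : ℚ) * r i) * ((T.m j : ℚ) * r j) := by
      rw [hr]
      rw [← hc]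
      simp
    rw [← this] at hid
    linarith
  have hterm : ∀ i j, (T.a i j : ℚ) * (T.m i : ℚ) * (T.m j : ℚ) * (r i - r j) ^ 2 = 0 := by
    intro i j
    have h1 := (Finset.sum_eq_zero_iff_of_nonneg
      (fun i _ => Finset.sum_nonneg fun j _ => nt_term_nonneg T r i j)).mp hsum0 i (mem_univ i)
    exact (Finset.sum_eq_zero_iff_of_nonneg (fun j _ => nt_term_nonneg T r i j)).mp h1 j (mem_univ j)
  have hrr : ∀ i j, T.a i j ≠ 0 → r i = r j := by
    intro i j hij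
    have h0 := hterm i j
    have h2 : (T.m i : ℚ) ≠ 0 := by exact_mod_cast (ne_of_gt (T.m_pos i))
    have h3 : (T.m j : ℚ) ≠ 0 := by exact_mod_cast (ne_of_gt (T.m_pos j))
    have h1 : (T.a i j : ℚ) ≠ 0 := by exact_mod_cast hij
    have : (r i - r j) ^ 2 = 0 := by
      rcases mul_eq_zero.mp h0 with h4 | h4
      · exfalso
        exact (mul_ne_zero (mul_ne_zero h1 h2) h3) h4
      · exact h4
    have := pow_eq_zero_iff (two_ne_zero) |>.mp this
    linarith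
  have hrx : ∀ i, r i = 0 ↔ x i = 0 := by
    intro i
    have h2 : (T.m i : ℚ) ≠ 0 := by exact_mod_cast (ne_of_gt (T.m_pos i))
    rw [hr]
    show (x i : ℚ) / (T.m i : ℚ) = 0 ↔ x i = 0
    rw [div_eq_zero_iff]
    constructor
    · rintro (h | h)
      · exact_mod_cast h
      · exact absurd h h2
    · intro h
      left
      exact_mod_cast h
  classical
  let Z : Finset (Fin n) := univ.filter fun i => x i = 0
  have hZne : Z.Nonempty := ⟨k, by simp [Z, hk]⟩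
  have hZuniv : Z = univ := by
    by_contra hne
    obtain ⟨i, hi, j, hj, hij⟩ := T.connected Z hZne hne
    have hxi : x i = 0 := by simpa [Z] using hi
    have hxj : x j ≠ 0 := by simpa [Z] using hj
    have := hrr i j hij
    rw [(hrx i).mpr hxi] at this
    exact hxj ((hrx j).mp this.symm)
  apply hx
  funext i
  have : i ∈ Z := by rw [hZuniv]; exact mem_univ i
  simpa [Z] using this

end Groth.Agent.H37
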