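import Groth.Agent.H37.NumEmbed

set_option autoImplicit false
open Finset

namespace Groth.Agent.H37

open Models Models.NumericalType

variable {n : ℕ} (T : Models.NumericalType n)

/-- No nonzero nonnegative vector supported on a proper subset is subharmonic. -/
theorem nt_no_subharmonic {r : ℕ} (v : Fin r → Fin n) (hv : Function.Injective v) (hr : r < n)
    (c : Fin r → ℤ) (hc0 : ∀ s, 0 ≤ c s) (hc : c ≠ 0)
    (hrow : ∀ s, 0 ≤ ∑ t, T.a (v s) (v t) * c t) : False := by
  have h := ntQ_embed_neg T v hv hr c hc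
  have h2 : 0 ≤ ∑ s, ∑ t, T.a (v s) (v t) * c s * c t := by
    apply Finset.sum_nonneg
    intro s _
    have : ∑ t, T.a (v s) (v t) * c s * c t = c s * ∑ t, T.a (v s) (v t) * c t := by
      rw [Finset.mul_sum]
      apply Finset.sum_congr rfl
      intro t _
      ring
    rw [this]
    exact mul_nonneg (hc0 s) (hrow s)
  linarith

/-- Row inequality on a sub-collection of indices. -/
theorem nt_row_embed_le {r : ℕ} (v : Fin r → Fin n) (hv : Function.Injective v) (s : Fin r) :
    ∑ t, T.a (v s) (v t) * T.m (v t) ≤ 0 := by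
  classical
  have h := nt_row_sum T (v s)
  have himg : ∑ t, T.a (v s) (v t) * T.m (v t) =
      ∑ j ∈ univ.image v, T.a (v s) j * T.m j := by
    rw [Finset.sum_image (fun a _ b _ h => hv h)]
  rw [himg, ← h]
  apply Finset.sum_le_sum_of_subset_of_nonneg (subset_univ _)
  intro j _ hj
  have hne : v s ≠ j := by
    intro hh
    apply hj
    rw [← hh]
    exact mem_image_of_mem v (mem_univ s)
  exact mul_nonneg (T.offDiag_nonneg _ _ hne) (le_of_lt (T.m_pos j))

theorem nt_a_nonneg {i j : Fin n} (h : i ≠ j) : 0 ≤ T.a i j := T.offDiag_nonneg i j h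

theorem nt_a_ge_left {i j : Fin n} (h : i ≠ j) (ha : T.a i j ≠ 0) : T.w i ≤ T.a i j := by
  have hpos : 0 < T.a i j := lt_of_le_of_ne (T.offDiag_nonneg i j h) (Ne.symm ha)
  exact Int.le_of_dvd hpos (T.w_dvd i j)

theorem nt_a_ge_right {i j : Fin n} (h : i ≠ j) (ha : T.a i j ≠ 0) : T.w j ≤ T.a i j := by
  rw [nt_symm T i j] at ha ⊢
  exact nt_a_ge_left T (Ne.symm h) ha

/-- The edge lemma for two `(-2)`-indices in a numerical type with more than two indices. -/
theorem nt_edge {i j : Fin n} (hn : 2 < n) (hij : i ≠ j) (hi : T.IsMinusTwo i) (hj : T.IsMinusTwo j)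
    (ha : T.a i j ≠ 0) :
    (T.a i j = T.w i ∧ T.w j = T.w i) ∨ (T.a i j = T.w i ∧ T.w i = 2 * T.w j) ∨
    (T.a i j = T.w j ∧ T.w j = 2 * T.w i) ∨ (T.a i j = T.w i ∧ T.w i = 3 * T.w j) ∨
    (T.a i j = T.w j ∧ T.w j = 3 * T.w i) := by
  have hwi := T.w_pos i
  have hwj := T.w_pos j
  have hapos : 0 < T.a i j := lt_of_le_of_ne (T.offDiag_nonneg i j hij) (Ne.symm ha)
  obtain ⟨p, hp⟩ := T.w_dvd i j
  obtain ⟨q, hq⟩ : T.w j ∣ T.a i j := by rw [nt_symm T i j]; exact T.w_dvd j i
  have hp1 : 1 ≤ p := by
    by_contra hcon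
    have : p ≤ 0 := by omega
    have := mul_nonpos_of_nonneg_of_nonpos (le_of_lt hwi) this
    omega
  have hq1 : 1 ≤ q := by
    by_contra hcon
    have : q ≤ 0 := by omega
    have := mul_nonpos_of_nonneg_of_nonpos (le_of_lt hwj) this
    omega
  -- the quadratic form on (a, 2 w_i)
  have hinj : Function.Injective ![i, j] := by
    intro s t hst
    fin_cases s <;> fin_cases t <;> simp_all
  have hQ := ntQ_embed_neg T ![i, j] hinj (by omega) ![T.a i j, 2 * T.w i] (by
    intro h0
    have := congrFun h0 1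
    simp at this
    omega)
  simp only [Fin.sum_univ_two, Matrix.cons_val_zero, Matrix.cons_val_one] at hQ
  rw [hi.2, hj.2, nt_symm T j i] at hQ
  have hlt : T.a i j * T.a i j < 4 * (T.w i * T.w j) := by
    have h1 : 2 * T.w i * (T.a i j * T.a i j - 4 * (T.w i * T.w j)) < 0 := by
      have e : 2 * T.w i * (T.a i j * T.a i j - 4 * (T.w i * T.w j)) =
        -2 * T.w i * T.a i j * T.a i j + T.a i j * T.a i j * (2 * T.w i) +
        (T.a i j * (2 * T.w i) * T.a i j + -2 * T.w j * (2 * T.w i) * (2 * T.w i)) := by ring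
      rw [e]; exact hQ
    have h2 : 0 < 2 * T.w i := by omega
    have := (mul_neg_iff.mp h1)
    rcases this with ⟨_, h3⟩ | ⟨h3, _⟩
    · linarith
    · omega
  have hpq : p * q < 4 := by
    have e : T.a i j * T.a i j = (T.w i * T.w j) * (p * q) := by
      calc T.a i j * T.a i j = (T.w i * p) * (T.w j * q) := by
            nth_rewrite 1 [hp]
            nth_rewrite 1 [hq]
            rfl
        _ = (T.w i * T.w j) * (p * q) := by ring
    rw [e] at hlt
    have hpos : 0 < T.w i * T.w j := mul_pos hwi hwj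
    have : (T.w i * T.w j) * (p * q) < (T.w i * T.w j) * 4 := by linarith
    exact lt_of_mul_lt_mul_left this (le_of_lt hpos)
  have hp3 : p ≤ 3 := by nlinarith
  have hq3 : q ≤ 3 := by nlinarith
  interval_cases p <;> interval_cases q <;> first
    | (exfalso; omega)
    | (left; constructor <;> omega)
    | (right; left; constructor <;> omega)
    | (right; right; left; constructor <;> omega)
    | (right; right; right; left; constructor <;> omega)
    | (right; right; right; right; constructor <;> omega)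

end Groth.Agent.H37
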