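import Groth.Prelude.Def_Models

set_option autoImplicit false
open Finset

namespace Groth.Agent.H37

open Models Models.NumericalType

variable {n : ℕ} (T : Models.NumericalType n)

theorem nt_row_sum (i : Fin n) : ∑ j, T.a i j * T.m j = 0 := by
  have h := congrFun T.mulVec_m i
  simpa [Matrix.mulVec, dotProduct] using h

theorem nt_symm (i j : Fin n) : T.a i j = T.a j i := by
  have h := T.symm
  exact (Matrix.IsSymm.apply h i j).symm

theorem nt_exists_pos_of_one_lt (hn : 1 < n) (i : Fin n) : ∃ j, j ≠ i ∧ 0 < T.a i j := by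
  have hne : ({i} : Finset (Fin n)) ≠ univ := by
    intro h
    have hc := congrArg Finset.card h
    simp at hc
    omega
  obtain ⟨i', hi', j, hj, hij⟩ := T.connected {i} (singleton_nonempty i) hne
  rw [mem_singleton] at hi'
  subst hi'
  rw [mem_singleton] at hj
  refine ⟨j, hj, lt_of_le_of_ne (T.offDiag_nonneg _ _ (Ne.symm hj)) (Ne.symm hij)⟩

theorem nt_diag_neg (hn : 1 < n) (i : Fin n) : T.a i i < 0 := by
  obtain ⟨j, hji, hpos⟩ := nt_exists_pos_of_one_lt T hn i
  have hrow := nt_row_sum T i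
  rw [← Finset.add_sum_erase _ _ (mem_univ i)] at hrow
  have hj : j ∈ univ.erase i := mem_erase.mpr ⟨hji, mem_univ j⟩
  have hsum : 0 < ∑ x ∈ univ.erase i, T.a i x * T.m x := by
    apply Finset.sum_pos' 
    · intro k hk
      have hki : k ≠ i := (mem_erase.mp hk).1
      exact mul_nonneg (T.offDiag_nonneg _ _ (Ne.symm hki)) (le_of_lt (T.m_pos k))
    · exact ⟨j, hj, mul_pos hpos (T.m_pos j)⟩
  have hm := T.m_pos i
  by_contra hcon
  rw [not_lt] at hcon
  have : 0 ≤ T.a i i * T.m i := mul_nonneg hcon (le_of_lt hm)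
  linarith

end Groth.Agent.H37
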