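import Groth.Agent.H37.OrbitLC2
import Groth.Agent.H79.SchDim
import Mathlib

/-! Dimension of orbit boundaries. -/

set_option autoImplicit false
universe u

open Topology CategoryTheory CategoryTheory.Limits AlgebraicGeometry MonoidalCategory
  CartesianMonoidalCategory MonObj TopologicalSpace

namespace Groth.Agent.H37

section topo

variable {T : Type*} [TopologicalSpace T]

/-- in a Noetherian quasi-sober space every point is a specialization of one of finitely many
points -/
theorem exists_finite_generic_set [NoetherianSpace T] [QuasiSober T] :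
    ∃ Γ : Set T, Γ.Finite ∧ ∀ t : T, ∃ c ∈ Γ, c ⤳ t := by
  classical
  rcases isEmpty_or_nonempty T with hT | hT
  · exact ⟨∅, Set.finite_empty, fun t => (hT.false t).elim⟩
  have hfin := NoetherianSpace.finite_irreducibleComponents (α := T)
  have hex : ∀ C : Set T, C ∈ irreducibleComponents T → ∃ x, IsGenericPoint x C := fun C hC =>
    QuasiSober.sober hC.1 (isClosed_of_mem_irreducibleComponents C hC)
  choose! gp hgp using hex
  refine ⟨gp '' irreducibleComponents T, hfin.image gp, fun t => ?_⟩
  refine ⟨gp (irreducibleComponent t),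
    ⟨_, irreducibleComponent_mem_irreducibleComponents t, rfl⟩, ?_⟩
  rw [specializes_iff_mem_closure,
    isGenericPoint_def.mp (hgp _ (irreducibleComponent_mem_irreducibleComponents t))]
  exact mem_irreducibleComponent

end topo

section scheme

variable (X : Scheme.{u})

/-- chains of specializations inside a subset give a lower bound for its dimension -/
theorem krullDim_subtype_le_topologicalKrullDim (Y : Set X) :
    Order.krullDim {z : X // z ∈ Y} ≤ topologicalKrullDim ↥Y := by
  let F : {z : X // z ∈ Y} → IrreducibleCloseds ↥Y := fun z =>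
    ⟨closure {(⟨z.1, z.2⟩ : ↥Y)}, isIrreducible_singleton.closure, isClosed_closure⟩
  have hmono : ∀ a b : {z : X // z ∈ Y}, a ≤ b → F a ≤ F b := by
    intro a b hab
    have h1 : (b.1 : X) ⤳ a.1 := Scheme.le_iff_specializes.mp hab
    have h2 : (⟨b.1, b.2⟩ : ↥Y) ⤳ ⟨a.1, a.2⟩ := (subtype_specializes_iff _ _).mpr h1
    change closure {(⟨a.1, a.2⟩ : ↥Y)} ⊆ closure {(⟨b.1, b.2⟩ : ↥Y)}
    exact closure_minimal (Set.singleton_subset_iff.mpr (specializes_iff_mem_closure.mp h2))
      isClosed_closure
  have hstrict : StrictMono F := by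
    intro a b hab
    refine lt_of_le_of_ne (hmono a b hab.le) ?_
    intro heq
    have h3 : (⟨b.1, b.2⟩ : ↥Y) ∈ closure {(⟨a.1, a.2⟩ : ↥Y)} := by
      have : (⟨b.1, b.2⟩ : ↥Y) ∈ closure {(⟨b.1, b.2⟩ : ↥Y)} := subset_closure rfl
      have heq' : closure {(⟨a.1, a.2⟩ : ↥Y)} = closure {(⟨b.1, b.2⟩ : ↥Y)} :=
        congrArg (fun W : IrreducibleCloseds ↥Y => (W : Set ↥Y)) heq
      rw [heq']
      exact this
    have h4 : (a.1 : X) ⤳ b.1 :=
      (subtype_specializes_iff _ _).mp (specializes_iff_mem_closure.mpr h3)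
    have h5 : b ≤ a := Scheme.le_iff_specializes.mpr h4
    exact (lt_iff_le_not_ge.mp hab).2 h5
  exact Order.krullDim_le_of_strictMono F hstrict

/-- the dimension of a quasi-sober subspace is the Krull dimension of its points for the
specialization order -/
theorem topologicalKrullDim_eq_krullDim_subtype (Y : Set X) [QuasiSober ↥Y] :
    topologicalKrullDim ↥Y = Order.krullDim {z : X // z ∈ Y} := by
  have h1 : topologicalKrullDim ↥Y = @Order.krullDim ↥Y (specializationPreorder _) :=
    @Order.krullDim_eq_of_orderIso _ _ _ (specializationPreorder _)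
      (irreducibleSetEquivPoints (α := ↥Y))
  rw [h1]
  let e : @OrderIso ↥Y {z : X // z ∈ Y} (specializationPreorder _).toLE _ :=
    { toFun := fun z => ⟨z.1, z.2⟩
      invFun := fun z => ⟨z.1, z.2⟩
      left_inv := fun z => rfl
      right_inv := fun z => rfl
      map_rel_iff' := by
        intro a b
        exact (subtype_specializes_iff b a).symm }
  exact @Order.krullDim_eq_of_orderIso _ _ (specializationPreorder _) _ e

/-- the dimension of a closed subset is bounded by the heights of its points -/
theorem topologicalKrullDim_closed_le (D : Set X) (hD : IsClosed D) (N : ℕ∞)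
    (h : ∀ ξ ∈ D, Order.height ξ ≤ N) :
    topologicalKrullDim ↥D ≤ ((N : ℕ∞) : WithBot ℕ∞) := by
  haveI : QuasiSober ↥D := hD.isClosedEmbedding_subtypeVal.quasiSober
  rw [topologicalKrullDim_eq_krullDim_subtype, Order.krullDim_eq_iSup_height]
  apply iSup_le
  intro z
  have h1 : Order.height z ≤ Order.height z.1 :=
    Order.height_le_height_apply_of_strictMono Subtype.val (fun a b hab => hab) z
  exact WithBot.coe_le_coe.mpr (h1.trans (h z.1 z.2))

end scheme

section field

open Groth.Agent.H79.SchDim Groth.Agent.H79.SchChart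

variable (k : Type u) [Field k] {X : Scheme.{u}} [X.Over (Spec (CommRingCat.of k))]
  [LocallyOfFiniteType (X ↘ Spec (CommRingCat.of k))]

include k in
theorem height_lt_top (x : X) : Order.height x < ⊤ := by
  obtain ⟨n, hn⟩ := exists_trdeg_eq (k := k) x
  rw [height_eq k x n hn]
  exact ENat.natCast_lt_top n

include k in
/-- the height of a point of a locally closed subset bounds the dimension of the subset below -/
theorem height_le_topologicalKrullDim (U : X.Opens) (Z : Set X) (hZ : IsClosed Z) (y : X)
    (hyU : y ∈ U) (hyZ : y ∈ Z) :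
    ((Order.height y : ℕ∞) : WithBot ℕ∞) ≤ topologicalKrullDim ↥((U : Set X) ∩ Z) := by
  obtain ⟨n, hn⟩ := exists_trdeg_eq (k := k) y
  rw [height_eq k y n hn]
  obtain ⟨_, ⟨W, hW, rfl⟩, hyW, hWU⟩ :=
    X.isBasis_affineOpens.exists_subset_of_mem_open hyU U.2
  have hW' : IsAffineOpen W := hW
  have hyW' : y ∈ W := hyW
  have h1 : Order.height (⟨y, hyW'⟩ : {z : X // z ∈ W}) = (n : ℕ∞) := by
    rw [height_subtype hW', coheight_pt hW' y hyW' n hn]
  have h2 := Order.height_eq_krullDim_Iic (⟨y, hyW'⟩ : {z : X // z ∈ W})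
  rw [h1] at h2
  rw [h2]
  let f : Set.Iic (⟨y, hyW'⟩ : {z : X // z ∈ W}) → {z : X // z ∈ (U : Set X) ∩ Z} := fun z =>
    ⟨z.1.1, hWU z.1.2, by
      have hz : z.1.1 ≤ y := z.2
      have hsp : y ⤳ z.1.1 := Scheme.le_iff_specializes.mp hz
      exact hZ.closure_subset_iff.mpr (Set.singleton_subset_iff.mpr hyZ)
        (specializes_iff_mem_closure.mp hsp)⟩
  have hf : StrictMono f := fun a b hab => hab
  exact (Order.krullDim_le_of_strictMono f hf).trans
    (krullDim_subtype_le_topologicalKrullDim X _)

end field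

section orbit

variable {k : Type u} [Field k]

/-- the boundary of an orbit has smaller dimension than the orbit -/
theorem topologicalKrullDim_boundary_lt (G X : Over (Spec (CommRingCat.of k))) [GrpObj G]
    [LocallyOfFiniteType G.hom] [QuasiCompact G.hom]
    [LocallyOfFiniteType X.hom] (a : AlgGrp.Action G X)
    (x : 𝟙_ (Over (Spec (CommRingCat.of k))) ⟶ X) :
    topologicalKrullDim ↥(closure (orbitSet a x) \ orbitSet a x) <
      topologicalKrullDim ↥(orbitSet a x) := by
  letI : X.left.Over (Spec (CommRingCat.of k)) := ⟨X.hom⟩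
  haveI : LocallyOfFiniteType (X.left ↘ Spec (CommRingCat.of k)) :=
    (inferInstance : LocallyOfFiniteType X.hom)
  haveI : IsLocallyNoetherian G.left := LocallyOfFiniteType.isLocallyNoetherian G.hom
  haveI : CompactSpace G.left := QuasiCompact.compactSpace_of_compactSpace G.hom
  haveI : IsNoetherian G.left := {}
  set O := orbitSet a x with hO
  have hlc : IsLocallyClosed O := isLocallyClosed_orbitSet' G X a x
  have hDc : IsClosed (closure O \ O) := by
    have := hlc.isOpen_coborder
    rw [coborder] at this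
    exact isOpen_compl_iff.mp this
  let U : X.left.Opens := ⟨coborder O, hlc.isOpen_coborder⟩
  have hOU : O = (U : Set X.left) ∩ closure O := (coborder_inter_closure (s := O)).symm
  -- finitely many generic points
  obtain ⟨Γ, hΓfin, hΓ⟩ := exists_finite_generic_set (T := G.left)
  let o := (a.orbitMap x).left
  have hne : Γ.Nonempty := by
    obtain ⟨c, hc, -⟩ := hΓ ((η[G]).left.base
      (Classical.arbitrary (Spec (CommRingCat.of k)) : _))
    exact ⟨c, hc⟩
  obtain ⟨c₀, hc₀, hmax⟩ := Set.exists_max_image Γ (fun c => Order.height (o.base c)) hΓfin hne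
  have hspec : ∀ ξ ∈ closure O, ∃ c ∈ Γ, o.base c ⤳ ξ := by
    have hcl : IsClosed (⋃ c ∈ Γ, closure ({o.base c} : Set X.left)) :=
      hΓfin.isClosed_biUnion fun c _ => isClosed_closure
    have hsub : O ⊆ ⋃ c ∈ Γ, closure ({o.base c} : Set X.left) := by
      rintro _ ⟨g, rfl⟩
      obtain ⟨c, hc, hcg⟩ := hΓ g
      refine Set.mem_biUnion hc ?_
      exact specializes_iff_mem_closure.mp (hcg.map o.continuous)
    intro ξ hξ
    have := closure_minimal hsub hcl hξ
    obtain ⟨c, hc, hξc⟩ := Set.mem_iUnion₂.mp this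
    exact ⟨c, hc, specializes_iff_mem_closure.mpr hξc⟩
  obtain ⟨m, hm⟩ : ∃ m : ℕ, Order.height (o.base c₀) = (m : ℕ∞) :=
    ENat.ne_top_iff_exists.mp (height_lt_top k (o.base c₀)).ne |>.imp fun m hm => hm.symm
  have hlow : ((m : ℕ∞) : WithBot ℕ∞) ≤ topologicalKrullDim ↥O := by
    have hmem : o.base c₀ ∈ O := ⟨c₀, rfl⟩
    have h1 := height_le_topologicalKrullDim k U (closure O) isClosed_closure (o.base c₀)
      (hOU ▸ hmem : o.base c₀ ∈ (U : Set X.left) ∩ closure O).1 (subset_closure hmem)
    rw [hm, ← hOU] at h1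
    exact h1
  have hlt : ∀ ξ ∈ closure O \ O, Order.height ξ < (m : ℕ∞) := by
    intro ξ hξ
    obtain ⟨c, hc, hcξ⟩ := hspec ξ hξ.1
    have hne' : ξ ≠ o.base c := fun h => hξ.2 (h ▸ ⟨c, rfl⟩)
    have hle : ξ ≤ o.base c := Scheme.le_iff_specializes.mpr hcξ
    have hlt' : ξ < o.base c := by
      refine lt_of_le_not_ge hle fun hge => hne' ?_
      exact ((Scheme.le_iff_specializes.mp hle).antisymm
        (Scheme.le_iff_specializes.mp hge)).eq.symm
    calc Order.height ξ < Order.height (o.base c) :=
          Order.height_strictMono hlt' (height_lt_top k ξ)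
      _ ≤ Order.height (o.base c₀) := hmax c hc
      _ = (m : ℕ∞) := hm
  rcases (closure O \ O).eq_empty_or_nonempty with hemp | ⟨ξ₀, hξ₀⟩
  · have : IsEmpty ↥(closure O \ O) := by
      rw [hemp]
      infer_instance
    have h0 : topologicalKrullDim ↥(closure O \ O) = ⊥ := by
      unfold topologicalKrullDim
      rw [Order.krullDim_eq_bot_iff]
      exact ⟨fun W => this.false (W.2.1.nonempty).some⟩
    rw [h0]
    exact lt_of_lt_of_le (WithBot.bot_lt_coe _) hlow
  · have hm1 : 1 ≤ m := by
      have := hlt ξ₀ hξ₀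
      by_contra hcon
      have hm0 : m = 0 := by omega
      rw [hm0] at this
      exact absurd this (by simp)
    have hle : topologicalKrullDim ↥(closure O \ O) ≤ (((m - 1 : ℕ) : ℕ∞) : WithBot ℕ∞) := by
      apply topologicalKrullDim_closed_le X.left _ hDc
      intro ξ hξ
      have := hlt ξ hξ
      obtain ⟨j, hj⟩ := ENat.ne_top_iff_exists.mp (height_lt_top k ξ).ne
      rw [← hj] at this ⊢
      have hjm : j < m := by exact_mod_cast this
      exact_mod_cast (by omega : j ≤ m - 1)
    refine lt_of_le_of_lt hle (lt_of_lt_of_le ?_ hlow)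
    exact_mod_cast (by omega : m - 1 < m)

end orbit

end Groth.Agent.H37
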