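import Groth.Agent.H37.OrbitDim
import Mathlib

/-! Orbits of minimal dimension are closed. -/

set_option autoImplicit false
universe u

open Topology CategoryTheory CategoryTheory.Limits AlgebraicGeometry MonoidalCategory
  CartesianMonoidalCategory MonObj TopologicalSpace

namespace Groth.Agent.H37

section orbit

variable {k : Type u} [Field k]

/-- if `y` is a translate of `x` then the orbit of `y` is contained in the orbit of `x` -/
theorem orbitSet_subset_of_translate {G X : Over (Spec (CommRingCat.of k))} [GrpObj G]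
    (a : AlgGrp.Action G X) (x y : 𝟙_ (Over (Spec (CommRingCat.of k))) ⟶ X)
    (g : 𝟙_ (Over (Spec (CommRingCat.of k))) ⟶ G) (hg : lift g x ≫ a.act = y) :
    orbitSet a y ⊆ orbitSet a x := by
  apply orbitSet_subset_of_isInvariantSet a y (isInvariantSet_orbitSet a x)
  intro s
  refine ⟨g.left.base s, ?_⟩
  rw [← hg, ← comp_orbitMap]
  rfl

theorem orbitSet_eq_of_meet [IsAlgClosed k] {G X : Over (Spec (CommRingCat.of k))} [GrpObj G]
    [LocallyOfFiniteType G.hom]
    (a : AlgGrp.Action G X) (x y : 𝟙_ (Over (Spec (CommRingCat.of k))) ⟶ X)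
    (hmeet : (orbitSet a x ∩ orbitSet a y).Nonempty) : orbitSet a x = orbitSet a y := by
  obtain ⟨g, hg⟩ := exists_translate_of_orbits_meet a x y hmeet
  obtain ⟨g', hg'⟩ := exists_translate_of_orbits_meet a y x (by rwa [Set.inter_comm])
  exact Set.Subset.antisymm (orbitSet_subset_of_translate a y x g' hg')
    (orbitSet_subset_of_translate a x y g hg)

/-- an orbit of minimal dimension is closed -/
theorem isClosed_orbitSet_of_dim_minimal [IsAlgClosed k]
    (G X : Over (Spec (CommRingCat.of k))) [GrpObj G]
    [LocallyOfFiniteType G.hom] [QuasiCompact G.hom]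
    [LocallyOfFiniteType X.hom] [QuasiCompact X.hom] (a : AlgGrp.Action G X)
    (x : 𝟙_ (Over (Spec (CommRingCat.of k))) ⟶ X)
    (hmin : ∀ y : 𝟙_ (Over (Spec (CommRingCat.of k))) ⟶ X,
      topologicalKrullDim ↥(orbitSet a x) ≤ topologicalKrullDim ↥(orbitSet a y)) :
    IsClosed (orbitSet a x) := by
  haveI : CompactSpace X.left := QuasiCompact.compactSpace_of_compactSpace X.hom
  have hopen := isOpenMap_snd_of_field G X
  have hFi := isInvariantSet_closure a hopen (isInvariantSet_orbitSet a x)
  have hFne : (closure (orbitSet a x)).Nonempty :=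
    ⟨_, subset_closure (mem_orbitSet_self a x
      (Classical.arbitrary (Spec (CommRingCat.of k)) : _))⟩
  obtain ⟨y, hyF, hyc⟩ := exists_isClosed_orbitSet G X a (closure (orbitSet a x))
    isClosed_closure isClosed_closure.isCompact hFi hFne
  have hyO : orbitSet a y ⊆ closure (orbitSet a x) :=
    orbitSet_subset_of_isInvariantSet a y hFi hyF
  by_cases hmeet : (orbitSet a x ∩ orbitSet a y).Nonempty
  · rw [orbitSet_eq_of_meet a x y hmeet]
    exact hyc
  · exfalso
    have hsub : orbitSet a y ⊆ closure (orbitSet a x) \ orbitSet a x := by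
      intro z hz
      exact ⟨hyO hz, fun hzx => hmeet ⟨z, hzx, hz⟩⟩
    have h1 : topologicalKrullDim ↥(orbitSet a y) ≤
        topologicalKrullDim ↥(closure (orbitSet a x) \ orbitSet a x) :=
      (IsEmbedding.inclusion hsub).isInducing.topologicalKrullDim_le
    have h2 := topologicalKrullDim_boundary_lt G X a x
    exact absurd (lt_of_le_of_lt ((hmin y).trans h1) h2) (lt_irrefl _)

end orbit

end Groth.Agent.H37
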