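import Groth.Agent.H37.OrbitLib2
import Mathlib

/-! Orbits of rational points are locally closed: constructible sets contain a dense open of their
closure, the action map is open, homogeneity. -/

set_option autoImplicit false
universe u

open Topology CategoryTheory CategoryTheory.Limits AlgebraicGeometry MonoidalCategory
  CartesianMonoidalCategory MonObj

namespace Groth.Agent.H37

section topo

variable {X : Type*} [TopologicalSpace X]

/-- for a constructible set `s`, every nonempty closed set `Z` has a nonempty relatively open part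
contained in `s` or in its complement -/
theorem exists_open_dichotomy_of_isConstructible {s : Set X} (hs : IsConstructible s) :
    ∀ Z : Set X, IsClosed Z → Z.Nonempty →
      ∃ U : Set X, IsOpen U ∧ (U ∩ Z).Nonempty ∧ (U ∩ Z ⊆ s ∨ U ∩ Z ⊆ sᶜ) := by
  induction hs using IsConstructible.empty_union_induction with
  | open_retrocompact U hU _ =>
    intro Z _ hZne
    by_cases h : (U ∩ Z).Nonempty
    · exact ⟨U, hU, h, Or.inl Set.inter_subset_left⟩
    · refine ⟨Set.univ, isOpen_univ, by simpa using hZne, Or.inr ?_⟩
      intro z hz hzU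
      exact h ⟨z, hzU, hz.2⟩
  | union s _ t _ ihs iht =>
    intro Z hZ hZne
    obtain ⟨U₁, hU₁, hne₁, h₁⟩ := ihs Z hZ hZne
    rcases h₁ with h₁ | h₁
    · exact ⟨U₁, hU₁, hne₁, Or.inl (h₁.trans Set.subset_union_left)⟩
    · obtain ⟨U₂, hU₂, hne₂, h₂⟩ := iht (closure (U₁ ∩ Z)) isClosed_closure hne₁.closure
      have hne : (U₁ ∩ U₂ ∩ Z).Nonempty := by
        obtain ⟨z, hzU₂, hzcl⟩ := hne₂
        obtain ⟨w, hw₂, hw₁⟩ := mem_closure_iff.mp hzcl U₂ hU₂ hzU₂
        exact ⟨w, ⟨hw₁.1, hw₂⟩, hw₁.2⟩
      have hsub : U₁ ∩ U₂ ∩ Z ⊆ U₂ ∩ closure (U₁ ∩ Z) := by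
        intro z hz
        exact ⟨hz.1.2, subset_closure ⟨hz.1.1, hz.2⟩⟩
      refine ⟨U₁ ∩ U₂, hU₁.inter hU₂, hne, ?_⟩
      rcases h₂ with h₂ | h₂
      · exact Or.inl ((hsub.trans h₂).trans Set.subset_union_right)
      · right
        intro z hz
        rw [Set.compl_union]
        exact ⟨h₁ ⟨hz.1.1, hz.2⟩, h₂ (hsub hz)⟩
  | compl s _ ih =>
    intro Z hZ hZne
    obtain ⟨U, hU, hne, h⟩ := ih Z hZ hZne
    refine ⟨U, hU, hne, ?_⟩
    rw [compl_compl]
    exact h.symm

/-- a nonempty constructible set contains a nonempty open subset of its closure -/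
theorem exists_open_inter_closure_subset {E : Set X} (hE : IsConstructible E) (hne : E.Nonempty) :
    ∃ U : Set X, IsOpen U ∧ (U ∩ closure E).Nonempty ∧ U ∩ closure E ⊆ E := by
  obtain ⟨U, hU, hUne, h⟩ :=
    exists_open_dichotomy_of_isConstructible hE (closure E) isClosed_closure hne.closure
  refine ⟨U, hU, hUne, ?_⟩
  rcases h with h | h
  · exact h
  · exfalso
    obtain ⟨z, hzU, hzcl⟩ := hUne
    obtain ⟨w, hwU, hwE⟩ := mem_closure_iff.mp hzcl U hU hzU
    exact h ⟨hwU, subset_closure hwE⟩ hwE

end topo

section flip

variable {S : Scheme.{u}} {G X : Over S} [GrpObj G]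

/-- `g ≫ orbitMap x` for a `T`-point `g` of `G` -/
theorem comp_orbitMap' (a : AlgGrp.Action G X) (x : 𝟙_ (Over S) ⟶ X) {T : Over S} (g : T ⟶ G) :
    g ≫ a.orbitMap x = lift g (toUnit T ≫ x) ≫ a.act := by
  unfold AlgGrp.Action.orbitMap
  have h1 : g ≫ lift (𝟙 G) (toUnit G ≫ x) = lift g (toUnit T ≫ x) := by
    apply CartesianMonoidalCategory.hom_ext
    · simp
    · simp only [Category.assoc, lift_snd]
      rw [← Category.assoc, toUnit_unique (g ≫ toUnit G) (toUnit T)]
  rw [reassoc_of% h1]

/-- the involution `(g, x) ↦ (g⁻¹, g x)` of `G × X` -/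
noncomputable def actFlip (a : AlgGrp.Action G X) : G ⊗ X ⟶ G ⊗ X :=
  lift (fst G X ≫ ι[G]) a.act

theorem actFlip_snd (a : AlgGrp.Action G X) : actFlip a ≫ snd G X = a.act := by
  simp [actFlip]

theorem actFlip_fst (a : AlgGrp.Action G X) : actFlip a ≫ fst G X = fst G X ≫ ι[G] := by
  simp [actFlip]

theorem actFlip_act (a : AlgGrp.Action G X) : actFlip a ≫ a.act = snd G X := by
  have h0 : a.act = lift (fst G X) (snd G X) ≫ a.act := by simp
  have h1 : actFlip a = lift ((fst G X)⁻¹) (lift (fst G X) (snd G X) ≫ a.act) := by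
    rw [← h0, Hom.inv_def]
    rfl
  rw [h1, ← act_mul, inv_mul_cancel, act_one]

theorem actFlip_actFlip (a : AlgGrp.Action G X) : actFlip a ≫ actFlip a = 𝟙 _ := by
  apply CartesianMonoidalCategory.hom_ext
  · rw [Category.assoc, actFlip_fst, ← Category.assoc, actFlip_fst, Category.assoc,
      GrpObj.inv_comp_inv, Category.id_comp, Category.comp_id]
  · rw [Category.assoc, actFlip_snd, actFlip_act, Category.id_comp]

theorem act_base_eq (a : AlgGrp.Action G X) (p : (G ⊗ X).left) :
    a.act.left.base p = (snd G X).left.base ((actFlip a).left.base p) := by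
  have h := congrArg (fun m => m.left) (actFlip_snd a)
  simp only [Over.comp_left] at h
  exact (congr($(h).base p)).symm

theorem snd_base_eq (a : AlgGrp.Action G X) (p : (G ⊗ X).left) :
    (snd G X).left.base p = a.act.left.base ((actFlip a).left.base p) := by
  have h := congrArg (fun m => m.left) (actFlip_act a)
  simp only [Over.comp_left] at h
  exact (congr($(h).base p)).symm

theorem actFlip_base_involutive (a : AlgGrp.Action G X) (p : (G ⊗ X).left) :
    (actFlip a).left.base ((actFlip a).left.base p) = p := by
  have h := congrArg (fun m => m.left) (actFlip_actFlip a)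
  simp only [Over.comp_left, Over.id_left] at h
  exact congr($(h).base p)

/-- the action map is open as soon as the projection is -/
theorem isOpenMap_act (a : AlgGrp.Action G X) (hopen : IsOpenMap (snd G X).left.base) :
    IsOpenMap a.act.left.base := by
  intro U hU
  have h : a.act.left.base '' U = (snd G X).left.base '' ((actFlip a).left.base ⁻¹' U) := by
    ext z
    constructor
    · rintro ⟨p, hp, rfl⟩
      refine ⟨(actFlip a).left.base p, ?_, (act_base_eq a p).symm⟩
      change (actFlip a).left.base ((actFlip a).left.base p) ∈ U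
      rw [actFlip_base_involutive]
      exact hp
    · rintro ⟨p, hp, rfl⟩
      exact ⟨(actFlip a).left.base p, hp, (snd_base_eq a p).symm⟩
  rw [h]
  exact hopen _ (hU.preimage (actFlip a).left.continuous)

/-- invariant sets are also stable under "inverse translation" -/
theorem snd_mem_of_act_mem (a : AlgGrp.Action G X) {W : Set X.left}
    (hW : NRQuot.IsInvariantSet a W) (p : (G ⊗ X).left) (h : a.act.left.base p ∈ W) :
    (snd G X).left.base p ∈ W := by
  rw [snd_base_eq]
  apply hW
  rw [← act_base_eq]
  exact h

/-- the complement of an invariant set is invariant -/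
theorem isInvariantSet_compl (a : AlgGrp.Action G X) {W : Set X.left}
    (hW : NRQuot.IsInvariantSet a W) : NRQuot.IsInvariantSet a Wᶜ := by
  intro p hp hcon
  exact hp (snd_mem_of_act_mem a hW p hcon)

/-- the map `(g₁, g₂) ↦ (g₁ g₂⁻¹, g₂ x)` -/
noncomputable def orbitShear (a : AlgGrp.Action G X) (x : 𝟙_ (Over S) ⟶ X) : G ⊗ G ⟶ G ⊗ X :=
  lift (fst G G * (snd G G)⁻¹) (snd G G ≫ a.orbitMap x)

theorem orbitShear_snd (a : AlgGrp.Action G X) (x : 𝟙_ (Over S) ⟶ X) :
    orbitShear a x ≫ snd G X = snd G G ≫ a.orbitMap x := by
  simp [orbitShear]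

theorem orbitShear_act (a : AlgGrp.Action G X) (x : 𝟙_ (Over S) ⟶ X) :
    orbitShear a x ≫ a.act = fst G G ≫ a.orbitMap x := by
  unfold orbitShear
  rw [comp_orbitMap', comp_orbitMap', ← act_mul, inv_mul_cancel_right]

/-- homogeneity: an orbit which contains a nonempty open subset of its closure is open in its
closure -/
theorem isLocallyClosed_orbitSet_of (a : AlgGrp.Action G X) (x : 𝟙_ (Over S) ⟶ X)
    (hopen : IsOpenMap (snd G X).left.base)
    (hpt : ∀ g g' : G.left, ∃ r : (G ⊗ G).left,
      (fst G G).left.base r = g ∧ (snd G G).left.base r = g')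
    (U : Set X.left) (hU : IsOpen U) (hne : (U ∩ closure (orbitSet a x)).Nonempty)
    (hsub : U ∩ closure (orbitSet a x) ⊆ orbitSet a x) :
    IsLocallyClosed (orbitSet a x) := by
  have hinvO := isInvariantSet_orbitSet a x
  have hinvZ := isInvariantSet_closure a hopen hinvO
  set V : Set X.left := a.act.left.base '' ((snd G X).left.base ⁻¹' U) with hV
  have hVopen : IsOpen V := isOpenMap_act a hopen _ (hU.preimage (snd G X).left.continuous)
  have hEq : orbitSet a x = V ∩ closure (orbitSet a x) := by
    apply Set.Subset.antisymm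
    · intro z hz
      refine ⟨?_, subset_closure hz⟩
      obtain ⟨g, rfl⟩ := hz
      obtain ⟨u, hu⟩ := hne
      obtain ⟨g', hg'⟩ := hsub hu
      obtain ⟨r, hr1, hr2⟩ := hpt g g'
      refine ⟨(orbitShear a x).left.base r, ?_, ?_⟩
      · change (snd G X).left.base ((orbitShear a x).left.base r) ∈ U
        have h := congrArg (fun m => m.left) (orbitShear_snd a x)
        simp only [Over.comp_left] at h
        have h' := congr($(h).base r)
        simp only [Scheme.Hom.comp_base, TopCat.hom_comp, ContinuousMap.comp_apply] at h'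
        rw [h', hr2, hg']
        exact hu.1
      · have h := congrArg (fun m => m.left) (orbitShear_act a x)
        simp only [Over.comp_left] at h
        have h' := congr($(h).base r)
        simp only [Scheme.Hom.comp_base, TopCat.hom_comp, ContinuousMap.comp_apply] at h'
        rw [h', hr1]
    · rintro z ⟨⟨p, hp, rfl⟩, hz⟩
      apply hinvO
      apply hsub
      exact ⟨hp, snd_mem_of_act_mem a hinvZ p hz⟩
  rw [hEq]
  exact hVopen.isLocallyClosed.inter isClosed_closure.isLocallyClosed

end flip

section field

variable {k : Type u} [Field k]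

/-- over a field, any two points of `G` and `H` come from a point of `G × H` -/
theorem exists_pair_point (G H : Over (Spec (CommRingCat.of k))) (g : G.left) (h : H.left) :
    ∃ r : (G ⊗ H).left, (fst G H).left.base r = g ∧ (snd G H).left.base r = h := by
  haveI := subsingleton_spec_field (k := k)
  have hpb : IsPullback (fst G H).left (snd G H).left G.hom H.hom := by
    simpa using IsPullback.of_hasPullback G.hom H.hom
  exact exists_preimage_of_isPullback hpb g h (Subsingleton.elim _ _)

/-- over a field, the projection `G × X → X` is open for `G` locally of finite type -/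
theorem isOpenMap_snd_of_field (G X : Over (Spec (CommRingCat.of k))) [LocallyOfFiniteType G.hom] :
    IsOpenMap (snd G X).left.base := by
  haveI := subsingleton_spec_field (k := k)
  have hpb : IsPullback (fst G X).left (snd G X).left G.hom X.hom := by
    simpa using IsPullback.of_hasPullback G.hom X.hom
  haveI : UniversallyOpen G.hom := inferInstance
  haveI : UniversallyOpen (snd G X).left :=
    MorphismProperty.of_isPullback (P := @UniversallyOpen) hpb inferInstance
  exact (snd G X).left.isOpenMap

/-- orbits of rational points of finite type group actions over a field are locally closed -/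
theorem isLocallyClosed_orbitSet (G X : Over (Spec (CommRingCat.of k))) [GrpObj G]
    [LocallyOfFiniteType G.hom] [QuasiCompact G.hom]
    [LocallyOfFiniteType X.hom] [QuasiCompact X.hom] (a : AlgGrp.Action G X)
    (x : 𝟙_ (Over (Spec (CommRingCat.of k))) ⟶ X) :
    IsLocallyClosed (orbitSet a x) := by
  haveI : IsLocallyNoetherian X.left := LocallyOfFiniteType.isLocallyNoetherian X.hom
  haveI : CompactSpace X.left := QuasiCompact.compactSpace_of_compactSpace X.hom
  haveI : CompactSpace G.left := QuasiCompact.compactSpace_of_compactSpace G.hom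
  let o := (a.orbitMap x).left
  have ho : o ≫ X.hom = G.hom := Over.w (a.orbitMap x)
  haveI : LocallyOfFiniteType (o ≫ X.hom) := by rw [ho]; infer_instance
  haveI : LocallyOfFiniteType o := locallyOfFiniteType_of_comp o X.hom
  haveI : QuasiCompact (o ≫ X.hom) := by rw [ho]; infer_instance
  haveI : QuasiCompact o := QuasiCompact.of_comp o X.hom
  have hcons : IsConstructible (orbitSet a x) := by
    have h := o.isConstructible_image (s := Set.univ) IsConstructible.univ
    rwa [Set.image_univ] at h
  have hne : (orbitSet a x).Nonempty :=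
    ⟨_, mem_orbitSet_self a x (Classical.arbitrary _)⟩
  obtain ⟨U, hU, hUne, hUsub⟩ := exists_open_inter_closure_subset hcons hne
  exact isLocallyClosed_orbitSet_of a x (isOpenMap_snd_of_field G X)
    (exists_pair_point G G) U hU hUne hUsub

end field

end Groth.Agent.H37
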