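import Groth.Agent.H37.OrbitLC2
import Mathlib

/-! Unique closed orbit in the fibres of a good quotient. -/

set_option autoImplicit false
universe u

open Topology CategoryTheory CategoryTheory.Limits AlgebraicGeometry MonoidalCategory
  CartesianMonoidalCategory MonObj

namespace Groth.Agent.H37

section general

variable {S : Scheme.{u}} {G X Y : Over S} [GrpObj G]

/-- a good quotient is surjective -/
theorem surjective_of_isGoodQuot (a : AlgGrp.Action G X) (φ : X ⟶ Y)
    (h : NRQuot.IsGoodQuot a φ) : Function.Surjective φ.left.base := by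
  have h1 := h.inter PEmpty.{u + 1} (fun i => i.elim) (fun i => i.elim) (fun i => i.elim)
  simp only [Set.iInter_of_empty, Set.image_univ] at h1
  exact Set.range_eq_univ.mp h1

/-- preimages under an invariant morphism are invariant sets -/
theorem isInvariantSet_preimage (a : AlgGrp.Action G X) (φ : X ⟶ Y)
    (hinv : GIT.IsInvariant a φ) (R : Set Y.left) :
    NRQuot.IsInvariantSet a (φ.left.base ⁻¹' R) := by
  intro p hp
  have h := congrArg (fun m => m.left) hinv
  simp only [Over.comp_left] at h
  have h' := congr($(h).base p)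
  simp only [Scheme.Hom.comp_base, TopCat.hom_comp, ContinuousMap.comp_apply] at h'
  change φ.left.base (a.act.left.base p) ∈ R
  rw [h']
  exact hp

end general

section field

variable {k : Type u} [Field k]

theorem exists_unique_closed_orbit [IsAlgClosed k]
    (G X Y : Over (Spec (CommRingCat.of k))) [GrpObj G] [IsAffine G.left]
    [LocallyOfFiniteType G.hom] [LocallyOfFiniteType X.hom]
    (a : AlgGrp.Action G X) (φ : X ⟶ Y) (h : NRQuot.IsGoodQuot a φ)
    (y : 𝟙_ (Over (Spec (CommRingCat.of k))) ⟶ Y) :
    ∃ x : 𝟙_ (Over (Spec (CommRingCat.of k))) ⟶ X, x ≫ φ = y ∧ IsClosed (orbitSet a x) ∧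
      ∀ x' : 𝟙_ (Over (Spec (CommRingCat.of k))) ⟶ X, x' ≫ φ = y → IsClosed (orbitSet a x') →
        ∃ g : 𝟙_ (Over (Spec (CommRingCat.of k))) ⟶ G, lift g x ≫ a.act = x' := by
  haveI := subsingleton_spec_field (k := k)
  haveI : Subsingleton ↥(𝟙_ (Over (Spec (CommRingCat.of k)))).left :=
    subsingleton_spec_field (k := k)
  haveI : QuasiCompact G.hom := inferInstance
  let s₀ : ↥(𝟙_ (Over (Spec (CommRingCat.of k)))).left :=
    (Classical.arbitrary (Spec (CommRingCat.of k)) : _)
  let y₀ : Y.left := y.left.base s₀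
  have hrange : Set.range y.left.base = {y₀} := by
    ext z
    constructor
    · rintro ⟨s, rfl⟩
      rw [Subsingleton.elim s s₀]
      rfl
    · rintro rfl
      exact ⟨s₀, rfl⟩
  let F : Set X.left := φ.left.base ⁻¹' {y₀}
  have hFc : IsClosed F := by
    have := isClosed_range_section y
    rw [hrange] at this
    exact this.preimage φ.left.continuous
  have hFi : NRQuot.IsInvariantSet a F := isInvariantSet_preimage a φ h.inv _
  have hFne : F.Nonempty := by
    obtain ⟨z, hz⟩ := surjective_of_isGoodQuot a φ h y₀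
    exact ⟨z, hz⟩
  have hFk : IsCompact F := by
    obtain ⟨_, ⟨V, hV, rfl⟩, hyV, -⟩ := Y.left.isBasis_affineOpens.exists_subset_of_mem_open
      (Set.mem_univ y₀) isOpen_univ
    haveI := h.affine
    have hV' : IsAffineOpen (φ.left ⁻¹ᵁ V) := hV.preimage φ.left
    have hsub : F ⊆ (φ.left ⁻¹ᵁ V : Set X.left) := by
      intro z hz
      change φ.left.base z ∈ V
      rw [show φ.left.base z = y₀ from hz]
      exact hyV
    exact hV'.isCompact.of_isClosed_subset hFc hsub
  obtain ⟨x, hxF, hxc⟩ := exists_isClosed_orbitSet G X a F hFc hFk hFi hFne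
  have hxy : x ≫ φ = y := by
    apply section_ext _ _ s₀ s₀
    have := hxF s₀
    simpa [F] using this
  refine ⟨x, hxy, hxc, ?_⟩
  intro x' hx'y hx'c
  apply exists_translate_of_orbits_meet a x x'
  apply inter_nonempty_of_isGoodQuot a φ h _ _ hxc hx'c (isInvariantSet_orbitSet a x)
    (isInvariantSet_orbitSet a x') y₀
  · refine ⟨x.left.base s₀, mem_orbitSet_self a x s₀, ?_⟩
    have := congrArg (fun m => m.left.base s₀) hxy
    simpa using this
  · refine ⟨x'.left.base s₀, mem_orbitSet_self a x' s₀, ?_⟩
    have := congrArg (fun m => m.left.base s₀) hx'y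
    simpa using this

end field

end Groth.Agent.H37
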