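import Groth.Prelude.Def_W4c6nonredquotmfGoodQuot
import Mathlib

/-! Orbits of sections under a group scheme action: invariance, closures, images under invariant
morphisms. -/

set_option autoImplicit false
universe u

open CategoryTheory CategoryTheory.Limits AlgebraicGeometry MonoidalCategory
  CartesianMonoidalCategory MonObj

namespace Groth.Agent.H37

theorem exists_preimage_of_isPullback {P A B C : Scheme.{u}} {p₁ : P ⟶ A} {p₂ : P ⟶ B}
    {f : A ⟶ C} {g : B ⟶ C} (H : IsPullback p₁ p₂ f g) (x : A) (y : B) (h : f x = g y) :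
    ∃ z : P, p₁ z = x ∧ p₂ z = y := by
  obtain ⟨z', hz1, hz2⟩ := Scheme.Pullback.exists_preimage_pullback (f := f) (g := g) x y h
  refine ⟨H.isoPullback.inv z', ?_, ?_⟩
  · rw [← hz1]
    exact congr($(H.isoPullback_inv_fst) z')
  · rw [← hz2]
    exact congr($(H.isoPullback_inv_snd) z')

/-- sections of an open subscheme, pulled back along a morphism into it -/
theorem appTop_topIso_inv' {Y : Scheme.{u}} (U : Y.Opens) {Z : Scheme.{u}} (g : Z ⟶ U.toScheme)
    (t : Γ(Y, U)) {e : (⊤ : Z.Opens) ≤ (g ≫ U.ι) ⁻¹ᵁ U} :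
    g.appTop.hom (U.topIso.inv.hom t) = ((g ≫ U.ι).appLE U ⊤ e).hom t := by
  have h1 : U.ι.appLE U ⊤ (by simp) = U.topIso.inv := by
    rw [Scheme.Opens.topIso_inv]
    rw [Scheme.Hom.appLE]
    simp only [Scheme.Opens.ι_app, Scheme.Opens.toScheme_presheaf_map]
    refine (Y.presheaf.map_comp _ _).symm.trans ?_
    congr 1
  have h2 := Scheme.Hom.appLE_comp_appLE g U.ι U ⊤ ⊤ (by simp) (by simp)
  rw [h1] at h2
  have h3 : g.appLE ⊤ ⊤ (by simp) = g.appTop := by
    simp [Scheme.Hom.appLE, Scheme.Hom.appTop]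
  rw [h3] at h2
  exact congrArg (fun θ => CommRingCat.Hom.hom θ t) h2

section general

variable {S : Scheme.{u}} {G X Y : Over S} [GrpObj G]

/-- In a cartesian monoidal category, whiskering is a base change. -/
theorem isPullback_whiskerLeft_snd {C : Type*} [Category C] [CartesianMonoidalCategory C]
    (A : C) {B B' : C} (o : B ⟶ B') :
    IsPullback (A ◁ o) (snd A B) (snd A B') o := by
  refine ⟨⟨whiskerLeft_snd _ _⟩, ⟨PullbackCone.IsLimit.mk _
    (fun s => lift (s.fst ≫ fst A B') s.snd) ?_ ?_ ?_⟩⟩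
  · intro s
    apply CartesianMonoidalCategory.hom_ext
    · simp
    · simp [s.condition]
  · intro s
    simp
  · intro s m h1 h2
    apply CartesianMonoidalCategory.hom_ext
    · rw [lift_fst, ← h1, Category.assoc, whiskerLeft_fst]
    · rw [lift_snd, ← h2]

/-- `g · (g' · x) = (g g') · x` for the orbit map. -/
theorem whiskerLeft_orbitMap_act (a : AlgGrp.Action G X) (x : 𝟙_ (Over S) ⟶ X) :
    (G ◁ a.orbitMap x) ≫ a.act = μ[G] ≫ a.orbitMap x := by
  unfold AlgGrp.Action.orbitMap
  rw [MonoidalCategory.whiskerLeft_comp, Category.assoc]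
  have h1 : (G ◁ a.act) ≫ a.act = (α_ G G X).inv ≫ (μ[G] ▷ X) ≫ a.act := by
    rw [a.mul_act, Iso.inv_hom_id_assoc]
  rw [h1]
  have h2 : (G ◁ lift (𝟙 G) (toUnit G ≫ x)) ≫ (α_ G G X).inv ≫ (μ[G] ▷ X) =
      μ[G] ≫ lift (𝟙 G) (toUnit G ≫ x) := by
    have h3 : (G ◁ lift (𝟙 G) (toUnit G ≫ x)) ≫ (α_ G G X).inv ≫ fst (G ⊗ G) X = 𝟙 _ := by
      apply CartesianMonoidalCategory.hom_ext <;> simp
    apply CartesianMonoidalCategory.hom_ext
    · simp only [Category.assoc, whiskerRight_fst, lift_fst, Category.comp_id]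
      rw [reassoc_of% h3]
    · simp only [Category.assoc, whiskerRight_snd, lift_snd]
      simp
  rw [reassoc_of% h2]

/-- the orbit of a section -/
def orbitSet (a : AlgGrp.Action G X) (x : 𝟙_ (Over S) ⟶ X) : Set X.left :=
  Set.range (a.orbitMap x).left.base

theorem isInvariantSet_orbitSet (a : AlgGrp.Action G X) (x : 𝟙_ (Over S) ⟶ X) :
    NRQuot.IsInvariantSet a (orbitSet a x) := by
  intro p hp
  obtain ⟨g₀, hg₀⟩ := hp
  have H : IsPullback (G ◁ a.orbitMap x).left (snd G G).left (snd G X).left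
      (a.orbitMap x).left := (isPullback_whiskerLeft_snd G (a.orbitMap x)).map (Over.forget S)
  obtain ⟨r, hr1, hr2⟩ := exists_preimage_of_isPullback H p g₀ hg₀.symm
  refine ⟨μ[G].left.base r, ?_⟩
  have hL : (G ◁ a.orbitMap x).left ≫ a.act.left = μ[G].left ≫ (a.orbitMap x).left := by
    rw [← Over.comp_left, ← Over.comp_left, whiskerLeft_orbitMap_act]
  have := congr($(hL).base r)
  simp only [Scheme.Hom.comp_base, TopCat.hom_comp, ContinuousMap.comp_apply] at this
  rw [← this]
  exact congrArg _ hr1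

theorem isInvariantSet_closure (a : AlgGrp.Action G X) (hopen : IsOpenMap (snd G X).left.base)
    {W : Set X.left} (hW : NRQuot.IsInvariantSet a W) : NRQuot.IsInvariantSet a (closure W) := by
  intro p hp
  have h1 : p ∈ closure ((snd G X).left.base ⁻¹' W) := by
    rw [← hopen.preimage_closure_eq_closure_preimage (snd G X).left.continuous]
    exact hp
  have h2 : a.act.left.base p ∈ a.act.left.base '' closure ((snd G X).left.base ⁻¹' W) :=
    ⟨p, h1, rfl⟩
  have h3 := image_closure_subset_closure_image a.act.left.continuous h2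
  refine closure_mono ?_ h3
  rintro _ ⟨q, hq, rfl⟩
  exact hW q hq

theorem unit_orbitMap (a : AlgGrp.Action G X) (x : 𝟙_ (Over S) ⟶ X) :
    η[G] ≫ a.orbitMap x = x := by
  unfold AlgGrp.Action.orbitMap
  have h1 : η[G] ≫ lift (𝟙 G) (toUnit G ≫ x) = lift (𝟙 _) x ≫ (η[G] ▷ X) := by
    apply CartesianMonoidalCategory.hom_ext
    · simp
    · simp only [Category.assoc, lift_snd, whiskerRight_snd]
      rw [← Category.assoc, toUnit_unique (η[G] ≫ toUnit G) (𝟙 _), Category.id_comp]
  rw [reassoc_of% h1, a.one_act, leftUnitor_hom, lift_snd]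

theorem mem_orbitSet_self (a : AlgGrp.Action G X) (x : 𝟙_ (Over S) ⟶ X) (s : S) :
    x.left.base s ∈ orbitSet a x := by
  refine ⟨η[G].left.base s, ?_⟩
  have h := congrArg (fun m => m.left) (unit_orbitMap a x)
  simp only [Over.comp_left] at h
  exact congr($(h).base s)

theorem orbitMap_comp_of_invariant (a : AlgGrp.Action G X) (φ : X ⟶ Y)
    (hinv : GIT.IsInvariant a φ) (x : 𝟙_ (Over S) ⟶ X) :
    a.orbitMap x ≫ φ = toUnit G ≫ x ≫ φ := by
  unfold AlgGrp.Action.orbitMap
  rw [Category.assoc, hinv, ← Category.assoc, lift_snd, Category.assoc]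

theorem map_orbitSet_of_invariant (a : AlgGrp.Action G X) (φ : X ⟶ Y)
    (hinv : GIT.IsInvariant a φ) (x : 𝟙_ (Over S) ⟶ X) (z : X.left) (hz : z ∈ orbitSet a x) :
    φ.left.base z ∈ Set.range (x ≫ φ).left.base := by
  obtain ⟨g, rfl⟩ := hz
  refine ⟨G.hom.base g, ?_⟩
  have h := congrArg (fun m => m.left) (orbitMap_comp_of_invariant a φ hinv x)
  simp only [Over.comp_left] at h
  exact (congr($(h).base g)).symm

end general

section sections

/-- Two sections of a morphism to a "one-point field-like" affine scheme with the same image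
point are equal. -/
theorem hom_ext_of_section_of_apply_eq {T Y : Scheme.{u}} [Subsingleton T] [IsAffine T]
    (hfield : ∀ s : Γ(T, ⊤), s ≠ 0 → IsUnit s) (h : Y ⟶ T) (f g : T ⟶ Y)
    (hf : f ≫ h = 𝟙 T) (hg : g ≫ h = 𝟙 T) (t : T) (H : f t = g t) : f = g := by
  -- an affine open neighbourhood of the common image point
  obtain ⟨W, hW, hzW⟩ : ∃ W : Y.Opens, IsAffineOpen W ∧ f t ∈ W := by
    obtain ⟨_, ⟨W, hW, rfl⟩, hzW, -⟩ := Y.isBasis_affineOpens.exists_subset_of_mem_open
      (Set.mem_univ (f t)) isOpen_univ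
    exact ⟨W, hW, hzW⟩
  have hfW : (⊤ : T.Opens) ≤ f ⁻¹ᵁ W := by
    intro t' _
    rw [Subsingleton.elim t' t]; exact hzW
  have hgW : (⊤ : T.Opens) ≤ g ⁻¹ᵁ W := by
    intro t' _
    rw [Subsingleton.elim t' t]
    change g t ∈ W
    rw [← H]; exact hzW
  let ef := f.appLE W ⊤ hfW
  let eg := g.appLE W ⊤ hgW
  let jj := h.appLE ⊤ W le_top
  have hιf : jj ≫ ef = 𝟙 _ := by
    have := Scheme.Hom.appLE_comp_appLE f h ⊤ W ⊤ le_top hfW
    rw [this]
    have h2 : (f ≫ h).appLE ⊤ ⊤ (hfW.trans (f.preimage_mono le_top)) =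
        (𝟙 T : T ⟶ T).appLE ⊤ ⊤ le_top := by
      congr 1
    rw [h2]
    simp [Scheme.Hom.appLE]
  have hιg : jj ≫ eg = 𝟙 _ := by
    have := Scheme.Hom.appLE_comp_appLE g h ⊤ W ⊤ le_top hgW
    rw [this]
    have h2 : (g ≫ h).appLE ⊤ ⊤ (hgW.trans (g.preimage_mono le_top)) =
        (𝟙 T : T ⟶ T).appLE ⊤ ⊤ le_top := by
      congr 1
    rw [h2]
    simp [Scheme.Hom.appLE]
  -- vanishing is detected on the image point
  have hzero : ∀ (s : Γ(T, ⊤)), s = 0 ↔ t ∉ T.basicOpen s := by
    intro s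
    constructor
    · rintro rfl
      rw [Scheme.basicOpen_zero]; exact fun h => h
    · intro hs
      by_contra hne
      have := hfield s hne
      rw [Scheme.basicOpen_of_isUnit _ this] at hs
      exact hs trivial
  have hker : ∀ r : Γ(Y, W), ef.hom r = 0 ↔ eg.hom r = 0 := by
    intro r
    rw [hzero, hzero, Scheme.basicOpen_appLE, Scheme.basicOpen_appLE]
    constructor
    · intro h1 h2
      apply h1
      refine ⟨trivial, ?_⟩
      change f t ∈ Y.basicOpen r
      rw [H]; exact h2.2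
    · intro h1 h2
      apply h1
      refine ⟨trivial, ?_⟩
      change g t ∈ Y.basicOpen r
      rw [← H]; exact h2.2
  have heq : ef = eg := by
    ext r
    have h1 : eg.hom (r - jj.hom (eg.hom r)) = 0 := by
      rw [map_sub]
      have := congrArg (fun θ => CommRingCat.Hom.hom θ (eg.hom r)) hιg
      simp only [CommRingCat.hom_comp, RingHom.coe_comp, Function.comp_apply,
        CommRingCat.hom_id, RingHom.id_apply] at this
      rw [this, sub_self]
    have h2 := (hker _).mpr h1
    rw [map_sub] at h2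
    have := congrArg (fun θ => CommRingCat.Hom.hom θ (eg.hom r)) hιf
    simp only [CommRingCat.hom_comp, RingHom.coe_comp, Function.comp_apply,
      CommRingCat.hom_id, RingHom.id_apply] at this
    rw [this] at h2
    exact sub_eq_zero.mp h2
  -- lift through the affine open
  have hrf : Set.range f.base ⊆ Set.range W.ι.base := by
    rintro _ ⟨t', rfl⟩
    rw [Scheme.Opens.range_ι]
    exact hfW (Set.mem_univ t')
  have hrg : Set.range g.base ⊆ Set.range W.ι.base := by
    rintro _ ⟨t', rfl⟩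
    rw [Scheme.Opens.range_ι]
    exact hgW (Set.mem_univ t')
  let lf := IsOpenImmersion.lift W.ι f hrf
  let lg := IsOpenImmersion.lift W.ι g hrg
  have hlf : lf ≫ W.ι = f := IsOpenImmersion.lift_fac _ _ _
  have hlg : lg ≫ W.ι = g := IsOpenImmersion.lift_fac _ _ _
  haveI : IsAffine W.toScheme := hW
  have hl : lf = lg := by
    apply ext_of_isAffine
    ext s
    obtain ⟨r, rfl⟩ : ∃ r, W.topIso.inv.hom r = s :=
      ⟨W.topIso.hom.hom s, by
        change (W.topIso.hom ≫ W.topIso.inv).hom s = s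
        rw [Iso.hom_inv_id]; rfl⟩
    have e1 := appTop_topIso_inv' W lf r (e := by rw [hlf]; exact hfW)
    have e2 := appTop_topIso_inv' W lg r (e := by rw [hlg]; exact hgW)
    have e3 : (lf ≫ W.ι).appLE W ⊤ (by rw [hlf]; exact hfW) = ef := by
      congr 1
    have e4 : (lg ≫ W.ι).appLE W ⊤ (by rw [hlg]; exact hgW) = eg := by
      congr 1
    rw [e3] at e1
    rw [e4] at e2
    change lf.appTop.hom _ = lg.appTop.hom _
    rw [e1, e2, heq]
  rw [← hlf, ← hlg, hl]

end sections

section field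

variable {k : Type u} [Field k]

theorem subsingleton_spec_field : Subsingleton (Spec (CommRingCat.of k)) :=
  inferInstanceAs (Subsingleton (PrimeSpectrum k))

theorem isUnit_of_ne_zero_gamma_spec_field (s : Γ(Spec (CommRingCat.of k), ⊤)) (hs : s ≠ 0) :
    IsUnit s := by
  let e := (Scheme.ΓSpecIso (CommRingCat.of k)).commRingCatIsoToRingEquiv
  have h1 : e s ≠ 0 := fun h => hs (e.injective (by rw [h, map_zero]))
  have h2 : IsUnit (e s) := IsUnit.mk0 _ h1
  have h3 := h2.map e.symm
  simpa using h3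

theorem section_ext {Y : Over (Spec (CommRingCat.of k))}
    (y₁ y₂ : 𝟙_ (Over (Spec (CommRingCat.of k))) ⟶ Y) (s t : Spec (CommRingCat.of k))
    (h : y₁.left.base s = y₂.left.base t) : y₁ = y₂ := by
  haveI := subsingleton_spec_field (k := k)
  apply Over.OverMorphism.ext
  refine hom_ext_of_section_of_apply_eq isUnit_of_ne_zero_gamma_spec_field Y.hom y₁.left y₂.left
    (Over.w y₁) (Over.w y₂) s ?_
  rw [Subsingleton.elim t s] at h
  exact h

theorem isClosed_range_section {Y : Over (Spec (CommRingCat.of k))}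
    (y : 𝟙_ (Over (Spec (CommRingCat.of k))) ⟶ Y) : IsClosed (Set.range y.left.base) := by
  haveI := subsingleton_spec_field (k := k)
  haveI : IsClosedImmersion y.left := isClosedImmersion_of_comp_eq_id Y.hom y.left (Over.w y)
  exact y.left.isClosedEmbedding.isClosed_range

end field

end Groth.Agent.H37
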