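import Groth.Agent.H37.OrbitLib
import Mathlib

/-! `T`-point calculus for group scheme actions, rational points of orbits. -/

set_option autoImplicit false
universe u

open CategoryTheory CategoryTheory.Limits AlgebraicGeometry MonoidalCategory
  CartesianMonoidalCategory MonObj

namespace Groth.Agent.H37

section tpoints

variable {S : Scheme.{u}} {G X : Over S} [GrpObj G]

theorem act_mul (a : AlgGrp.Action G X) {T : Over S} (g h : T ⟶ G) (x : T ⟶ X) :
    lift (g * h) x ≫ a.act = lift g (lift h x ≫ a.act) ≫ a.act := by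
  rw [Hom.mul_def]
  have h1 : lift (lift g h ≫ μ[G]) x = lift (lift g h) x ≫ (μ[G] ▷ X) := by
    apply CartesianMonoidalCategory.hom_ext <;> simp
  have h2 : lift g (lift h x ≫ a.act) = lift (lift g h) x ≫ (α_ G G X).hom ≫ (G ◁ a.act) := by
    apply CartesianMonoidalCategory.hom_ext <;> simp
  rw [h1, h2, Category.assoc, a.mul_act, Category.assoc, Category.assoc]

theorem act_one (a : AlgGrp.Action G X) {T : Over S} (x : T ⟶ X) :
    lift (1 : T ⟶ G) x ≫ a.act = x := by
  rw [Hom.one_def]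
  have h1 : lift (toUnit T ≫ η[G]) x = lift (toUnit T) x ≫ (η[G] ▷ X) := by
    apply CartesianMonoidalCategory.hom_ext <;> simp
  rw [h1, Category.assoc, a.one_act, leftUnitor_hom, lift_snd]

theorem comp_orbitMap (a : AlgGrp.Action G X) (x : 𝟙_ (Over S) ⟶ X) (c : 𝟙_ (Over S) ⟶ G) :
    c ≫ a.orbitMap x = lift c x ≫ a.act := by
  unfold AlgGrp.Action.orbitMap
  have h1 : c ≫ lift (𝟙 G) (toUnit G ≫ x) = lift c x := by
    apply CartesianMonoidalCategory.hom_ext
    · simp
    · simp only [Category.assoc, lift_snd]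
      rw [← Category.assoc, toUnit_unique (c ≫ toUnit G) (𝟙 _), Category.id_comp]
  rw [reassoc_of% h1]

/-- if two rational points of `G` move `x₁` and `x₂` to the same point, `x₂` is a translate of
`x₁` -/
theorem exists_act_eq_of_act_eq (a : AlgGrp.Action G X) {T : Over S} (x₁ x₂ : T ⟶ X)
    (c₁ c₂ : T ⟶ G) (h : lift c₁ x₁ ≫ a.act = lift c₂ x₂ ≫ a.act) :
    ∃ g : T ⟶ G, lift g x₁ ≫ a.act = x₂ := by
  refine ⟨c₂⁻¹ * c₁, ?_⟩
  rw [act_mul, h, ← act_mul, inv_mul_cancel, act_one]

end tpoints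

section good

variable {S : Scheme.{u}} {G X Y : Over S} [GrpObj G]

/-- Two closed invariant subsets whose images under a good quotient share a point meet. -/
theorem inter_nonempty_of_isGoodQuot (a : AlgGrp.Action G X) (φ : X ⟶ Y)
    (h : NRQuot.IsGoodQuot a φ) (W₁ W₂ : Set X.left) (hc₁ : IsClosed W₁) (hc₂ : IsClosed W₂)
    (hi₁ : NRQuot.IsInvariantSet a W₁) (hi₂ : NRQuot.IsInvariantSet a W₂) (y : Y.left)
    (hy₁ : y ∈ φ.left.base '' W₁) (hy₂ : y ∈ φ.left.base '' W₂) : (W₁ ∩ W₂).Nonempty := by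
  let Wfam : ULift.{u} Bool → Set X.left := fun j => if j.down then W₁ else W₂
  have hcl : ∀ j, IsClosed (Wfam j) := by
    intro j
    by_cases hj : j.down
    · simp only [Wfam, hj]; exact hc₁
    · simp only [Wfam, hj]; exact hc₂
  have hinvW : ∀ j, NRQuot.IsInvariantSet a (Wfam j) := by
    intro j
    by_cases hj : j.down
    · simp only [Wfam, hj]; exact hi₁
    · simp only [Wfam, hj]; exact hi₂
  have hint := h.inter (ULift.{u} Bool) Wfam hcl hinvW
  have hmem : y ∈ ⋂ j, φ.left.base '' Wfam j := by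
    rw [Set.mem_iInter]
    intro j
    by_cases hj : j.down
    · simp only [Wfam, hj]; exact hy₁
    · simp only [Wfam, hj]; exact hy₂
  rw [← hint] at hmem
  obtain ⟨z, hz, -⟩ := hmem
  rw [Set.mem_iInter] at hz
  refine ⟨z, ?_, ?_⟩
  · have := hz ⟨true⟩
    simpa [Wfam] using this
  · have := hz ⟨false⟩
    simpa [Wfam] using this

end good

section field

variable {k : Type u} [Field k]

/-- a nonempty scheme locally of finite type over an algebraically closed field has a rational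
point -/
theorem exists_section_of_nonempty {E : Scheme.{u}} (e : E ⟶ Spec (CommRingCat.of k))
    [IsAlgClosed k] [LocallyOfFiniteType e] [Nonempty E] :
    ∃ p : Spec (CommRingCat.of k) ⟶ E, p ≫ e = 𝟙 _ := by
  haveI : JacobsonSpace E := LocallyOfFiniteType.jacobsonSpace e
  have hne : (closedPoints E).Nonempty := by
    by_contra hcon
    rw [Set.not_nonempty_iff_eq_empty] at hcon
    have := closure_closedPoints (X := E)
    rw [hcon, closure_empty] at this
    exact Set.empty_ne_univ this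
  obtain ⟨c, hc⟩ := hne
  exact ⟨pointOfClosedPoint e c hc, pointOfClosedPoint_comp e c hc⟩

/-- If the orbits of two rational points meet, the points are translates of each other by a
rational point of `G`. -/
theorem exists_translate_of_orbits_meet [IsAlgClosed k]
    {G X : Over (Spec (CommRingCat.of k))} [GrpObj G] [LocallyOfFiniteType G.hom]
    (a : AlgGrp.Action G X) (x₁ x₂ : 𝟙_ (Over (Spec (CommRingCat.of k))) ⟶ X)
    (hmeet : (orbitSet a x₁ ∩ orbitSet a x₂).Nonempty) :
    ∃ g : 𝟙_ (Over (Spec (CommRingCat.of k))) ⟶ G, lift g x₁ ≫ a.act = x₂ := by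
  obtain ⟨z, ⟨g₁, hg₁⟩, ⟨g₂, hg₂⟩⟩ := hmeet
  let o₁ := (a.orbitMap x₁).left
  let o₂ := (a.orbitMap x₂).left
  obtain ⟨w, -, -⟩ := Scheme.Pullback.exists_preimage_pullback (f := o₁) (g := o₂) g₁ g₂
    (hg₁.trans hg₂.symm)
  haveI : Nonempty ↥(pullback o₁ o₂) := ⟨w⟩
  haveI : LocallyOfFiniteType (o₂ ≫ X.hom) := by
    rw [Over.w (a.orbitMap x₂)]; infer_instance
  haveI : LocallyOfFiniteType o₂ := locallyOfFiniteType_of_comp o₂ X.hom
  obtain ⟨p, hp⟩ := exists_section_of_nonempty (pullback.fst o₁ o₂ ≫ G.hom)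
  have hsnd : pullback.snd o₁ o₂ ≫ G.hom = pullback.fst o₁ o₂ ≫ G.hom := by
    have e1 : o₁ ≫ X.hom = G.hom := Over.w (a.orbitMap x₁)
    have e2 : o₂ ≫ X.hom = G.hom := Over.w (a.orbitMap x₂)
    calc pullback.snd o₁ o₂ ≫ G.hom = (pullback.snd o₁ o₂ ≫ o₂) ≫ X.hom := by
          rw [Category.assoc, e2]
      _ = (pullback.fst o₁ o₂ ≫ o₁) ≫ X.hom := by rw [pullback.condition]
      _ = pullback.fst o₁ o₂ ≫ G.hom := by rw [Category.assoc, e1]
  let c₁ : 𝟙_ (Over (Spec (CommRingCat.of k))) ⟶ G :=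
    Over.homMk (p ≫ pullback.fst o₁ o₂) (by rw [Category.assoc]; exact hp)
  let c₂ : 𝟙_ (Over (Spec (CommRingCat.of k))) ⟶ G :=
    Over.homMk (p ≫ pullback.snd o₁ o₂) (by rw [Category.assoc, hsnd]; exact hp)
  have hc : c₁ ≫ a.orbitMap x₁ = c₂ ≫ a.orbitMap x₂ := by
    apply Over.OverMorphism.ext
    simp only [Over.comp_left, c₁, c₂, Over.homMk_left, Category.assoc]
    rw [pullback.condition]
  rw [comp_orbitMap, comp_orbitMap] at hc
  exact exists_act_eq_of_act_eq a x₁ x₂ c₁ c₂ hc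

end field

end Groth.Agent.H37
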