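import Mathlib
import Groth.Agent.S7409
import Groth.Agent.H48.ProjSpace
import Groth.Agent.H97.ProjProper
import Groth.Agent.H12.RedClosure

/-!
# Extending a proper surjective morphism over an affine open, up to refinement (helper37)

`PhExt.exists_proper_extension`: for an open immersion `ι : V ⟶ U` with `V` affine and a proper
surjective `g : W ⟶ V` there is a proper surjective `p : Z ⟶ U` and a morphism
`r : p⁻¹(ι V) ⟶ W` over `U`.  (Chow's lemma for `g`, closure in `P^n_U`, reduced structure.)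
-/

set_option autoImplicit false
universe u
open CategoryTheory CategoryTheory.Limits AlgebraicGeometry TopologicalSpace

namespace Groth.Agent.H37.PhExt

/-- for an open embedding `e` and a closed set `B`, `closure (e '' B) ∩ range e = e '' B`. -/
theorem closure_image_inter_range {α β : Type*} [TopologicalSpace α] [TopologicalSpace β]
    {e : α → β} (he : Topology.IsOpenEmbedding e) {B : Set α} (hB : IsClosed B) :
    closure (e '' B) ∩ Set.range e = e '' B := by
  apply Set.Subset.antisymm
  · rintro _ ⟨hy, ⟨x, rfl⟩⟩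
    refine ⟨x, ?_, rfl⟩
    have h1 : x ∈ closure B := by
      rw [he.isEmbedding.closure_eq_preimage_closure_image]
      exact hy
    rwa [hB.closure_eq] at h1
  · rintro _ ⟨x, hx, rfl⟩
    exact ⟨subset_closure ⟨x, hx, rfl⟩, ⟨x, rfl⟩⟩

set_option backward.isDefEq.respectTransparency false in
theorem exists_proper_extension {U V W : Scheme.{u}} (ι : V ⟶ U) [IsOpenImmersion ι] [IsAffine V]
    (g : W ⟶ V) [IsProper g] [Surjective g] :
    ∃ (Z : Scheme.{u}) (p : Z ⟶ U) (r : (p ⁻¹ᵁ ι.opensRange : Scheme.{u}) ⟶ W),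
      IsProper p ∧ Surjective p ∧ r ≫ g ≫ ι = (p ⁻¹ᵁ ι.opensRange).ι ≫ p := by
  obtain ⟨n, W', π, k, hk, hkπ, hπ, hπs⟩ := Groth.Agent.S7409.result g
  let tV := CohB1.ProjSpaceOver.toBase n V
  let tU := CohB1.ProjSpaceOver.toBase n U
  haveI : IsProper tV := Groth.Agent.H97.ProjProper.isProper_toBase n V
  haveI : IsProper tU := Groth.Agent.H97.ProjProper.isProper_toBase n U
  haveI : IsProper (k ≫ tV) := by
    have : k ≫ tV = π ≫ g := hkπ
    rw [this]; infer_instance
  haveI : IsProper k := IsProper.of_comp k tV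
  haveI : IsClosedImmersion k :=
    IsClosedImmersion.of_isPreimmersion k k.isClosedMap.isClosed_range
  let m := Groth.Agent.H48.projSpaceOverMap n ι
  have hm : IsPullback m tV tU ι := Groth.Agent.H48.isPullback_projSpaceOverMap n ι
  haveI : IsOpenImmersion m := MorphismProperty.of_isPullback (P := @IsOpenImmersion) hm.flip
    inferInstance
  have hrm : Set.range m.base = tU.base ⁻¹' (Set.range ι.base) := by
    ext y
    constructor
    · rintro ⟨x, rfl⟩
      refine ⟨tV.base x, ?_⟩
      rw [← Scheme.Hom.comp_apply, ← hm.w]; rfl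
    · rintro ⟨v, hv⟩
      obtain ⟨x, hx1, hx2⟩ := Scheme.Pullback.exists_preimage_pullback y v hv.symm
      refine ⟨hm.isoPullback.inv x, ?_⟩
      rw [← Scheme.Hom.comp_apply, hm.isoPullback_inv_fst]
      exact hx1
  -- the closed set
  let B : Set (CohB1.ProjSpaceOver n V) := Set.range k.base
  have hB : IsClosed B := k.isClosedEmbedding.isClosed_range
  let A : Set (CohB1.ProjSpaceOver n U) :=
    closure (m.base '' B) ∪ tU.base ⁻¹' (Set.range ι.base)ᶜ
  have hA : IsClosed A :=
    isClosed_closure.union ((ι.isOpenEmbedding.isOpen_range.isClosed_compl).preimage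
      tU.continuous)
  let T : Closeds (CohB1.ProjSpaceOver n U) := ⟨A, hA⟩
  let I := Scheme.IdealSheafData.vanishingIdeal T
  let Z := I.subscheme
  let s : Z ⟶ CohB1.ProjSpaceOver n U := I.subschemeι
  haveI : IsReduced Z := Groth.Agent.H22.isReduced_subscheme_vanishingIdeal T
  have hrs : Set.range s.base = A := by
    rw [Scheme.IdealSheafData.range_subschemeι]; rfl
  let p : Z ⟶ U := s ≫ tU
  haveI : IsProper p := inferInstanceAs (IsProper (s ≫ tU))
  -- `A ∩ range m = m '' B`
  have hAm : A ∩ Set.range m.base = m.base '' B := by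
    have h1 := closure_image_inter_range m.isOpenEmbedding hB
    apply Set.Subset.antisymm
    · rintro y ⟨hy | hy, hy2⟩
      · exact h1 ▸ ⟨hy, hy2⟩
      · exfalso
        rw [hrm] at hy2
        exact hy hy2
    · intro y hy
      have := h1.symm ▸ hy
      exact ⟨Or.inl this.1, this.2⟩
  -- surjectivity
  haveI : Surjective p := by
    constructor
    intro u
    by_cases hu : u ∈ Set.range ι.base
    · obtain ⟨v, rfl⟩ := hu
      obtain ⟨w, rfl⟩ := g.surjective v
      obtain ⟨w', rfl⟩ := π.surjective w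
      have hmem : m.base (k.base w') ∈ A := Or.inl (subset_closure ⟨k.base w', ⟨w', rfl⟩, rfl⟩)
      rw [← hrs] at hmem
      obtain ⟨z, hz⟩ := hmem
      refine ⟨z, ?_⟩
      change tU.base (s.base z) = _
      rw [hz]
      have e0 : k ≫ tV = π ≫ g := hkπ
      have e1 : (k ≫ m ≫ tU) = (π ≫ g ≫ ι) := by
        rw [hm.w, ← Category.assoc, e0, Category.assoc]
      exact congrArg (fun (φ : W' ⟶ U) => φ.base w') e1
    · obtain ⟨y, hy⟩ := Groth.Agent.H97.ProjProper.toBase_surjective n U u
      have hmem : y ∈ A := Or.inr (by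
        change tU.base y ∈ (Set.range ι.base)ᶜ
        rw [show tU.base y = u from hy]; exact hu)
      rw [← hrs] at hmem
      obtain ⟨z, hz⟩ := hmem
      refine ⟨z, ?_⟩
      change tU.base (s.base z) = _
      rw [hz]; exact hy
  -- the open part
  let O : Z.Opens := p ⁻¹ᵁ ι.opensRange
  have hOm : ∀ z : O, s.base z.1 ∈ Set.range m.base := by
    intro z
    rw [hrm]
    exact z.2
  let ρ : (O : Scheme.{u}) ⟶ CohB1.ProjSpaceOver n V :=
    IsOpenImmersion.lift m (O.ι ≫ s) (by
      rintro _ ⟨z, rfl⟩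
      exact hOm z)
  have hρ : ρ ≫ m = O.ι ≫ s := IsOpenImmersion.lift_fac _ _ _
  have hρB : Set.range ρ.base ⊆ B := by
    rintro _ ⟨z, rfl⟩
    have h1 : m.base (ρ.base z) = s.base z.1 := by
      have := congrArg (fun (φ : (O : Scheme.{u}) ⟶ CohB1.ProjSpaceOver n U) => φ.base z) hρ
      exact this
    have h2 : m.base (ρ.base z) ∈ A ∩ Set.range m.base :=
      ⟨by rw [h1, ← hrs]; exact ⟨z.1, rfl⟩, ⟨_, rfl⟩⟩
    rw [hAm] at h2
    obtain ⟨b, hb, hb2⟩ := h2
    rwa [← m.isOpenEmbedding.injective hb2]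
  have hker : k.ker ≤ ρ.ker := by
    rw [Groth.Agent.H12.RedClosure.ker_eq_vanishingIdeal ρ,
      ← Scheme.IdealSheafData.le_support_iff_le_vanishingIdeal]
    intro y hy
    have hy' : y ∈ closure (Set.range ρ.base) := hy
    have h1 : closure (Set.range ρ.base) ⊆ B := (closure_minimal hρB hB)
    have h2 : (k.ker.support : Set _) = closure (Set.range k.base) := by
      rw [Scheme.Hom.support_ker]
    change y ∈ (k.ker.support : Set _)
    rw [h2, hB.closure_eq]
    exact h1 hy'
  let l : (O : Scheme.{u}) ⟶ W' := IsClosedImmersion.lift k ρ hker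
  have hl : l ≫ k = ρ := IsClosedImmersion.lift_fac _ _ _
  refine ⟨Z, p, l ≫ π, inferInstance, inferInstance, ?_⟩
  have e1 : k ≫ tV = π ≫ g := hkπ
  calc (l ≫ π) ≫ g ≫ ι = l ≫ (π ≫ g) ≫ ι := by simp only [Category.assoc]
    _ = l ≫ (k ≫ tV) ≫ ι := by rw [e1]
    _ = (l ≫ k) ≫ tV ≫ ι := by simp only [Category.assoc]
    _ = ρ ≫ m ≫ tU := by rw [hl, hm.w]
    _ = (ρ ≫ m) ≫ tU := by simp only [Category.assoc]
    _ = O.ι ≫ p := by rw [hρ, Category.assoc]

end Groth.Agent.H37.PhExt
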