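import Mathlib
import Groth.Prelude.Def_HTop
import Groth.Agent.H37.PhExt

/-!
# Standard ph coverings: refinement lemmas (helper37)
-/

set_option autoImplicit false
universe w w' u
open CategoryTheory CategoryTheory.Limits AlgebraicGeometry TopologicalSpace

namespace Groth.Agent.H37.PhCover

/-- **Core**: a proper surjective `q : Q ⟶ T` onto an affine scheme, such that `Q` is covered by
open immersions `a : N ⟶ Q` each of which maps into a member of a family `𝒢` over `T`, gives a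
standard ph covering refining `𝒢`. -/
theorem exists_standardPh_of_local {T Q : Scheme.{u}} [IsAffine T] (q : Q ⟶ T) [IsProper q]
    [Surjective q] (𝒢 : PreZeroHypercover.{w'} T)
    (hloc : ∀ x : Q, ∃ (N : Scheme.{u}) (a : N ⟶ Q), IsOpenImmersion a ∧ x ∈ Set.range a.base ∧
      ∃ (i : 𝒢.I₀) (h : N ⟶ 𝒢.X i), h ≫ 𝒢.f i = a ≫ q) :
    ∃ F' : PreZeroHypercover.{0} T, HTop.IsStandardPh F' ∧ Nonempty (F'.Hom 𝒢) := by
  classical
  haveI : CompactSpace Q := QuasiCompact.compactSpace_of_compactSpace q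
  -- affine refinement of the local data
  have hloc' : ∀ x : Q, ∃ (M : Scheme.{u}) (b : M ⟶ Q), IsAffine M ∧ IsOpenImmersion b ∧
      x ∈ Set.range b.base ∧ ∃ (i : 𝒢.I₀) (h : M ⟶ 𝒢.X i), h ≫ 𝒢.f i = b ≫ q := by
    intro x
    obtain ⟨N, a, ha, ⟨y, hy⟩, i, h, hh⟩ := hloc x
    obtain ⟨_, ⟨M, hM, rfl⟩, hyM, -⟩ :=
      N.isBasis_affineOpens.exists_subset_of_mem_open (Set.mem_univ y) isOpen_univ
    let M' : N.Opens := M
    refine ⟨M', M'.ι ≫ a, hM, inferInstance, ⟨⟨y, hyM⟩, ?_⟩, i, M'.ι ≫ h, ?_⟩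
    · rw [← hy]; rfl
    · rw [Category.assoc, hh, Category.assoc]
  choose M b hMaff hb hxb i h hh using hloc'
  obtain ⟨K, hK⟩ : ∃ K : Finset Q, (Set.univ : Set Q) ⊆ ⋃ x ∈ K, Set.range (b x).base :=
    isCompact_univ.elim_finite_subcover (fun x => Set.range (b x).base)
      (fun x => (b x).isOpenEmbedding.isOpen_range) (fun x _ => Set.mem_iUnion.mpr ⟨x, hxb x⟩)
  let e : K ≃ Fin (Fintype.card K) := Fintype.equivFin K
  let F' : PreZeroHypercover.{0} T :=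
    { I₀ := Fin (Fintype.card K)
      X := fun n => M (e.symm n).1
      f := fun n => b (e.symm n).1 ≫ q }
  refine ⟨F', ⟨inferInstance, inferInstanceAs (Finite (Fin _)), fun n => hMaff _,
    ⟨Q, q, fun n => b (e.symm n).1, inferInstance, inferInstance, fun n => hb _, fun n => rfl,
      ?_⟩⟩, ⟨⟨fun n => i (e.symm n).1, fun n => h (e.symm n).1, fun n => hh _⟩⟩⟩
  intro x
  have hx := hK (Set.mem_univ x)
  simp only [Set.mem_iUnion] at hx
  obtain ⟨y, hy, hxy⟩ := hx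
  refine ⟨e ⟨y, hy⟩, ?_⟩
  change x ∈ Set.range (b (e.symm (e ⟨y, hy⟩)).1).base
  rw [e.symm_apply_apply]
  exact hxy

/-- transport of local lifting data along a morphism `c : Q' ⟶ Q`. -/
theorem exists_lift_comp {Q Q' U W : Scheme.{u}} (c : Q' ⟶ Q) (pQ : Q ⟶ U) (R : U.Opens)
    (d : W ⟶ U) (r : (pQ ⁻¹ᵁ R : Scheme.{u}) ⟶ W) (hr : r ≫ d = (pQ ⁻¹ᵁ R).ι ≫ pQ) :
    ∃ r' : ((c ≫ pQ) ⁻¹ᵁ R : Scheme.{u}) ⟶ W, r' ≫ d = ((c ≫ pQ) ⁻¹ᵁ R).ι ≫ c ≫ pQ := by
  have hle : (c ≫ pQ) ⁻¹ᵁ R ≤ c ⁻¹ᵁ (pQ ⁻¹ᵁ R) := by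
    rw [Scheme.Hom.comp_preimage]
  refine ⟨c.resLE _ _ hle ≫ r, ?_⟩
  rw [Category.assoc, hr, Scheme.Hom.resLE_comp_ι_assoc]


/-- finitely many proper surjective morphisms over affine opens of `U` are dominated, over these
opens, by a single proper surjective `Q ⟶ U`. -/
theorem exists_common_extension {U : Scheme.{u}} {J : Type w} [Finite J]
    (V W : J → Scheme.{u}) (ι : ∀ j, V j ⟶ U) [∀ j, IsOpenImmersion (ι j)] [∀ j, IsAffine (V j)]
    (g : ∀ j, W j ⟶ V j) [∀ j, IsProper (g j)] [∀ j, Surjective (g j)] :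
    ∃ (Q : Scheme.{u}) (pQ : Q ⟶ U), IsProper pQ ∧ Surjective pQ ∧
      ∀ j, ∃ r : (pQ ⁻¹ᵁ (ι j).opensRange : Scheme.{u}) ⟶ W j,
        r ≫ g j ≫ ι j = (pQ ⁻¹ᵁ (ι j).opensRange).ι ≫ pQ := by
  classical
  haveI := Fintype.ofFinite J
  suffices H : ∀ S : Finset J, ∃ (Q : Scheme.{u}) (pQ : Q ⟶ U), IsProper pQ ∧ Surjective pQ ∧
      ∀ j ∈ S, ∃ r : (pQ ⁻¹ᵁ (ι j).opensRange : Scheme.{u}) ⟶ W j,
        r ≫ g j ≫ ι j = (pQ ⁻¹ᵁ (ι j).opensRange).ι ≫ pQ by
    obtain ⟨Q, pQ, h1, h2, h3⟩ := H Finset.univ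
    exact ⟨Q, pQ, h1, h2, fun j => h3 j (Finset.mem_univ j)⟩
  intro S
  induction S using Finset.induction_on with
  | empty =>
    exact ⟨U, 𝟙 U, inferInstance, inferInstance, fun j hj => absurd hj (Finset.notMem_empty j)⟩
  | insert j₀ S hj₀ ih =>
    obtain ⟨Q, pQ, hpQ, hpQs, hr⟩ := ih
    obtain ⟨Z, p, r₀, hp, hps, hr₀⟩ := PhExt.exists_proper_extension (ι j₀) (g j₀)
    have hcond : pullback.fst pQ p ≫ pQ = pullback.snd pQ p ≫ p := pullback.condition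
    refine ⟨pullback pQ p, pullback.fst pQ p ≫ pQ, inferInstance, inferInstance, ?_⟩
    intro j hj
    rcases Finset.mem_insert.mp hj with rfl | hjS
    · rw [hcond]
      exact exists_lift_comp (pullback.snd pQ p) p (ι j).opensRange (g j ≫ ι j) r₀ hr₀
    · obtain ⟨r, hr'⟩ := hr j hjS
      exact exists_lift_comp (pullback.fst pQ p) pQ (ι j).opensRange (g j ≫ ι j) r hr'

/-- **Lemma H**: `S` affine, `f : U ⟶ S` proper surjective, `U` covered by finitely many affine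
opens `V j`, proper surjective `g j : W j ⟶ V j`, and every point of every `W j` has an open
neighbourhood mapping into a member of a family `𝒢` over `S`: then a standard ph covering of `S`
refines `𝒢`. -/
theorem exists_standardPh_of_local_over {S U : Scheme.{u}} [IsAffine S] (f : U ⟶ S) [IsProper f]
    [Surjective f] {J : Type w} [Finite J] (V W : J → Scheme.{u}) (ι : ∀ j, V j ⟶ U)
    [∀ j, IsOpenImmersion (ι j)] [∀ j, IsAffine (V j)]
    (hcov : ∀ x : U, ∃ j, x ∈ Set.range (ι j).base)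
    (g : ∀ j, W j ⟶ V j) [∀ j, IsProper (g j)] [∀ j, Surjective (g j)]
    (𝒢 : PreZeroHypercover.{w'} S)
    (hloc : ∀ (j : J) (y : W j), ∃ (N : Scheme.{u}) (a : N ⟶ W j), IsOpenImmersion a ∧
      y ∈ Set.range a.base ∧ ∃ (i : 𝒢.I₀) (h : N ⟶ 𝒢.X i), h ≫ 𝒢.f i = a ≫ g j ≫ ι j ≫ f) :
    ∃ F' : PreZeroHypercover.{0} S, HTop.IsStandardPh F' ∧ Nonempty (F'.Hom 𝒢) := by
  obtain ⟨Q, pQ, hpQ, hpQs, hr⟩ := exists_common_extension V W ι g
  choose r hr using hr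
  haveI : IsProper (pQ ≫ f) := inferInstance
  haveI : Surjective (pQ ≫ f) := inferInstance
  apply exists_standardPh_of_local (pQ ≫ f) 𝒢
  intro x
  obtain ⟨j, hj⟩ := hcov (pQ.base x)
  let O : Q.Opens := pQ ⁻¹ᵁ (ι j).opensRange
  have hxO : x ∈ O := hj
  obtain ⟨N, a, ha, hya, i, h, hh⟩ := hloc j ((r j).base ⟨x, hxO⟩)
  refine ⟨pullback (r j) a, pullback.fst (r j) a ≫ O.ι, inferInstance, ?_, i,
    pullback.snd (r j) a ≫ h, ?_⟩
  · have h1 : (⟨x, hxO⟩ : O) ∈ Set.range (pullback.fst (r j) a).base := by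
      rw [Scheme.Pullback.range_fst]
      exact hya
    obtain ⟨z, hz⟩ := h1
    refine ⟨z, ?_⟩
    change O.ι.base ((pullback.fst (r j) a).base z) = x
    rw [hz]; rfl
  · calc (pullback.snd (r j) a ≫ h) ≫ 𝒢.f i
        = pullback.snd (r j) a ≫ a ≫ g j ≫ ι j ≫ f := by rw [Category.assoc, hh]
      _ = pullback.fst (r j) a ≫ (r j ≫ g j ≫ ι j) ≫ f := by
          rw [← pullback.condition_assoc]; simp only [Category.assoc]
      _ = (pullback.fst (r j) a ≫ O.ι) ≫ pQ ≫ f := by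
          rw [hr j]; simp only [Category.assoc]; rfl

/-- Stacks 0DBD (2): standard ph coverings compose, up to refinement. -/
theorem standardPh_bind {T : Scheme.{u}} [IsAffine T] (E : PreZeroHypercover.{w} T)
    (hE : HTop.IsStandardPh E) (F : ∀ j, PreZeroHypercover.{w'} (E.X j))
    (hF : ∀ j, HTop.IsStandardPh (F j)) :
    ∃ F' : PreZeroHypercover.{0} T, HTop.IsStandardPh F' ∧ Nonempty (F'.Hom (E.bind F)) := by
  obtain ⟨U, f, ι, hf, hfs, hι, hιf, hcov⟩ := hE.exists_proper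
  haveI := hE.finite_index
  haveI := hE.isAffine_obj
  choose W g ι' hg hgs hι' hι'g hcov' using fun j => (hF j).exists_proper
  apply exists_standardPh_of_local_over f E.X W ι hcov g (E.bind F)
  intro j y
  obtain ⟨i, hi⟩ := hcov' j y
  refine ⟨(F j).X i, ι' j i, hι' j i, hi, ⟨j, i⟩, 𝟙 _, ?_⟩
  change 𝟙 _ ≫ (F j).f i ≫ E.f j = ι' j i ≫ g j ≫ ι j ≫ f
  rw [Category.id_comp, ← hιf j, ← hι'g j i, Category.assoc]

/-- Stacks 0DBD (1): an open covering of an affine scheme is refined by a standard ph covering. -/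
theorem standardPh_of_openCover {T : Scheme.{u}} [IsAffine T] (𝒰 : T.OpenCover) :
    ∃ F : PreZeroHypercover.{0} T, HTop.IsStandardPh F ∧ Nonempty (F.Hom 𝒰.toPreZeroHypercover) := by
  apply exists_standardPh_of_local (𝟙 T) 𝒰.toPreZeroHypercover
  intro x
  refine ⟨𝒰.X (𝒰.idx x), 𝒰.f (𝒰.idx x), inferInstance, 𝒰.covers x, 𝒰.idx x, 𝟙 _, ?_⟩
  rw [Category.id_comp, Category.comp_id]


/-- a refinement of the pulled back family gives `RefinesOver`. -/
theorem refinesOver_of_hom {U T : Scheme.{u}} (g : U ⟶ T) (F : PreZeroHypercover.{w'} U)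
    (E : PreZeroHypercover.{w} T) (φ : F.Hom (E.pullback₁ g)) : HTop.RefinesOver g F E := by
  intro j
  let i : E.I₀ := φ.s₀ j
  let h : F.X j ⟶ pullback g (E.f i) := φ.h₀ j
  have h1 : h ≫ pullback.fst g (E.f i) = F.f j := φ.w₀ j
  refine ⟨i, h ≫ pullback.snd g (E.f i), ?_⟩
  rw [Category.assoc, ← pullback.condition, ← Category.assoc, h1]

/-- Base change of ph coverings (Stacks 0DBE-type). -/
theorem isPhCover_pullback {T T' : Scheme.{u}} (g : T' ⟶ T) (E : PreZeroHypercover.{w} T)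
    (hE : HTop.IsPhCover E) : HTop.IsPhCover (E.pullback₁ g) := by
  classical
  obtain ⟨hlft, hE⟩ := hE
  refine ⟨fun i => ?_, fun U' => ?_⟩
  · haveI := hlft i
    exact inferInstanceAs (LocallyOfFiniteType (pullback.fst g (E.f i)))
  -- local data on `U'`
  let S' : Scheme.{u} := ((U' : T'.Opens) : Scheme.{u})
  let jS : S' ⟶ T' := (U' : T'.Opens).ι
  haveI : IsAffine S' := U'.2
  haveI : CompactSpace S' := inferInstance
  have hjS : ∀ x : S', jS.base x ∈ (U' : T'.Opens) := fun x => x.2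
  have hpt : ∀ x : S', ∃ (U₁ : T.affineOpens) (V₁ : T'.Opens),
      IsAffineOpen V₁ ∧ V₁ ≤ (U' : T'.Opens) ∧ V₁ ≤ g ⁻¹ᵁ (U₁ : T.Opens) ∧ jS.base x ∈ V₁ := by
    intro x
    obtain ⟨_, ⟨U₁, hU₁, rfl⟩, hxU₁, -⟩ :=
      T.isBasis_affineOpens.exists_subset_of_mem_open (Set.mem_univ (g.base (jS.base x)))
        isOpen_univ
    have hx : jS.base x ∈ (U' : T'.Opens) ⊓ g ⁻¹ᵁ U₁ := ⟨hjS x, hxU₁⟩
    obtain ⟨_, ⟨V₁, hV₁, rfl⟩, hxV₁, hle⟩ :=
      T'.isBasis_affineOpens.exists_subset_of_mem_open hx ((U' : T'.Opens) ⊓ g ⁻¹ᵁ U₁).2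
    exact ⟨⟨U₁, hU₁⟩, V₁, hV₁, fun y hy => (hle hy).1, fun y hy => (hle hy).2, hxV₁⟩
  choose U₁ V₁ hV₁aff hV₁U' hV₁g hxV₁ using hpt
  obtain ⟨K, hK⟩ : ∃ K : Finset S', (Set.univ : Set S') ⊆
      ⋃ x ∈ K, jS.base ⁻¹' (V₁ x : Set T') :=
    isCompact_univ.elim_finite_subcover (fun x => jS.base ⁻¹' (V₁ x : Set T'))
      (fun x => (V₁ x).2.preimage jS.continuous)
      (fun x _ => Set.mem_iUnion.mpr ⟨x, hxV₁ x⟩)
  -- standard ph coverings downstairs
  choose G hG hGE using fun x : K => hE (U₁ x.1)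
  choose P p κ hp hps hκ hκp hκcov using fun x : K => (hG x).exists_proper
  -- the data for Lemma H
  let V : K → Scheme.{u} := fun x => ((V₁ x.1 : T'.Opens) : Scheme.{u})
  let ι : ∀ x : K, V x ⟶ S' := fun x => T'.homOfLE (hV₁U' x.1)
  let γ : ∀ x : K, V x ⟶ ((U₁ x.1 : T.Opens) : Scheme.{u}) := fun x =>
    g.resLE (U₁ x.1 : T.Opens) (V₁ x.1) (hV₁g x.1)
  have hγ : ∀ x : K, γ x ≫ (U₁ x.1 : T.Opens).ι = (V₁ x.1).ι ≫ g := fun x =>
    Scheme.Hom.resLE_comp_ι _ _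
  haveI : ∀ x : K, IsAffine (V x) := fun x => hV₁aff x.1
  haveI : ∀ x : K, IsOpenImmersion (ι x) := fun x => inferInstanceAs (IsOpenImmersion (T'.homOfLE _))
  let W : K → Scheme.{u} := fun x => pullback (p x) (γ x)
  let gW : ∀ x : K, W x ⟶ V x := fun x => pullback.snd (p x) (γ x)
  haveI : ∀ x : K, IsProper (gW x) := fun x => by
    haveI := hp x
    exact inferInstanceAs (IsProper (pullback.snd (p x) (γ x)))
  haveI : ∀ x : K, Surjective (gW x) := fun x => by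
    haveI := hps x
    exact inferInstanceAs (Surjective (pullback.snd (p x) (γ x)))
  let 𝒢 : PreZeroHypercover.{w} S' := (E.pullback₁ g).pullback₁ jS
  have hιj : ∀ x : K, ι x ≫ jS = (V₁ x.1).ι := fun x => T'.homOfLE_ι _
  have hcov : ∀ y : S', ∃ x : K, y ∈ Set.range (ι x).base := by
    intro y
    have hy := hK (Set.mem_univ y)
    simp only [Set.mem_iUnion] at hy
    obtain ⟨x, hx, hyx⟩ := hy
    refine ⟨⟨x, hx⟩, ⟨⟨jS.base y, hyx⟩, ?_⟩⟩
    apply jS.isOpenEmbedding.injective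
    have := congrArg (fun (φ : V ⟨x, hx⟩ ⟶ T') => φ.base ⟨jS.base y, hyx⟩) (hιj ⟨x, hx⟩)
    exact this
  obtain ⟨F', hF', ⟨φ⟩⟩ := exists_standardPh_of_local_over (𝟙 _) V W ι hcov gW 𝒢 (by
    intro x y
    obtain ⟨k, hk⟩ := hκcov x ((pullback.fst (p x) (γ x)).base y)
    haveI := hκ x k
    obtain ⟨i, h, hh⟩ := hGE x k
    let N := pullback (pullback.fst (p x) (γ x)) (κ x k)
    let a : N ⟶ W x := pullback.fst _ _
    let b : N ⟶ (G x).X k := pullback.snd _ _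
    have hab : a ≫ pullback.fst (p x) (γ x) = b ≫ κ x k := pullback.condition
    have e1 : (b ≫ h) ≫ E.f i = (a ≫ gW x ≫ (V₁ x.1).ι) ≫ g := by
      calc (b ≫ h) ≫ E.f i = b ≫ (G x).f k ≫ (U₁ x.1 : T.Opens).ι := by
            rw [Category.assoc, hh]
        _ = (b ≫ κ x k) ≫ p x ≫ (U₁ x.1 : T.Opens).ι := by
            rw [← hκp x k]; simp only [Category.assoc]
        _ = a ≫ (pullback.fst (p x) (γ x) ≫ p x) ≫ (U₁ x.1 : T.Opens).ι := by
            rw [← hab]; simp only [Category.assoc]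
        _ = a ≫ (gW x ≫ γ x) ≫ (U₁ x.1 : T.Opens).ι := by
            rw [pullback.condition]
        _ = (a ≫ gW x ≫ (V₁ x.1).ι) ≫ g := by
            simp only [Category.assoc]; rw [hγ x]
    let c : N ⟶ pullback g (E.f i) := pullback.lift (a ≫ gW x ≫ (V₁ x.1).ι) (b ≫ h) e1.symm
    have e2 : (a ≫ gW x ≫ ι x) ≫ jS = c ≫ pullback.fst g (E.f i) := by
      rw [pullback.lift_fst]
      simp only [Category.assoc]
      rw [hιj x]
    refine ⟨N, a, inferInstance, ?_, i, pullback.lift (a ≫ gW x ≫ ι x) c e2, ?_⟩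
    · rw [Scheme.Pullback.range_fst]
      exact hk
    · change pullback.lift (a ≫ gW x ≫ ι x) c e2 ≫ pullback.fst _ _ = a ≫ gW x ≫ ι x ≫ 𝟙 _
      rw [pullback.lift_fst, Category.comp_id])
  exact ⟨F', hF', refinesOver_of_hom _ F' (E.pullback₁ g) φ⟩


/-- Composition of ph coverings (Stacks 0DBF-type). -/
theorem isPhCover_bind {T : Scheme.{u}} (E : PreZeroHypercover.{w} T) (hE : HTop.IsPhCover E)
    (F : ∀ i, PreZeroHypercover.{w} (E.X i)) (hF : ∀ i, HTop.IsPhCover (F i)) :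
    HTop.IsPhCover (E.bind F) := by
  classical
  refine ⟨fun ij => ?_, fun U => ?_⟩
  · haveI := hE.1 ij.1
    haveI := (hF ij.1).1 ij.2
    exact inferInstanceAs (LocallyOfFiniteType ((F ij.1).f ij.2 ≫ E.f ij.1))
  let S' : Scheme.{u} := ((U : T.Opens) : Scheme.{u})
  let jS : S' ⟶ T := (U : T.Opens).ι
  haveI : IsAffine S' := U.2
  obtain ⟨G, hG, hGE⟩ := hE.2 U
  obtain ⟨P, p, κ, hp, hps, hκ, hκp, hκcov⟩ := hG.exists_proper
  haveI := hG.finite_index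
  haveI := hG.isAffine_obj
  haveI := hκ
  choose i₁ h₁ hh₁ using hGE
  -- the pulled back coverings of the affine schemes `G.X k`
  have hF' : ∀ k, HTop.IsPhCover ((F (i₁ k)).pullback₁ (h₁ k)) := fun k =>
    isPhCover_pullback (h₁ k) (F (i₁ k)) (hF (i₁ k))
  let topk : ∀ k, (G.X k).affineOpens := fun k => ⟨⊤, isAffineOpen_top (G.X k)⟩
  choose H hH hHF using fun k => (hF' k).2 (topk k)
  choose R ρ θ hρ hρs hθ hθρ hθcov using fun k => (hH k).exists_proper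
  let W : G.I₀ → Scheme.{u} := R
  let gW : ∀ k, W k ⟶ G.X k := fun k => ρ k ≫ (⊤ : (G.X k).Opens).ι
  haveI hisoTop : ∀ k, IsIso (⊤ : (G.X k).Opens).ι := fun k => by
    rw [← Scheme.topIso_hom]; infer_instance
  haveI : ∀ k, IsProper (gW k) := fun k => by
    haveI := hρ k
    exact inferInstanceAs (IsProper (ρ k ≫ (⊤ : (G.X k).Opens).ι))
  haveI : ∀ k, Surjective (gW k) := fun k => by
    haveI := hρs k
    exact inferInstanceAs (Surjective (ρ k ≫ (⊤ : (G.X k).Opens).ι))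
  let 𝒢 : PreZeroHypercover.{w} S' := (E.bind F).pullback₁ jS
  obtain ⟨F', hF'', ⟨φ⟩⟩ := exists_standardPh_of_local_over p G.X W κ hκcov gW 𝒢 (by
    intro k y
    obtain ⟨l, hl⟩ := hθcov k y
    haveI := hθ k l
    obtain ⟨j, h', hh'⟩ := hHF k l
    -- `h' : (H k).X l ⟶ pullback (h₁ k) ((F (i₁ k)).f j)`
    let h'' : (H k).X l ⟶ pullback (h₁ k) ((F (i₁ k)).f j) := h'
    have hh'' : h'' ≫ pullback.fst (h₁ k) ((F (i₁ k)).f j) = (H k).f l ≫ (⊤ : (G.X k).Opens).ι :=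
      hh'
    let b : (H k).X l ⟶ (F (i₁ k)).X j := h'' ≫ pullback.snd _ _
    have e1 : (θ k l ≫ gW k ≫ κ k ≫ p) ≫ jS = b ≫ (F (i₁ k)).f j ≫ E.f (i₁ k) := by
      calc (θ k l ≫ gW k ≫ κ k ≫ p) ≫ jS
          = ((θ k l ≫ ρ k) ≫ (⊤ : (G.X k).Opens).ι) ≫ (κ k ≫ p) ≫ jS := by
            simp only [gW, Category.assoc]
        _ = ((H k).f l ≫ (⊤ : (G.X k).Opens).ι) ≫ G.f k ≫ jS := by
            rw [hθρ k l, hκp k]
        _ = (h'' ≫ pullback.fst (h₁ k) ((F (i₁ k)).f j)) ≫ h₁ k ≫ E.f (i₁ k) := by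
            rw [hh'', hh₁ k]
        _ = b ≫ (F (i₁ k)).f j ≫ E.f (i₁ k) := by
            simp only [b, Category.assoc]
            rw [pullback.condition_assoc]
    let ij : (E.bind F).I₀ := ⟨i₁ k, j⟩
    let c : (H k).X l ⟶ pullback jS ((E.bind F).f ij) :=
      pullback.lift (θ k l ≫ gW k ≫ κ k ≫ p) b e1
    refine ⟨(H k).X l, θ k l, inferInstance, hl, ij, c, ?_⟩
    change c ≫ pullback.fst jS ((E.bind F).f ij) = θ k l ≫ gW k ≫ κ k ≫ p
    exact pullback.lift_fst _ _ _)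
  exact ⟨F', hF'', refinesOver_of_hom _ F' (E.bind F) φ⟩

end Groth.Agent.H37.PhCover
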