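import Groth.Agent.H37.UHTowerApp

set_option autoImplicit false
set_option linter.style.haveILetI false
set_option linter.unusedVariables false
universe u

open CategoryTheory AlgebraicGeometry

namespace Groth.Agent.H37

variable {A B : Type u} [CommRing A] [CommRing B] [Algebra A B]

/-- version of `ringUH_of_reach_eq_top` from the "closed subalgebras are everything" principle -/
theorem ringUH_of_stepClosed_eq_top
    (hsurj : Function.Surjective (PrimeSpectrum.comap (algebraMap A B)))
    (hcl : ∀ S : Subalgebra A B, (∀ b, StepSCP S b → b ∈ S) → S = ⊤) :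
    RingUH (algebraMap A B) := by
  have hint : (algebraMap A B).IsIntegral := by
    have h := hcl (integralClosure A B) (fun b hb => integralClosure_stepClosed b hb)
    intro b
    have : b ∈ integralClosure A B := by rw [h]; exact Algebra.mem_top
    exact this
  refine ⟨hint, ?_, hsurj⟩
  intro K _ σ₁ σ₂ e
  letI : Algebra A K := (σ₁.comp (algebraMap A B)).toAlgebra
  let τ₁ : B →ₐ[A] K := { σ₁ with commutes' := fun a => rfl }
  let τ₂ : B →ₐ[A] K := { σ₂ with commutes' := fun a => (congrArg (fun f => f a) e).symm }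
  have h := hcl (AlgHom.equalizer τ₁ τ₂) (fun b hb => equalizer_stepClosed τ₁ τ₂ b hb)
  ext b
  have : b ∈ AlgHom.equalizer τ₁ τ₂ := by rw [h]; exact Algebra.mem_top
  exact this

theorem resSurj_of_stepClosed_eq_top
    (hcl : ∀ S : Subalgebra A B, (∀ b, StepSC S b → b ∈ S) → S = ⊤) :
    ResSurj (algebraMap A B) := by
  intro q hq b
  let x : Spec (CommRingCat.of B) := ⟨q, hq⟩
  have h := hcl (resSubalgebra (A := A) x) (resSubalgebra_stepClosed x)
  have hb : b ∈ resSubalgebra (A := A) x := by rw [h]; exact Algebra.mem_top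
  exact (ev_mem_range_iff (algebraMap A B) x b).mp ((mem_resSubalgebra x b).mp hb)

/-- inside the smallest step-closed subalgebra `B'`, a subalgebra whose image is step-closed
is everything -/
theorem stepClosed_sub_eq_top {Step : Subalgebra A B → B → Prop}
    (hmono : ∀ S S' b, S ≤ S' → Step S b → Step S' b) (B' : Subalgebra A B)
    (hB'cl : ∀ b, Step B' b → b ∈ B')
    (hB'min : ∀ S : Subalgebra A B, (∀ b, Step S b → b ∈ S) → B' ≤ S)
    (T : Subalgebra A B')
    (hT : ∀ (b : B) (hb : b ∈ B'), Step (T.map B'.val) b → (⟨b, hb⟩ : B') ∈ T) : T = ⊤ := by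
  have hSB' : T.map B'.val ≤ B' := by
    rintro _ ⟨y, -, rfl⟩
    exact y.2
  have hmemS : ∀ (b : B) (hb : b ∈ B'), b ∈ T.map B'.val → (⟨b, hb⟩ : B') ∈ T := by
    rintro b hb ⟨y, hy, hyb⟩
    have : y = ⟨b, hb⟩ := Subtype.ext hyb
    rwa [← this]
  have hScl : ∀ b, Step (T.map B'.val) b → b ∈ T.map B'.val := by
    intro b hb
    have hbB' : b ∈ B' := hB'cl b (hmono _ _ _ hSB' hb)
    exact ⟨⟨b, hbB'⟩, hT b hbB' hb, rfl⟩
  rw [eq_top_iff]
  intro x _
  exact hmemS x.val x.2 (hB'min _ hScl x.2)

theorem reach_le_of_stepClosed {Step : Subalgebra A B → B → Prop}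
    (hmono : ∀ S S' b, S ≤ S' → Step S b → Step S' b) (S : Subalgebra A B)
    (hS : ∀ b, Step S b → b ∈ S) : reach Step hmono ≤ S := by
  rintro x ⟨l, hl, hxl⟩
  exact hl.listAdjoin_le hmono S hS hxl

theorem mem_of_mem_map_val (B' : Subalgebra A B) (T : Subalgebra A B') (b : B) (hb : b ∈ B')
    (h : b ∈ T.map B'.val) : (⟨b, hb⟩ : B') ∈ T := by
  obtain ⟨y, hy, hyb⟩ := h
  have : y = ⟨b, hb⟩ := Subtype.ext hyb
  rwa [← this]

/-- inside the reachable subalgebra, closed subalgebras are everything (square-cube-or-prime) -/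
theorem stepClosed_in_reachSCP_eq_top
    (T : Subalgebra A (reach (A := A) (B := B) StepSCP stepSCP_mono))
    (hT : ∀ x, StepSCP T x → x ∈ T) : T = ⊤ := by
  refine stepClosed_sub_eq_top stepSCP_mono _ (reach_closed stepSCP_mono stepSCP_fin)
    (reach_le_of_stepClosed stepSCP_mono) T ?_
  intro b hb hstep
  apply hT
  rcases hstep with ⟨h2, h3⟩ | ⟨p, hp, h1, h2⟩
  · left
    exact ⟨mem_of_mem_map_val _ T _ (Subalgebra.pow_mem _ hb 2) h2,
      mem_of_mem_map_val _ T _ (Subalgebra.pow_mem _ hb 3) h3⟩
  · right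
    exact ⟨p, hp, mem_of_mem_map_val _ T _
      (Subalgebra.mul_mem _ (Subalgebra.natCast_mem _ p) hb) h1,
      mem_of_mem_map_val _ T _ (Subalgebra.pow_mem _ hb p) h2⟩

/-- inside the reachable subalgebra, closed subalgebras are everything (square-cube) -/
theorem stepClosed_in_reachSC_eq_top
    (T : Subalgebra A (reach (A := A) (B := B) StepSC stepSC_mono))
    (hT : ∀ x, StepSC T x → x ∈ T) : T = ⊤ := by
  refine stepClosed_sub_eq_top stepSC_mono _ (reach_closed stepSC_mono stepSC_fin)
    (reach_le_of_stepClosed stepSC_mono) T ?_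
  intro b hb hstep
  apply hT
  obtain ⟨h2, h3⟩ := hstep
  exact ⟨mem_of_mem_map_val _ T _ (Subalgebra.pow_mem _ hb 2) h2,
    mem_of_mem_map_val _ T _ (Subalgebra.pow_mem _ hb 3) h3⟩

/-- a universally homeomorphic algebra maps into the reachable subalgebra -/
theorem range_le_reachSCP {C : Type u} [CommRing C] [Algebra A C] (g : C →ₐ[A] B)
    (hC : RingUH (algebraMap A C)) :
    g.range ≤ reach (A := A) (B := B) StepSCP stepSCP_mono := by
  have hcl : ∀ c, StepSCP ((reach (A := A) (B := B) StepSCP stepSCP_mono).comap g) c →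
      c ∈ (reach (A := A) (B := B) StepSCP stepSCP_mono).comap g := by
    intro c hc
    rw [Subalgebra.mem_comap]
    apply reach_closed stepSCP_mono stepSCP_fin
    rcases hc with ⟨h2, h3⟩ | ⟨p, hp, h1, h2⟩
    · left
      rw [Subalgebra.mem_comap, map_pow] at h2 h3
      exact ⟨h2, h3⟩
    · right
      rw [Subalgebra.mem_comap] at h1 h2
      rw [map_mul, map_natCast] at h1
      rw [map_pow] at h2
      exact ⟨p, hp, h1, h2⟩
  have htop := stepClosed_eq_top stepSCP_mono (reach_eq_top_of_ringUH hC) _ hcl
  rintro _ ⟨c, rfl⟩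
  have : c ∈ (reach (A := A) (B := B) StepSCP stepSCP_mono).comap g := by
    rw [htop]; exact Algebra.mem_top
  exact this

theorem range_le_reachSC {C : Type u} [CommRing C] [Algebra A C] (g : C →ₐ[A] B)
    (hC : RingUH (algebraMap A C)) (hres : ResSurj (algebraMap A C)) :
    g.range ≤ reach (A := A) (B := B) StepSC stepSC_mono := by
  have hcl : ∀ c, StepSC ((reach (A := A) (B := B) StepSC stepSC_mono).comap g) c →
      c ∈ (reach (A := A) (B := B) StepSC stepSC_mono).comap g := by
    intro c hc
    rw [Subalgebra.mem_comap]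
    apply reach_closed stepSC_mono stepSC_fin
    obtain ⟨h2, h3⟩ := hc
    rw [Subalgebra.mem_comap, map_pow] at h2 h3
    exact ⟨h2, h3⟩
  have htop := stepClosed_eq_top stepSC_mono (reach_eq_top_of_ringUH_resSurj hC hres) _ hcl
  rintro _ ⟨c, rfl⟩
  have : c ∈ (reach (A := A) (B := B) StepSC stepSC_mono).comap g := by
    rw [htop]; exact Algebra.mem_top
  exact this

/-- surjectivity on spectra for an integral map with nil kernel -/
theorem comap_surjective_of_ker_le_nilradical {A C : Type u} [CommRing A] [CommRing C]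
    (φ : A →+* C) (hφ : φ.IsIntegral) (hker : RingHom.ker φ ≤ nilradical A) :
    Function.Surjective (PrimeSpectrum.comap φ) := by
  intro p
  obtain ⟨q, hq, hqp⟩ := exists_prime_over φ hφ p.asIdeal (by
    refine hker.trans ?_
    rw [nilradical_eq_sInf]
    exact sInf_le p.isPrime)
  exact ⟨⟨q, hq⟩, PrimeSpectrum.ext hqp⟩

theorem ker_algebraMap_reach_le {Step : Subalgebra A B → B → Prop}
    (hmono : ∀ S S' b, S ≤ S' → Step S b → Step S' b)
    (hker : RingHom.ker (algebraMap A B) ≤ nilradical A) :
    RingHom.ker (algebraMap A (reach Step hmono)) ≤ nilradical A := by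
  intro a ha
  apply hker
  rw [RingHom.mem_ker] at ha ⊢
  have := congrArg Subtype.val ha
  exact this

/-- the relative weak normalization is a universal homeomorphism -/
theorem ringUH_reachSCP (hker : RingHom.ker (algebraMap A B) ≤ nilradical A) :
    RingUH (algebraMap A (reach (A := A) (B := B) StepSCP stepSCP_mono)) := by
  have hcl := stepClosed_in_reachSCP_eq_top (A := A) (B := B)
  have hint : (algebraMap A (reach (A := A) (B := B) StepSCP stepSCP_mono)).IsIntegral := by
    have h := hcl (integralClosure A _) (fun b hb => integralClosure_stepClosed b hb)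
    intro b
    have : b ∈ integralClosure A _ := by rw [h]; exact Algebra.mem_top
    exact this
  exact ringUH_of_stepClosed_eq_top
    (comap_surjective_of_ker_le_nilradical _ hint (ker_algebraMap_reach_le stepSCP_mono hker)) hcl

theorem ringUH_reachSC (hker : RingHom.ker (algebraMap A B) ≤ nilradical A) :
    RingUH (algebraMap A (reach (A := A) (B := B) StepSC stepSC_mono)) := by
  have hcl : ∀ S : Subalgebra A (reach (A := A) (B := B) StepSC stepSC_mono),
      (∀ b, StepSCP S b → b ∈ S) → S = ⊤ := fun S hS =>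
    stepClosed_in_reachSC_eq_top S (fun x hx => hS x (Or.inl hx))
  have hint : (algebraMap A (reach (A := A) (B := B) StepSC stepSC_mono)).IsIntegral := by
    have h := hcl (integralClosure A _) (fun b hb => integralClosure_stepClosed b hb)
    intro b
    have : b ∈ integralClosure A _ := by rw [h]; exact Algebra.mem_top
    exact this
  exact ringUH_of_stepClosed_eq_top
    (comap_surjective_of_ker_le_nilradical _ hint (ker_algebraMap_reach_le stepSC_mono hker)) hcl

theorem resSurj_reachSC :
    ResSurj (algebraMap A (reach (A := A) (B := B) StepSC stepSC_mono)) :=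
  resSurj_of_stepClosed_eq_top (stepClosed_in_reachSC_eq_top (A := A) (B := B))

end Groth.Agent.H37
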