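import Groth.Agent.H37.PresIdx
import Groth.Agent.H37.UHRelNorm

/-! Cofinality of "good" finite presentation data. -/

set_option autoImplicit false
universe u

open MvPolynomial

open scoped Classical

namespace Groth.Agent.H37

/-- a class of elementary steps, functorial in the algebra -/
structure StepClass (A : Type u) [CommRing A] where
  Step : ∀ {C : Type u} [CommRing C] [Algebra A C], Subalgebra A C → C → Prop
  mono : ∀ {C : Type u} [CommRing C] [Algebra A C] (S S' : Subalgebra A C) (c : C),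
    S ≤ S' → Step S c → Step S' c
  fin : ∀ {C : Type u} [CommRing C] [Algebra A C] (S : Subalgebra A C) (c : C), Step S c →
    ∃ u v : C, u ∈ S ∧ v ∈ S ∧ ∀ S' : Subalgebra A C, u ∈ S' → v ∈ S' → Step S' c
  comap : ∀ {C C' : Type u} [CommRing C] [CommRing C'] [Algebra A C] [Algebra A C']
    (f : C →ₐ[A] C') (S' : Subalgebra A C') (c : C), Step (S'.comap f) c → Step S' (f c)

variable {A B : Type u} [CommRing A] [CommRing B] [Algebra A B]

namespace StepClass

variable (R : StepClass A)

/-- the subalgebra reachable by towers of steps -/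
def rsub (C : Type u) [CommRing C] [Algebra A C] : Subalgebra A C :=
  reach (A := A) (B := C) R.Step R.mono

theorem rsub_closed (C : Type u) [CommRing C] [Algebra A C] (c : C) (hc : R.Step (R.rsub C) c) :
    c ∈ R.rsub C :=
  reach_closed R.mono R.fin c hc

theorem map_mem {C C' : Type u} [CommRing C] [CommRing C'] [Algebra A C] [Algebra A C']
    (f : C →ₐ[A] C') (c : C) (hc : c ∈ R.rsub C) : f c ∈ R.rsub C' := by
  have h : R.rsub C ≤ (R.rsub C').comap f := by
    apply reach_le_of_stepClosed R.mono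
    intro x hx
    rw [Subalgebra.mem_comap]
    exact R.rsub_closed C' _ (R.comap f _ x hx)
  exact h hc

/-- an index is good if its algebra is exhausted by towers -/
def Good (j : PIdx A B) : Prop := R.rsub j.Alg = ⊤

theorem good_of_gen (j : PIdx A B) (h : ∀ e, j.gen e ∈ R.rsub j.Alg) : R.Good j := by
  unfold Good
  rw [eq_top_iff, ← j.adjoin_gen]
  apply Algebra.adjoin_le
  rintro _ ⟨e, rfl⟩
  exact h e

theorem Good.mem {j : PIdx A B} (h : R.Good j) (x : j.Alg) : x ∈ R.rsub j.Alg := by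
  rw [h]; exact Algebra.mem_top

theorem Good.trans_mem {j j' : PIdx A B} (h : R.Good j) (hle : j ≤ j') (x : j.Alg) :
    PIdx.trans hle x ∈ R.rsub j'.Alg :=
  R.map_mem _ _ (h.mem R x)

theorem good_sup {j j' : PIdx A B} (h : R.Good j) (h' : R.Good j') : R.Good (PIdx.sup j j') := by
  apply R.good_of_gen
  rintro ⟨e, he⟩
  have he' : e ∈ j.s ∪ j'.s := he
  rcases Finset.mem_union.mp he' with h1 | h1
  · have := h.trans_mem R (PIdx.le_sup_left' j j') (j.gen ⟨e, h1⟩)
    rw [PIdx.trans_gen] at this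
    exact this
  · have := h'.trans_mem R (PIdx.le_sup_right' j j') (j'.gen ⟨e, h1⟩)
    rw [PIdx.trans_gen] at this
    exact this

theorem good_insertGen {j : PIdx A B} (h : R.Good j) (b : B)
    (t : Finset (MvPolynomial ↥(insert b j.s) A)) (ht : ∀ f ∈ t, PIdx.ev (insert b j.s) f = 0)
    (hb : (j.insertGen b t ht).gen ⟨b, Finset.mem_insert_self b j.s⟩ ∈
      R.rsub (j.insertGen b t ht).Alg) : R.Good (j.insertGen b t ht) := by
  apply R.good_of_gen
  rintro ⟨e, he⟩
  have he' : e ∈ insert b j.s := he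
  rcases Finset.mem_insert.mp he' with h1 | h1
  · subst h1
    exact hb
  · have := h.trans_mem R (j.le_insertGen b t ht) (j.gen ⟨e, h1⟩)
    rw [PIdx.trans_gen] at this
    exact this

/-- the empty index -/
noncomputable def emptyIdx : PIdx A B where
  s := ∅
  I := ⊥
  fg := Submodule.fg_bot
  le_ker := by
    intro f hf
    rw [Ideal.mem_bot.mp hf, map_zero]

theorem good_emptyIdx : R.Good (emptyIdx : PIdx A B) := by
  apply R.good_of_gen
  rintro ⟨e, he⟩
  exact absurd he (Finset.notMem_empty e)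

theorem range_toB_mono {j j' : PIdx A B} (h : j ≤ j') : j.toB.range ≤ j'.toB.range := by
  rintro _ ⟨x, rfl⟩
  exact ⟨PIdx.trans h x, PIdx.toB_trans h x⟩

/-- elements of `B` reached by good indices -/
def goodSub : Subalgebra A B where
  carrier := {b | ∃ j : PIdx A B, R.Good j ∧ b ∈ j.toB.range}
  mul_mem' := by
    rintro x y ⟨j, hj, hx⟩ ⟨j', hj', hy⟩
    exact ⟨PIdx.sup j j', R.good_sup hj hj',
      Subalgebra.mul_mem _ (range_toB_mono (PIdx.le_sup_left' j j') hx)
        (range_toB_mono (PIdx.le_sup_right' j j') hy)⟩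
  add_mem' := by
    rintro x y ⟨j, hj, hx⟩ ⟨j', hj', hy⟩
    exact ⟨PIdx.sup j j', R.good_sup hj hj',
      Subalgebra.add_mem _ (range_toB_mono (PIdx.le_sup_left' j j') hx)
        (range_toB_mono (PIdx.le_sup_right' j j') hy)⟩
  algebraMap_mem' := fun r => ⟨emptyIdx, R.good_emptyIdx, Subalgebra.algebraMap_mem _ r⟩

/-- the lifting hypothesis: a step in `B` over the image of an index lifts to a step over a
larger index -/
def Lifts : Prop :=
  ∀ (j : PIdx A B) (b : B), R.Step j.toB.range b →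
    ∃ (t : Finset (MvPolynomial ↥(insert b j.s) A))
      (ht : ∀ f ∈ t, PIdx.ev (insert b j.s) f = 0),
      R.Step (PIdx.trans (j.le_insertGen b t ht)).range
        ((j.insertGen b t ht).gen ⟨b, Finset.mem_insert_self b j.s⟩)

theorem goodSub_closed (hl : R.Lifts (B := B)) (b : B) (hb : R.Step (R.goodSub (B := B)) b) :
    b ∈ R.goodSub (B := B) := by
  obtain ⟨u, v, ⟨j₁, hj₁, hu⟩, ⟨j₂, hj₂, hv⟩, huv⟩ := R.fin _ _ hb
  have hj := R.good_sup hj₁ hj₂
  have hstep : R.Step (PIdx.sup j₁ j₂).toB.range b :=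
    huv _ (range_toB_mono (PIdx.le_sup_left' j₁ j₂) hu)
      (range_toB_mono (PIdx.le_sup_right' j₁ j₂) hv)
  obtain ⟨t, ht, hstep'⟩ := hl _ b hstep
  refine ⟨(PIdx.sup j₁ j₂).insertGen b t ht, ?_, ?_⟩
  · apply R.good_insertGen hj
    apply R.rsub_closed
    refine R.mono _ _ _ ?_ hstep'
    rintro _ ⟨x, rfl⟩
    exact hj.trans_mem R _ x
  · exact ⟨_, PIdx.toB_gen _ ⟨b, Finset.mem_insert_self b _⟩⟩

theorem goodSub_eq_top (hl : R.Lifts (B := B))
    (htop : reach (A := A) (B := B) R.Step R.mono = ⊤) : R.goodSub (B := B) = ⊤ :=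
  stepClosed_eq_top R.mono htop _ (R.goodSub_closed hl)

/-- the relation expressing a new generator through old ones -/
noncomputable def relOf (j : PIdx A B) (e : B) (f : MvPolynomial j.s A) :
    MvPolynomial ↥(insert e j.s) A :=
  X ⟨e, Finset.mem_insert_self e j.s⟩ - rename (PIdx.incl (Finset.subset_insert e j.s)) f

theorem ev_relOf (j : PIdx A B) (e : B) (f : MvPolynomial j.s A) (hf : PIdx.ev j.s f = e) :
    PIdx.ev (insert e j.s) (relOf j e f) = 0 := by
  unfold relOf
  rw [map_sub, PIdx.ev_rename, hf]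
  unfold PIdx.ev
  rw [aeval_X, sub_self]

theorem ev_relOf' (j : PIdx A B) (e : B) (f : MvPolynomial j.s A) (hf : PIdx.ev j.s f = e) :
    ∀ f' ∈ ({relOf j e f} : Finset (MvPolynomial ↥(insert e j.s) A)),
      PIdx.ev (insert e j.s) f' = 0 := by
  intro f' hf'
  rw [Finset.mem_singleton.mp hf']
  exact ev_relOf j e f hf

/-- every element of `B` is a generator of a good index -/
theorem exists_good_mem (hl : R.Lifts (B := B))
    (htop : reach (A := A) (B := B) R.Step R.mono = ⊤) (e : B) :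
    ∃ j : PIdx A B, R.Good j ∧ e ∈ j.s := by
  have he : e ∈ R.goodSub (B := B) := by rw [R.goodSub_eq_top hl htop]; exact Algebra.mem_top
  obtain ⟨j, hj, x, hx⟩ := he
  obtain ⟨f, rfl⟩ := Ideal.Quotient.mk_surjective x
  have hx' : PIdx.ev j.s f = e := hx
  refine ⟨j.insertGen e {relOf j e f} (ev_relOf' j e f hx'), ?_, Finset.mem_insert_self e j.s⟩
  apply R.good_insertGen hj
  have h0 := j.mk_insertGen_eq_zero e {relOf j e f} (ev_relOf' j e f hx') (relOf j e f)
    (Finset.mem_singleton_self _)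
  have h1 : (j.insertGen e {relOf j e f} (ev_relOf' j e f hx')).gen
      ⟨e, Finset.mem_insert_self e j.s⟩ =
      PIdx.trans (j.le_insertGen e {relOf j e f} (ev_relOf' j e f hx'))
        (Ideal.Quotient.mk j.I f) := by
    rw [PIdx.trans_mk]
    unfold PIdx.gen
    rw [← sub_eq_zero, ← map_sub]
    exact h0
  rw [h1]
  exact hj.trans_mem R _ _

theorem exists_good_subset (hl : R.Lifts (B := B))
    (htop : reach (A := A) (B := B) R.Step R.mono = ⊤) (s : Finset B) :
    ∃ j : PIdx A B, R.Good j ∧ s ⊆ j.s := by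
  induction s using Finset.induction_on with
  | empty => exact ⟨emptyIdx, R.good_emptyIdx, Finset.empty_subset _⟩
  | insert e s _ ih =>
    obtain ⟨j₁, hj₁, hs⟩ := ih
    obtain ⟨j₂, hj₂, he⟩ := R.exists_good_mem hl htop e
    refine ⟨PIdx.sup j₁ j₂, R.good_sup hj₁ hj₂, ?_⟩
    intro x hx
    rcases Finset.mem_insert.mp hx with rfl | hx
    · exact Finset.mem_union_right _ he
    · exact Finset.mem_union_left _ (hs hx)

/-- good indices are cofinal -/
theorem exists_good_ge (hl : R.Lifts (B := B))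
    (htop : reach (A := A) (B := B) R.Step R.mono = ⊤) (j₀ : PIdx A B) :
    ∃ j : PIdx A B, j₀ ≤ j ∧ R.Good j := by
  obtain ⟨j₁, hj₁, hs⟩ := R.exists_good_subset hl htop j₀.s
  refine ⟨PIdx.sup j₀ j₁, PIdx.le_sup_left' j₀ j₁, ?_⟩
  apply R.good_of_gen
  rintro ⟨e, he⟩
  have he' : e ∈ j₀.s ∪ j₁.s := he
  have h1 : e ∈ j₁.s := by
    rcases Finset.mem_union.mp he' with h | h
    · exact hs h
    · exact h
  have := hj₁.trans_mem R (PIdx.le_sup_right' j₀ j₁) (j₁.gen ⟨e, h1⟩)
  rw [PIdx.trans_gen] at this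
  exact this

end StepClass

end Groth.Agent.H37
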