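import Groth.Agent.H37.PresColim
import Mathlib.Algebra.Category.Ring.FilteredColimits
import Mathlib.CategoryTheory.Limits.Constructions.Over.Connected
import Mathlib.CategoryTheory.Limits.Types.Filtered
import Mathlib.CategoryTheory.Filtered.Connected
import Mathlib.CategoryTheory.Limits.Preserves.Filtered
import Mathlib.Algebra.Category.Ring.Colimits
import Mathlib.Algebra.Category.Ring.Constructions

/-! A universally homeomorphic algebra is a filtered colimit of finitely presented ones. -/

set_option autoImplicit false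
universe u

open CategoryTheory CategoryTheory.Limits MvPolynomial

open scoped Classical

namespace Groth.Agent.H37

/-- recognising directed colimits in `Under A` (as in `Groth.Agent.H24.DirColimUnder`) -/
theorem isColimit_under_of_directed' {A : CommRingCat.{u}} {J : Type u} [Preorder J]
    [IsDirected J (· ≤ ·)] [Nonempty J] (F : J ⥤ Under A) (c : Cocone F)
    (hsurj : ∀ s : c.pt.right, ∃ (i : J) (x : (F.obj i).right), (c.ι.app i).right x = s)
    (hinj : ∀ (i : J) (x y : (F.obj i).right), (c.ι.app i).right x = (c.ι.app i).right y →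
      ∃ (k : J) (h : i ≤ k), (F.map (homOfLE h)).right x = (F.map (homOfLE h)).right y) :
    Nonempty (IsColimit c) := by
  have : IsConnected J := IsFiltered.isConnected J
  let G : Under A ⥤ Type u := Under.forget A ⋙ forget CommRingCat
  have h1 : IsColimit ((forget CommRingCat).mapCocone ((Under.forget A).mapCocone c)) := by
    refine Types.FilteredColimit.isColimitOf' _ _ ?_ ?_
    · intro x
      obtain ⟨i, y, hy⟩ := hsurj x
      exact ⟨i, y, hy.symm⟩
    · intro i x y hxy
      obtain ⟨k, h, hk⟩ := hinj i x y hxy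
      exact ⟨k, homOfLE h, hk⟩
  have : ReflectsColimit (F ⋙ Under.forget A) (forget CommRingCat) :=
    reflectsColimit_of_reflectsIsomorphisms _ _
  have h2 : IsColimit ((Under.forget A).mapCocone c) := isColimitOfReflects (forget CommRingCat) h1
  exact ⟨isColimitOfReflects (Under.forget A) h2⟩

variable {A B : Type u} [CommRing A] [CommRing B] [Algebra A B]

namespace StepClass

variable (R : StepClass A)

/-- the good indices -/
def GoodIdx (R : StepClass A) (B : Type u) [CommRing B] [Algebra A B] : Type u :=
  {j : PIdx A B // R.Good j}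

instance : Preorder (R.GoodIdx B) := Subtype.preorder _

instance : Nonempty (R.GoodIdx B) := ⟨⟨emptyIdx, R.good_emptyIdx⟩⟩

/-- the diagram of finitely presented algebras -/
noncomputable def diagram : R.GoodIdx B ⥤ Under (CommRingCat.of A) where
  obj j := Under.mk (CommRingCat.ofHom (algebraMap A j.1.Alg))
  map {j j'} f := Under.homMk (CommRingCat.ofHom (PIdx.trans (leOfHom f)).toRingHom) (by
    ext a
    exact (PIdx.trans (leOfHom f)).commutes a)
  map_id j := by
    ext x
    exact PIdx.trans_refl j.1 (le_refl j.1) x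
  map_comp {j j' j''} f g := by
    ext x
    exact (PIdx.trans_trans (leOfHom f) (leOfHom g) x).symm

/-- the cocone with vertex `B` -/
noncomputable def cocone : Cocone (R.diagram (B := B)) where
  pt := Under.mk (CommRingCat.ofHom (algebraMap A B))
  ι :=
    { app := fun j => Under.homMk (CommRingCat.ofHom j.1.toB.toRingHom) (by
        ext a
        exact j.1.toB.commutes a)
      naturality := by
        intro j j' f
        ext x
        exact PIdx.toB_trans (leOfHom f) x }

theorem exists_colimit (hl : R.Lifts (B := B))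
    (htop : reach (A := A) (B := B) R.Step R.mono = ⊤) :
    Nonempty (IsColimit (R.cocone (B := B))) ∧ IsDirected (R.GoodIdx B) (· ≤ ·) := by
  have hdir : IsDirected (R.GoodIdx B) (· ≤ ·) := by
    constructor
    intro j j'
    obtain ⟨k, hk, hgood⟩ := R.exists_good_ge hl htop (PIdx.sup j.1 j'.1)
    have h1 : j.1 ≤ k := le_trans (PIdx.le_sup_left' j.1 j'.1) hk
    have h2 : j'.1 ≤ k := le_trans (PIdx.le_sup_right' j.1 j'.1) hk
    exact ⟨⟨k, hgood⟩, h1, h2⟩
  refine ⟨?_, hdir⟩
  apply isColimit_under_of_directed'
  · intro b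
    obtain ⟨j, hj, hb⟩ := R.exists_good_mem hl htop b
    exact ⟨⟨j, hj⟩, j.gen ⟨b, hb⟩, j.toB_gen ⟨b, hb⟩⟩
  · intro i x y hxy
    have hxy' : i.1.toB x = i.1.toB y := hxy
    obtain ⟨f, rfl⟩ := Ideal.Quotient.mk_surjective x
    obtain ⟨g, rfl⟩ := Ideal.Quotient.mk_surjective y
    have hfg : ∀ f' ∈ ({f - g} : Finset (MvPolynomial i.1.s A)), PIdx.ev i.1.s f' = 0 := by
      intro f' hf'
      rw [Finset.mem_singleton.mp hf', map_sub, sub_eq_zero]
      exact hxy'
    obtain ⟨k, hk, hgood⟩ := R.exists_good_ge hl htop (i.1.addRels {f - g} hfg)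
    have hik : i.1 ≤ k := le_trans (i.1.le_addRels {f - g} hfg) hk
    refine ⟨⟨k, hgood⟩, hik, ?_⟩
    show PIdx.trans hik (Ideal.Quotient.mk _ f) = PIdx.trans hik (Ideal.Quotient.mk _ g)
    rw [← PIdx.trans_trans (i.1.le_addRels {f - g} hfg) hk,
      ← PIdx.trans_trans (i.1.le_addRels {f - g} hfg) hk]
    congr 1
    rw [PIdx.trans_mk, PIdx.trans_mk, ← sub_eq_zero, ← map_sub, ← map_sub]
    have := i.1.mk_addRels_eq_zero {f - g} hfg (f - g) (Finset.mem_singleton_self _)
    have e : rename (PIdx.incl (i.1.le_addRels {f - g} hfg).1) (f - g) = f - g :=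
      PIdx.rename_incl_self (s := i.1.s) _ (f - g)
    rw [e]
    exact this

end StepClass

end Groth.Agent.H37
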