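import Mathlib.RingTheory.FinitePresentation
import Mathlib.RingTheory.Ideal.Quotient.Operations
import Mathlib.RingTheory.MvPolynomial.Basic
import Mathlib.Algebra.MvPolynomial.Rename

/-! Finite presentation data approximating an algebra: the index preorder. -/

set_option autoImplicit false
universe u

open MvPolynomial

open scoped Classical

namespace Groth.Agent.H37

variable (A B : Type u) [CommRing A] [CommRing B] [Algebra A B]

/-- the evaluation map to `B` -/
noncomputable def PIdx.ev {A B : Type u} [CommRing A] [CommRing B] [Algebra A B] (s : Finset B) :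
    MvPolynomial s A →ₐ[A] B := aeval (fun e : s => (e : B))

/-- finite sets of generators and finitely many relations among them, valid in `B` -/
structure PIdx where
  s : Finset B
  I : Ideal (MvPolynomial s A)
  fg : I.FG
  le_ker : ∀ f ∈ I, PIdx.ev s f = 0

namespace PIdx

variable {A B}

/-- inclusion of generator sets -/
def incl {s s' : Finset B} (h : s ⊆ s') : s → s' := fun e => ⟨e.1, h e.2⟩

@[simp] theorem incl_val {s s' : Finset B} (h : s ⊆ s') (e : s) : (incl h e : B) = e := rfl

theorem ev_rename {s s' : Finset B} (h : s ⊆ s') (f : MvPolynomial s A) :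
    ev s' (rename (incl h) f) = ev s f := by
  unfold ev
  rw [aeval_rename]
  rfl

theorem rename_incl_rename_incl {s s' s'' : Finset B} (h : s ⊆ s') (h' : s' ⊆ s'')
    (f : MvPolynomial s A) :
    rename (incl h') (rename (incl h) f) = rename (incl (h.trans h')) f := by
  rw [rename_rename]
  rfl

theorem rename_incl_self {s : Finset B} (h : s ⊆ s) (f : MvPolynomial s A) :
    rename (incl h) f = f := by
  have : incl h = id := by funext e; rfl
  rw [this, rename_id_apply]

/-- the finitely presented algebra of an index -/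
abbrev Alg (j : PIdx A B) : Type u := MvPolynomial j.s A ⧸ j.I

instance : LE (PIdx A B) :=
  ⟨fun j j' => j.s ⊆ j'.s ∧ ∀ h : j.s ⊆ j'.s, j.I.map (rename (incl h)) ≤ j'.I⟩

theorem le_def {j j' : PIdx A B} :
    j ≤ j' ↔ j.s ⊆ j'.s ∧ ∀ h : j.s ⊆ j'.s, j.I.map (rename (incl h)) ≤ j'.I := Iff.rfl

instance : Preorder (PIdx A B) where
  le := (· ≤ ·)
  le_refl j := by
    refine ⟨Finset.Subset.refl _, fun h => ?_⟩
    rw [Ideal.map_le_iff_le_comap]
    intro f hf
    rw [Ideal.mem_comap, rename_incl_self]
    exact hf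
  le_trans j j' j'' h1 h2 := by
    refine ⟨h1.1.trans h2.1, fun h => ?_⟩
    rw [Ideal.map_le_iff_le_comap]
    intro f hf
    rw [Ideal.mem_comap, ← rename_incl_rename_incl h1.1 h2.1]
    apply h2.2 h2.1
    apply Ideal.mem_map_of_mem
    apply h1.2 h1.1
    exact Ideal.mem_map_of_mem _ hf

/-- the map to `B` -/
noncomputable def toB (j : PIdx A B) : j.Alg →ₐ[A] B :=
  Ideal.Quotient.liftₐ j.I (ev j.s) (fun f hf => j.le_ker f hf)

@[simp] theorem toB_mk (j : PIdx A B) (f : MvPolynomial j.s A) :
    j.toB (Ideal.Quotient.mk j.I f) = ev j.s f := rfl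

/-- transition maps -/
noncomputable def trans {j j' : PIdx A B} (h : j ≤ j') : j.Alg →ₐ[A] j'.Alg :=
  Ideal.quotientMapₐ j'.I (rename (incl h.1)) (by
    rw [← Ideal.map_le_iff_le_comap]
    exact h.2 h.1)

@[simp] theorem trans_mk {j j' : PIdx A B} (h : j ≤ j') (f : MvPolynomial j.s A) :
    trans h (Ideal.Quotient.mk j.I f) = Ideal.Quotient.mk j'.I (rename (incl h.1) f) := rfl

theorem toB_trans {j j' : PIdx A B} (h : j ≤ j') (x : j.Alg) : j'.toB (trans h x) = j.toB x := by
  obtain ⟨f, rfl⟩ := Ideal.Quotient.mk_surjective x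
  rw [trans_mk, toB_mk, toB_mk, ev_rename]

theorem trans_refl (j : PIdx A B) (h : j ≤ j) (x : j.Alg) : trans h x = x := by
  obtain ⟨f, rfl⟩ := Ideal.Quotient.mk_surjective x
  rw [trans_mk, rename_incl_self]

theorem trans_trans {j j' j'' : PIdx A B} (h : j ≤ j') (h' : j' ≤ j'') (x : j.Alg) :
    trans h' (trans h x) = trans (le_trans h h') x := by
  obtain ⟨f, rfl⟩ := Ideal.Quotient.mk_surjective x
  rw [trans_mk, trans_mk, trans_mk, rename_incl_rename_incl]

instance (j : PIdx A B) : Algebra.FinitePresentation A j.Alg :=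
  Algebra.FinitePresentation.quotient j.fg

/-- the generators of the algebra of an index -/
noncomputable def gen (j : PIdx A B) (e : j.s) : j.Alg := Ideal.Quotient.mk j.I (X e)

theorem adjoin_gen (j : PIdx A B) : Algebra.adjoin A (Set.range j.gen) = ⊤ := by
  have h1 : Algebra.adjoin A (Set.range (X : j.s → MvPolynomial j.s A)) = ⊤ :=
    MvPolynomial.adjoin_range_X
  have h2 := congrArg (Subalgebra.map (Ideal.Quotient.mkₐ A j.I)) h1
  rw [AlgHom.map_adjoin, Algebra.map_top, ← Set.range_comp] at h2
  rw [(AlgHom.range_eq_top _).mpr (Ideal.Quotient.mkₐ_surjective A j.I)] at h2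
  exact h2

theorem toB_gen (j : PIdx A B) (e : j.s) : j.toB (j.gen e) = e := by
  unfold gen
  rw [toB_mk]
  unfold ev
  rw [aeval_X]

theorem trans_gen {j j' : PIdx A B} (h : j ≤ j') (e : j.s) :
    trans h (j.gen e) = j'.gen (incl h.1 e) := by
  unfold gen
  rw [trans_mk, rename_X]

/-- join of two indices -/
noncomputable def sup (j j' : PIdx A B) : PIdx A B where
  s := j.s ∪ j'.s
  I := j.I.map (rename (incl (Finset.subset_union_left (s₁ := j.s) (s₂ := j'.s)))) ⊔
    j'.I.map (rename (incl (Finset.subset_union_right (s₁ := j.s) (s₂ := j'.s))))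
  fg := Submodule.FG.sup (j.fg.map _) (j'.fg.map _)
  le_ker := by
    have key : j.I.map (rename (incl (Finset.subset_union_left (s₁ := j.s) (s₂ := j'.s)))) ⊔
        j'.I.map (rename (incl (Finset.subset_union_right (s₁ := j.s) (s₂ := j'.s)))) ≤
        RingHom.ker (ev (A := A) (j.s ∪ j'.s)) := by
      refine sup_le ?_ ?_
      · rw [Ideal.map_le_iff_le_comap]
        intro f hf
        rw [Ideal.mem_comap, RingHom.mem_ker, ev_rename]
        exact j.le_ker f hf
      · rw [Ideal.map_le_iff_le_comap]
        intro f hf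
        rw [Ideal.mem_comap, RingHom.mem_ker, ev_rename]
        exact j'.le_ker f hf
    intro f hf
    exact key hf

theorem le_sup_left' (j j' : PIdx A B) : j ≤ sup j j' :=
  ⟨Finset.subset_union_left, fun _ => le_sup_left⟩

theorem le_sup_right' (j j' : PIdx A B) : j' ≤ sup j j' :=
  ⟨Finset.subset_union_right, fun _ => le_sup_right⟩

instance : IsDirected (PIdx A B) (· ≤ ·) := ⟨fun j j' => ⟨sup j j', le_sup_left' j j', le_sup_right' j j'⟩⟩

/-- the index with one generator and no relation -/
noncomputable def single (b : B) : PIdx A B where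
  s := {b}
  I := ⊥
  fg := Submodule.fg_bot
  le_ker := by
    intro f hf
    rw [Ideal.mem_bot.mp hf, map_zero]

instance [Inhabited B] : Nonempty (PIdx A B) := ⟨single default⟩

/-- adding finitely many relations -/
noncomputable def addRels (j : PIdx A B) (t : Finset (MvPolynomial j.s A))
    (ht : ∀ f ∈ t, ev j.s f = 0) : PIdx A B where
  s := j.s
  I := j.I ⊔ Ideal.span (t : Set (MvPolynomial j.s A))
  fg := Submodule.FG.sup j.fg ⟨t, rfl⟩
  le_ker := by
    have key : j.I ⊔ Ideal.span (t : Set (MvPolynomial j.s A)) ≤ RingHom.ker (ev (A := A) j.s) := by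
      refine sup_le (fun f hf => j.le_ker f hf) ?_
      rw [Ideal.span_le]
      intro f hf
      exact ht f hf
    intro f hf
    exact key hf

theorem le_addRels (j : PIdx A B) (t : Finset (MvPolynomial j.s A))
    (ht : ∀ f ∈ t, ev j.s f = 0) : j ≤ j.addRels t ht := by
  refine ⟨Finset.Subset.refl _, fun h => ?_⟩
  rw [Ideal.map_le_iff_le_comap]
  intro f hf
  rw [Ideal.mem_comap]
  have e : rename (incl h) f = f := rename_incl_self (s := j.s) h f
  rw [e]
  exact Ideal.mem_sup_left hf

theorem mk_addRels_eq_zero (j : PIdx A B) (t : Finset (MvPolynomial j.s A))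
    (ht : ∀ f ∈ t, ev j.s f = 0) (f : MvPolynomial j.s A) (hf : f ∈ t) :
    Ideal.Quotient.mk (j.addRels t ht).I f = 0 := by
  rw [Ideal.Quotient.eq_zero_iff_mem]
  exact Ideal.mem_sup_right (Ideal.subset_span hf)

/-- adding a generator together with finitely many relations -/
noncomputable def insertGen (j : PIdx A B) (b : B) (t : Finset (MvPolynomial ↥(insert b j.s) A))
    (ht : ∀ f ∈ t, ev (insert b j.s) f = 0) : PIdx A B where
  s := insert b j.s
  I := j.I.map (rename (incl (Finset.subset_insert b j.s))) ⊔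
    Ideal.span (t : Set (MvPolynomial ↥(insert b j.s) A))
  fg := Submodule.FG.sup (j.fg.map _) ⟨t, rfl⟩
  le_ker := by
    have key : j.I.map (rename (incl (Finset.subset_insert b j.s))) ⊔
        Ideal.span (t : Set (MvPolynomial ↥(insert b j.s) A)) ≤
        RingHom.ker (ev (A := A) (insert b j.s)) := by
      refine sup_le ?_ ?_
      · rw [Ideal.map_le_iff_le_comap]
        intro f hf
        rw [Ideal.mem_comap, RingHom.mem_ker, ev_rename]
        exact j.le_ker f hf
      · rw [Ideal.span_le]
        intro f hf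
        exact ht f hf
    intro f hf
    exact key hf

theorem le_insertGen (j : PIdx A B) (b : B) (t : Finset (MvPolynomial ↥(insert b j.s) A))
    (ht : ∀ f ∈ t, ev (insert b j.s) f = 0) : j ≤ j.insertGen b t ht :=
  ⟨Finset.subset_insert b j.s, fun _ => le_sup_left⟩

theorem mk_insertGen_eq_zero (j : PIdx A B) (b : B) (t : Finset (MvPolynomial ↥(insert b j.s) A))
    (ht : ∀ f ∈ t, ev (insert b j.s) f = 0) (f : MvPolynomial ↥(insert b j.s) A) (hf : f ∈ t) :
    Ideal.Quotient.mk (j.insertGen b t ht).I f = 0 := by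
  rw [Ideal.Quotient.eq_zero_iff_mem]
  exact Ideal.mem_sup_right (Ideal.subset_span hf)

end PIdx

end Groth.Agent.H37
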