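import Groth.Agent.H37.PresColim2

/-! The step classes of square-cube and prime steps; good indices are universal
homeomorphisms. -/

set_option autoImplicit false
universe u

open CategoryTheory CategoryTheory.Limits MvPolynomial

open scoped Classical

namespace Groth.Agent.H37

variable {A B : Type u} [CommRing A] [CommRing B] [Algebra A B]

/-- square-cube or prime steps -/
def scpClass (A : Type u) [CommRing A] : StepClass A where
  Step := fun {C} _ _ S c => StepSCP S c
  mono := fun S S' c h hc => stepSCP_mono S S' c h hc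
  fin := fun S c hc => stepSCP_fin S c hc
  comap := by
    intro C C' _ _ _ _ f S' c hc
    rcases hc with ⟨h2, h3⟩ | ⟨p, hp, h1, h2⟩
    · left
      rw [Subalgebra.mem_comap, map_pow] at h2 h3
      exact ⟨h2, h3⟩
    · right
      rw [Subalgebra.mem_comap] at h1 h2
      rw [map_mul, map_natCast] at h1
      rw [map_pow] at h2
      exact ⟨p, hp, h1, h2⟩

/-- square-cube steps -/
def scClass (A : Type u) [CommRing A] : StepClass A where
  Step := fun {C} _ _ S c => StepSC S c
  mono := fun S S' c h hc => stepSC_mono S S' c h hc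
  fin := fun S c hc => stepSC_fin S c hc
  comap := by
    intro C C' _ _ _ _ f S' c hc
    obtain ⟨h2, h3⟩ := hc
    rw [Subalgebra.mem_comap, map_pow] at h2 h3
    exact ⟨h2, h3⟩

/-- the new variable -/
noncomputable def newX (j : PIdx A B) (b : B) : MvPolynomial ↥(insert b j.s) A :=
  X ⟨b, Finset.mem_insert_self b j.s⟩

/-- old polynomials in the new ring -/
noncomputable def oldP (j : PIdx A B) (b : B) (G : MvPolynomial j.s A) :
    MvPolynomial ↥(insert b j.s) A :=
  rename (PIdx.incl (Finset.subset_insert b j.s)) G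

theorem ev_newX (j : PIdx A B) (b : B) : PIdx.ev (insert b j.s) (newX j b) = b := by
  unfold newX PIdx.ev
  rw [aeval_X]

theorem ev_oldP (j : PIdx A B) (b : B) (G : MvPolynomial j.s A) :
    PIdx.ev (insert b j.s) (oldP j b G) = PIdx.ev j.s G :=
  PIdx.ev_rename _ G

theorem mk_oldP (j : PIdx A B) (b : B) (t : Finset (MvPolynomial ↥(insert b j.s) A))
    (ht : ∀ f ∈ t, PIdx.ev (insert b j.s) f = 0) (G : MvPolynomial j.s A) :
    Ideal.Quotient.mk (j.insertGen b t ht).I (oldP j b G) =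
      PIdx.trans (j.le_insertGen b t ht) (Ideal.Quotient.mk j.I G) := rfl

theorem gen_eq_mk_newX (j : PIdx A B) (b : B) (t : Finset (MvPolynomial ↥(insert b j.s) A))
    (ht : ∀ f ∈ t, PIdx.ev (insert b j.s) f = 0) :
    (j.insertGen b t ht).gen ⟨b, Finset.mem_insert_self b j.s⟩ =
      Ideal.Quotient.mk (j.insertGen b t ht).I (newX j b) := rfl

/-- a pair of relations `P(X_b) = G`, `Q(X_b) = H` -/
theorem lift_two (j : PIdx A B) (b : B) (P Q : MvPolynomial ↥(insert b j.s) A)
    (G H : MvPolynomial j.s A)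
    (hP : PIdx.ev (insert b j.s) P = PIdx.ev j.s G)
    (hQ : PIdx.ev (insert b j.s) Q = PIdx.ev j.s H) :
    ∃ (t : Finset (MvPolynomial ↥(insert b j.s) A))
      (ht : ∀ f ∈ t, PIdx.ev (insert b j.s) f = 0),
      Ideal.Quotient.mk (j.insertGen b t ht).I P ∈ (PIdx.trans (j.le_insertGen b t ht)).range ∧
      Ideal.Quotient.mk (j.insertGen b t ht).I Q ∈ (PIdx.trans (j.le_insertGen b t ht)).range := by
  have ht : ∀ f ∈ ({P - oldP j b G, Q - oldP j b H} : Finset (MvPolynomial ↥(insert b j.s) A)),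
      PIdx.ev (insert b j.s) f = 0 := by
    intro f hf
    rw [Finset.mem_insert, Finset.mem_singleton] at hf
    rcases hf with rfl | rfl
    · rw [map_sub, ev_oldP, hP, sub_self]
    · rw [map_sub, ev_oldP, hQ, sub_self]
  have m1 : P - oldP j b G ∈ (j.insertGen b _ ht).I :=
    Ideal.mem_sup_right (Ideal.subset_span (by simp))
  have m2 : Q - oldP j b H ∈ (j.insertGen b _ ht).I :=
    Ideal.mem_sup_right (Ideal.subset_span (by simp))
  have e1 := (Ideal.Quotient.eq (I := (j.insertGen b _ ht).I)).mpr m1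
  have e2 := (Ideal.Quotient.eq (I := (j.insertGen b _ ht).I)).mpr m2
  refine ⟨_, ht, ⟨Ideal.Quotient.mk j.I G, ?_⟩, ⟨Ideal.Quotient.mk j.I H, ?_⟩⟩
  · exact (mk_oldP j b _ ht G).symm.trans e1.symm
  · exact (mk_oldP j b _ ht H).symm.trans e2.symm

theorem lifts_scp : (scpClass A).Lifts (B := B) := by
  intro j b hb
  rcases hb with ⟨⟨x2, h2⟩, ⟨x3, h3⟩⟩ | ⟨p, hp, ⟨x1, h1⟩, ⟨x2, h2⟩⟩
  · obtain ⟨G, rfl⟩ := Ideal.Quotient.mk_surjective x2
    obtain ⟨H, rfl⟩ := Ideal.Quotient.mk_surjective x3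
    obtain ⟨t, ht, hP, hQ⟩ := lift_two j b (newX j b ^ 2) (newX j b ^ 3) G H
      (by rw [map_pow, ev_newX]; exact h2.symm) (by rw [map_pow, ev_newX]; exact h3.symm)
    refine ⟨t, ht, Or.inl ⟨?_, ?_⟩⟩
    · rw [gen_eq_mk_newX, ← map_pow]; exact hP
    · rw [gen_eq_mk_newX, ← map_pow]; exact hQ
  · obtain ⟨G, rfl⟩ := Ideal.Quotient.mk_surjective x1
    obtain ⟨H, rfl⟩ := Ideal.Quotient.mk_surjective x2
    obtain ⟨t, ht, hP, hQ⟩ := lift_two j b ((p : MvPolynomial ↥(insert b j.s) A) * newX j b)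
      (newX j b ^ p) G H
      (by rw [map_mul, map_natCast, ev_newX]; exact h1.symm)
      (by rw [map_pow, ev_newX]; exact h2.symm)
    refine ⟨t, ht, Or.inr ⟨p, hp, ?_, ?_⟩⟩
    · rw [gen_eq_mk_newX, ← map_natCast (Ideal.Quotient.mk (j.insertGen b t ht).I), ← map_mul]
      exact hP
    · rw [gen_eq_mk_newX, ← map_pow]; exact hQ

theorem lifts_sc : (scClass A).Lifts (B := B) := by
  intro j b hb
  obtain ⟨⟨x2, h2⟩, ⟨x3, h3⟩⟩ := hb
  obtain ⟨G, rfl⟩ := Ideal.Quotient.mk_surjective x2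
  obtain ⟨H, rfl⟩ := Ideal.Quotient.mk_surjective x3
  obtain ⟨t, ht, hP, hQ⟩ := lift_two j b (newX j b ^ 2) (newX j b ^ 3) G H
    (by rw [map_pow, ev_newX]; exact h2.symm) (by rw [map_pow, ev_newX]; exact h3.symm)
  refine ⟨t, ht, ⟨?_, ?_⟩⟩
  · rw [gen_eq_mk_newX, ← map_pow]; exact hP
  · rw [gen_eq_mk_newX, ← map_pow]; exact hQ

theorem comap_surjective_alg (hB : Function.Surjective (PrimeSpectrum.comap (algebraMap A B)))
    (j : PIdx A B) : Function.Surjective (PrimeSpectrum.comap (algebraMap A j.Alg)) := by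
  intro p
  obtain ⟨q, rfl⟩ := hB p
  refine ⟨PrimeSpectrum.comap j.toB.toRingHom q, ?_⟩
  have e : (j.toB.toRingHom).comp (algebraMap A j.Alg) = algebraMap A B := by
    ext a
    exact j.toB.commutes a
  rw [← e]
  rfl

theorem ringUH_of_good_scp (hB : RingUH (algebraMap A B)) (j : PIdx A B)
    (hj : (scpClass A).Good j) : RingUH (algebraMap A j.Alg) :=
  ringUH_of_stepClosed_eq_top (comap_surjective_alg hB.surj j)
    (fun S hS => stepClosed_eq_top stepSCP_mono hj S hS)

theorem ringUH_of_good_sc (hB : RingUH (algebraMap A B)) (j : PIdx A B)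
    (hj : (scClass A).Good j) : RingUH (algebraMap A j.Alg) :=
  ringUH_of_stepClosed_eq_top (comap_surjective_alg hB.surj j)
    (fun S hS => stepClosed_eq_top stepSC_mono hj S (fun b hb => hS b (Or.inl hb)))

theorem resSurj_of_good_sc (j : PIdx A B) (hj : (scClass A).Good j) :
    ResSurj (algebraMap A j.Alg) :=
  resSurj_of_reach_eq_top hj

end Groth.Agent.H37
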