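import Mathlib
import Groth.Agent.S14766
import Groth.Agent.H22.DVRSpec
import Groth.Prelude.Def_SGA1
import Groth.Prelude.Def_W4c2submetdescSubtr

set_option autoImplicit false

universe u

namespace Groth.Agent.H37.QfhRefine

open CategoryTheory Limits AlgebraicGeometry TopologicalSpace IsLocalRing

/-- the pair-lifting property is invariant under isomorphisms of arrows -/
theorem isSSubtrusive_of_iso {X X' Y Y' : Scheme.{u}} {f : X ⟶ Y} {f' : X' ⟶ Y'} (e₁ : X' ≅ X)
    (e₂ : Y' ≅ Y) (h : e₁.hom ≫ f = f' ≫ e₂.hom) (hf : Subtr.IsSSubtrusive f) :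
    Subtr.IsSSubtrusive f' := by
  intro y y' hyy'
  obtain ⟨x, x', hxx', hx, hx'⟩ := hf (hyy'.map e₂.hom.continuous)
  have hinj : Function.Injective e₂.hom := by
    intro a b hab
    have := congrArg e₂.inv hab
    simpa using this
  refine ⟨e₁.inv x, e₁.inv x', hxx'.map e₁.inv.continuous, hinj ?_, hinj ?_⟩
  · rw [← Scheme.Hom.comp_apply, ← h, ← Scheme.Hom.comp_apply, Iso.inv_hom_id_assoc, hx]
  · rw [← Scheme.Hom.comp_apply, ← h, ← Scheme.Hom.comp_apply, Iso.inv_hom_id_assoc, hx']

/-- base change of `g` along `b` has the pair-lifting property -/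
def PS {E Y B : Scheme.{u}} (g : E ⟶ Y) (b : B ⟶ Y) : Prop :=
  Subtr.IsSSubtrusive (pullback.snd g b)

theorem PS.of_isPullback {E Y B P : Scheme.{u}} {g : E ⟶ Y} {b : B ⟶ Y} {a : P ⟶ E} {p : P ⟶ B}
    (sq : IsPullback a p g b) (hp : Subtr.IsSSubtrusive p) : PS g b :=
  isSSubtrusive_of_iso (f := p) sq.isoPullback.symm (Iso.refl _)
    (by simp) hp

theorem PS.isSSubtrusive_of_isPullback {E Y B P : Scheme.{u}} {g : E ⟶ Y} {b : B ⟶ Y}
    {a : P ⟶ E} {p : P ⟶ B} (sq : IsPullback a p g b) (hp : PS g b) : Subtr.IsSSubtrusive p :=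
  isSSubtrusive_of_iso (f := pullback.snd g b) sq.isoPullback (Iso.refl _) (by simp) hp

/-- the pair-lifting property passes to base changes along preimmersions -/
theorem isSSubtrusive_of_isPullback_of_isPreimmersion {P B P' B' : Scheme.{u}} {p : P ⟶ B}
    {j : B' ⟶ B} {p' : P' ⟶ B'} {j' : P' ⟶ P} [IsPreimmersion j] (sq : IsPullback j' p' p j)
    (hp : Subtr.IsSSubtrusive p) : Subtr.IsSSubtrusive p' := by
  intro y y' hyy'
  obtain ⟨z, z', hzz', hz, hz'⟩ := hp (hyy'.map j.continuous)
  haveI : IsPreimmersion j' := MorphismProperty.of_isPullback sq.flip inferInstance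
  obtain ⟨w₀, hw₀1, hw₀2⟩ := Scheme.Pullback.exists_preimage_pullback z y hz
  obtain ⟨w₀', hw₀'1, hw₀'2⟩ := Scheme.Pullback.exists_preimage_pullback z' y' hz'
  let w := sq.isoPullback.inv w₀
  let w' := sq.isoPullback.inv w₀'
  have h1 : j' w = z := by
    rw [← hw₀1, ← Scheme.Hom.comp_apply, sq.isoPullback_inv_fst]
  have h1' : j' w' = z' := by
    rw [← hw₀'1, ← Scheme.Hom.comp_apply, sq.isoPullback_inv_fst]
  have h2 : p' w = y := by
    rw [← hw₀2, ← Scheme.Hom.comp_apply, sq.isoPullback_inv_snd]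
  have h2' : p' w' = y' := by
    rw [← hw₀'2, ← Scheme.Hom.comp_apply, sq.isoPullback_inv_snd]
  refine ⟨w, w', ?_, h2, h2'⟩
  rw [← j'.isEmbedding.isInducing.specializes_iff, h1, h1']
  exact hzz'

theorem PS.comp_of_isPreimmersion {E Y B B' : Scheme.{u}} {g : E ⟶ Y} {b : B ⟶ Y} (j : B' ⟶ B)
    [IsPreimmersion j] (h : PS g b) : PS g (j ≫ b) := by
  let l : pullback g (j ≫ b) ⟶ pullback g b :=
    pullback.lift (pullback.fst g (j ≫ b)) (pullback.snd g (j ≫ b) ≫ j)
      (by rw [Category.assoc, pullback.condition])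
  have sq : IsPullback l (pullback.snd g (j ≫ b)) (pullback.snd g b) j := by
    refine IsPullback.of_right ?_ (pullback.lift_snd _ _ _) (IsPullback.of_hasPullback g b)
    rw [pullback.lift_fst]
    exact IsPullback.of_hasPullback g (j ≫ b)
  exact isSSubtrusive_of_isPullback_of_isPreimmersion sq h

/-- **Universally submersive morphisms to locally Noetherian schemes lift ordered pairs.** -/
theorem isSSubtrusive_of_univSubmersive {X Y : Scheme.{u}} [IsLocallyNoetherian Y] (f : X ⟶ Y)
    (hf : SGA1.UnivSubmersive f) : Subtr.IsSSubtrusive f := by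
  intro y y' hyy'
  by_cases hne : y = y'
  · subst hne
    have hq : Topology.IsQuotientMap f := MorphismProperty.universally_le _ _ hf
    obtain ⟨x, hx⟩ := hq.surjective y
    exact ⟨x, x, specializes_rfl, hx, hx⟩
  · obtain ⟨A, h, hA, hcl, hcomm⟩ :=
      Groth.Agent.H22.DVRSpec.exists_dvr_through_specialization (𝟙 Y) y' y hyy' hne
    have hq : Topology.IsQuotientMap (pullback.snd f h) :=
      hf (pullback.fst f h) h (pullback.snd f h) (IsPullback.of_hasPullback f h).flip
    have hs : Subtr.IsSSubtrusive (pullback.snd f h) :=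
      (Groth.Agent.S14766.result A (pullback.snd f h)).mp hq
    let η : Spec (CommRingCat.of A) := (⟨⊥, Ideal.isPrime_bot⟩ : PrimeSpectrum A)
    have hη : η ⤳ closedPoint A :=
      (PrimeSpectrum.le_iff_specializes (⟨⊥, Ideal.isPrime_bot⟩ : PrimeSpectrum A)
        (closedPoint A)).mp bot_le
    have hηy' : h η = y' := by
      let pt : ↥(Spec (CommRingCat.of ↑(Y.residueField y'))) := closedPoint (Y.residueField y')
      have h1 : (Spec.map (CommRingCat.ofHom A.subtype) ≫ h) pt = y' := by
        rw [hcomm, Category.comp_id]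
        exact Scheme.fromSpecResidueField_apply y' pt
      rw [Scheme.Hom.comp_apply] at h1
      have h2 : Spec.map (CommRingCat.ofHom A.subtype) pt = η := by
        apply PrimeSpectrum.ext
        change Ideal.comap A.subtype (maximalIdeal _) = ⊥
        rw [IsLocalRing.maximalIdeal_eq_bot]
        exact (RingHom.injective_iff_ker_eq_bot _).mp A.subtype_injective
      rw [h2] at h1
      exact h1
    obtain ⟨x, x', hxx', hx, hx'⟩ := hs hη
    refine ⟨pullback.fst f h x, pullback.fst f h x', hxx'.map (pullback.fst f h).continuous, ?_, ?_⟩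
    · rw [← Scheme.Hom.comp_apply, pullback.condition, Scheme.Hom.comp_apply, hx, hcl]
    · rw [← Scheme.Hom.comp_apply, pullback.condition, Scheme.Hom.comp_apply, hx', hηy']

end Groth.Agent.H37.QfhRefine
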