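import Mathlib
import Groth.Agent.H37.IntLim

set_option autoImplicit false

universe u

namespace Groth.Agent.H37.SubtrDesc

open CategoryTheory Limits AlgebraicGeometry TopologicalSpace

section

variable {I : Type u} [Category.{u} I] [IsCofiltered I] {S X : Scheme.{u}} (g : X ⟶ S)
  (D : I ⥤ Scheme.{u}) (t : D ⟶ (Functor.const I).obj S) (c : Cone D) (hc : IsLimit c)

/-- an affine open of a stage over which the structure map lifts to `X` -/
def Good (j : I) (W : (D.obj j).Opens) : Prop :=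
  IsAffineOpen W ∧ ∃ s : (W : Scheme.{u}) ⟶ X, s ≫ g = W.ι ≫ t.app j

variable {g D t}

theorem good_preimage [∀ {i j} (f : i ⟶ j), IsAffineHom (D.map f)] {j j' : I} (a : j' ⟶ j)
    {W : (D.obj j).Opens} (hW : Good g D t j W) : Good g D t j' (D.map a ⁻¹ᵁ W) := by
  obtain ⟨hW, s, hs⟩ := hW
  refine ⟨hW.preimage (D.map a), (D.map a ∣_ W) ≫ s, ?_⟩
  rw [Category.assoc, hs, ← Category.assoc, morphismRestrict_ι, Category.assoc]
  congr 1
  have := t.naturality a
  simp only [Functor.const_obj_obj, Functor.const_obj_map, Category.comp_id] at this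
  exact this

variable (g D t)

/-- the union of the good opens of a stage -/
def G (j : I) : (D.obj j).Opens := sSup {W | Good g D t j W}

variable {g D t}

theorem mem_G_iff {j : I} (x : D.obj j) : x ∈ G g D t j ↔ ∃ W, Good g D t j W ∧ x ∈ W := by
  unfold G
  rw [Opens.mem_sSup]
  constructor
  · rintro ⟨W, hW, hx⟩; exact ⟨W, hW, hx⟩
  · rintro ⟨W, hW, hx⟩; exact ⟨W, hW, hx⟩

theorem preimage_G_le [∀ {i j} (f : i ⟶ j), IsAffineHom (D.map f)] {j j' : I} (a : j' ⟶ j) :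
    D.map a ⁻¹ᵁ G g D t j ≤ G g D t j' := by
  intro x hx
  obtain ⟨W, hW, hxW⟩ := (mem_G_iff _).mp hx
  exact (mem_G_iff _).mpr ⟨_, good_preimage a hW, hxW⟩

end

section

variable {I : Type u} [Category.{u} I] [IsCofiltered I] {S X : Scheme.{u}} (g : X ⟶ S)
  [LocallyOfFinitePresentation g]
  (D : I ⥤ Scheme.{u}) (t : D ⟶ (Functor.const I).obj S) (c : Cone D) (hc : IsLimit c)
  [∀ {i j} (f : i ⟶ j), IsAffineHom (D.map f)]
  [∀ i, CompactSpace (D.obj i)] [∀ i, QuasiSeparatedSpace (D.obj i)]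

include hc in
/-- a local lift on the limit descends to a good open of some stage -/
theorem exists_good_of_lift (q : c.pt ⟶ S) (hq : ∀ i, c.π.app i ≫ t.app i = q) (x : c.pt)
    (V : c.pt.Opens) (hxV : x ∈ V) (r : (V : Scheme.{u}) ⟶ X) (hr : r ≫ g = V.ι ≫ q) :
    ∃ (j : I) (W : (D.obj j).Opens), Good g D t j W ∧ c.π.app j x ∈ W := by
  obtain ⟨_, ⟨_, ⟨i, W₀, hW₀, rfl⟩, rfl⟩, hxW₀, hW₀V⟩ :=
    (isBasis_preimage_isAffineOpen D c hc).exists_subset_of_mem_open hxV V.2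
  let r₀ : (c.π.app i ⁻¹ᵁ W₀ : Scheme.{u}) ⟶ X := c.pt.homOfLE hW₀V ≫ r
  let t' : opensDiagram D i W₀ ⟶ (Functor.const (Over i)).obj S :=
    { app := fun j => (D.map j.hom ⁻¹ᵁ W₀).ι ≫ t.app j.left
      naturality := fun j k f => by
        have := t.naturality f.left
        simp only [Functor.const_obj_obj, Functor.const_obj_map, Category.comp_id] at this ⊢
        rw [opensDiagram_map]
        erw [Scheme.Hom.resLE_comp_ι_assoc]
        rw [this]
        rfl }
  haveI : ∀ j, IsAffine ((opensDiagram D i W₀).obj j) := fun j => hW₀.preimage _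
  have ha : (opensCone D c i W₀).π ≫ t' = (Functor.const _).map (r₀ ≫ g) := by
    ext j
    simp only [NatTrans.comp_app, Functor.const_map_app, opensCone_π_app, t', r₀]
    erw [Scheme.Hom.resLE_comp_ι_assoc]
    rw [hq, Category.assoc, hr]
    erw [Scheme.homOfLE_ι_assoc]
  obtain ⟨j, s, -, hs⟩ := Scheme.exists_π_app_comp_eq_of_locallyOfFinitePresentation
    (opensDiagram D i W₀) t' g (opensCone D c i W₀) (isLimitOpensCone D c hc i W₀) r₀ ha
  refine ⟨j.left, D.map j.hom ⁻¹ᵁ W₀, ⟨hW₀.preimage _, s, hs⟩, ?_⟩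
  change (c.π.app j.left ≫ D.map j.hom) x ∈ W₀
  rw [c.w]
  exact hxW₀

include hc in
/-- if the structure map lifts locally on the limit then some stage is covered by good opens -/
theorem exists_G_eq_top (H : ∀ x : c.pt, ∃ (j : I) (W : (D.obj j).Opens),
    Good g D t j W ∧ c.π.app j x ∈ W) : ∃ j : I, G g D t j = ⊤ := by
  haveI : CompactSpace c.pt := Scheme.compactSpace_of_isLimit D c hc
  haveI : Nonempty I := IsCofiltered.nonempty
  let U : I → Set c.pt := fun j => (c.π.app j ⁻¹ᵁ G g D t j : c.pt.Opens)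
  have hmono : ∀ {j j' : I} (a : j' ⟶ j), U j ⊆ U j' := by
    intro j j' a x hx
    have h1 : (c.π.app j' ≫ D.map a) x ∈ G g D t j := by rw [c.w]; exact hx
    exact preimage_G_le a h1
  have hdir : Directed (· ⊆ ·) U := fun j₁ j₂ =>
    ⟨IsCofiltered.min j₁ j₂, hmono (IsCofiltered.minToLeft j₁ j₂),
      hmono (IsCofiltered.minToRight j₁ j₂)⟩
  have hcov : (Set.univ : Set c.pt) ⊆ ⋃ j, U j := by
    intro x _
    obtain ⟨j, W, hW, hx⟩ := H x
    exact Set.mem_iUnion.mpr ⟨j, (mem_G_iff _).mpr ⟨W, hW, hx⟩⟩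
  obtain ⟨j, hj⟩ := isCompact_univ.elim_directed_cover U
    (fun j => (c.π.app j ⁻¹ᵁ G g D t j).2) hcov hdir
  have hj' : c.π.app j ⁻¹ᵁ G g D t j = ⊤ := by
    ext x
    simp only [Opens.coe_top, Set.mem_univ, iff_true]
    exact hj (Set.mem_univ x)
  obtain ⟨j', a, ha⟩ := exists_map_eq_top D c hc (G g D t j) hj'
  exact ⟨j', top_le_iff.mp (ha ▸ preimage_G_le a)⟩

end

/-- assembling a finite affine open cover with lifts into a single refinement -/
theorem assemble {X S Y' : Scheme.{u}} (g : X ⟶ S) (q : Y' ⟶ S) [CompactSpace Y']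
    [QuasiSeparatedSpace Y']
    (H : ∀ y : Y', ∃ W : Y'.Opens, y ∈ W ∧ IsAffineOpen W ∧
      ∃ s : (W : Scheme.{u}) ⟶ X, s ≫ g = W.ι ≫ q) :
    ∃ (X' : Scheme.{u}) (h : X' ⟶ X) (p : X' ⟶ Y'), h ≫ g = p ≫ q ∧
      Surjective p ∧ QuasiCompact p ∧ QuasiSeparated p ∧
      (∀ x : X', ∃ U : X'.Opens, x ∈ U ∧ IsOpenImmersion (U.ι ≫ p)) := by
  choose W hyW hW s hs using H
  obtain ⟨F, hF⟩ := isCompact_univ.elim_finite_subcover (fun y : Y' => (W y : Set Y'))
    (fun y => (W y).2) (fun y _ => Set.mem_iUnion.mpr ⟨y, hyW y⟩)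
  let ι : Type u := ↥F
  let Z : ι → Scheme.{u} := fun k => (W k.1 : Scheme.{u})
  haveI : ∀ k, IsAffine (Z k) := fun k => hW k.1
  let p : ∐ Z ⟶ Y' := Sigma.desc fun k => (W k.1).ι
  let h : ∐ Z ⟶ X := Sigma.desc fun k => s k.1
  have hιp : ∀ k, Sigma.ι Z k ≫ p = (W k.1).ι := fun k => Sigma.ι_desc _ _
  refine ⟨∐ Z, h, p, ?_, ?_, inferInstance, inferInstance, ?_⟩
  · apply Sigma.hom_ext
    intro k
    rw [← Category.assoc, ← Category.assoc, Sigma.ι_desc, hιp, hs]
  · constructor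
    intro y
    have hy := hF (Set.mem_univ y)
    simp only [Set.mem_iUnion] at hy
    obtain ⟨k, hk, hyk⟩ := hy
    let z : ↥(Z ⟨k, hk⟩) := (⟨y, hyk⟩ : ↥(W k))
    refine ⟨Sigma.ι Z ⟨k, hk⟩ z, ?_⟩
    have h1 : (Sigma.ι Z ⟨k, hk⟩ ≫ p) z = y := by rw [hιp]; rfl
    exact h1
  · intro x
    obtain ⟨⟨k, z⟩, rfl⟩ := (sigmaMk Z).surjective x
    rw [sigmaMk_mk]
    refine ⟨(Sigma.ι Z k).opensRange, ⟨z, rfl⟩, ?_⟩
    rw [← Scheme.Hom.isoOpensRange_inv_comp, Category.assoc, hιp]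
    infer_instance

/-- **Local lifts along an integral surjection descend to a finite level.**  If `g : X ⟶ Y` is
locally of finite presentation over a qcqs base and `π : T ⟶ Y` is integral and surjective such
that `π` lifts to `X` Zariski locally on `T`, then `g` is refined by an open cover of a finite,
finitely presented, surjective `Y' ⟶ Y`. -/
theorem main {X Y : Scheme.{u}} (g : X ⟶ Y) [CompactSpace Y] [QuasiSeparatedSpace Y]
    [LocallyOfFinitePresentation g] {T : Scheme.{u}} (π : T ⟶ Y) [IsIntegralHom π]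
    [Surjective π]
    (H : ∀ t : T, ∃ (V : T.Opens) (r : (V : Scheme.{u}) ⟶ X), t ∈ V ∧ r ≫ g = V.ι ≫ π) :
    ∃ (X' Y' : Scheme.{u}) (h : X' ⟶ X) (p : X' ⟶ Y') (q : Y' ⟶ Y), h ≫ g = p ≫ q ∧
      Surjective p ∧ QuasiCompact p ∧ QuasiSeparated p ∧
      (∀ x : X', ∃ U : X'.Opens, x ∈ U ∧ IsOpenImmersion (U.ι ≫ p)) ∧
      IsFinite q ∧ Surjective q ∧ LocallyOfFinitePresentation q := by
  obtain ⟨I, _, _, _, D, c, hc, hD, ⟨e⟩⟩ := IntLim.exists_limit_finite_fp π
  let D' : Iᵒᵖ ⥤ Scheme.{u} := D ⋙ Over.forget Y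
  let t : D' ⟶ (Functor.const Iᵒᵖ).obj Y :=
    { app := fun i => (D.obj i).hom
      naturality := fun i j f => by
        simp only [Functor.const_obj_obj, Functor.const_obj_map]
        exact (Over.w (D.map f)).trans (Category.comp_id _).symm }
  let c' : Cone D' := (Over.forget Y).mapCone c
  haveI : IsConnected Iᵒᵖ := IsCofiltered.isConnected _
  have hc' : IsLimit c' := isLimitOfPreserves (Over.forget Y) hc
  haveI : ∀ i, IsFinite (D.obj i).hom := fun i => (hD i).1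
  haveI : ∀ i, LocallyOfFinitePresentation (D.obj i).hom := fun i => (hD i).2
  haveI : ∀ {i j : Iᵒᵖ} (f : i ⟶ j), IsAffineHom (D'.map f) := by
    intro i j f
    have h1 : D'.map f ≫ (D.obj j).hom = (D.obj i).hom := Over.w (D.map f)
    have h2 : IsAffineHom (D.obj i).hom := inferInstance
    have h3 : IsSeparated (D.obj j).hom := inferInstance
    haveI : IsAffineHom (D'.map f ≫ (D.obj j).hom) := by rw [h1]; exact h2
    exact @IsAffineHom.of_comp _ _ _ (D'.map f) (D.obj j).hom this h3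
  haveI : ∀ i, CompactSpace (D'.obj i) := fun i => by
    have h2 : QuasiCompact (D.obj i).hom := inferInstance
    exact @QuasiCompact.compactSpace_of_compactSpace _ _ (D.obj i).hom h2 _
  haveI : ∀ i, QuasiSeparatedSpace (D'.obj i) := fun i => by
    have h2 : QuasiSeparated (D.obj i).hom := inferInstance
    exact @quasiSeparatedSpace_of_quasiSeparated _ _ (D.obj i).hom _ h2
  let q₀ : c'.pt ⟶ Y := c.pt.hom
  have hq₀ : ∀ i, c'.π.app i ≫ t.app i = q₀ := fun i => Over.w (c.π.app i)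
  let ε : c'.pt ⟶ T := e.hom.left
  have hε : ε ≫ π = q₀ := Over.w e.hom
  haveI : IsIso ε := (Over.forget Y).map_isIso e.hom
  have H' : ∀ x : c'.pt, ∃ (j : Iᵒᵖ) (W : (D'.obj j).Opens),
      Good g D' t j W ∧ c'.π.app j x ∈ W := by
    intro x
    obtain ⟨V, r, hxV, hr⟩ := H (ε x)
    refine exists_good_of_lift g D' t c' hc' q₀ hq₀ x (ε ⁻¹ᵁ V) hxV ((ε ∣_ V) ≫ r) ?_
    rw [Category.assoc, hr, ← Category.assoc, morphismRestrict_ι, Category.assoc, hε]
  obtain ⟨j, hj⟩ := exists_G_eq_top g D' t c' hc' H'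
  have hsurj : Surjective (D.obj j).hom := by
    haveI : Surjective (c'.π.app j ≫ (D.obj j).hom) := by
      have h2 : c'.π.app j ≫ (D.obj j).hom = ε ≫ π := (hq₀ j).trans hε.symm
      rw [h2]; infer_instance
    exact Surjective.of_comp (c'.π.app j) (D.obj j).hom
  obtain ⟨X', h, p, hcomm, hp1, hp2, hp3, hp4⟩ := assemble (Y' := D'.obj j) g (D.obj j).hom (by
    intro y
    have hy : y ∈ G g D' t j := hj ▸ (Set.mem_univ y)
    obtain ⟨W, ⟨hW, s, hs⟩, hyW⟩ := (mem_G_iff _).mp hy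
    exact ⟨W, hyW, hW, s, hs⟩)
  have h5 : IsFinite (D.obj j).hom := inferInstance
  have h6 : LocallyOfFinitePresentation (D.obj j).hom := inferInstance
  exact ⟨X', D'.obj j, h, p, (D.obj j).hom, hcomm, hp1, hp2, hp3, hp4, h5, hsurj, h6⟩

end Groth.Agent.H37.SubtrDesc
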