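import Mathlib
import Groth.Agent.H37.AICSch
import Groth.Agent.H6.SpreadLfp
import Groth.Prelude.Def_W4c2submetdescSubtr

set_option autoImplicit false

universe u

namespace Groth.Agent.H37.SubtrSec

open CategoryTheory Limits AlgebraicGeometry Opposite TopologicalSpace IsLocalRing

section retraction

variable (A C : Type*) [CommRing A] [IsLocalRing A] [CommRing C] [Algebra A C]
  [Algebra.FiniteType A C] [Algebra.QuasiFinite A C]

/-- a finite type, quasi-finite algebra over a local domain in which monic polynomials have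
roots, with primes `p ≤ r` over the zero ideal and the maximal ideal, has a retraction -/
theorem exists_algHom (hA : AIC.HasRoots A) (p r : Ideal C) [p.IsPrime] [r.IsPrime]
    (hpr : p ≤ r) (hp : p.comap (algebraMap A C) = ⊥)
    (hr : r.comap (algebraMap A C) = maximalIdeal A) : Nonempty (C →ₐ[A] A) := by
  let D := C ⧸ p
  haveI : IsDomain D := Ideal.Quotient.isDomain p
  have hinj : Function.Injective (algebraMap A D) := by
    rw [injective_iff_map_eq_zero]
    intro a ha
    have h1 : algebraMap A C a ∈ p := by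
      rw [← Ideal.Quotient.eq_zero_iff_mem]
      exact ha
    have h2 : a ∈ p.comap (algebraMap A C) := h1
    rw [hp] at h2
    simpa using h2
  let rbar : Ideal D := Ideal.map (Ideal.Quotient.mk p) r
  haveI hrbar : rbar.IsPrime := Ideal.map_isPrime_of_surjective Ideal.Quotient.mk_surjective
    (by rw [Ideal.mk_ker]; exact hpr)
  have hrbar_mem : ∀ c : C, Ideal.Quotient.mk p c ∈ rbar → c ∈ r := by
    intro c hc
    have := Ideal.mem_map_iff_of_surjective (Ideal.Quotient.mk p)
      Ideal.Quotient.mk_surjective |>.mp hc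
    obtain ⟨c', hc', hcc'⟩ := this
    have h3 : c' - c ∈ p := by
      rw [← Ideal.Quotient.eq_zero_iff_mem, map_sub, hcc', sub_self]
    have h4 : c = c' - (c' - c) := by ring
    rw [h4]
    exact r.sub_mem hc' (hpr h3)
  obtain ⟨t, htr, htint, ht⟩ := Algebra.zariskisMainProperty_iff.mp
    (Algebra.ZariskisMainProperty.of_finiteType (R := A) rbar)
  obtain ⟨a₀, ha₀⟩ := AIC.mem_range_of_isIntegral hA t htint
  have ha₀u : IsUnit a₀ := by
    by_contra hnu
    have hm : a₀ ∈ maximalIdeal A := (IsLocalRing.mem_maximalIdeal a₀).mpr hnu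
    rw [← hr] at hm
    apply htr
    rw [← ha₀]
    exact Ideal.mem_map_of_mem _ hm
  have hsurj : Function.Surjective (algebraMap A D) := by
    intro x
    obtain ⟨m, hm⟩ := ht x
    obtain ⟨b, hb⟩ := AIC.mem_range_of_isIntegral hA _ hm
    obtain ⟨u, rfl⟩ := ha₀u
    refine ⟨(↑(u⁻¹ ^ m) : A) * b, ?_⟩
    rw [map_mul, hb, ← ha₀, ← mul_assoc, ← map_pow, ← map_mul]
    have : (↑(u⁻¹ ^ m) : A) * (↑u : A) ^ m = 1 := by
      rw [← Units.val_pow_eq_pow_val, ← Units.val_mul, inv_pow, inv_mul_cancel, Units.val_one]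
    rw [this, map_one, one_mul]
  let e : A ≃ₐ[A] D := AlgEquiv.ofBijective (Algebra.ofId A D) ⟨hinj, hsurj⟩
  exact ⟨e.symm.toAlgHom.comp (Ideal.Quotient.mkₐ A p)⟩

end retraction

theorem exists_retraction_of_affine {A C : CommRingCat.{u}} [IsDomain A] [IsLocalRing A]
    (hA : AIC.HasRoots A) (φ : A ⟶ C) (hft : φ.hom.FiniteType)
    (hqf : φ.hom.QuasiFinite) (x x' : Spec C) (hxx' : x' ⤳ x)
    (hx : Spec.map φ x = closedPoint A)
    (hx' : (Spec.map φ x').asIdeal = ⊥) :
    ∃ σ : C ⟶ A, φ ≫ σ = 𝟙 A := by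
  letI := φ.hom.toAlgebra
  haveI : Algebra.FiniteType A C := hft
  haveI : Algebra.QuasiFinite A C := hqf
  let z : PrimeSpectrum C := x
  let z' : PrimeSpectrum C := x'
  haveI : z.asIdeal.IsPrime := z.isPrime
  haveI : z'.asIdeal.IsPrime := z'.isPrime
  have hr : z.asIdeal.comap (algebraMap A C) = maximalIdeal A :=
    congrArg PrimeSpectrum.asIdeal hx
  have hp : z'.asIdeal.comap (algebraMap A C) = ⊥ := hx'
  have hle : z'.asIdeal ≤ z.asIdeal := (PrimeSpectrum.le_iff_specializes z' z).mpr hxx'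
  obtain ⟨σ₀⟩ := exists_algHom A C hA z'.asIdeal z.asIdeal hle hp hr
  refine ⟨CommRingCat.ofHom σ₀.toRingHom, ?_⟩
  ext a
  exact σ₀.commutes a

/-- a locally quasi-finite, locally finite type, S-subtrusive morphism to the spectrum of a local
domain in which monic polynomials have roots has a section -/
theorem exists_section {A : CommRingCat.{u}} [IsDomain A] [IsLocalRing A] (hA : AIC.HasRoots A)
    {Y : Scheme.{u}} (h : Y ⟶ Spec A) [LocallyOfFiniteType h] [LocallyQuasiFinite h]
    (hs : Subtr.IsSSubtrusive h) :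
    ∃ σ : Spec A ⟶ Y, σ ≫ h = 𝟙 _ := by
  let η : Spec A := (⟨⊥, Ideal.isPrime_bot⟩ : PrimeSpectrum A)
  have hη : η ⤳ closedPoint A :=
    (PrimeSpectrum.le_iff_specializes (⟨⊥, Ideal.isPrime_bot⟩ : PrimeSpectrum A)
      (closedPoint A)).mp bot_le
  obtain ⟨y, y', hyy', hy, hy'⟩ := hs hη
  obtain ⟨W, hW, hyW, -⟩ := exists_isAffineOpen_mem_and_subset (X := Y) (x := y) (U := ⊤) trivial
  have hy'W : y' ∈ W := hyy'.mem_open W.2 hyW
  let C : CommRingCat.{u} := Γ(Y, W)
  let q : Spec C ⟶ Spec A := hW.fromSpec ≫ h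
  haveI : LocallyOfFiniteType q := inferInstance
  haveI : LocallyQuasiFinite q := inferInstance
  let φ : A ⟶ C := Spec.preimage q
  have hφ : Spec.map φ = q := Spec.map_preimage q
  have h2 : φ.hom.FiniteType := by
    rw [← HasRingHomProperty.Spec_iff (P := @LocallyOfFiniteType), hφ]; infer_instance
  have h3 : φ.hom.QuasiFinite := by
    rw [← HasRingHomProperty.Spec_iff (P := @LocallyQuasiFinite), hφ]; infer_instance
  let x : Spec C := hW.primeIdealOf ⟨y, hyW⟩
  let x' : Spec C := hW.primeIdealOf ⟨y', hy'W⟩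
  have hfx : hW.fromSpec x = y := hW.fromSpec_primeIdealOf ⟨y, hyW⟩
  have hfx' : hW.fromSpec x' = y' := hW.fromSpec_primeIdealOf ⟨y', hy'W⟩
  have hxx' : x' ⤳ x := by
    rw [← hW.fromSpec.isOpenEmbedding.isInducing.specializes_iff, hfx, hfx']
    exact hyy'
  have hx : Spec.map φ x = closedPoint A := by
    rw [hφ, Scheme.Hom.comp_apply, hfx]
    exact hy
  have hx' : (Spec.map φ x').asIdeal = ⊥ := by
    rw [hφ, Scheme.Hom.comp_apply, hfx', hy']
  obtain ⟨σ₀, hσ₀⟩ := exists_retraction_of_affine hA φ h2 h3 x x' hxx' hx hx'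
  refine ⟨Spec.map σ₀ ≫ hW.fromSpec, ?_⟩
  rw [Category.assoc]
  change Spec.map σ₀ ≫ q = _
  rw [← hφ, ← Spec.map_comp, hσ₀, Spec.map_id]

/-- a locally quasi-finite, locally finitely presented, universally S-subtrusive morphism
`g : X ⟶ Y` has sections Zariski locally on the absolute integral closure of `Y`. -/
theorem main {X Y : Scheme.{u}} (g : X ⟶ Y) [LocallyOfFinitePresentation g]
    [LocallyQuasiFinite g] (hg : Subtr.UnivSSubtrusive g) (t : ↑(AICSch.T Y)) :
    ∃ (V : (AICSch.T Y).Opens) (r : ↑V ⟶ X), t ∈ V ∧ r ≫ g = V.ι ≫ AICSch.π Y := by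
  obtain ⟨hdom, hroots⟩ := AICSch.stalk_props Y t
  let A : CommRingCat.{u} := (AICSch.T Y).presheaf.stalk t
  haveI : IsDomain A := hdom
  let b : Spec A ⟶ Y := (AICSch.T Y).fromSpecStalk t ≫ AICSch.π Y
  have hs : Subtr.IsSSubtrusive (pullback.snd g b) :=
    hg (pullback.fst g b) b (pullback.snd g b) (IsPullback.of_hasPullback g b).flip
  obtain ⟨σ, hσ⟩ := exists_section (A := A) hroots (pullback.snd g b) hs
  let φ : Spec A ⟶ X := σ ≫ pullback.fst g b
  have hφ : φ ≫ g = (AICSch.T Y).fromSpecStalk t ≫ AICSch.π Y := by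
    rw [Category.assoc, pullback.condition, ← Category.assoc, hσ, Category.id_comp]
  obtain ⟨U, hxU, f, -, hf⟩ := Groth.Agent.H6.SpreadLfp.spread_out_of_lfp' (AICSch.π Y) g φ hφ
  exact ⟨U, f, hxU, hf⟩

end Groth.Agent.H37.SubtrSec
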