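import Mathlib
import Groth.Agent.H37.QfhA
import Groth.Agent.H37.IntLim
import Groth.Agent.H37.SubtrSec
import Groth.Agent.H37.SubtrDesc
import Groth.Agent.S14791

set_option autoImplicit false

universe u

namespace Groth.Agent.H37.QfhRefine

open CategoryTheory Limits AlgebraicGeometry TopologicalSpace IsLocalRing

instance univSubmersive_isStableUnderBaseChange :
    (SGA1.UnivSubmersive.{u}).IsStableUnderBaseChange := by
  unfold SGA1.UnivSubmersive; infer_instance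

theorem PS.of_isLocallyNoetherian {E Y B : Scheme.{u}} [IsLocallyNoetherian B] (g : E ⟶ Y)
    (hg : SGA1.UnivSubmersive g) (b : B ⟶ Y) : PS g b :=
  isSSubtrusive_of_univSubmersive _
    (MorphismProperty.pullback_snd (P := SGA1.UnivSubmersive) g b hg)

/-- **Base changes of a quasi-compact universally submersive morphism over a Noetherian scheme
along integral morphisms lift ordered pairs.** -/
theorem PS.of_isIntegralHom {E Y T : Scheme.{u}} [IsNoetherian Y] (g : E ⟶ Y) [QuasiCompact g]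
    (hg : SGA1.UnivSubmersive g) (π : T ⟶ Y) [IsIntegralHom π] : PS g π := by
  obtain ⟨I, _, _, _, D, c, hc, hD, ⟨e⟩⟩ := IntLim.exists_limit_finite_fp π
  let D' : Iᵒᵖ ⥤ Scheme.{u} := D ⋙ Over.forget Y
  let t : D' ⟶ (Functor.const Iᵒᵖ).obj Y :=
    { app := fun i => (D.obj i).hom
      naturality := fun i j f => by
        simp only [Functor.const_obj_obj, Functor.const_obj_map]
        exact (Over.w (D.map f)).trans (Category.comp_id _).symm }
  let c' : Cone D' := (Over.forget Y).mapCone c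
  haveI : IsConnected Iᵒᵖ := IsCofiltered.isConnected _
  have hc' : IsLimit c' := isLimitOfPreserves (Over.forget Y) hc
  haveI : ∀ i, IsFinite (D.obj i).hom := fun i => (hD i).1
  haveI : ∀ (i j : Iᵒᵖ) (f : i ⟶ j), IsAffineHom (D'.map f) := by
    intro i j f
    have h1 : D'.map f ≫ (D.obj j).hom = (D.obj i).hom := Over.w (D.map f)
    have h2 : IsAffineHom (D.obj i).hom := inferInstance
    have h3 : IsSeparated (D.obj j).hom := inferInstance
    haveI : IsAffineHom (D'.map f ≫ (D.obj j).hom) := by rw [h1]; exact h2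
    exact @IsAffineHom.of_comp _ _ _ (D'.map f) (D.obj j).hom this h3
  obtain ⟨i₀⟩ : Nonempty Iᵒᵖ := inferInstance
  let f₀ : pullback g (t.app i₀) ⟶ D'.obj i₀ := pullback.snd g (t.app i₀)
  have hf₀ : SGA1.UnivSubmersive f₀ :=
    MorphismProperty.pullback_snd (P := SGA1.UnivSubmersive) g (t.app i₀) hg
  have key := Groth.Agent.S14791.result D' c' hc' i₀ f₀ (𝟙 (D'.obj i₀)) ⟨i₀, 𝟙 i₀, fun i φ => by
    have hlft : LocallyOfFiniteType (D.obj i).hom := inferInstance
    haveI : IsLocallyNoetherian (pullback (𝟙 (D'.obj i₀)) (D'.map (φ ≫ 𝟙 i₀))) :=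
      @LocallyOfFiniteType.isLocallyNoetherian _ _
        (pullback.snd (𝟙 (D'.obj i₀)) (D'.map (φ ≫ 𝟙 i₀)) ≫ (D.obj i).hom)
        (@MorphismProperty.comp_mem _ _ @LocallyOfFiniteType _ _ _ _ _ _ inferInstance hlft)
        inferInstance
    exact isSSubtrusive_of_univSubmersive _
      (MorphismProperty.pullback_snd (P := SGA1.UnivSubmersive) f₀ _ hf₀)⟩
  let k₁ := pullback.fst (𝟙 (D'.obj i₀)) (c'.π.app i₀)
  let σ := pullback.snd (𝟙 (D'.obj i₀)) (c'.π.app i₀)
  have hk₁ : k₁ = σ ≫ c'.π.app i₀ := by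
    have := pullback.condition (f := 𝟙 (D'.obj i₀)) (g := c'.π.app i₀)
    rwa [Category.comp_id] at this
  have h1 : PS g (k₁ ≫ t.app i₀) :=
    PS.of_isPullback ((IsPullback.of_hasPullback f₀ k₁).paste_horiz
      (IsPullback.of_hasPullback g (t.app i₀))) key
  let ε : c'.pt ⟶ T := e.hom.left
  have hε : ε ≫ π = c'.π.app i₀ ≫ t.app i₀ := (Over.w e.hom).trans (Over.w (c.π.app i₀)).symm
  haveI : IsIso ε := (Over.forget Y).map_isIso e.hom
  have h2 := PS.comp_of_isPreimmersion (inv ε ≫ inv σ) h1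
  have h3 : (inv ε ≫ inv σ) ≫ k₁ ≫ t.app i₀ = π := by
    rw [hk₁]
    simp only [Category.assoc, IsIso.inv_hom_id_assoc]
    rw [← hε, IsIso.inv_hom_id_assoc]
  rwa [h3] at h2

/-- a section over the stalk of the absolute integral closure spreads out -/
theorem exists_lift_stalk {X Y : Scheme.{u}} (g : X ⟶ Y) [LocallyOfFinitePresentation g]
    [LocallyQuasiFinite g] (t : ↑(AICSch.T Y))
    (hs : PS g ((AICSch.T Y).fromSpecStalk t ≫ AICSch.π Y)) :
    ∃ (V : (AICSch.T Y).Opens) (r : ↑V ⟶ X), t ∈ V ∧ r ≫ g = V.ι ≫ AICSch.π Y := by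
  obtain ⟨hdom, hroots⟩ := AICSch.stalk_props Y t
  let A : CommRingCat.{u} := (AICSch.T Y).presheaf.stalk t
  haveI : IsDomain A := hdom
  let b : Spec A ⟶ Y := (AICSch.T Y).fromSpecStalk t ≫ AICSch.π Y
  obtain ⟨σ, hσ⟩ := SubtrSec.exists_section (A := A) hroots (pullback.snd g b) hs
  let φ : Spec A ⟶ X := σ ≫ pullback.fst g b
  have hφ : φ ≫ g = (AICSch.T Y).fromSpecStalk t ≫ AICSch.π Y := by
    rw [Category.assoc, pullback.condition, ← Category.assoc, hσ, Category.id_comp]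
  obtain ⟨U, hxU, f, -, hf⟩ := Groth.Agent.H6.SpreadLfp.spread_out_of_lfp' (AICSch.π Y) g φ hφ
  exact ⟨U, f, hxU, hf⟩

theorem quasiCompact_sigmaDesc {Y : Scheme.{u}} {ι : Type u} [Finite ι] (X : ι → Scheme.{u})
    (f : ∀ i, X i ⟶ Y) [∀ i, QuasiCompact (f i)] : QuasiCompact (Sigma.desc f) := by
  rw [quasiCompact_iff_forall_isAffineOpen]
  intro U hU
  have h1 : ((Sigma.desc f ⁻¹ᵁ U : (∐ X).Opens) : Set ↑(∐ X)) =
      ⋃ i, (Sigma.ι X i) '' ((f i ⁻¹ᵁ U : (X i).Opens) : Set (X i)) := by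
    ext x
    obtain ⟨⟨i, z⟩, rfl⟩ := (sigmaMk X).surjective x
    rw [sigmaMk_mk]
    simp only [Opens.map_coe, Set.mem_preimage, SetLike.mem_coe, Set.mem_iUnion, Set.mem_image]
    constructor
    · intro hz
      refine ⟨i, z, ?_, rfl⟩
      rw [← Scheme.Hom.comp_apply, Sigma.ι_desc] at hz
      exact hz
    · rintro ⟨i', z', hz', hzz'⟩
      rw [← hzz', ← Scheme.Hom.comp_apply, Sigma.ι_desc]
      exact hz'
  rw [h1]
  exact isCompact_iUnion fun i =>
    ((f i).isCompact_preimage hU.isCompact).image (Sigma.ι X i).continuous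

/-- **A qfh covering of a Noetherian scheme is refined by a Zariski covering of a finite
surjective morphism.** -/
theorem main {Y : Scheme.{u}} [IsNoetherian Y] (E : PreZeroHypercover.{u} Y) [Finite E.I₀]
    [∀ j, LocallyOfFiniteType (E.f j)] [∀ j, QuasiCompact (E.f j)]
    [∀ j, LocallyQuasiFinite (E.f j)] (hE : SGA1.UnivSubmersive (Sigma.desc E.f)) :
    ∃ (Y' : Scheme.{u}) (p : Y' ⟶ Y) (n : ℕ) (V : Fin n → Y'.Opens), IsFinite p ∧ Surjective p ∧
      ⨆ i, V i = ⊤ ∧ ∀ i, ∃ (j : E.I₀) (h : (↑(V i) : Scheme.{u}) ⟶ E.X j),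
        h ≫ E.f j = (V i).ι ≫ p := by
  let g : ∐ E.X ⟶ Y := Sigma.desc E.f
  haveI : LocallyOfFiniteType g :=
    (HasRingHomProperty.instIsZariskiLocalAtSource (P := @LocallyOfFiniteType)).sigmaDesc
      (fun _ => inferInstance)
  haveI : LocallyQuasiFinite g :=
    (HasRingHomProperty.instIsZariskiLocalAtSource (P := @LocallyQuasiFinite)).sigmaDesc
      (fun _ => inferInstance)
  haveI : LocallyOfFinitePresentation g := inferInstance
  haveI : QuasiCompact g := quasiCompact_sigmaDesc E.X E.f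
  haveI : Surjective (AICSch.π Y) := ⟨AICSch.surjective_π Y⟩
  have hPS : PS g (AICSch.π Y) := PS.of_isIntegralHom g hE (AICSch.π Y)
  obtain ⟨X', Y', h, p, q, hcomm, hp1, -, -, hp4, hq1, hq2, -⟩ :=
    SubtrDesc.main g (AICSch.π Y) (fun t => exists_lift_stalk g t
      (PS.comp_of_isPreimmersion ((AICSch.T Y).fromSpecStalk t) hPS))
  haveI : CompactSpace Y' := QuasiCompact.compactSpace_of_compactSpace q
  -- the local pieces
  have key : ∀ y : Y', ∃ V : Y'.Opens, y ∈ V ∧ ∃ (j : E.I₀) (r : (V : Scheme.{u}) ⟶ E.X j),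
      r ≫ E.f j = V.ι ≫ q := by
    intro y
    obtain ⟨x, rfl⟩ := hp1.surj y
    obtain ⟨U, hxU, hU⟩ := hp4 x
    obtain ⟨⟨j, z⟩, hz⟩ := (sigmaMk E.X).surjective (h x)
    rw [sigmaMk_mk] at hz
    let U' : X'.Opens := U ⊓ h ⁻¹ᵁ (Sigma.ι E.X j).opensRange
    have hxU' : x ∈ U' := ⟨hxU, ⟨z, hz⟩⟩
    have hι : U'.ι = X'.homOfLE (inf_le_left : U' ≤ U) ≫ U.ι := (X'.homOfLE_ι _).symm
    haveI : IsOpenImmersion (U'.ι ≫ p) := by
      rw [hι, Category.assoc]
      infer_instance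
    let l : (U' : Scheme.{u}) ⟶ E.X j := IsOpenImmersion.lift (Sigma.ι E.X j) (U'.ι ≫ h) (by
      rintro _ ⟨w, rfl⟩
      exact w.2.2)
    have hl : l ≫ Sigma.ι E.X j = U'.ι ≫ h := IsOpenImmersion.lift_fac _ _ _
    refine ⟨(U'.ι ≫ p).opensRange, ⟨⟨x, hxU'⟩, rfl⟩, j, (U'.ι ≫ p).isoOpensRange.inv ≫ l, ?_⟩
    have h5 : l ≫ E.f j = (U'.ι ≫ p) ≫ q := by
      have : Sigma.ι E.X j ≫ g = E.f j := Sigma.ι_desc _ _
      rw [← this, ← Category.assoc, hl, Category.assoc, hcomm, Category.assoc]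
    rw [Category.assoc, h5, ← Category.assoc, Scheme.Hom.isoOpensRange_inv_comp]
  choose V hyV j r hr using key
  obtain ⟨F, hF⟩ := isCompact_univ.elim_finite_subcover (fun y : Y' => (V y : Set Y'))
    (fun y => (V y).2) (fun y _ => Set.mem_iUnion.mpr ⟨y, hyV y⟩)
  let eF := F.equivFin
  refine ⟨Y', q, F.card, fun i => V (eF.symm i).1, hq1, hq2, ?_, fun i =>
    ⟨j (eF.symm i).1, r (eF.symm i).1, hr (eF.symm i).1⟩⟩
  rw [eq_top_iff]
  intro y _
  have hy := hF (Set.mem_univ y)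
  simp only [Set.mem_iUnion] at hy
  obtain ⟨k, hk, hyk⟩ := hy
  rw [Opens.mem_iSup]
  refine ⟨eF ⟨k, hk⟩, ?_⟩
  change y ∈ V (eF.symm (eF ⟨k, hk⟩)).1
  rw [Equiv.symm_apply_apply]
  exact hyk

end Groth.Agent.H37.QfhRefine
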