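import Groth.Agent.H37.GeomTrans4
import Groth.Prelude.Def_SGA1
import Mathlib

/-! Sections of a qfh-sheaf on the base are the invariant sections upstairs. -/

set_option autoImplicit false
universe u w

open CategoryTheory CategoryTheory.Limits AlgebraicGeometry Opposite

namespace Groth.Agent.H37

theorem univSubmersive_of_finite_surjective {X Y : Scheme.{u}} (f : X ⟶ Y) [IsFinite f]
    [Surjective f] : SGA1.UnivSubmersive f := by
  intro X' Y' i₁ i₂ f' sq
  haveI : IsFinite f' := MorphismProperty.of_isPullback (P := @IsFinite) sq.flip inferInstance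
  haveI : Surjective f' := MorphismProperty.of_isPullback (P := @Surjective) sq.flip inferInstance
  exact f'.isClosedMap.isQuotientMap f'.continuous f'.surjective

/-- separatedness from the sheaf condition for a family of arrows -/
theorem eq_of_isSheafFor_arrows {C : Type*} [Category C] {P : Cᵒᵖ ⥤ Type w} {B : C} {I : Type*}
    {X : I → C} (π : ∀ i, X i ⟶ B) (h : (Presieve.ofArrows X π).IsSheafFor P)
    (t t' : P.obj (op B)) (htt' : ∀ i, P.map (π i).op t = P.map (π i).op t') : t = t' := by
  rw [Presieve.isSheafFor_arrows_iff] at h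
  obtain ⟨s, -, hs⟩ := h (fun i => P.map (π i).op t) (by
    intro i j Z gi gj hij
    rw [← FunctorToTypes.map_comp_apply, ← FunctorToTypes.map_comp_apply, ← op_comp, ← op_comp,
      hij])
  rw [hs t (fun i => rfl), hs t' (fun i => (htt' i).symm)]

theorem qfh_sections_eq_invariants {X S : Scheme.{u}} (q : X ⟶ S) [IsFinite q] [Surjective q]
    {G : Type u} [Group G] [Finite G] (ρ : G →* Aut X) (hρ : ∀ g : G, (ρ g).hom ≫ q = q)
    (htrans : ∀ (Ω : Type u) [Field Ω] [IsAlgClosed Ω] (τ₁ τ₂ : Spec (CommRingCat.of Ω) ⟶ X),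
      τ₁ ≫ q = τ₂ ≫ q → ∃ g : G, τ₁ ≫ (ρ g).hom = τ₂)
    (F : Scheme.{u}ᵒᵖ ⥤ Type w)
    (hF : ∀ ⦃T : Scheme.{u}⦄ (E : PreZeroHypercover.{u} T), Finite E.I₀ →
      (∀ i, LocallyOfFiniteType (E.f i)) → (∀ i, QuasiCompact (E.f i)) →
      (∀ i, LocallyQuasiFinite (E.f i)) → SGA1.UnivSubmersive (Sigma.desc E.f) →
      Presieve.IsSheafFor F E.presieve₀) :
    Function.Injective (F.map q.op) ∧
      Set.range (F.map q.op) = {f : F.obj (op X) | ∀ g : G, F.map (ρ g).hom.op f = f} := by
  -- the sheaf condition for the single covering `q`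
  let E₀ : PreZeroHypercover.{u} S := ⟨PUnit, fun _ => X, fun _ => q⟩
  have hE₀ : Presieve.IsSheafFor F E₀.presieve₀ := by
    refine hF E₀ (inferInstanceAs (Finite PUnit)) (fun _ => inferInstanceAs (LocallyOfFiniteType q))
      (fun _ => inferInstanceAs (QuasiCompact q))
      (fun _ => inferInstanceAs (LocallyQuasiFinite q)) ?_
    haveI : IsFinite (Sigma.desc E₀.f) :=
      isFinite_sigmaDesc_of_finite S PUnit E₀.X E₀.f (fun _ => inferInstanceAs (IsFinite q))
    haveI : Surjective (Sigma.desc E₀.f) := by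
      apply Surjective.sigmaDesc_of_union_range_eq_univ
      apply Set.eq_univ_of_forall
      intro s
      obtain ⟨x, rfl⟩ := q.surjective s
      exact Set.mem_iUnion.mpr ⟨PUnit.unit, x, rfl⟩
    exact univSubmersive_of_finite_surjective _
  refine ⟨fun t t' htt' => eq_of_isSheafFor_arrows E₀.f hE₀ t t' (fun _ => htt'), ?_⟩
  apply Set.Subset.antisymm
  · rintro _ ⟨t, rfl⟩ g
    change F.map (ρ g).hom.op (F.map q.op t) = F.map q.op t
    rw [← FunctorToTypes.map_comp_apply, ← op_comp, hρ]
  · intro x hx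
    have hx' : ∀ g : G, F.map (ρ g).hom.op x = x := hx
    -- compatibility of `x`
    have hcompat : ∀ (Z : Scheme.{u}) (a b : Z ⟶ X), a ≫ q = b ≫ q →
        F.map a.op x = F.map b.op x := by
      intro Z a b hab
      let W := pullback (a ≫ q) q
      let υσ : G → (Z ⟶ W) := fun σ =>
        pullback.lift (𝟙 Z) (a ≫ (ρ σ).hom) (by rw [Category.id_comp, Category.assoc, hρ])
      let E : PreZeroHypercover.{u} W := ⟨G, fun _ => Z, υσ⟩
      have hυ1 : ∀ σ, υσ σ ≫ pullback.fst (a ≫ q) q = 𝟙 Z := fun σ => pullback.lift_fst _ _ _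
      have hυ2 : ∀ σ, υσ σ ≫ pullback.snd (a ≫ q) q = a ≫ (ρ σ).hom :=
        fun σ => pullback.lift_snd _ _ _
      have hfin : ∀ σ, IsFinite (υσ σ) := by
        intro σ
        haveI : IsFinite (υσ σ ≫ pullback.fst (a ≫ q) q) := by rw [hυ1]; infer_instance
        exact IsFinite.of_comp (υσ σ) (pullback.fst (a ≫ q) q)
      have hfs := isFinite_surjective_sigmaDesc_graph q ρ htrans a (Sigma.desc υσ)
        (fun σ => by rw [Sigma.ι_desc_assoc]; exact hυ1 σ)
        (fun σ => by rw [Sigma.ι_desc_assoc]; exact hυ2 σ)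
      have hE : Presieve.IsSheafFor F E.presieve₀ := by
        refine hF E (inferInstanceAs (Finite G)) (fun σ => ?_) (fun σ => ?_) (fun σ => ?_) ?_
        · haveI := hfin σ; exact inferInstanceAs (LocallyOfFiniteType (υσ σ))
        · haveI := hfin σ; exact inferInstanceAs (QuasiCompact (υσ σ))
        · haveI := hfin σ; exact inferInstanceAs (LocallyQuasiFinite (υσ σ))
        · haveI := hfs.1
          haveI := hfs.2
          exact univSubmersive_of_finite_surjective (Sigma.desc υσ)
      -- two sections of `F` over `W` agreeing on the cover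
      have heq : F.map (pullback.snd (a ≫ q) q).op x =
          F.map (pullback.fst (a ≫ q) q).op (F.map a.op x) := by
        apply eq_of_isSheafFor_arrows E.f hE
        intro σ
        change F.map (υσ σ).op _ = F.map (υσ σ).op _
        rw [← FunctorToTypes.map_comp_apply, ← FunctorToTypes.map_comp_apply, ← op_comp,
          ← op_comp, hυ1, hυ2, op_comp, FunctorToTypes.map_comp_apply, hx', op_id,
          FunctorToTypes.map_id_apply]
      -- pull back along the section `(id, b)`
      let sb : Z ⟶ W := pullback.lift (𝟙 Z) b (by rw [Category.id_comp, hab])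
      have h1 := congrArg (F.map sb.op) heq
      rw [← FunctorToTypes.map_comp_apply, ← FunctorToTypes.map_comp_apply, ← op_comp, ← op_comp,
        pullback.lift_fst, pullback.lift_snd, op_id, FunctorToTypes.map_id_apply] at h1
      exact h1.symm
    rw [Presieve.isSheafFor_arrows_iff] at hE₀
    obtain ⟨t, ht, -⟩ := hE₀ (fun _ => x) (fun _ _ Z gi gj hij => hcompat Z gi gj hij)
    exact ⟨t, ht PUnit.unit⟩

end Groth.Agent.H37
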