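import Groth.Agent.H37.QuotLoc5
import Mathlib

/-! Quotient in stages, composition form: a quotient by `N` followed by a quotient by `Q`
(with `Γ → Q` surjective, `N → Γ`, compatible actions) is a quotient by `Γ`. -/

set_option autoImplicit false
universe u

open CategoryTheory Limits AlgebraicGeometry

namespace Groth.Agent.H37

theorem isQuot_comp_stages {Γ' N Q : Type u} [Group Γ'] [Group N] [Group Q]
    {Z ZN W : Scheme.{u}} (i : N →* Γ') (π : Γ' →* Q) (hπ : Function.Surjective π)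
    (θ : Γ' →* Aut Z) (pN : Z ⟶ ZN) (hN : SGA1.IsQuot (θ.comp i) pN)
    (θbar : Q →* Aut ZN) (hθbar : ∀ g : Γ', pN ≫ (θbar (π g)).hom = (θ g).hom ≫ pN)
    (r : ZN ⟶ W) (hr : SGA1.IsQuot θbar r) :
    SGA1.IsQuot θ (pN ≫ r) := by
  haveI := hN.affine
  haveI := hr.affine
  have haff : IsAffineHom (pN ≫ r) := inferInstance
  have hinv : ∀ g : Γ', (θ g).hom ≫ pN ≫ r = pN ≫ r := by
    intro g
    rw [← Category.assoc, ← hθbar g, Category.assoc, hr.inv]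
  refine isQuot_of_quotAt haff hinv fun V => ?_
  have hpre : (pN ≫ r) ⁻¹ᵁ V = pN ⁻¹ᵁ (r ⁻¹ᵁ V) := rfl
  have hleQ : ∀ q : Q, r ⁻¹ᵁ V ≤ (θbar q).hom ⁻¹ᵁ (r ⁻¹ᵁ V) := fun q =>
    SGA1.preimage_le_of_inv θbar r hr.inv q V
  have hleG : ∀ g : Γ', (pN ≫ r) ⁻¹ᵁ V ≤ (θ g).hom ⁻¹ᵁ ((pN ≫ r) ⁻¹ᵁ V) := fun g =>
    SGA1.preimage_le_of_inv θ (pN ≫ r) hinv g V
  have hRV := QuotAt.of_isQuot hr V
  have hNW := IsQuot.at_eq hN (r ⁻¹ᵁ V) ((pN ≫ r) ⁻¹ᵁ V) hpre (fun n => hleG (i n))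
  have hfac : r.appLE V (r ⁻¹ᵁ V) le_rfl ≫ pN.appLE (r ⁻¹ᵁ V) ((pN ≫ r) ⁻¹ᵁ V) hpre.le =
      (pN ≫ r).appLE V ((pN ≫ r) ⁻¹ᵁ V) le_rfl := by
    rw [Scheme.Hom.appLE_comp_appLE]
  have hequi : ∀ (g : Γ') (t : Γ(ZN, r ⁻¹ᵁ V)),
      ((θ g).hom.appLE ((pN ≫ r) ⁻¹ᵁ V) ((pN ≫ r) ⁻¹ᵁ V) (hleG g)).hom
        ((pN.appLE (r ⁻¹ᵁ V) ((pN ≫ r) ⁻¹ᵁ V) hpre.le).hom t) =
      (pN.appLE (r ⁻¹ᵁ V) ((pN ≫ r) ⁻¹ᵁ V) hpre.le).hom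
        (((θbar (π g)).hom.appLE (r ⁻¹ᵁ V) (r ⁻¹ᵁ V) (hleQ _)).hom t) := by
    intro g t
    have h1 := Scheme.Hom.appLE_comp_appLE pN (θbar (π g)).hom
      (r ⁻¹ᵁ V) (r ⁻¹ᵁ V) ((pN ≫ r) ⁻¹ᵁ V) (hleQ _) hpre.le
    have h2 := Scheme.Hom.appLE_comp_appLE (θ g).hom pN
      (r ⁻¹ᵁ V) ((pN ≫ r) ⁻¹ᵁ V) ((pN ≫ r) ⁻¹ᵁ V) hpre.le (hleG g)
    have h3 := appLE_congr_hom (hθbar g) (r ⁻¹ᵁ V) ((pN ≫ r) ⁻¹ᵁ V)
      (hpre.le.trans (pN.preimage_mono (hleQ (π g))))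
    have h4 := h2.trans (h3.symm.trans h1.symm)
    exact congrArg (fun φ => CommRingCat.Hom.hom φ t) h4
  refine ⟨rfl, hleG, ?_, fun s => ⟨?_, fun hs => ?_⟩⟩
  · rw [← hfac, CommRingCat.hom_comp, RingHom.coe_comp]
    exact hNW.1.comp hRV.injective
  · rintro ⟨a, rfl⟩ g
    exact appLE_appLE_of_inv hinv V _ le_rfl g (hleG g) a
  · -- `s` is `N`-invariant, so descends to `t` on `ZN`
    obtain ⟨t, ht⟩ := (hNW.2 s).mpr (fun n => hs (i n))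
    -- `t` is `Q`-invariant
    have htinv : ∀ q : Q, ((θbar q).hom.appLE (r ⁻¹ᵁ V) (r ⁻¹ᵁ V) (hleQ q)).hom t = t := by
      intro q
      obtain ⟨g, rfl⟩ := hπ q
      apply hNW.1
      rw [← hequi g t, ht]
      exact hs g
    obtain ⟨a, ha⟩ := (hRV.range_iff t).mpr htinv
    refine ⟨a, ?_⟩
    rw [← hfac, CommRingCat.hom_comp, RingHom.coe_comp, Function.comp_apply, ha, ht]

end Groth.Agent.H37
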