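import Mathlib

/-!
# Invariants commute with flat base change (algebra)
-/

set_option autoImplicit false

open TensorProduct

namespace Groth.Agent.H37

section CL

variable {B A B' : Type*} [CommRing B] [CommRing A] [CommRing B'] [Algebra B A] [Algebra B B']

/-- `1 ⊗ b'` as `rTensor` of the structure map. -/
theorem includeRight_eq_rTensor (b' : B') :
    (Algebra.TensorProduct.includeRight (R := B) (A := A) (B := B') b') =
      (Algebra.linearMap B A).rTensor B' ((TensorProduct.lid B B').symm b') := by
  simp [Algebra.TensorProduct.includeRight_apply]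

theorem rTensor_toLinearMap_eq (τ : A →ₐ[B] A) (t : A ⊗[B] B') :
    (LinearMap.rTensor B' τ.toLinearMap) t =
      Algebra.TensorProduct.map τ (AlgHom.id B B') t := by
  induction t using TensorProduct.induction_on with
  | zero => simp
  | tmul a b => simp
  | add x y hx hy => rw [map_add, map_add, hx, hy]

theorem includeRight_injective_of_flat [Module.Flat B B']
    (hinj : Function.Injective (algebraMap B A)) :
    Function.Injective (Algebra.TensorProduct.includeRight (R := B) (A := A) (B := B')) := by
  intro x y hxy
  rw [includeRight_eq_rTensor, includeRight_eq_rTensor] at hxy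
  have h1 : Function.Injective ((Algebra.linearMap B A).rTensor B') :=
    Module.Flat.rTensor_preserves_injective_linearMap _ hinj
  exact (TensorProduct.lid B B').symm.injective (h1 hxy)

theorem mem_range_includeRight_of_invariant [Module.Flat B B'] {G : Type*} [Finite G]
    (σ : G → (A →ₐ[B] A))
    (hrange : ∀ a : A, (∀ g, σ g a = a) → a ∈ Set.range (algebraMap B A))
    (t : A ⊗[B] B')
    (ht : ∀ g, Algebra.TensorProduct.map (σ g) (AlgHom.id B B') t = t) :
    t ∈ Set.range (Algebra.TensorProduct.includeRight (R := B) (A := A) (B := B')) := by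
  classical
  haveI := Fintype.ofFinite G
  let δg : G → (A →ₗ[B] A) := fun g => (σ g).toLinearMap - LinearMap.id
  let δ : A →ₗ[B] (G → A) := LinearMap.pi δg
  have hex : Function.Exact (Algebra.linearMap B A) δ := by
    intro a
    constructor
    · intro ha
      apply hrange
      intro g
      have := congrFun ha g
      simpa [δ, δg, sub_eq_zero] using this
    · rintro ⟨b, rfl⟩
      ext g
      simp [δ, δg]
  have hex' := Module.Flat.rTensor_exact B' hex
  have hδ : δ = ∑ g, (LinearMap.single B (fun _ : G => A) g).comp (δg g) := by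
    ext a g
    simp [δ, Finset.sum_apply, Pi.single_apply]
  have h0 : δ.rTensor B' t = 0 := by
    rw [hδ, ← LinearMap.coe_rTensorHom, map_sum, LinearMap.sum_apply]
    apply Finset.sum_eq_zero
    intro g _
    rw [LinearMap.coe_rTensorHom, LinearMap.rTensor_comp, LinearMap.comp_apply]
    have : (δg g).rTensor B' t = 0 := by
      simp only [δg, LinearMap.rTensor_sub, LinearMap.rTensor_id, LinearMap.sub_apply,
        LinearMap.id_apply, sub_eq_zero]
      rw [rTensor_toLinearMap_eq]
      exact ht g
    rw [this, map_zero]
  obtain ⟨s, hs⟩ := (hex' t).mp h0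
  refine ⟨TensorProduct.lid B B' s, ?_⟩
  rw [includeRight_eq_rTensor, LinearEquiv.symm_apply_apply, hs]

end CL

section Cat

open CategoryTheory CategoryTheory.Limits

universe u

/-- **Invariants commute with flat base change**, in the form of a pushout square of commutative
rings. -/
theorem invariants_of_isPushout_flat {B A B' A' : CommRingCat.{u}} {φ : B ⟶ A} {ψ : B ⟶ B'}
    {α : A ⟶ A'} {β : B' ⟶ A'} (H : IsPushout φ ψ α β) (hψ : ψ.hom.Flat)
    {G : Type*} [Finite G] (σ : G → (A →+* A)) (σ' : G → (A' →+* A'))
    (hσ : ∀ g, (σ g).comp φ.hom = φ.hom)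
    (hσα : ∀ g, (σ' g).comp α.hom = α.hom.comp (σ g))
    (hσβ : ∀ g, (σ' g).comp β.hom = β.hom)
    (hinj : Function.Injective φ.hom)
    (hrange : ∀ a : A, (∀ g, σ g a = a) → a ∈ Set.range φ.hom) :
    Function.Injective β.hom ∧
      ∀ a' : A', (∀ g, σ' g a' = a') → a' ∈ Set.range β.hom := by
  algebraize [φ.hom, ψ.hom]
  let e : A ⊗[B] B' ≃+* A' :=
    ((CommRingCat.isPushout_tensorProduct B A B').isoIsPushout A B' H).commRingCatIsoToRingEquiv
  have he1 : ∀ a : A, e (a ⊗ₜ 1) = α.hom a := by
    intro a
    have := congr($((CommRingCat.isPushout_tensorProduct B A B').inl_isoIsPushout_hom A B' H).hom a)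
    exact this
  have he2 : ∀ b : B', e (1 ⊗ₜ b) = β.hom b := by
    intro b
    have := congr($((CommRingCat.isPushout_tensorProduct B A B').inr_isoIsPushout_hom A B' H).hom b)
    exact this
  have hβ : ∀ b : B', β.hom b = e (Algebra.TensorProduct.includeRight (R := B) (A := A) b) := by
    intro b
    rw [Algebra.TensorProduct.includeRight_apply, he2]
  let τ : G → (A →ₐ[B] A) := fun g =>
    { σ g with commutes' := fun b => congr($(hσ g) b) }
  have hτ : ∀ g (t : A ⊗[B] B'),
      e (Algebra.TensorProduct.map (τ g) (AlgHom.id B B') t) = σ' g (e t) := by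
    intro g t
    induction t using TensorProduct.induction_on with
    | zero => simp
    | tmul a b =>
      have h1 : a ⊗ₜ[B] b = (a ⊗ₜ 1) * (1 ⊗ₜ b) := by simp
      have h2 : (τ g a) ⊗ₜ[B] b = ((τ g a) ⊗ₜ 1) * (1 ⊗ₜ b) := by simp
      rw [Algebra.TensorProduct.map_tmul, AlgHom.id_apply, h2, h1, map_mul, map_mul, map_mul,
        he1, he1, he2]
      congr 1
      · exact congr($(hσα g) a).symm
      · exact congr($(hσβ g) b).symm
    | add x y hx hy => simp only [map_add, hx, hy]
  constructor
  · intro x y hxy
    rw [hβ, hβ] at hxy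
    have hψ' : Module.Flat B B' := hψ
    exact includeRight_injective_of_flat hinj (e.injective hxy)
  · intro a' ha'
    have hψ' : Module.Flat B B' := hψ
    have := mem_range_includeRight_of_invariant (B' := B') τ hrange (e.symm a') (by
      intro g
      apply e.injective
      rw [hτ, e.apply_symm_apply]
      exact ha' g)
    obtain ⟨b, hb⟩ := this
    refine ⟨b, ?_⟩
    rw [hβ, hb, e.apply_symm_apply]

end Cat

end Groth.Agent.H37
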