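import Groth.Prelude.Def_SGA1
import Mathlib

/-! Local nature of `SGA1.IsQuot`: restriction to opens. -/

set_option autoImplicit false
universe u

open CategoryTheory Limits AlgebraicGeometry

namespace Groth.Agent.H37

variable {X Y : Scheme.{u}} {G : Type u} [Group G]

theorem IsQuot.at_eq {ρ : G →* Aut X} {p : X ⟶ Y} (hp : SGA1.IsQuot ρ p) (V : Y.Opens)
    (V' : X.Opens) (h : V' = p ⁻¹ᵁ V) (hle : ∀ g, V' ≤ (ρ g).hom ⁻¹ᵁ V') :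
    Function.Injective (p.appLE V V' h.le).hom ∧
    ∀ s : Γ(X, V'), s ∈ Set.range (p.appLE V V' h.le).hom ↔
      ∀ g, ((ρ g).hom.appLE V' V' (hle g)).hom s = s := by
  subst h
  simp only [Scheme.Hom.appLE_eq_app]
  exact ⟨hp.injective V, hp.range_iff V⟩

/-- the action on a stable open acts on sections as the ambient action does -/
theorem appLE_of_comp_ι {U : X.Opens} (a : U.toScheme ⟶ U.toScheme) (b : X ⟶ X)
    (hab : a ≫ U.ι = U.ι ≫ b) (W : U.toScheme.Opens) (e : W ≤ a ⁻¹ᵁ W)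
    (e' : U.ι ''ᵁ W ≤ b ⁻¹ᵁ (U.ι ''ᵁ W)) :
    a.appLE W W e = b.appLE (U.ι ''ᵁ W) (U.ι ''ᵁ W) e' := by
  have h1 : W ≤ (a ≫ U.ι) ⁻¹ᵁ (U.ι ''ᵁ W) := by
    rw [Scheme.Hom.comp_preimage, U.ι.preimage_image_eq]; exact e
  have h2 := Scheme.Hom.appLE_comp_appLE a U.ι (U.ι ''ᵁ W) W W
    (by rw [U.ι.preimage_image_eq]) e
  have h3 := Scheme.Hom.appLE_comp_appLE U.ι b (U.ι ''ᵁ W) (U.ι ''ᵁ W) W e'
    (by rw [U.ι.preimage_image_eq])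
  have h4 : (a ≫ U.ι).appLE (U.ι ''ᵁ W) W h1 = (U.ι ≫ b).appLE (U.ι ''ᵁ W) W (hab ▸ h1) := by
    congr 1
  rw [Scheme.Opens.ι_appLE] at h2 h3
  have h5 : X.presheaf.map (homOfLE (le_refl (U.ι ''ᵁ W))).op = 𝟙 _ := X.presheaf.map_id _
  rw [h5] at h2 h3
  have h2' : a.appLE W W e = (a ≫ U.ι).appLE (U.ι ''ᵁ W) W h1 :=
    (Category.id_comp (a.appLE W W e)).symm.trans h2
  have h3' : b.appLE (U.ι ''ᵁ W) (U.ι ''ᵁ W) e' = (U.ι ≫ b).appLE (U.ι ''ᵁ W) W (hab ▸ h1) :=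
    (Category.comp_id (b.appLE (U.ι ''ᵁ W) (U.ι ''ᵁ W) e')).symm.trans h3
  exact h2'.trans (h4.trans h3'.symm)

theorem isQuot_morphismRestrict {ρ : G →* Aut X} {p : X ⟶ Y} (hp : SGA1.IsQuot ρ p) (U : Y.Opens)
    (ρU : G →* Aut (p ⁻¹ᵁ U).toScheme)
    (hρU : ∀ g : G, (ρU g).hom ≫ (p ⁻¹ᵁ U).ι = (p ⁻¹ᵁ U).ι ≫ (ρ g).hom) :
    SGA1.IsQuot ρU (p ∣_ U) := by
  haveI := hp.affine
  have hinv : ∀ g : G, (ρU g).hom ≫ (p ∣_ U) = p ∣_ U := fun g => by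
    rw [← cancel_mono U.ι, Category.assoc, morphismRestrict_ι, ← Category.assoc, hρU,
      Category.assoc, hp.inv]
  have hstab : ∀ (W : U.toScheme.Opens) (g : G),
      (p ⁻¹ᵁ U).ι ''ᵁ ((p ∣_ U) ⁻¹ᵁ W) ≤ (ρ g).hom ⁻¹ᵁ ((p ⁻¹ᵁ U).ι ''ᵁ ((p ∣_ U) ⁻¹ᵁ W)) := by
    intro W g
    rw [image_morphismRestrict_preimage]
    exact SGA1.preimage_le_of_inv ρ p hp.inv g _
  have key := fun W => IsQuot.at_eq hp (U.ι ''ᵁ W) ((p ⁻¹ᵁ U).ι ''ᵁ ((p ∣_ U) ⁻¹ᵁ W))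
    (image_morphismRestrict_preimage p U W) (hstab W)
  have haff : IsAffineHom (p ∣_ U) :=
    MorphismProperty.of_isPullback (isPullback_morphismRestrict p U).flip hp.affine
  refine ⟨haff, hinv, fun W => ?_, fun W s => ?_⟩
  · rw [morphismRestrict_app']
    exact (key W).1
  · have h1 : ∀ g : G, (ρU g).hom.appLE ((p ∣_ U) ⁻¹ᵁ W) ((p ∣_ U) ⁻¹ᵁ W)
        (SGA1.preimage_le_of_inv ρU (p ∣_ U) hinv g W) =
        (ρ g).hom.appLE _ _ (hstab W g) := fun g =>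
      appLE_of_comp_ι (ρU g).hom (ρ g).hom (hρU g) _ _ _
    simp only [h1]
    rw [morphismRestrict_app']
    exact (key W).2 s

end Groth.Agent.H37
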