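import Groth.Agent.H37.QuotLoc
import Mathlib

/-! Recognition principle for `SGA1.IsQuot`: it can be checked on an affine open cover. -/

set_option autoImplicit false
universe u

open CategoryTheory Limits AlgebraicGeometry

namespace Groth.Agent.H37

/-- Invariants of a finite family of ring endomorphisms commute with localisation at an invariant
element coming from the base. -/
theorem invariants_localization_away {G : Type*} [Finite G] {B A Bf Af : Type*} [CommRing B]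
    [CommRing A] [CommRing Bf] [CommRing Af] [Algebra B Bf] [Algebra A Af]
    (φ : B →+* A) (f : B) [IsLocalization.Away f Bf] [IsLocalization.Away (φ f) Af]
    (σ : G → A →+* A) (φf : Bf →+* Af) (σf : G → Af →+* Af)
    (hφf : φf.comp (algebraMap B Bf) = (algebraMap A Af).comp φ)
    (hσf : ∀ g, (σf g).comp (algebraMap A Af) = (algebraMap A Af).comp (σ g))
    (hσφ : ∀ g b, σ g (φ b) = φ b)
    (hinj : Function.Injective φ)
    (hrange : ∀ a : A, (∀ g, σ g a = a) → a ∈ Set.range φ) :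
    Function.Injective φf ∧ ∀ s : Af, s ∈ Set.range φf ↔ ∀ g, σf g s = s := by
  have hφf' : ∀ b, φf (algebraMap B Bf b) = algebraMap A Af (φ b) := fun b =>
    RingHom.congr_fun hφf b
  have hσf' : ∀ g a, σf g (algebraMap A Af a) = algebraMap A Af (σ g a) := fun g a =>
    RingHom.congr_fun (hσf g) a
  have hunitB : IsUnit (algebraMap B Bf f) := IsLocalization.Away.algebraMap_isUnit f
  have hunitA : IsUnit (algebraMap A Af (φ f)) := IsLocalization.Away.algebraMap_isUnit (φ f)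
  -- zero criterion
  have hzeroA : ∀ a : A, algebraMap A Af a = 0 ↔ ∃ m : ℕ, φ f ^ m * a = 0 := by
    intro a
    rw [IsLocalization.map_eq_zero_iff (Submonoid.powers (φ f)) Af a]
    constructor
    · rintro ⟨⟨_, m, rfl⟩, hm⟩; exact ⟨m, hm⟩
    · rintro ⟨m, hm⟩; exact ⟨⟨_, m, rfl⟩, hm⟩
  have hzeroB : ∀ b : B, algebraMap B Bf b = 0 ↔ ∃ m : ℕ, f ^ m * b = 0 := by
    intro b
    rw [IsLocalization.map_eq_zero_iff (Submonoid.powers f) Bf b]
    constructor
    · rintro ⟨⟨_, m, rfl⟩, hm⟩; exact ⟨m, hm⟩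
    · rintro ⟨m, hm⟩; exact ⟨⟨_, m, rfl⟩, hm⟩
  constructor
  · rw [injective_iff_map_eq_zero]
    intro x hx
    obtain ⟨n, b, hb⟩ := IsLocalization.Away.surj f x
    have h1 : algebraMap A Af (φ b) = 0 := by
      rw [← hφf', ← hb, map_mul, hx, zero_mul]
    obtain ⟨m, hm⟩ := (hzeroA _).mp h1
    have h2 : f ^ m * b = 0 := hinj (by rw [map_mul, map_pow, hm, map_zero])
    have h3 : algebraMap B Bf b = 0 := (hzeroB b).mpr ⟨m, h2⟩
    rw [h3] at hb
    exact (hunitB.pow n).mul_left_eq_zero.mp hb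
  · intro s
    constructor
    · rintro ⟨x, rfl⟩ g
      obtain ⟨n, b, hb⟩ := IsLocalization.Away.surj f x
      have hu : IsUnit (φf (algebraMap B Bf f ^ n)) := by
        rw [map_pow, hφf']; exact hunitA.pow n
      have h1 : φf x * φf (algebraMap B Bf f ^ n) = algebraMap A Af (φ b) := by
        rw [← map_mul, hb, hφf']
      have h2 : σf g (φf x) * φf (algebraMap B Bf f ^ n) = algebraMap A Af (φ b) := by
        have : σf g (φf (algebraMap B Bf f ^ n)) = φf (algebraMap B Bf f ^ n) := by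
          rw [map_pow, hφf', map_pow, hσf', hσφ]
        rw [← this, ← map_mul, h1, hσf', hσφ]
      exact hu.mul_left_injective (h2.trans h1.symm)
    · intro hs
      classical
      haveI : Fintype G := Fintype.ofFinite G
      obtain ⟨n, a, ha⟩ := IsLocalization.Away.surj (φ f) s
      -- each `σ g a - a` is killed by a power of `φ f`
      have h1 : ∀ g, ∃ m : ℕ, φ f ^ m * (σ g a - a) = 0 := by
        intro g
        rw [← hzeroA, map_sub, ← hσf', ← ha, map_mul, hs g, map_pow, hσf', hσφ, sub_self]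
      choose m hm using h1
      set M := Finset.univ.sup m with hM
      have h2 : ∀ g, φ f ^ M * (σ g a - a) = 0 := by
        intro g
        have hle : m g ≤ M := Finset.le_sup (Finset.mem_univ g)
        rw [← Nat.sub_add_cancel hle, pow_add, mul_assoc, hm g, mul_zero]
      have h3 : ∀ g, σ g (φ f ^ M * a) = φ f ^ M * a := by
        intro g
        rw [map_mul, map_pow, hσφ]
        have := h2 g
        rw [mul_sub, sub_eq_zero] at this
        exact this
      obtain ⟨b, hb⟩ := hrange _ h3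
      obtain ⟨u, hu⟩ := (hunitB.pow (n + M))
      refine ⟨algebraMap B Bf b * ↑u⁻¹, ?_⟩
      have hu' : φf ↑u = algebraMap A Af (φ f) ^ (n + M) := by
        rw [hu, map_pow, hφf']
      have hunit : IsUnit (algebraMap A Af (φ f) ^ (n + M)) := hunitA.pow _
      apply hunit.mul_left_injective
      simp only
      rw [map_mul, mul_assoc, ← hu', ← map_mul, Units.inv_mul, map_one, mul_one, hφf', hb, hu',
        pow_add, ← mul_assoc, ha, map_mul, map_pow, mul_comm]

variable {X Y : Scheme.{u}} {G : Type u} [Group G]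

/-- The quotient condition of `SGA1.IsQuot` at a single open `V` of the target, with a flexible
name `V'` for the preimage. -/
structure QuotAt (ρ : G →* Aut X) (p : X ⟶ Y) (V : Y.Opens) (V' : X.Opens) : Prop where
  eq : V' = p ⁻¹ᵁ V
  le : ∀ g, V' ≤ (ρ g).hom ⁻¹ᵁ V'
  injective : Function.Injective (p.appLE V V' eq.le).hom
  range_iff : ∀ s : Γ(X, V'), s ∈ Set.range (p.appLE V V' eq.le).hom ↔
    ∀ g, ((ρ g).hom.appLE V' V' (le g)).hom s = s

theorem QuotAt.of_isQuot {ρ : G →* Aut X} {p : X ⟶ Y} (hp : SGA1.IsQuot ρ p) (V : Y.Opens) :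
    QuotAt ρ p V (p ⁻¹ᵁ V) :=
  ⟨rfl, fun g => SGA1.preimage_le_of_inv ρ p hp.inv g V,
    (IsQuot.at_eq hp V _ rfl (fun g => SGA1.preimage_le_of_inv ρ p hp.inv g V)).1,
    (IsQuot.at_eq hp V _ rfl (fun g => SGA1.preimage_le_of_inv ρ p hp.inv g V)).2⟩

theorem QuotAt.of_eq {ρ : G →* Aut X} {p : X ⟶ Y} {V : Y.Opens} {V' V'' : X.Opens}
    (h : V'' = V') (hq : QuotAt ρ p V V') : QuotAt ρ p V V'' := by
  subst h; exact hq

theorem isQuot_of_quotAt {ρ : G →* Aut X} {p : X ⟶ Y} (haff : IsAffineHom p)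
    (hinv : ∀ g : G, (ρ g).hom ≫ p = p) (h : ∀ V : Y.Opens, QuotAt ρ p V (p ⁻¹ᵁ V)) :
    SGA1.IsQuot ρ p := by
  refine ⟨haff, hinv, fun V => ?_, fun V s => ?_⟩
  · have := (h V).injective
    simpa only [Scheme.Hom.appLE_eq_app] using this
  · have := (h V).range_iff s
    simpa only [Scheme.Hom.appLE_eq_app] using this

/-- sections coming from the base are invariant -/
theorem appLE_appLE_of_inv {ρ : G →* Aut X} {p : X ⟶ Y} (hinv : ∀ g : G, (ρ g).hom ≫ p = p)
    (V : Y.Opens) (V' : X.Opens) (e : V' ≤ p ⁻¹ᵁ V) (g : G) (e' : V' ≤ (ρ g).hom ⁻¹ᵁ V')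
    (a : Γ(Y, V)) :
    ((ρ g).hom.appLE V' V' e').hom ((p.appLE V V' e).hom a) = (p.appLE V V' e).hom a := by
  rw [← CommRingCat.comp_apply, Scheme.Hom.appLE_comp_appLE]
  congr! 3
  exact hinv g

/-- The quotient condition passes from an affine open (with affine preimage) to its basic opens. -/
theorem QuotAt.basicOpen [Finite G] {ρ : G →* Aut X} {p : X ⟶ Y}
    (hinv : ∀ g : G, (ρ g).hom ≫ p = p) {V : Y.Opens} {V' : X.Opens}
    (hV : IsAffineOpen V) (hV' : IsAffineOpen V') (h : QuotAt ρ p V V') (f : Γ(Y, V)) :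
    QuotAt ρ p (Y.basicOpen f) (p ⁻¹ᵁ (Y.basicOpen f)) := by
  set φ := p.appLE V V' h.eq.le with hφ
  have hD' : X.basicOpen (φ.hom f) = p ⁻¹ᵁ (Y.basicOpen f) := by
    rw [hφ, Scheme.basicOpen_appLE]
    have h1 : V' ⊓ p ⁻¹ᵁ Y.basicOpen f = p ⁻¹ᵁ V ⊓ p ⁻¹ᵁ Y.basicOpen f := by
      conv_lhs => rw [h.eq]
    rw [h1]
    exact inf_eq_right.mpr (p.preimage_mono (Y.basicOpen_le f))
  refine QuotAt.of_eq hD'.symm ?_
  have hσφ : ∀ g, ((ρ g).hom.appLE V' V' (h.le g)).hom (φ.hom f) = φ.hom f := fun g =>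
    appLE_appLE_of_inv hinv V V' h.eq.le g (h.le g) f
  have hle : ∀ g, X.basicOpen (φ.hom f) ≤ (ρ g).hom ⁻¹ᵁ (X.basicOpen (φ.hom f)) := by
    intro g
    have := Scheme.basicOpen_appLE (ρ g).hom V' V' (h.le g) (φ.hom f)
    rw [hσφ g] at this
    exact this.le.trans inf_le_right
  haveI := hV.isLocalization_basicOpen f
  haveI := hV'.isLocalization_basicOpen (φ.hom f)
  have key := invariants_localization_away (G := G) (B := Γ(Y, V)) (A := Γ(X, V'))
    (Bf := Γ(Y, Y.basicOpen f)) (Af := Γ(X, X.basicOpen (φ.hom f))) φ.hom f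
    (fun g => ((ρ g).hom.appLE V' V' (h.le g)).hom)
    (p.appLE (Y.basicOpen f) (X.basicOpen (φ.hom f)) hD'.le).hom
    (fun g => ((ρ g).hom.appLE _ _ (hle g)).hom)
    (by
      rw [RingHom.algebraMap_toAlgebra, RingHom.algebraMap_toAlgebra, ← CommRingCat.hom_comp,
        ← CommRingCat.hom_comp, Scheme.Hom.appLE_map, Scheme.Hom.map_appLE])
    (fun g => by
      rw [RingHom.algebraMap_toAlgebra, ← CommRingCat.hom_comp,
        ← CommRingCat.hom_comp, Scheme.Hom.appLE_map, Scheme.Hom.map_appLE])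
    (fun g b => appLE_appLE_of_inv hinv V V' h.eq.le g (h.le g) b)
    h.injective
    (fun a ha => (h.range_iff a).mpr ha)
  exact ⟨hD', hle, key.1, key.2⟩

theorem quot_app_res {X Y : Scheme.{u}} (π : Y ⟶ X) {U V : X.Opens} (i : V ⟶ U) (a : Γ(X, U))
    (j : π ⁻¹ᵁ V ⟶ π ⁻¹ᵁ U) :
    π.app V (X.presheaf.map i.op a) = Y.presheaf.map j.op (π.app U a) :=
  congrArg (fun φ => CommRingCat.Hom.hom φ a) (π.naturality i.op)

theorem quot_res_res {Y : Scheme.{u}} {U V W : Y.Opens} (i : V ⟶ U) (j : W ⟶ V) (k : W ⟶ U)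
    (s : Γ(Y, U)) : Y.presheaf.map j.op (Y.presheaf.map i.op s) = Y.presheaf.map k.op s := by
  rw [← ConcreteCategory.comp_apply, ← Functor.map_comp]
  rfl

/-- the action on sections commutes with restriction -/
theorem appLE_res {X : Scheme.{u}} (b : X ⟶ X) {U' V' : X.Opens} (i : V' ⟶ U')
    (eU : U' ≤ b ⁻¹ᵁ U') (eV : V' ≤ b ⁻¹ᵁ V') (s : Γ(X, U')) :
    X.presheaf.map i.op ((b.appLE U' U' eU).hom s) =
      (b.appLE V' V' eV).hom (X.presheaf.map i.op s) := by
  have h1 := Scheme.Hom.appLE_map b eU i.op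
  have h2 := Scheme.Hom.map_appLE b eV i.op
  have := h1.trans h2.symm
  exact congrArg (fun φ => CommRingCat.Hom.hom φ s) this

/-- The quotient condition can be checked on a basis of opens of the target. -/
theorem quotAt_of_basis {ρ : G →* Aut X} {p : X ⟶ Y} (hinv : ∀ g : G, (ρ g).hom ≫ p = p)
    (B : Set Y.Opens)
    (hB : ∀ (U : Y.Opens) (y : Y), y ∈ U → ∃ V ∈ B, y ∈ V ∧ V ≤ U)
    (h : ∀ V ∈ B, QuotAt ρ p V (p ⁻¹ᵁ V)) (U : Y.Opens) : QuotAt ρ p U (p ⁻¹ᵁ U) := by
  have hle : ∀ (V : Y.Opens) (g : G), p ⁻¹ᵁ V ≤ (ρ g).hom ⁻¹ᵁ (p ⁻¹ᵁ V) := fun V g =>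
    SGA1.preimage_le_of_inv ρ p hinv g V
  -- reformulate the hypotheses with `app`
  have hinjB : ∀ V ∈ B, Function.Injective (p.app V).hom := fun V hV => by
    have := (h V hV).injective
    simpa only [Scheme.Hom.appLE_eq_app] using this
  have hrangeB : ∀ V ∈ B, ∀ s : Γ(X, p ⁻¹ᵁ V),
      (∀ g, ((ρ g).hom.appLE _ _ (hle V g)).hom s = s) → ∃ a, (p.app V).hom a = s := fun V hV s hs => by
    have := ((h V hV).range_iff s).mpr hs
    simp only [Scheme.Hom.appLE_eq_app] at this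
    exact this
  -- separatedness on arbitrary opens
  have hcover : ∀ W : Y.Opens, W ≤ ⨆ i : {V : Y.Opens // V ∈ B ∧ V ≤ W}, i.1 := by
    intro W y hy
    obtain ⟨V, hVB, hyV, hVW⟩ := hB W y hy
    exact TopologicalSpace.Opens.mem_iSup.mpr ⟨⟨V, hVB, hVW⟩, hyV⟩
  have hinj : ∀ W : Y.Opens, Function.Injective (p.app W).hom := by
    intro W a a' haa
    apply Y.sheaf.eq_of_locally_eq' (fun i : {V : Y.Opens // V ∈ B ∧ V ≤ W} => i.1) W
      (fun i => homOfLE i.2.2) (hcover W)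
    intro i
    apply hinjB i.1 i.2.1
    change p.app i.1 (Y.presheaf.map (homOfLE i.2.2).op a) =
      p.app i.1 (Y.presheaf.map (homOfLE i.2.2).op a')
    rw [quot_app_res p (homOfLE i.2.2) a (homOfLE (p.preimage_mono i.2.2)),
      quot_app_res p (homOfLE i.2.2) a' (homOfLE (p.preimage_mono i.2.2))]
    exact congrArg _ haa
  refine ⟨rfl, hle U, ?_, fun s => ⟨?_, fun hs => ?_⟩⟩
  · simpa only [Scheme.Hom.appLE_eq_app] using hinj U
  · rintro ⟨a, rfl⟩ g
    exact appLE_appLE_of_inv hinv U _ le_rfl g (hle U g) a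
  · simp only [Scheme.Hom.appLE_eq_app]
    -- local preimages
    have hloc : ∀ i : {V : Y.Opens // V ∈ B ∧ V ≤ U}, ∃ a : Γ(Y, i.1), (p.app i.1).hom a =
        X.presheaf.map (homOfLE (p.preimage_mono i.2.2)).op s := by
      intro i
      apply hrangeB i.1 i.2.1
      intro g
      rw [← appLE_res (ρ g).hom (homOfLE (p.preimage_mono i.2.2)) (hle U g) (hle i.1 g) s, hs g]
    choose a ha using hloc
    have hcompat : TopCat.Presheaf.IsCompatible Y.presheaf
        (fun i : {V : Y.Opens // V ∈ B ∧ V ≤ U} => i.1) a := by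
      intro i j
      apply hinj
      change p.app _ (Y.presheaf.map (homOfLE inf_le_left).op (a i)) =
        p.app _ (Y.presheaf.map (homOfLE inf_le_right).op (a j))
      rw [quot_app_res p (homOfLE inf_le_left) (a i) (homOfLE (p.preimage_mono inf_le_left)),
        quot_app_res p (homOfLE inf_le_right) (a j) (homOfLE (p.preimage_mono inf_le_right))]
      change X.presheaf.map _ ((p.app i.1).hom (a i)) = X.presheaf.map _ ((p.app j.1).hom (a j))
      rw [ha i, ha j]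
      rw [quot_res_res _ _ (homOfLE (p.preimage_mono (inf_le_left.trans i.2.2))),
        quot_res_res _ _ (homOfLE (p.preimage_mono (inf_le_left.trans i.2.2)))]
    obtain ⟨t, ht, -⟩ := Y.sheaf.existsUnique_gluing'
      (fun i : {V : Y.Opens // V ∈ B ∧ V ≤ U} => i.1) U (fun i => homOfLE i.2.2) (hcover U) a hcompat
    refine ⟨t, ?_⟩
    apply X.sheaf.eq_of_locally_eq' (fun i : {V : Y.Opens // V ∈ B ∧ V ≤ U} => p ⁻¹ᵁ i.1) (p ⁻¹ᵁ U)
      (fun i => homOfLE (p.preimage_mono i.2.2)) ?_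
    · intro i
      have h1 := quot_app_res p (homOfLE i.2.2) t (homOfLE (p.preimage_mono i.2.2))
      have h2 : Y.presheaf.map (homOfLE i.2.2).op t = a i := ht i
      rw [h2] at h1
      exact h1.symm.trans (ha i)
    · intro x hx
      obtain ⟨V, hVB, hyV, hVU⟩ := hB U (p x) hx
      exact TopologicalSpace.Opens.mem_iSup.mpr ⟨⟨V, hVB, hVU⟩, hyV⟩

/-- **Recognition principle**: `SGA1.IsQuot` can be checked on an affine open cover of the
target. -/
theorem isQuot_of_affine_cover [Finite G] {ρ : G →* Aut X} {p : X ⟶ Y} (haff : IsAffineHom p)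
    (hinv : ∀ g : G, (ρ g).hom ≫ p = p) (𝒱 : Set Y.Opens) (h𝒱 : ∀ V ∈ 𝒱, IsAffineOpen V)
    (hcov : ∀ y : Y, ∃ V ∈ 𝒱, y ∈ V) (h : ∀ V ∈ 𝒱, QuotAt ρ p V (p ⁻¹ᵁ V)) :
    SGA1.IsQuot ρ p := by
  refine isQuot_of_quotAt haff hinv (quotAt_of_basis hinv
    {W | ∃ V ∈ 𝒱, ∃ f : Γ(Y, V), W = Y.basicOpen f} ?_ ?_)
  · intro U y hy
    obtain ⟨V, hV, hyV⟩ := hcov y
    obtain ⟨f, hf1, hf2⟩ := (h𝒱 V hV).exists_basicOpen_le (V := U) ⟨y, hy⟩ hyV
    exact ⟨_, ⟨V, hV, f, rfl⟩, hf2, hf1⟩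
  · rintro W ⟨V, hV, f, rfl⟩
    exact QuotAt.basicOpen hinv (h𝒱 V hV) ((h𝒱 V hV).preimage p) (h V hV) f

end Groth.Agent.H37
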