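import Groth.Agent.H37.QuotLoc2
import Mathlib

/-! `SGA1.IsQuot` for `Spec A → Spec A^G`. -/

set_option autoImplicit false
universe u

open CategoryTheory Limits AlgebraicGeometry

namespace Groth.Agent.H37

/-- `Spec` of a ring map acts on global sections by that ring map. -/
theorem SpecMap_appTop_apply {R S : CommRingCat.{u}} (f : R ⟶ S) (s : Γ(Spec R, ⊤)) :
    (Scheme.ΓSpecIso S).hom ((Spec.map f).appTop s) = f ((Scheme.ΓSpecIso R).hom s) :=
  congrArg (fun φ => CommRingCat.Hom.hom φ s) (Scheme.ΓSpecIso_naturality f)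

theorem isQuot_Spec_map_of_isInvariant (G : Type u) [Group G] [Finite G] (A B : Type u)
    [CommRing A] [CommRing B] [Algebra B A] [MulSemiringAction G A] [SMulCommClass G B A]
    [Algebra.IsInvariant B A G] [FaithfulSMul B A]
    (ρ : G →* Aut (Spec (CommRingCat.of A)))
    (hρ : Set.range (fun g : G => (ρ g).hom) =
      Set.range (fun g : G => Spec.map (CommRingCat.ofHom (MulSemiringAction.toRingHom G A g)))) :
    SGA1.IsQuot ρ (Spec.map (CommRingCat.ofHom (algebraMap B A))) := by
  set p := Spec.map (CommRingCat.ofHom (algebraMap B A)) with hp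
  -- each `σ_g` fixes the image of `B`
  have hσp : ∀ g : G, Spec.map (CommRingCat.ofHom (MulSemiringAction.toRingHom G A g)) ≫ p = p := by
    intro g
    rw [hp, ← Spec.map_comp]
    congr 1
    ext b
    change g • (algebraMap B A b) = algebraMap B A b
    rw [Algebra.algebraMap_eq_smul_one, smul_comm, smul_one]
  have hρ1 : ∀ g : G, ∃ g' : G,
      (ρ g).hom = Spec.map (CommRingCat.ofHom (MulSemiringAction.toRingHom G A g')) := by
    intro g
    have : (ρ g).hom ∈ Set.range (fun g : G => (ρ g).hom) := ⟨g, rfl⟩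
    rw [hρ] at this
    obtain ⟨g', hg'⟩ := this
    exact ⟨g', hg'.symm⟩
  have hρ2 : ∀ g' : G, ∃ g : G,
      (ρ g).hom = Spec.map (CommRingCat.ofHom (MulSemiringAction.toRingHom G A g')) := by
    intro g'
    have : Spec.map (CommRingCat.ofHom (MulSemiringAction.toRingHom G A g')) ∈
        Set.range (fun g : G => Spec.map (CommRingCat.ofHom (MulSemiringAction.toRingHom G A g))) :=
      ⟨g', rfl⟩
    rw [← hρ] at this
    exact this
  have hinv : ∀ g : G, (ρ g).hom ≫ p = p := by
    intro g
    obtain ⟨g', hg'⟩ := hρ1 g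
    rw [hg']; exact hσp g'
  refine isQuot_of_affine_cover inferInstance hinv {⊤} ?_ ?_ ?_
  · rintro V rfl; exact isAffineOpen_top _
  · intro y; exact ⟨⊤, rfl, trivial⟩
  · rintro V rfl
    have hle : ∀ g, p ⁻¹ᵁ ⊤ ≤ (ρ g).hom ⁻¹ᵁ (p ⁻¹ᵁ ⊤) := fun g =>
      SGA1.preimage_le_of_inv ρ p hinv g ⊤
    have happ : p.appLE ⊤ (p ⁻¹ᵁ ⊤) le_rfl = p.appTop := Scheme.Hom.appLE_eq_app p
    have hact : ∀ g, (ρ g).hom.appLE (p ⁻¹ᵁ ⊤) (p ⁻¹ᵁ ⊤) (hle g) = (ρ g).hom.appTop := fun g =>
      Scheme.Hom.appLE_eq_app (ρ g).hom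
    have hinj : Function.Injective p.appTop.hom := by
      intro s t hst
      have h1 := SpecMap_appTop_apply (CommRingCat.ofHom (algebraMap B A)) s
      have h2 := SpecMap_appTop_apply (CommRingCat.ofHom (algebraMap B A)) t
      have h3 : (Scheme.ΓSpecIso (CommRingCat.of B)).hom s =
          (Scheme.ΓSpecIso (CommRingCat.of B)).hom t := by
        apply FaithfulSMul.algebraMap_injective B A
        exact h1.symm.trans ((congrArg _ hst).trans h2)
      exact (ConcreteCategory.bijective_of_isIso (Scheme.ΓSpecIso (CommRingCat.of B)).hom).injective h3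
    refine ⟨rfl, hle, ?_, fun s => ?_⟩
    · rw [happ]; exact hinj
    · simp only [hact]
      rw [happ]
      constructor
      · rintro ⟨b, rfl⟩ g
        have h1 : p.appTop ≫ (ρ g).hom.appTop = p.appTop := by
          rw [← Scheme.Hom.comp_appTop, hinv g]
        exact congrArg (fun φ => CommRingCat.Hom.hom φ b) h1
      · intro hs
        have hbijA := ConcreteCategory.bijective_of_isIso (Scheme.ΓSpecIso (CommRingCat.of A)).hom
        have hbijB := ConcreteCategory.bijective_of_isIso (Scheme.ΓSpecIso (CommRingCat.of B)).hom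
        have h1 : ∀ g' : G, g' • ((Scheme.ΓSpecIso (CommRingCat.of A)).hom s) =
            (Scheme.ΓSpecIso (CommRingCat.of A)).hom s := by
          intro g'
          obtain ⟨g, hg⟩ := hρ2 g'
          have h2 := hs g
          rw [hg] at h2
          have h3 := SpecMap_appTop_apply
            (CommRingCat.ofHom (MulSemiringAction.toRingHom G A g')) s
          exact h3.symm.trans (congrArg _ h2)
        obtain ⟨b, hb⟩ := Algebra.IsInvariant.isInvariant (A := B) (B := A) (G := G) _ h1
        obtain ⟨t, rfl⟩ := hbijB.surjective b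
        refine ⟨t, hbijA.injective ?_⟩
        exact (SpecMap_appTop_apply (CommRingCat.ofHom (algebraMap B A)) t).trans hb

end Groth.Agent.H37
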