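import Groth.Agent.H37.QuotLoc3
import Groth.Agent.H15.QuotDesc
import Groth.Agent.H15.QuotAff
import Mathlib

/-! Quotient in stages: `X/G = (X/H)/(G/H)`. -/

set_option autoImplicit false
universe u

open CategoryTheory Limits AlgebraicGeometry

namespace Groth.Agent.H37

theorem appLE_congr_hom {X Y : Scheme.{u}} {f f' : X ⟶ Y} (h : f = f') (U : Y.Opens)
    (V : X.Opens) (e : V ≤ f ⁻¹ᵁ U) : f.appLE U V e = f'.appLE U V (h ▸ e) := by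
  subst h; rfl

theorem isQuot_quotient_by_normal_subgroup {G : Type u} [Group G] [Finite G]
    {X XG XH : Scheme.{u}} (ρ : G →* Aut X) (p : X ⟶ XG)
    (hP : SGA1.IsQuot ρ p) (H : Subgroup G) [H.Normal] (pH : X ⟶ XH)
    (hPH : SGA1.IsQuot (ρ.comp H.subtype) pH) (ρbar : G ⧸ H →* Aut XH)
    (hρbar : ∀ g : G, pH ≫ (ρbar (QuotientGroup.mk g)).hom = (ρ g).hom ≫ pH)
    (r : XH ⟶ XG) (hr : pH ≫ r = p) :
    SGA1.IsQuot ρbar r := by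
  have hinv : ∀ q : G ⧸ H, (ρbar q).hom ≫ r = r := by
    intro q
    induction q using QuotientGroup.induction_on with
    | H g =>
      apply Groth.Agent.H15.Quot.eq_of_comp_eq hPH
      rw [← Category.assoc, hρbar g, Category.assoc, hr, hP.inv g]
  have hpre : ∀ V : XG.Opens, p ⁻¹ᵁ V = pH ⁻¹ᵁ (r ⁻¹ᵁ V) := fun V => by rw [← hr]; rfl
  have haff : IsAffineHom r := by
    refine ⟨fun V hV => ?_⟩
    apply Groth.Agent.H15.Quot.isAffineOpen_of_isAffineOpen_preimage hPH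
    rw [← hpre V]
    haveI := hP.affine
    exact hV.preimage p
  refine isQuot_of_quotAt haff hinv fun V => ?_
  have hle : ∀ q : G ⧸ H, r ⁻¹ᵁ V ≤ (ρbar q).hom ⁻¹ᵁ (r ⁻¹ᵁ V) := fun q =>
    SGA1.preimage_le_of_inv ρbar r hinv q V
  have hleG : ∀ g : G, p ⁻¹ᵁ V ≤ (ρ g).hom ⁻¹ᵁ (p ⁻¹ᵁ V) := fun g =>
    SGA1.preimage_le_of_inv ρ p hP.inv g V
  have hPV := QuotAt.of_isQuot hP V
  have hPHW := IsQuot.at_eq hPH (r ⁻¹ᵁ V) (p ⁻¹ᵁ V) (hpre V) (fun h => hleG h.1)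
  -- factorisation on sections
  have hfac : r.appLE V (r ⁻¹ᵁ V) le_rfl ≫ pH.appLE (r ⁻¹ᵁ V) (p ⁻¹ᵁ V) (hpre V).le =
      p.appLE V (p ⁻¹ᵁ V) le_rfl := by
    rw [Scheme.Hom.appLE_comp_appLE]
    exact appLE_congr_hom hr _ _ _
  -- equivariance of `pH` on sections
  have hequi : ∀ (g : G) (t : Γ(XH, r ⁻¹ᵁ V)),
      ((ρ g).hom.appLE (p ⁻¹ᵁ V) (p ⁻¹ᵁ V) (hleG g)).hom
        ((pH.appLE (r ⁻¹ᵁ V) (p ⁻¹ᵁ V) (hpre V).le).hom t) =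
      (pH.appLE (r ⁻¹ᵁ V) (p ⁻¹ᵁ V) (hpre V).le).hom
        (((ρbar (QuotientGroup.mk g)).hom.appLE (r ⁻¹ᵁ V) (r ⁻¹ᵁ V) (hle _)).hom t) := by
    intro g t
    have h1 := Scheme.Hom.appLE_comp_appLE pH (ρbar (QuotientGroup.mk g)).hom
      (r ⁻¹ᵁ V) (r ⁻¹ᵁ V) (p ⁻¹ᵁ V) (hle _) (hpre V).le
    have h2 := Scheme.Hom.appLE_comp_appLE (ρ g).hom pH
      (r ⁻¹ᵁ V) (p ⁻¹ᵁ V) (p ⁻¹ᵁ V) (hpre V).le (hleG g)
    have h3 := appLE_congr_hom (hρbar g) (r ⁻¹ᵁ V) (p ⁻¹ᵁ V)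
      ((hpre V).le.trans (pH.preimage_mono (hle (QuotientGroup.mk g))))
    have h4 := h2.trans (h3.symm.trans h1.symm)
    exact congrArg (fun φ => CommRingCat.Hom.hom φ t) h4
  refine ⟨rfl, hle, ?_, fun t => ⟨?_, fun ht => ?_⟩⟩
  · -- injectivity
    have h1 : Function.Injective (p.appLE V (p ⁻¹ᵁ V) le_rfl).hom := hPV.injective
    rw [← hfac, CommRingCat.hom_comp, RingHom.coe_comp] at h1
    exact h1.of_comp
  · rintro ⟨a, rfl⟩ q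
    exact appLE_appLE_of_inv hinv V _ le_rfl q (hle q) a
  · -- invariant sections descend
    have h1 : ∀ g : G, ((ρ g).hom.appLE (p ⁻¹ᵁ V) (p ⁻¹ᵁ V) (hleG g)).hom
        ((pH.appLE (r ⁻¹ᵁ V) (p ⁻¹ᵁ V) (hpre V).le).hom t) =
        (pH.appLE (r ⁻¹ᵁ V) (p ⁻¹ᵁ V) (hpre V).le).hom t := fun g => by
      rw [hequi g t, ht]
    obtain ⟨a, ha⟩ := (hPV.range_iff _).mpr h1
    refine ⟨a, hPHW.1 ?_⟩
    rw [← ha, ← hfac]
    rfl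

end Groth.Agent.H37
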