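import Groth.Agent.H37.QuotFlat2
import Groth.Agent.H37.QuotComp
import Mathlib

/-! Product of two quotients by finite groups over a field. -/

set_option autoImplicit false
universe u

open CategoryTheory Limits AlgebraicGeometry

namespace Groth.Agent.H37

section

variable {S XG Y : Scheme.{u}} {H : Type u} [Group H] (gX : XG ⟶ S) (fY : Y ⟶ S)
  (σ : H →* Aut Y) (hσ : ∀ h, (σ h).hom ≫ fY = fY)

/-- The endomorphism `id × σ h` of `XG ×_S Y`. -/
noncomputable def prodActHom (h : H) : pullback gX fY ⟶ pullback gX fY :=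
  pullback.lift (pullback.fst gX fY) (pullback.snd gX fY ≫ (σ h).hom)
    (by rw [Category.assoc, hσ h, pullback.condition])

theorem prodActHom_fst (h : H) :
    prodActHom gX fY σ hσ h ≫ pullback.fst gX fY = pullback.fst gX fY :=
  pullback.lift_fst _ _ _

theorem prodActHom_snd (h : H) :
    prodActHom gX fY σ hσ h ≫ pullback.snd gX fY = pullback.snd gX fY ≫ (σ h).hom :=
  pullback.lift_snd _ _ _

theorem prodActHom_one : prodActHom gX fY σ hσ 1 = 𝟙 _ := by
  apply pullback.hom_ext
  · rw [prodActHom_fst, Category.id_comp]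
  · rw [prodActHom_snd, rho_one, Category.id_comp, Category.comp_id]

theorem prodActHom_mul (a b : H) :
    prodActHom gX fY σ hσ (a * b) = prodActHom gX fY σ hσ b ≫ prodActHom gX fY σ hσ a := by
  apply pullback.hom_ext
  · rw [prodActHom_fst, Category.assoc, prodActHom_fst, prodActHom_fst]
  · rw [prodActHom_snd, Category.assoc, prodActHom_snd, ← Category.assoc, prodActHom_snd,
      Category.assoc, rho_mul]

/-- The action of `H` on `XG ×_S Y` through the second factor, as endomorphisms. -/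
noncomputable def prodActEnd : H →* End (pullback gX fY) where
  toFun h := prodActHom gX fY σ hσ h
  map_one' := prodActHom_one gX fY σ hσ
  map_mul' a b := prodActHom_mul gX fY σ hσ a b

/-- The action of `H` on `XG ×_S Y` through the second factor. -/
noncomputable def prodAct : H →* Aut (pullback gX fY) :=
  (Aut.unitsEndEquivAut (pullback gX fY)).toMonoidHom.comp (prodActEnd gX fY σ hσ).toHomUnits

@[simp]
theorem prodAct_hom (h : H) : (prodAct gX fY σ hσ h).hom = prodActHom gX fY σ hσ h := rfl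

end

theorem isQuot_prod {k : Type u} [Field k] {G H : Type u} [Group G] [Finite G] [Group H]
    [Finite H] {X Y XG YH : Scheme.{u}} (fX : X ⟶ Spec (CommRingCat.of k))
    (fY : Y ⟶ Spec (CommRingCat.of k)) (gX : XG ⟶ Spec (CommRingCat.of k))
    (gY : YH ⟶ Spec (CommRingCat.of k)) (ρ : G →* Aut X) (σ : H →* Aut Y)
    (hσ : ∀ h, (σ h).hom ≫ fY = fY)
    (p : X ⟶ XG) (hp : p ≫ gX = fX) (q : Y ⟶ YH) (hq : q ≫ gY = fY)
    (hP : SGA1.IsQuot ρ p) (hQ : SGA1.IsQuot σ q)
    (θ : G × H →* Aut (pullback fX fY))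
    (hθ1 : ∀ gh : G × H, (θ gh).hom ≫ pullback.fst fX fY = pullback.fst fX fY ≫ (ρ gh.1).hom)
    (hθ2 : ∀ gh : G × H, (θ gh).hom ≫ pullback.snd fX fY = pullback.snd fX fY ≫ (σ gh.2).hom)
    (π : pullback fX fY ⟶ pullback gX gY) (hπ1 : π ≫ pullback.fst gX gY = pullback.fst fX fY ≫ p)
    (hπ2 : π ≫ pullback.snd gX gY = pullback.snd fX fY ≫ q) :
    SGA1.IsQuot θ π := by
  haveI : Flat fY := inferInstance
  haveI : Flat gX := inferInstance
  let π₁ : pullback fX fY ⟶ pullback gX fY :=
    pullback.lift (pullback.fst fX fY ≫ p) (pullback.snd fX fY)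
      (by rw [Category.assoc, hp, pullback.condition])
  let π₂ : pullback gX fY ⟶ pullback gX gY :=
    pullback.lift (pullback.fst gX fY) (pullback.snd gX fY ≫ q)
      (by rw [Category.assoc, hq, pullback.condition])
  have hπ₁fst : π₁ ≫ pullback.fst gX fY = pullback.fst fX fY ≫ p := pullback.lift_fst _ _ _
  have hπ₁snd : π₁ ≫ pullback.snd gX fY = pullback.snd fX fY := pullback.lift_snd _ _ _
  have hπ₂fst : π₂ ≫ pullback.fst gX gY = pullback.fst gX fY := pullback.lift_fst _ _ _
  have hπ₂snd : π₂ ≫ pullback.snd gX gY = pullback.snd gX fY ≫ q := pullback.lift_snd _ _ _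
  have hπ : π = π₁ ≫ π₂ := by
    apply pullback.hom_ext
    · rw [hπ1, Category.assoc, hπ₂fst, hπ₁fst]
    · rw [hπ2, Category.assoc, hπ₂snd, ← Category.assoc, hπ₁snd]
  -- first square
  have sq1 : IsPullback (pullback.fst fX fY) π₁ p (pullback.fst gX fY) := by
    refine (IsPullback.of_right ?_ hπ₁fst (IsPullback.of_hasPullback gX fY).flip).flip
    rw [hπ₁snd, hp]
    exact (IsPullback.of_hasPullback fX fY).flip
  have sq2 : IsPullback (pullback.snd gX fY) π₂ q (pullback.snd gX gY) := by
    refine (IsPullback.of_right ?_ hπ₂snd (IsPullback.of_hasPullback gX gY)).flip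
    rw [hπ₂fst, hq]
    exact IsPullback.of_hasPullback gX fY
  let τ := prodAct gX fY σ hσ
  have hτfst : ∀ h, (τ h).hom ≫ pullback.fst gX fY = pullback.fst gX fY := fun h =>
    prodActHom_fst gX fY σ hσ h
  have hτsnd : ∀ h, (τ h).hom ≫ pullback.snd gX fY = pullback.snd gX fY ≫ (σ h).hom :=
    fun h => prodActHom_snd gX fY σ hσ h
  have h1 : SGA1.IsQuot (θ.comp (MonoidHom.inl G H)) π₁ := by
    refine isQuot_baseChange_of_flat_aux ρ p hP (pullback.fst gX fY) (pullback.fst fX fY) π₁ sq1
      (θ.comp (MonoidHom.inl G H)) (fun g => hθ1 (g, 1)) (fun g => ?_)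
    apply pullback.hom_ext
    · have := hθ1 (g, 1)
      simp only [MonoidHom.comp_apply, MonoidHom.inl_apply, Category.assoc]
      rw [hπ₁fst, ← Category.assoc, this, Category.assoc, hP.inv]
    · have := hθ2 (g, 1)
      simp only [MonoidHom.comp_apply, MonoidHom.inl_apply, Category.assoc]
      rw [hπ₁snd, this, rho_one, Category.comp_id]
  have h2 : SGA1.IsQuot τ π₂ := by
    refine isQuot_baseChange_of_flat_aux σ q hQ (pullback.snd gX gY) (pullback.snd gX fY) π₂ sq2
      τ hτsnd (fun h => ?_)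
    apply pullback.hom_ext
    · rw [Category.assoc, hπ₂fst, hτfst]
    · rw [Category.assoc, hπ₂snd, ← Category.assoc, hτsnd, Category.assoc, hQ.inv]
  rw [hπ]
  refine isQuot_comp_stages (MonoidHom.inl G H) (MonoidHom.snd G H)
    (fun h => ⟨(1, h), rfl⟩) θ π₁ h1 τ (fun gh => ?_) π₂ h2
  apply pullback.hom_ext
  · rw [Category.assoc, hτfst, Category.assoc, hπ₁fst, ← Category.assoc, hθ1, Category.assoc,
      hP.inv]
  · rw [Category.assoc, hτsnd, ← Category.assoc, hπ₁snd, Category.assoc, hπ₁snd, hθ2]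
    rfl

end Groth.Agent.H37
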