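import Groth.Agent.H68.QuotResidue
import Mathlib.FieldTheory.Normal.Basic

/-! Field-valued points of a scheme with the same image in a quotient by a finite group are
conjugate under the group. -/

set_option autoImplicit false
universe u

open CategoryTheory Limits AlgebraicGeometry

namespace Groth.Agent.H37

section field

variable {k N L : Type u} [Field k] [Field N] [Field L] [Algebra k N] [Normal k N]

/-- two embeddings of a normal extension agreeing on the base differ by an automorphism -/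
theorem exists_algEquiv_comp_eq_of_normal (σ₁ σ₂ : N →+* L)
    (h : σ₁.comp (algebraMap k N) = σ₂.comp (algebraMap k N)) :
    ∃ τ : N ≃ₐ[k] N, σ₂ = σ₁.comp (τ : N →+* N) := by
  have hmem : ∀ x : N, σ₂ x ∈ σ₁.range := by
    intro x
    have hsplit := Normal.splits (F := k) (K := N) inferInstance x
    have hne : (minpoly k x).map (algebraMap k N) ≠ 0 :=
      Polynomial.map_ne_zero (minpoly.ne_zero (Normal.isIntegral inferInstance x))
    refine hsplit.mem_range_of_isRoot hne (i := σ₁) ?_
    rw [Polynomial.IsRoot.def, Polynomial.map_map, h, ← Polynomial.map_map,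
      Polynomial.eval_map, Polynomial.eval₂_hom, Polynomial.eval_map_algebraMap, minpoly.aeval,
      map_zero]
  let eq : N ≃+* σ₁.range := RingEquiv.ofBijective σ₁.rangeRestrict
    ⟨fun x y hxy => σ₁.injective (congrArg Subtype.val hxy), σ₁.rangeRestrict_surjective⟩
  let τ₀ : N →+* N := eq.symm.toRingHom.comp (σ₂.codRestrict σ₁.range hmem)
  have hτ₀ : ∀ x, σ₁ (τ₀ x) = σ₂ x := by
    intro x
    have : eq (τ₀ x) = σ₂.codRestrict σ₁.range hmem x := eq.apply_symm_apply _
    exact congrArg Subtype.val this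
  let τ₁ : N →ₐ[k] N :=
    { τ₀ with
      commutes' := fun c => by
        apply σ₁.injective
        show σ₁ (τ₀ (algebraMap k N c)) = σ₁ (algebraMap k N c)
        rw [hτ₀]
        exact (RingHom.congr_fun h c).symm }
  have hbij : Function.Bijective τ₁ := Algebra.IsAlgebraic.algHom_bijective τ₁
  refine ⟨AlgEquiv.ofBijective τ₁ hbij, ?_⟩
  ext x
  exact (hτ₀ x).symm

end field

section quot

variable {X Y : Scheme.{u}} {G : Type u} [Group G] [Finite G] {ρ : G →* Aut X} {p : X ⟶ Y}

theorem exists_smul_eq_of_comp_eq_aux (hp : SGA1.IsQuot ρ p) {L : Type u} [Field L] (ξ : X)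
    (σ₁ σ₂ : X.residueField ξ ⟶ .of L)
    (h : (Spec.map σ₁ ≫ X.fromSpecResidueField ξ) ≫ p =
      (Spec.map σ₂ ≫ X.fromSpecResidueField ξ) ≫ p) :
    ∃ g : G, Spec.map σ₂ ≫ X.fromSpecResidueField ξ =
      (Spec.map σ₁ ≫ X.fromSpecResidueField ξ) ≫ (ρ g).hom := by
  have h1 : p.residueFieldMap ξ ≫ σ₁ = p.residueFieldMap ξ ≫ σ₂ := by
    rw [Category.assoc, Category.assoc, ← Scheme.Hom.SpecMap_residueFieldMap_fromSpecResidueField,
      ← Category.assoc, ← Category.assoc, ← Spec.map_comp, ← Spec.map_comp] at h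
    exact Spec.map_injective ((cancel_mono (Y.fromSpecResidueField _)).mp h)
  obtain ⟨hnorm, hstab⟩ := Groth.Agent.H68.QR.main ρ p hp ξ
  letI := (p.residueFieldMap ξ).hom.toAlgebra
  obtain ⟨τ, hτ⟩ := exists_algEquiv_comp_eq_of_normal (k := Y.residueField (p ξ))
    (N := X.residueField ξ) σ₁.hom σ₂.hom (by
      ext a
      exact congrArg (fun φ => CommRingCat.Hom.hom φ a) h1)
  let τiso : X.residueField ξ ≅ X.residueField ξ := τ.toRingEquiv.toCommRingCatIso
  obtain ⟨g, e, hg⟩ := hstab τiso (by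
    ext a
    exact τ.commutes a)
  refine ⟨g, ?_⟩
  have hσ : σ₂ = τiso.hom ≫ σ₁ := by
    ext a
    exact RingHom.congr_fun hτ a
  rw [hσ, hg, Spec.map_comp, Spec.map_comp, Category.assoc, Category.assoc, Category.assoc,
    ← Scheme.Hom.SpecMap_residueFieldMap_fromSpecResidueField]
  congr 2
  have := Scheme.residueFieldCongr_fromSpecResidueField (X := X) e.symm
  rw [← this]
  congr 2

/-- **Field-valued points with the same image in a finite quotient are conjugate.** -/
theorem exists_smul_eq_of_comp_eq (hp : SGA1.IsQuot ρ p) {L : Type u} [Field L]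
    (x₁ x₂ : Spec (.of L) ⟶ X) (h : x₁ ≫ p = x₂ ≫ p) : ∃ g : G, x₂ = x₁ ≫ (ρ g).hom := by
  set pt := IsLocalRing.closedPoint L
  have hpt : p (x₁ pt) = p (x₂ pt) := by
    have := congrArg (fun f : Spec (.of L) ⟶ Y => f pt) h
    exact this
  obtain ⟨g₀, hg₀⟩ := (Groth.Agent.H15.Quot.base_eq_iff hp (x₁ pt) (x₂ pt)).mp hpt
  -- replace `x₁` by its translate
  set x₁' := x₁ ≫ (ρ g₀).hom with hx₁'
  have hpt' : x₁' pt = x₂ pt := hg₀
  have h' : x₁' ≫ p = x₂ ≫ p := by
    rw [hx₁', Category.assoc, hp.inv g₀, h]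
  -- decompose both points
  have d1 := Scheme.descResidueField_stalkClosedPointTo_fromSpecResidueField L X x₁'
  have d2 := Scheme.descResidueField_stalkClosedPointTo_fromSpecResidueField L X x₂
  set σ₂ := X.descResidueField (Scheme.stalkClosedPointTo x₂) with hσ₂
  set σ₁ := X.descResidueField (Scheme.stalkClosedPointTo x₁') with hσ₁
  -- transport `σ₁` to the point `x₂ pt`
  have d1' : Spec.map ((X.residueFieldCongr hpt').inv ≫ σ₁) ≫ X.fromSpecResidueField (x₂ pt) =
      x₁' := by
    rw [Spec.map_comp, Category.assoc]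
    have := Scheme.residueFieldCongr_fromSpecResidueField (X := X) hpt'.symm
    refine Eq.trans ?_ d1
    congr 1
  obtain ⟨g, hg⟩ := exists_smul_eq_of_comp_eq_aux hp (x₂ pt)
    ((X.residueFieldCongr hpt').inv ≫ σ₁) σ₂ (by rw [d1', d2]; exact h')
  rw [d1', d2] at hg
  refine ⟨g * g₀, ?_⟩
  rw [hg, hx₁', Category.assoc, map_mul]
  rfl

end quot

end Groth.Agent.H37
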