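import Groth.Agent.H37.SNNormal

/-! Seminormal schemes lift uniquely through universal homeomorphisms with trivial residue field
extensions. -/

set_option autoImplicit false
universe u

open CategoryTheory Limits AlgebraicGeometry AlgebraicGeometry.Scheme

namespace Groth.Agent.H37

variable {X Y Z T P : Scheme.{u}}

/-- bijectivity on field-valued points -/
def RatBij (π : Y ⟶ X) : Prop :=
  ∀ (K : Type u) [Field K], Function.Bijective (fun a : Spec (.of K) ⟶ Y => a ≫ π)

theorem ratBij_of_isUnivHomeo (π : Y ⟶ X) (hπ : FlatMor.IsUnivHomeo π)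
    (hr : HTop.ResidueFieldsIso π) : RatBij π := by
  intro K _
  have hπ' := (isUnivHomeo_iff π).mp hπ
  haveI := hπ'.2.1
  haveI := hπ'.2.2
  constructor
  · have hcrit := (tfae_universallyInjective π).out 0 1
    exact hcrit.mp inferInstance K
  · intro c
    suffices H : ∀ (x : X) (φ : X.residueField x ⟶ .of K),
        ∃ a : Spec (.of K) ⟶ Y, a ≫ π = Spec.map φ ≫ X.fromSpecResidueField x by
      obtain ⟨a, ha⟩ := H _ (X.descResidueField (Scheme.stalkClosedPointTo c))
      exact ⟨a, ha.trans (Scheme.descResidueField_stalkClosedPointTo_fromSpecResidueField K X c)⟩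
    intro x φ
    obtain ⟨y, rfl⟩ := π.surjective x
    haveI := hr y
    refine ⟨Spec.map (inv (π.residueFieldMap y) ≫ φ) ≫ Y.fromSpecResidueField y, ?_⟩
    rw [Category.assoc, ← Scheme.Hom.SpecMap_residueFieldMap_fromSpecResidueField,
      ← Spec.map_comp_assoc, ← Category.assoc, IsIso.hom_inv_id, Category.id_comp]

theorem ratBij_of_isPullback {fst : P ⟶ Y} {snd : P ⟶ T} {π : Y ⟶ X} {g : T ⟶ X}
    (h : IsPullback fst snd π g) (hπ : RatBij π) : RatBij snd := by
  intro K _
  constructor
  · intro p₁ p₂ (e : p₁ ≫ snd = p₂ ≫ snd)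
    apply h.hom_ext _ e
    apply (hπ K).1
    show (p₁ ≫ fst) ≫ π = (p₂ ≫ fst) ≫ π
    rw [Category.assoc, Category.assoc, h.w, ← Category.assoc, e, Category.assoc]
  · intro b
    obtain ⟨a, ha⟩ := (hπ K).2 (b ≫ g)
    exact ⟨h.lift a b ha, h.lift_snd _ _ _⟩

theorem universallyInjective_of_ratBij (π : Y ⟶ X) (hπ : RatBij π) : UniversallyInjective π := by
  have hcrit := (tfae_universallyInjective π).out 0 1
  exact hcrit.mpr (fun K _ => (hπ K).1)

theorem residueFieldsIso_of_ratBij (π : Y ⟶ X) (hπ : RatBij π) : HTop.ResidueFieldsIso π := by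
  intro y
  -- lift the canonical point of `X` at `π y`
  obtain ⟨a, ha⟩ := (hπ (X.residueField (π y))).2 (X.fromSpecResidueField (π y))
  replace ha : a ≫ π = X.fromSpecResidueField (π y) := ha
  have hb : Spec.map (π.residueFieldMap y) ≫ a = Y.fromSpecResidueField y := by
    apply (hπ (Y.residueField y)).1
    show (Spec.map (π.residueFieldMap y) ≫ a) ≫ π = Y.fromSpecResidueField y ≫ π
    rw [Category.assoc, ha, Scheme.Hom.SpecMap_residueFieldMap_fromSpecResidueField]
  -- decompose `a`
  have ha' := Scheme.descResidueField_stalkClosedPointTo_fromSpecResidueField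
    (X.residueField (π y)) Y a
  set ya := a (IsLocalRing.closedPoint (X.residueField (π y))) with hya
  set ρ := Y.descResidueField (Scheme.stalkClosedPointTo a) with hρ
  rw [← ha', ← Category.assoc, ← Spec.map_comp] at hb
  have hsig : (⟨ya, ρ ≫ π.residueFieldMap y⟩ : Σ z : Y, Y.residueField z ⟶ .of (Y.residueField y)) =
      ⟨y, 𝟙 _⟩ := by
    apply (Y.SpecToEquivOfField (Y.residueField y)).symm.injective
    show Spec.map (ρ ≫ π.residueFieldMap y) ≫ Y.fromSpecResidueField ya =
      Spec.map (𝟙 _) ≫ Y.fromSpecResidueField y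
    rw [hb, Spec.map_id, Category.id_comp]
  rw [Scheme.SpecToEquivOfField_eq_iff] at hsig
  obtain ⟨e, he⟩ := hsig
  simp only [Category.comp_id] at he
  rw [ConcreteCategory.isIso_iff_bijective]
  refine ⟨(π.residueFieldMap y).hom.injective, ?_⟩
  intro z
  refine ⟨ρ ((Y.residueFieldCongr e).inv z), ?_⟩
  have := congrArg (fun φ => CommRingCat.Hom.hom φ ((Y.residueFieldCongr e).inv z)) he
  simp only [CommRingCat.hom_comp, RingHom.coe_comp, Function.comp_apply] at this
  rw [this]
  exact congrArg (fun φ => CommRingCat.Hom.hom φ z) (Y.residueFieldCongr e).inv_hom_id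

end Groth.Agent.H37

namespace Groth.Agent.H37

open CategoryTheory Limits AlgebraicGeometry AlgebraicGeometry.Scheme

variable {X Y Z T P V U : Scheme.{u}}

/-- base change of a universal homeomorphism with trivial residue field extensions -/
theorem residueFieldsIso_of_isPullback {fst : P ⟶ Y} {snd : P ⟶ T} {π : Y ⟶ X} {g : T ⟶ X}
    (h : IsPullback fst snd π g) (hπ : FlatMor.IsUnivHomeo π) (hr : HTop.ResidueFieldsIso π) :
    HTop.ResidueFieldsIso snd :=
  residueFieldsIso_of_ratBij snd (ratBij_of_isPullback h (ratBij_of_isUnivHomeo π hπ hr))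

/-- uniqueness of lifts from a reduced scheme through a universally injective separated map -/
theorem lift_unique_of_isReduced [IsReduced V] (π : Y ⟶ U) [UniversallyInjective π]
    [IsSeparated π] (h₁ h₂ : V ⟶ Y) (e : h₁ ≫ π = h₂ ≫ π) : h₁ = h₂ := by
  apply ext_of_fromSpecResidueField_eq h₁ h₂ π Set.univ dense_univ _ e
  intro x _
  have hcrit := (tfae_universallyInjective π).out 0 1
  apply hcrit.mp inferInstance (V.residueField x)
  show (V.fromSpecResidueField x ≫ h₁) ≫ π = (V.fromSpecResidueField x ≫ h₂) ≫ π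
  rw [Category.assoc, Category.assoc, e]

/-- seminormal schemes lift uniquely through universal homeomorphisms with trivial residue field
extensions -/
theorem existsUnique_lift_of_isSeminormal (π : Y ⟶ U) (hπ : FlatMor.IsUnivHomeo π)
    (hr : HTop.ResidueFieldsIso π) (g : V ⟶ U) (hV : HTop.IsSeminormal V) :
    ∃! h : V ⟶ Y, h ≫ π = g := by
  haveI := isReduced_of_isSeminormal hV
  have hπ' := (isUnivHomeo_iff π).mp hπ
  haveI := hπ'.2.1
  haveI := isAffineHom_of_isUnivHomeo hπ
  -- existence
  have hsnd : FlatMor.IsUnivHomeo (pullback.snd π g) :=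
    MorphismProperty.pullback_snd (P := FlatMor.IsUnivHomeo) _ _ hπ
  have hsndr : HTop.ResidueFieldsIso (pullback.snd π g) :=
    residueFieldsIso_of_isPullback (IsPullback.of_hasPullback π g) hπ hr
  haveI := isReduced_nilradical_subscheme (pullback π g)
  haveI := surjective_nilradical_subschemeι (pullback π g)
  set r := (pullback π g).nilradical.subschemeι with hrdef
  have h1 : FlatMor.IsUnivHomeo r := isUnivHomeo_of_isClosedImmersion_of_surjective r
  have h2 : HTop.ResidueFieldsIso r := residueFieldsIso_of_surjectiveOnStalks r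
  have h3 : FlatMor.IsUnivHomeo (r ≫ pullback.snd π g) := MorphismProperty.comp_mem _ _ _ h1 hsnd
  have h4 : HTop.ResidueFieldsIso (r ≫ pullback.snd π g) := residueFieldsIso_comp _ _ h2 hsndr
  haveI h5 : IsIso (r ≫ pullback.snd π g) :=
    isIso_of_isUnivHomeo_of_isSeminormal (r ≫ pullback.snd π g) h3 h4 hV
  refine ⟨inv (r ≫ pullback.snd π g) ≫ r ≫ pullback.fst π g, ?_, ?_⟩
  · show (inv (r ≫ pullback.snd π g) ≫ r ≫ pullback.fst π g) ≫ π = g
    rw [Category.assoc, Category.assoc, pullback.condition, ← Category.assoc r,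
      IsIso.inv_hom_id_assoc]
  · intro h' hh'
    apply lift_unique_of_isReduced π
    rw [hh']
    show g = (inv (r ≫ pullback.snd π g) ≫ r ≫ pullback.fst π g) ≫ π
    rw [Category.assoc, Category.assoc, pullback.condition, ← Category.assoc r,
      IsIso.inv_hom_id_assoc]

end Groth.Agent.H37
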