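import Groth.Agent.H37.QuotPts
import Groth.Agent.H37.SNSection
import Groth.Agent.H37.SNDescent
import Mathlib.AlgebraicGeometry.Morphisms.Flat
import Mathlib.AlgebraicGeometry.Morphisms.Immersion

/-! Comparison maps between quotients by a finite group are universally injective. -/

set_option autoImplicit false
universe u

open CategoryTheory Limits AlgebraicGeometry

namespace Groth.Agent.H37

theorem epi_SpecMap_of_field {K L : Type u} [Field K] [Field L] (e : K →+* L) :
    Epi (Spec.map (CommRingCat.ofHom e)) := by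
  haveI : Surjective (Spec.map (CommRingCat.ofHom e)) :=
    ⟨fun s => ⟨IsLocalRing.closedPoint L, Subsingleton.elim (α := PrimeSpectrum K) _ _⟩⟩
  exact Flat.epi_of_flat_of_surjective _

/-- a criterion for universal injectivity of `m`, through a surjection `r` onto its source -/
theorem universallyInjective_of_surjective_lift {A Q B : Scheme.{u}} (r : A ⟶ Q) [Surjective r]
    (m : Q ⟶ B)
    (H : ∀ (L : Type u) [Field L] (a₁ a₂ : Spec (.of L) ⟶ A),
      a₁ ≫ r ≫ m = a₂ ≫ r ≫ m → a₁ ≫ r = a₂ ≫ r) :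
    UniversallyInjective m := by
  have hcrit := (tfae_universallyInjective m).out 0 1
  refine hcrit.mpr (fun K _ y₁ y₂ (h : y₁ ≫ m = y₂ ≫ m) => ?_)
  obtain ⟨L₁, _, e₁, w₁, hw₁⟩ := exists_lift_point_of_surjective r K y₁
  obtain ⟨L₂, _, e₂, w₂, hw₂⟩ := exists_lift_point_of_surjective r L₁
    (Spec.map (CommRingCat.ofHom e₁) ≫ y₂)
  have h1 : (Spec.map (CommRingCat.ofHom e₂) ≫ w₁) ≫ r ≫ m = w₂ ≫ r ≫ m := by
    rw [Category.assoc, ← Category.assoc w₁, hw₁, ← Category.assoc w₂, hw₂]
    simp only [Category.assoc]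
    rw [h]
  have h2 := H L₂ _ _ h1
  rw [Category.assoc, hw₁, hw₂] at h2
  haveI := epi_SpecMap_of_field e₂
  haveI := epi_SpecMap_of_field e₁
  exact (cancel_epi _).mp ((cancel_epi _).mp h2)

section quot

variable {X Y : Scheme.{u}} {G : Type u} [Group G] [Finite G]

theorem surjective_of_isQuot {ρ : G →* Aut X} {p : X ⟶ Y} (hp : SGA1.IsQuot ρ p) : Surjective p :=
  ⟨Groth.Agent.H15.Quot.surjective hp⟩

/-- quotient of an invariant subscheme maps universally injectively to the quotient -/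
theorem universallyInjective_of_isQuot_of_mono {W WG : Scheme.{u}} {ρ : G →* Aut X} {p : X ⟶ Y}
    (hP : SGA1.IsQuot ρ p) (j : W ⟶ X) [Mono j] (ρW : G →* Aut W)
    (hρW : ∀ g, (ρW g).hom ≫ j = j ≫ (ρ g).hom) (pW : W ⟶ WG) (hPW : SGA1.IsQuot ρW pW)
    (φ : WG ⟶ Y) (hφ : pW ≫ φ = j ≫ p) : UniversallyInjective φ := by
  haveI := surjective_of_isQuot hPW
  refine universallyInjective_of_surjective_lift pW φ (fun L _ a₁ a₂ h => ?_)
  have h1 : (a₁ ≫ j) ≫ p = (a₂ ≫ j) ≫ p := by
    rw [Category.assoc, Category.assoc, ← hφ]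
    exact h
  obtain ⟨g, hg⟩ := exists_smul_eq_of_comp_eq hP _ _ h1
  have h2 : a₂ = a₁ ≫ (ρW g).hom := by
    rw [← cancel_mono j, hg, Category.assoc, Category.assoc, hρW]
  rw [h2, Category.assoc, hPW.inv]

end quot

end Groth.Agent.H37
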