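import Groth.Prelude.Def_Flat
import Mathlib.AlgebraicGeometry.Morphisms.Integral
import Mathlib.AlgebraicGeometry.Morphisms.UniversallyInjective
import Mathlib.AlgebraicGeometry.Morphisms.UniversallyClosed
import Mathlib.AlgebraicGeometry.Morphisms.UnderlyingMap
import Mathlib.AlgebraicGeometry.ResidueField
import Mathlib.RingTheory.LocalRing.ResidueField.Ideal

set_option autoImplicit false
universe u

open CategoryTheory AlgebraicGeometry MorphismProperty

namespace Groth.Agent.H37

/-- universal homeomorphism = universally closed + universally injective + surjective -/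
theorem isUnivHomeo_iff {X Y : Scheme.{u}} (f : X ⟶ Y) :
    FlatMor.IsUnivHomeo f ↔ UniversallyClosed f ∧ UniversallyInjective f ∧ Surjective f := by
  constructor
  · intro h
    refine ⟨?_, ?_, ?_⟩
    · rw [universallyClosed_eq]
      refine universally_mono ?_ _ h
      intro X' Y' g hg
      exact (isHomeomorph_iff_continuous_isClosedMap_bijective.mp hg).2.1
    · rw [universallyInjective_eq]
      refine universally_mono ?_ _ h
      intro X' Y' g hg
      exact hg.injective
    · exact ⟨(h _ _ _ IsPullback.of_id_snd).surjective⟩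
  · rintro ⟨h1, h2, h3⟩ X' Y' i₁ i₂ f' H0
    have H := H0.flip
    have h1' : UniversallyClosed f' := MorphismProperty.of_isPullback H h1
    have h2' : UniversallyInjective f' := MorphismProperty.of_isPullback H h2
    have h3' : Surjective f' := MorphismProperty.of_isPullback H h3
    exact isHomeomorph_iff_continuous_isClosedMap_bijective.mpr
      ⟨f'.continuous, f'.isClosedMap, f'.injective, f'.surjective⟩

variable {A B : Type u} [CommRing A] [CommRing B]

/-- two field-valued points of `B` agreeing on `A` are equal -/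
def FieldInj (φ : A →+* B) : Prop :=
  ∀ (K : Type u) [Field K] (σ₁ σ₂ : B →+* K), σ₁.comp φ = σ₂.comp φ → σ₁ = σ₂

theorem universallyClosed_SpecMap_iff (φ : A →+* B) :
    UniversallyClosed (Spec.map (CommRingCat.ofHom φ)) ↔ φ.IsIntegral := by
  have h1 := IsIntegralHom.SpecMap_iff (φ := CommRingCat.ofHom φ)
  have h2 := IsIntegralHom.iff_universallyClosed_and_isAffineHom
    (f := Spec.map (CommRingCat.ofHom φ))
  rw [h2] at h1
  have h3 : (CommRingCat.Hom.hom (CommRingCat.ofHom φ)).IsIntegral ↔ φ.IsIntegral := Iff.rfl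
  rw [← h3, ← h1]
  exact ⟨fun h => ⟨h, inferInstance⟩, fun h => h.1⟩

theorem surjective_SpecMap_iff (φ : A →+* B) :
    Surjective (Spec.map (CommRingCat.ofHom φ)) ↔ Function.Surjective (PrimeSpectrum.comap φ) := by
  rw [surjective_iff]
  rfl

theorem universallyInjective_SpecMap_iff (φ : A →+* B) :
    UniversallyInjective (Spec.map (CommRingCat.ofHom φ)) ↔ FieldInj φ := by
  have := (tfae_universallyInjective (Spec.map (CommRingCat.ofHom φ))).out 0 1
  rw [this]
  constructor
  · intro h K _ σ₁ σ₂ e
    have := @h K _ (Spec.map (CommRingCat.ofHom σ₁)) (Spec.map (CommRingCat.ofHom σ₂)) (by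
      simp only [← Spec.map_comp, ← CommRingCat.ofHom_comp, e])
    have := Spec.map_injective this
    exact congrArg CommRingCat.Hom.hom this
  · intro h K _ g₁ g₂ e
    obtain ⟨ψ₁, rfl⟩ := Spec.map_surjective g₁
    obtain ⟨ψ₂, rfl⟩ := Spec.map_surjective g₂
    simp only [← Spec.map_comp] at e
    have e' := Spec.map_injective e
    have := h K ψ₁.hom ψ₂.hom (by
      have := congrArg CommRingCat.Hom.hom e'
      simpa using this)
    congr 1
    ext1
    exact this

/-- evaluation at a point of `Spec R` -/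
noncomputable def ev (R : Type u) [CommRing R] (x : Spec (CommRingCat.of R)) :
    R →+* (Spec (CommRingCat.of R)).residueField x :=
  ((Scheme.ΓSpecIso (CommRingCat.of R)).inv ≫ (Spec (CommRingCat.of R)).Γevaluation x).hom

theorem ev_eq (R : Type u) [CommRing R] (x : Spec (CommRingCat.of R)) (r : R) :
    ev R x r = (Scheme.Spec.residueFieldIso (CommRingCat.of R) x).inv
      (algebraMap R x.asIdeal.ResidueField r) := by
  have := Scheme.Spec.algebraMap_residueFieldIso_inv (CommRingCat.of R) x
  have h2 := congrArg (fun f => f.hom r) this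
  exact h2.symm

theorem ev_eq_zero_iff (R : Type u) [CommRing R] (x : Spec (CommRingCat.of R)) (r : R) :
    ev R x r = 0 ↔ r ∈ x.asIdeal := by
  rw [ev_eq]
  have hinj : Function.Injective (Scheme.Spec.residueFieldIso (CommRingCat.of R) x).inv.hom :=
    (Scheme.Spec.residueFieldIso (CommRingCat.of R) x).symm.commRingCatIsoToRingEquiv.injective
  constructor
  · intro h
    have : algebraMap R x.asIdeal.ResidueField r = 0 := hinj (by rw [map_zero]; exact h)
    exact Ideal.algebraMap_residueField_eq_zero.mp this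
  · intro h
    have : algebraMap R x.asIdeal.ResidueField r = 0 := Ideal.algebraMap_residueField_eq_zero.mpr h
    rw [this, map_zero]

theorem exists_ev_mul (R : Type u) [CommRing R] (x : Spec (CommRingCat.of R))
    (z : (Spec (CommRingCat.of R)).residueField x) :
    ∃ r t : R, t ∉ x.asIdeal ∧ z * ev R x t = ev R x r := by
  set e := (Scheme.Spec.residueFieldIso (CommRingCat.of R) x).commRingCatIsoToRingEquiv with he
  obtain ⟨⟨r', ⟨t', ht'⟩⟩, h⟩ := IsLocalization.surj (nonZeroDivisors (R ⧸ x.asIdeal)) (e z)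
  obtain ⟨r, rfl⟩ := Ideal.Quotient.mk_surjective r'
  obtain ⟨t, rfl⟩ := Ideal.Quotient.mk_surjective t'
  refine ⟨r, t, ?_, ?_⟩
  · rw [mem_nonZeroDivisors_iff_ne_zero, ne_eq, Ideal.Quotient.eq_zero_iff_mem] at ht'
    exact ht'
  · simp only [Ideal.algebraMap_quotient_residueField_mk] at h
    rw [ev_eq, ev_eq]
    apply e.injective
    rw [map_mul]
    have h1 : ∀ w, e ((Scheme.Spec.residueFieldIso (CommRingCat.of R) x).inv w) = w := fun w =>
      e.apply_symm_apply w
    rw [h1, h1]
    exact h

theorem ev_naturality (φ : A →+* B) (q : Spec (CommRingCat.of B)) (a : A) :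
    (Spec.map (CommRingCat.ofHom φ)).residueFieldMap q
      (ev A (Spec.map (CommRingCat.ofHom φ) q) a) = ev B q (φ a) := by
  unfold ev
  have h := Scheme.Γevaluation_naturality (Spec.map (CommRingCat.ofHom φ)) q
  have h2 := Scheme.ΓSpecIso_inv_naturality (CommRingCat.ofHom φ)
  have h3 : (Scheme.ΓSpecIso (CommRingCat.of A)).inv ≫
      (Spec (CommRingCat.of A)).Γevaluation (Spec.map (CommRingCat.ofHom φ) q) ≫
      (Spec.map (CommRingCat.ofHom φ)).residueFieldMap q =
      CommRingCat.ofHom φ ≫ (Scheme.ΓSpecIso (CommRingCat.of B)).inv ≫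
        (Spec (CommRingCat.of B)).Γevaluation q := by
    rw [h, ← Category.assoc, ← h2, Category.assoc]
  exact congrArg (fun f => f.hom a) h3

/-- residue field extensions are trivial, in elementary terms -/
def ResSurj (φ : A →+* B) : Prop :=
  ∀ (q : Ideal B) [q.IsPrime] (b : B), ∃ a s : A, φ s ∉ q ∧ φ s * b - φ a ∈ q

theorem resSurj_iff (φ : A →+* B) :
    (∀ x : Spec (CommRingCat.of B),
      Function.Surjective ((Spec.map (CommRingCat.ofHom φ)).residueFieldMap x)) ↔ ResSurj φ := by
  constructor
  · intro h q hq b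
    let x : Spec (CommRingCat.of B) := ⟨q, hq⟩
    obtain ⟨w, hw⟩ := h x (ev B x b)
    obtain ⟨a, s, hs, hws⟩ := exists_ev_mul A (Spec.map (CommRingCat.ofHom φ) x) w
    refine ⟨a, s, hs, ?_⟩
    have h1 := congrArg ((Spec.map (CommRingCat.ofHom φ)).residueFieldMap x) hws
    rw [map_mul, ev_naturality, ev_naturality, hw] at h1
    have h2 : ev B x (φ s * b - φ a) = 0 := by
      rw [map_sub, map_mul, ← h1]; ring
    exact (ev_eq_zero_iff B x _).mp h2
  · intro h x z
    obtain ⟨r, t, ht, hz⟩ := exists_ev_mul B x z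
    obtain ⟨a, s, hs, hrs⟩ := h x.asIdeal r
    obtain ⟨a', s', hs', hts⟩ := h x.asIdeal t
    have hn := ev_naturality φ x
    have e1 : ev B x (φ s) * ev B x r = ev B x (φ a) := by
      have := (ev_eq_zero_iff B x _).mpr hrs
      rw [map_sub, map_mul] at this
      exact sub_eq_zero.mp this
    have e2 : ev B x (φ s') * ev B x t = ev B x (φ a') := by
      have := (ev_eq_zero_iff B x _).mpr hts
      rw [map_sub, map_mul] at this
      exact sub_eq_zero.mp this
    have n1 : ev B x (φ s) ≠ 0 := fun h0 => hs ((ev_eq_zero_iff B x _).mp h0)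
    have n2 : ev B x (φ s') ≠ 0 := fun h0 => hs' ((ev_eq_zero_iff B x _).mp h0)
    have n3 : ev B x t ≠ 0 := fun h0 => ht ((ev_eq_zero_iff B x _).mp h0)
    have n4 : ev B x (φ a') ≠ 0 := by rw [← e2]; exact mul_ne_zero n2 n3
    refine ⟨ev A _ a * ev A _ s' / (ev A _ s * ev A _ a'), ?_⟩
    rw [map_div₀, map_mul, map_mul, hn, hn, hn, hn]
    rw [div_eq_iff (mul_ne_zero n1 n4), ← e1, ← e2]
    have : z * ev B x t = ev B x r := hz
    rw [← this]
    ring


theorem isUnivHomeo_SpecMap_iff (φ : A →+* B) :
    FlatMor.IsUnivHomeo (Spec.map (CommRingCat.ofHom φ)) ↔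
      φ.IsIntegral ∧ FieldInj φ ∧ Function.Surjective (PrimeSpectrum.comap φ) := by
  rw [isUnivHomeo_iff, universallyClosed_SpecMap_iff, universallyInjective_SpecMap_iff,
    surjective_SpecMap_iff]

end Groth.Agent.H37
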