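import Groth.Agent.H37.QuotPts2
import Groth.Agent.H37.UHBasic

/-! Base change of a quotient by a finite group: the comparison map is a universal
homeomorphism. -/

set_option autoImplicit false
universe u

open CategoryTheory Limits AlgebraicGeometry

namespace Groth.Agent.H37

theorem isUnivHomeo_quotient_baseChange_comparison {X Y S S' Y' : Scheme.{u}} {G : Type u}
    [Group G] [Finite G]
    (ρ : G →* Aut X) (f : X ⟶ S)
    (q : X ⟶ Y) (h : Y ⟶ S) (hq : q ≫ h = f) (hquot : SGA1.IsQuot ρ q)
    (g : S' ⟶ S)
    (ρ' : G →* Aut (pullback f g))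
    (hρ' : ∀ σ : G, (ρ' σ).hom ≫ pullback.fst f g = pullback.fst f g ≫ (ρ σ).hom ∧
      (ρ' σ).hom ≫ pullback.snd f g = pullback.snd f g)
    (r : pullback f g ⟶ Y') (hr : SGA1.IsQuot ρ' r)
    (m : Y' ⟶ pullback h g)
    (hm : r ≫ m = pullback.map f g h g q (𝟙 S') (𝟙 S)
      ((Category.comp_id f).trans hq.symm) ((Category.comp_id g).trans (Category.id_comp g).symm)) :
    FlatMor.IsUnivHomeo m := by
  set q' := pullback.map f g h g q (𝟙 S') (𝟙 S)
      ((Category.comp_id f).trans hq.symm) ((Category.comp_id g).trans (Category.id_comp g).symm)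
    with hq'
  have hq'fst : q' ≫ pullback.fst h g = pullback.fst f g ≫ q := by
    rw [hq']; exact pullback.lift_fst _ _ _
  have hq'snd : q' ≫ pullback.snd h g = pullback.snd f g := by
    rw [hq']; exact (pullback.lift_snd _ _ _).trans (Category.comp_id _)
  have sq : IsPullback q' (pullback.fst f g) (pullback.fst h g) q := by
    refine IsPullback.of_right ?_ hq'fst (IsPullback.of_hasPullback h g).flip
    rw [hq'snd, hq]
    exact (IsPullback.of_hasPullback f g).flip
  haveI := Groth.Agent.H15.Quot.isIntegralHom hquot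
  haveI := surjective_of_isQuot hquot
  haveI := surjective_of_isQuot hr
  haveI : UniversallyClosed q' :=
    MorphismProperty.of_isPullback (P := @UniversallyClosed) sq.flip inferInstance
  haveI : Surjective q' := MorphismProperty.of_isPullback (P := @Surjective) sq.flip inferInstance
  haveI : UniversallyClosed (r ≫ m) := by rw [hm]; infer_instance
  haveI : Surjective (r ≫ m) := by rw [hm]; infer_instance
  refine (isUnivHomeo_iff m).mpr ⟨UniversallyClosed.of_comp_surjective r m, ?_,
    Surjective.of_comp r m⟩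
  refine universallyInjective_of_surjective_lift r m (fun L _ a₁ a₂ H => ?_)
  rw [hm] at H
  have h1 : (a₁ ≫ pullback.fst f g) ≫ q = (a₂ ≫ pullback.fst f g) ≫ q := by
    rw [Category.assoc, Category.assoc, ← hq'fst, ← Category.assoc, H, Category.assoc]
  have h2 : a₁ ≫ pullback.snd f g = a₂ ≫ pullback.snd f g := by
    rw [← hq'snd, ← Category.assoc, H, Category.assoc]
  obtain ⟨σ, hσ⟩ := exists_smul_eq_of_comp_eq hquot _ _ h1
  have h3 : a₂ = a₁ ≫ (ρ' σ).hom := by
    apply pullback.hom_ext
    · rw [hσ, Category.assoc, Category.assoc, (hρ' σ).1]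
    · rw [Category.assoc, (hρ' σ).2, h2]
  rw [h3, Category.assoc, hr.inv]

end Groth.Agent.H37
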