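import Groth.Agent.H37.QuotPts3
import Mathlib.AlgebraicGeometry.Morphisms.SchemeTheoreticallyDominant
import Mathlib.AlgebraicGeometry.Morphisms.Proper

/-! Quotient of an invariant closed subscheme versus the scheme-theoretic image in the quotient. -/

set_option autoImplicit false
universe u

open CategoryTheory Limits AlgebraicGeometry

namespace Groth.Agent.H37

theorem universallyInjective_of_comp' {X Y Z : Scheme.{u}} (f : X ⟶ Y) (g : Y ⟶ Z)
    [UniversallyInjective (f ≫ g)] : UniversallyInjective f := by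
  have hcrit := (tfae_universallyInjective f).out 0 1
  have hcrit' := (tfae_universallyInjective (f ≫ g)).out 0 1
  refine hcrit.mpr (fun K _ a b (h : a ≫ f = b ≫ f) => ?_)
  refine hcrit'.mp inferInstance K ?_
  show a ≫ f ≫ g = b ≫ f ≫ g
  rw [← Category.assoc, h, Category.assoc]

theorem isSchemeTheoreticallyDominant_toImage {X Y : Scheme.{u}} (f : X ⟶ Y) [QuasiCompact f] :
    IsSchemeTheoreticallyDominant f.toImage := by
  refine ⟨?_⟩
  refine Scheme.IdealSheafData.ext_of_iSup_eq_top
    (fun U : Y.affineOpens => (⟨f.imageι ⁻¹ᵁ U.1, U.2.preimage f.imageι⟩ : f.image.affineOpens)) ?_ ?_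
  · rw [eq_top_iff]
    intro x _
    obtain ⟨_, ⟨V, hV, rfl⟩, hxV, -⟩ := Y.isBasis_affineOpens.exists_subset_of_mem_open
      (Set.mem_univ (f.imageι x)) isOpen_univ
    exact TopologicalSpace.Opens.mem_iSup.mpr ⟨⟨V, hV⟩, hxV⟩
  · intro U
    rw [Scheme.Hom.ker_apply, Scheme.IdealSheafData.ideal_bot]
    exact (RingHom.injective_iff_ker_eq_bot _).mp (f.toImage_app_injective U)

theorem isUnivHomeo_quotient_closedSubscheme_comparison {X Y Z W : Scheme.{u}} {G : Type u}
    [Group G] [Finite G]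
    (ρ : G →* Aut X) (q : X ⟶ Y) (hquot : SGA1.IsQuot ρ q)
    (i : Z ⟶ X) [IsClosedImmersion i] (ρZ : G →* Aut Z)
    (hρZ : ∀ σ : G, (ρZ σ).hom ≫ i = i ≫ (ρ σ).hom)
    (r : Z ⟶ W) (hr : SGA1.IsQuot ρZ r)
    (m : W ⟶ (i ≫ q).ker.subscheme) (hm : r ≫ m ≫ (i ≫ q).ker.subschemeι = i ≫ q) :
    FlatMor.IsUnivHomeo m ∧ IsSchemeTheoreticallyDominant m := by
  haveI := Groth.Agent.H15.Quot.isIntegralHom hquot
  haveI := surjective_of_isQuot hr
  have hrm : r ≫ m = (i ≫ q).toImage := by
    rw [← cancel_mono (i ≫ q).imageι, Category.assoc, (i ≫ q).toImage_imageι]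
    exact hm
  haveI : UniversallyClosed (i ≫ q) := inferInstance
  haveI : UniversallyClosed (r ≫ m ≫ (i ≫ q).ker.subschemeι) := by rw [hm]; infer_instance
  haveI : UniversallyClosed (m ≫ (i ≫ q).ker.subschemeι) :=
    UniversallyClosed.of_comp_surjective r _
  haveI : UniversallyClosed m := UniversallyClosed.of_comp_of_isSeparated m (i ≫ q).ker.subschemeι
  haveI : Surjective (i ≫ q).toImage := inferInstance
  haveI : Surjective (r ≫ m) := by rw [hrm]; infer_instance
  haveI : Surjective m := Surjective.of_comp r m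
  haveI : UniversallyInjective (m ≫ (i ≫ q).ker.subschemeι) :=
    universallyInjective_of_isQuot_of_mono hquot i ρZ hρZ r hr _ hm
  haveI : UniversallyInjective m := universallyInjective_of_comp' m (i ≫ q).ker.subschemeι
  refine ⟨(isUnivHomeo_iff m).mpr ⟨inferInstance, inferInstance, inferInstance⟩, ⟨?_⟩⟩
  have h1 := r.le_ker_comp m
  rw [hrm, (isSchemeTheoreticallyDominant_toImage (i ≫ q)).ker_eq_bot] at h1
  exact le_bot_iff.mp h1

end Groth.Agent.H37
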