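import Groth.Agent.H37.LimFib
import Groth.Agent.H20.NA.Absolute

/-!
# Relative Noetherian approximation (Stacks 09MV)

`X` qcqs, `S` quasi-separated, `f : X ⟶ S`: in `Over S`, `X` is a directed limit of schemes of
finite presentation over `S` with affine transition maps.
-/

set_option autoImplicit false
universe u

open CategoryTheory Limits Opposite AlgebraicGeometry

namespace Groth.Agent.H37.RelApx

open Groth.Agent.H20.NA Groth.Agent.H37.LimFib

section

variable {I J : Type u} [Preorder I] [Preorder J] [IsDirected I (· ≤ ·)] [IsDirected J (· ≤ ·)]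
  [Nonempty I] [Nonempty J]
  (A : Iᵒᵖ ⥤ Scheme.{u}) (B : Jᵒᵖ ⥤ Scheme.{u}) (cA : Cone A) (cB : Cone B)
  (hA : IsLimit cA) (hB : IsLimit cB)
  (haffA : ∀ (i j : Iᵒᵖ) (g : i ⟶ j), IsAffineHom (A.map g))
  (haffB : ∀ (i j : Jᵒᵖ) (g : i ⟶ j), IsAffineHom (B.map g))
  (hftA : ∀ i, IsFT (A.obj i)) (hftB : ∀ j, IsFT (B.obj j))
  (f : cA.pt ⟶ cB.pt)

/-- the structure transformation to `Spec ℤ`. -/
noncomputable def toZ : A ⟶ (Functor.const Iᵒᵖ).obj (Spec (.of (ULift.{u} ℤ))) where
  app i := specULiftZIsTerminal.from (A.obj i)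
  naturality _ _ _ := specULiftZIsTerminal.hom_ext _ _

include hA haffA hftA hftB in
theorem hasFac : HasFac A B cA cB f := by
  intro j
  haveI : ∀ {i j : Iᵒᵖ} (g : i ⟶ j), IsAffineHom (A.map g) := fun g => haffA _ _ g
  haveI : ∀ i, CompactSpace (A.obj i) := fun i => (hftA i).1
  haveI : ∀ i, QuasiSeparatedSpace (A.obj i) := fun i => by
    haveI := (hftA i).2
    haveI : IsNoetherian (A.obj i) := isNoetherian_of_ft _
    infer_instance
  haveI := (hftB (op j)).2
  haveI := (hftB (op j)).1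
  haveI : IsNoetherian (B.obj (op j)) := isNoetherian_of_ft _
  haveI : LocallyOfFinitePresentation (specULiftZIsTerminal.from (B.obj (op j))) :=
    LocallyOfFinitePresentation.iff_locallyOfFiniteType.mpr inferInstance
  obtain ⟨i, g, h1, -⟩ := Scheme.exists_π_app_comp_eq_of_locallyOfFinitePresentation A (toZ A)
    (specULiftZIsTerminal.from (B.obj (op j))) cA hA (f ≫ cB.π.app (op j))
    (by ext i; exact specULiftZIsTerminal.hom_ext _ _)
  exact ⟨i.unop, g, h1⟩

include hA haffA hftA hftB in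
theorem uniqFac : UniqFac A B cA := by
  intro i j φ φ' h
  haveI : ∀ {i j : Iᵒᵖ} (g : i ⟶ j), IsAffineHom (A.map g) := fun g => haffA _ _ g
  haveI : ∀ i, CompactSpace (A.obj i) := fun i => (hftA i).1
  haveI := (hftB (op j)).2
  obtain ⟨k, hik, e⟩ := Scheme.exists_hom_comp_eq_comp_of_locallyOfFiniteType A (toZ A)
    (specULiftZIsTerminal.from (B.obj (op j))) cA hA φ φ'
    (specULiftZIsTerminal.hom_ext _ _) (specULiftZIsTerminal.hom_ext _ _) h
  have hle : i ≤ k.unop := leOfHom hik.unop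
  refine ⟨k.unop, hle, ?_⟩
  have : hik = (homOfLE hle).op := Subsingleton.elim _ _
  rw [← this]
  exact e

variable {T : Scheme.{u}} (g : cB.pt ⟶ T)

include hftA hftB in
theorem stage_hom_props [LocallyOfFinitePresentation g] [QuasiCompact g] [QuasiSeparated g]
    (k : Idx A B cA cB f) :
    LocallyOfFinitePresentation (stage A B cA cB f g k).hom ∧
      QuasiCompact (stage A B cA cB f g k).hom ∧ QuasiSeparated (stage A B cA cB f g k).hom := by
  haveI := (hftA (op k.i)).1
  haveI := (hftA (op k.i)).2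
  haveI := (hftB (op k.j)).1
  haveI := (hftB (op k.j)).2
  haveI : IsNoetherian (A.obj (op k.i)) := isNoetherian_of_ft _
  haveI : IsNoetherian (B.obj (op k.j)) := isNoetherian_of_ft _
  haveI : LocallyOfFiniteType k.φ := by
    haveI : LocallyOfFiniteType (k.φ ≫ specULiftZIsTerminal.from (B.obj (op k.j))) := by
      rw [specULiftZIsTerminal.hom_ext (k.φ ≫ specULiftZIsTerminal.from (B.obj (op k.j)))
        (specULiftZIsTerminal.from (A.obj (op k.i)))]
      infer_instance
    exact locallyOfFiniteType_of_comp k.φ (specULiftZIsTerminal.from (B.obj (op k.j)))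
  haveI : LocallyOfFinitePresentation k.φ :=
    LocallyOfFinitePresentation.iff_locallyOfFiniteType.mpr inferInstance
  change LocallyOfFinitePresentation (pullback.snd k.φ (cB.π.app (op k.j)) ≫ g) ∧
    QuasiCompact (pullback.snd k.φ (cB.π.app (op k.j)) ≫ g) ∧
    QuasiSeparated (pullback.snd k.φ (cB.π.app (op k.j)) ≫ g)
  exact ⟨inferInstance, inferInstance, inferInstance⟩

include hB haffA haffB in
theorem isAffineHom_stageMap {k k' : Idx A B cA cB f} (h : k ≤ k') :
    IsAffineHom (stageMap g h).left := by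
  haveI : ∀ {i j : Iᵒᵖ} (a : i ⟶ j), IsAffineHom (A.map a) := fun a => haffA _ _ a
  haveI : ∀ {i j : Jᵒᵖ} (a : i ⟶ j), IsAffineHom (B.map a) := fun a => haffB _ _ a
  haveI : ∀ j, IsAffineHom (cB.π.app j) := fun j => isAffineHom_π_app B cB hB j
  have h1 : ∀ k : Idx A B cA cB f, IsAffineHom (pullback.fst k.φ (cB.π.app (op k.j))) :=
    fun k => MorphismProperty.pullback_fst (P := @IsAffineHom) _ _
      (isAffineHom_π_app B cB hB (op k.j))
  haveI := h1 k
  haveI := h1 k'
  haveI : IsAffineHom ((stageMap g h).left ≫ pullback.fst k.φ (cB.π.app (op k.j))) := by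
    rw [stageMap_left_fst]
    exact MorphismProperty.comp_mem _ _ _ (h1 k') (haffA _ _ _)
  exact IsAffineHom.of_comp (f := (stageMap g h).left)
    (g := pullback.fst k.φ (cB.π.app (op k.j)))

end

/-- a quasi-compact open containing the image of a quasi-compact scheme. -/
theorem exists_compact_open_ge_range {X S : Scheme.{u}} (f : X ⟶ S) [CompactSpace X] :
    ∃ U : S.Opens, IsCompact (U : Set S) ∧ Set.range f ⊆ (U : Set S) := by
  have hc : IsCompact (Set.range f) := isCompact_range f.continuous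
  obtain ⟨t, ht⟩ := hc.elim_finite_subcover (fun U : S.affineOpens => ((U : S.Opens) : Set S))
    (fun U => U.1.2) (by
      intro x _
      obtain ⟨_, ⟨U, hU, rfl⟩, hxU, -⟩ :=
        S.isBasis_affineOpens.exists_subset_of_mem_open (Set.mem_univ x) isOpen_univ
      exact Set.mem_iUnion.mpr ⟨⟨U, hU⟩, hxU⟩)
  refine ⟨⨆ U ∈ t, (U : S.Opens), ?_, ?_⟩
  · rw [show ((⨆ U ∈ t, (U : S.Opens) : S.Opens) : Set S) = ⋃ U ∈ t, ((U : S.Opens) : Set S) by
      simp]
    exact t.isCompact_biUnion fun U _ => U.2.isCompact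
  · intro x hx
    have := ht hx
    simpa using this

/-- **Relative Noetherian approximation** (Stacks 09MV). -/
theorem exists_relative {X S : Scheme.{u}} (f : X ⟶ S)
    [CompactSpace X] [QuasiSeparatedSpace X] [QuasiSeparatedSpace S] :
    ∃ (K : Type u) (_ : Preorder K) (_ : IsDirected K (fun a b => a ≤ b)) (_ : Nonempty K)
      (D : Kᵒᵖ ⥤ Over S) (c : Limits.Cone D) (_ : Limits.IsLimit c),
      (∀ k, LocallyOfFinitePresentation (D.obj k).hom ∧ QuasiCompact (D.obj k).hom ∧
        QuasiSeparated (D.obj k).hom) ∧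
      (∀ (k k' : Kᵒᵖ) (a : k ⟶ k'), IsAffineHom (D.map a).left) ∧
      Nonempty (c.pt ≅ Over.mk f) := by
  obtain ⟨S', hS'c, hS'⟩ := exists_compact_open_ge_range f
  haveI : CompactSpace S' := isCompact_iff_compactSpace.mp hS'c
  haveI : QuasiSeparatedSpace S' := quasiSeparatedSpace_of_quasiSeparated S'.ι
  let f' : X ⟶ S'.toScheme := IsOpenImmersion.lift S'.ι f (by
    rw [Scheme.Opens.range_ι]
    exact hS')
  have hf' : f' ≫ S'.ι = f := IsOpenImmersion.lift_fac _ _ _
  obtain ⟨I, _, _, _, A, cA₀, hA₀, haffA, hftA, ⟨eX⟩⟩ := exists_absolute X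
  obtain ⟨J, _, _, _, B, cB₀, hB₀, haffB, hftB, ⟨eS⟩⟩ := exists_absolute S'.toScheme
  let cA : Cone A := cA₀.extend eX.inv
  let cB : Cone B := cB₀.extend eS.inv
  have hA : IsLimit cA := hA₀.ofIsoLimit (Cone.extendIso cA₀ eX)
  have hB : IsLimit cB := hB₀.ofIsoLimit (Cone.extendIso cB₀ eS)
  let f'' : cA.pt ⟶ cB.pt := f'
  have hex : HasFac A B cA cB f'' := hasFac A B cA cB hA haffA hftA hftB f''
  have hun : UniqFac A B cA := uniqFac A B cA hA haffA hftA hftB
  let g : cB.pt ⟶ S := S'.ι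
  haveI : LocallyOfFinitePresentation g := inferInstanceAs (LocallyOfFinitePresentation S'.ι)
  haveI : QuasiCompact g := inferInstanceAs (QuasiCompact S'.ι)
  haveI : QuasiSeparated g := inferInstanceAs (QuasiSeparated S'.ι)
  refine ⟨Idx A B cA cB f'', inferInstance, idx_directed hex hun, idx_nonempty hex,
    diagram A B cA cB f'' g, cone A B cA cB f'' g, isLimit hex hun hA hB, ?_, ?_, ?_⟩
  · intro k
    exact stage_hom_props A B cA cB hftA hftB f'' g k.unop
  · intro k k' a
    exact isAffineHom_stageMap A B cA cB hB haffA haffB f'' g (leOfHom a.unop)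
  · exact ⟨Over.isoMk (Iso.refl _) (by
      change 𝟙 X ≫ f = f' ≫ S'.ι
      rw [Category.id_comp, hf'])⟩

end Groth.Agent.H37.RelApx
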