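import Groth.Agent.H37.BddFib
import Mathlib

/-! Sum of residue degrees over a finite scheme over a field is at most the degree. -/

set_option autoImplicit false
universe u

open CategoryTheory Limits AlgebraicGeometry Groth.Agent.H52.UBF

namespace Groth.Agent.H37

/-- CRT bound: the sum of the dimensions of the residue fields at distinct maximal ideals is at most
the dimension of the algebra. -/
theorem sum_finrank_quotient_le {k A : Type*} [Field k] [CommRing A] [Algebra k A]
    [Module.Finite k A] {ι : Type*} [Fintype ι] (I : ι → Ideal A) (hI : ∀ i, (I i).IsMaximal)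
    (hinj : Function.Injective I) :
    ∑ i, Module.finrank k (A ⧸ I i) ≤ Module.finrank k A := by
  classical
  have hcop : Pairwise (Function.onFun IsCoprime I) := fun i j hij =>
    haveI := hI i; haveI := hI j
    Ideal.isCoprime_of_isMaximal (hinj.ne hij)
  have hsurj := Ideal.quotientInfToPiQuotient_surj hcop
  let F : A →ₗ[k] (∀ i, A ⧸ I i) :=
    LinearMap.pi fun i => (Ideal.Quotient.mkₐ k (I i)).toLinearMap
  have hF : Function.Surjective F := by
    intro g
    obtain ⟨q, hq⟩ := hsurj g
    obtain ⟨a, rfl⟩ := Ideal.Quotient.mk_surjective q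
    exact ⟨a, by rw [← hq]; rfl⟩
  have := LinearMap.finrank_le_finrank_of_surjective hF
  rwa [Module.finrank_pi_fintype] at this

theorem finrank_eq_finrank_quotient_ker {k A K L : Type*} [Field k] [CommRing A] [Algebra k A]
    [Field K] [Field L] [Algebra K L] (ψ : k →+* K) (hψ : Function.Bijective ψ)
    (ev : A →+* L) (hev : Function.Surjective ev)
    (hc : (algebraMap K L).comp ψ = ev.comp (algebraMap k A)) :
    Module.finrank K L = Module.finrank k (A ⧸ RingHom.ker ev) := by
  symm
  refine Algebra.finrank_eq_of_equiv_equiv (RingEquiv.ofBijective ψ hψ)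
    (RingHom.quotientKerEquivOfSurjective hev) ?_
  ext a
  have := RingHom.congr_fun hc a
  simp only [RingHom.comp_apply] at this
  change algebraMap K L (ψ a) =
    RingHom.quotientKerEquivOfSurjective hev (Ideal.Quotient.mk _ (algebraMap k A a))
  rw [RingHom.quotientKerEquivOfSurjective_apply_mk]
  exact this

/-- residue degree is insensitive to precomposition with an isomorphism -/
theorem residueDegree_iso_comp {T' T S : Scheme.{u}} (e : T' ⟶ T) [IsIso e] (c : T ⟶ S) (x : T') :
    (e ≫ c).residueDegree x = c.residueDegree (e x) := by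
  unfold Scheme.Hom.residueDegree
  letI a1 := ((e ≫ c).residueFieldMap x).hom.toAlgebra
  letI a2 := (c.residueFieldMap (e x)).hom.toAlgebra
  symm
  refine Algebra.finrank_eq_of_equiv_equiv (RingEquiv.refl _)
    (asIso (e.residueFieldMap x)).commRingCatIsoToRingEquiv ?_
  ext a
  have := Scheme.residueFieldMap_comp e c x
  exact (congrArg (fun f => f.hom a) this)

theorem Spec_Γevaluation_eq (A : CommRingCat.{u}) (x : Spec A) :
    (Scheme.ΓSpecIso A).inv ≫ (Spec A).Γevaluation x =
      CommRingCat.ofHom (algebraMap A x.asIdeal.ResidueField) ≫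
        (Scheme.Spec.residueFieldIso A x).inv :=
  (Scheme.Spec.algebraMap_residueFieldIso_inv A x).symm

theorem Spec_Γevaluation_surjective (A : CommRingCat.{u}) (x : Spec A) [x.asIdeal.IsMaximal] :
    Function.Surjective ((Scheme.ΓSpecIso A).inv ≫ (Spec A).Γevaluation x).hom := by
  rw [Spec_Γevaluation_eq]
  exact ((ConcreteCategory.bijective_of_isIso (Scheme.Spec.residueFieldIso A x).inv).surjective).comp
    (Ideal.algebraMap_residueField_surjective x.asIdeal)

theorem Spec_Γevaluation_ker (A : CommRingCat.{u}) (x : Spec A) :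
    RingHom.ker ((Scheme.ΓSpecIso A).inv ≫ (Spec A).Γevaluation x).hom = x.asIdeal := by
  rw [Spec_Γevaluation_eq]
  ext a
  rw [RingHom.mem_ker, CommRingCat.hom_comp, RingHom.comp_apply]
  rw [map_eq_zero_iff _
    (ConcreteCategory.bijective_of_isIso (Scheme.Spec.residueFieldIso A x).inv).injective]
  exact Ideal.algebraMap_residueField_eq_zero

theorem residueDegree_SpecMap_eq {k A : Type u} [Field k] [CommRing A] [Algebra k A]
    (x : Spec (CommRingCat.of A)) [x.asIdeal.IsMaximal] :
    (Spec.map (CommRingCat.ofHom (algebraMap k A))).residueDegree x =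
      Module.finrank k (A ⧸ RingHom.ker
        ((Scheme.ΓSpecIso (CommRingCat.of A)).inv ≫ (Spec (CommRingCat.of A)).Γevaluation x).hom) := by
  set c := Spec.map (CommRingCat.ofHom (algebraMap k A)) with hc
  unfold Scheme.Hom.residueDegree
  letI a1 := (c.residueFieldMap x).hom.toAlgebra
  haveI : (c x).asIdeal.IsMaximal := Ideal.IsPrime.isMaximal' inferInstance
  refine finrank_eq_finrank_quotient_ker
    ((Scheme.ΓSpecIso (CommRingCat.of k)).inv ≫ (Spec (CommRingCat.of k)).Γevaluation (c x)).hom
    ⟨RingHom.injective _, Spec_Γevaluation_surjective _ _⟩ _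
    (Spec_Γevaluation_surjective _ x) ?_
  have h1 := Scheme.Γevaluation_naturality c x
  have h2 := Scheme.ΓSpecIso_inv_naturality (CommRingCat.ofHom (algebraMap k A))
  have h3 : ((Scheme.ΓSpecIso (CommRingCat.of k)).inv ≫
      (Spec (CommRingCat.of k)).Γevaluation (c x)) ≫ c.residueFieldMap x =
      CommRingCat.ofHom (algebraMap k A) ≫ (Scheme.ΓSpecIso (CommRingCat.of A)).inv ≫
        (Spec (CommRingCat.of A)).Γevaluation x := by
    rw [Category.assoc, h1, ← Category.assoc, ← Category.assoc, ← h2]
  ext a
  exact congrArg (fun f => f.hom a) h3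

theorem sum_residueDegree_SpecMap_le {k A : Type u} [Field k] [CommRing A] [Algebra k A]
    [Module.Finite k A] [Fintype ↥(Spec (CommRingCat.of A))] :
    ∑ x : ↥(Spec (CommRingCat.of A)),
      (Spec.map (CommRingCat.ofHom (algebraMap k A))).residueDegree x ≤ Module.finrank k A := by
  have hArt : IsArtinianRing A := IsArtinianRing.of_finite k A
  have hmax : ∀ x : ↥(Spec (CommRingCat.of A)), x.asIdeal.IsMaximal := fun x =>
    IsArtinianRing.isMaximal_of_isPrime x.asIdeal
  have h1 : ∀ x : ↥(Spec (CommRingCat.of A)),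
      (Spec.map (CommRingCat.ofHom (algebraMap k A))).residueDegree x =
      Module.finrank k (A ⧸ RingHom.ker
        ((Scheme.ΓSpecIso (CommRingCat.of A)).inv ≫
          (Spec (CommRingCat.of A)).Γevaluation x).hom) := fun x => by
    haveI := hmax x
    exact residueDegree_SpecMap_eq x
  simp_rw [h1]
  refine sum_finrank_quotient_le (k := k) (A := A) _ (fun x => ?_) (fun x y hxy => ?_)
  · rw [Spec_Γevaluation_ker]; exact hmax x
  · have hx := Spec_Γevaluation_ker (CommRingCat.of A) x
    have hy := Spec_Γevaluation_ker (CommRingCat.of A) y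
    exact PrimeSpectrum.ext (hx.symm.trans (hxy.trans hy))

/-- For a scheme finite of degree `≤ n` over a field, the sum of the residue degrees is `≤ n`. -/
theorem finsum_residueDegree_le_of_finDegLE {K : Type u} [Field K] (n : ℕ) {T : Scheme.{u}}
    (c : T ⟶ Spec (CommRingCat.of K)) (h : FinDegLE n c) :
    Finite ↥T ∧ ∑ᶠ x : ↥T, c.residueDegree x ≤ n := by
  have := h.1
  obtain ⟨A, _, _, e, rfl⟩ := exists_algebra_of_isAffineHom c
  rw [finDegLE_iso_comp, finDegLE_SpecMap_iff] at h
  obtain ⟨hfin, hn⟩ := h
  have hArt : IsArtinianRing A := IsArtinianRing.of_finite K A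
  have hF : Finite ↥(Spec (CommRingCat.of A)) :=
    inferInstanceAs (Finite (PrimeSpectrum A))
  have : Fintype ↥(Spec (CommRingCat.of A)) := Fintype.ofFinite _
  have hT : Finite ↥T := Finite.of_equiv _ e.hom.homeomorph.toEquiv.symm
  refine ⟨hT, ?_⟩
  have h1 : ∀ x : ↥T, (e.hom ≫ Spec.map (CommRingCat.ofHom (algebraMap K A))).residueDegree x =
      (Spec.map (CommRingCat.ofHom (algebraMap K A))).residueDegree (e.hom.homeomorph.toEquiv x) :=
    fun x => residueDegree_iso_comp e.hom _ x
  simp_rw [h1]
  rw [finsum_comp_equiv e.hom.homeomorph.toEquiv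
    (f := fun y => (Spec.map (CommRingCat.ofHom (algebraMap K A))).residueDegree y),
    finsum_eq_sum_of_fintype]
  exact sum_residueDegree_SpecMap_le.trans hn

end Groth.Agent.H37
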