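import Groth.Agent.H37.UHScheme
import Groth.Prelude.Def_HTop2
import Mathlib.AlgebraicGeometry.IdealSheaf.Subscheme
import Mathlib.AlgebraicGeometry.Morphisms.Finite
import Mathlib.AlgebraicGeometry.Morphisms.Integral
import Mathlib.AlgebraicGeometry.Morphisms.FiniteType
import Mathlib.AlgebraicGeometry.Morphisms.Separated

/-! Morphisms from the source of a universal homeomorphism `T' ⟶ T` to a separated scheme locally
of finite type factor through a finite universal homeomorphism `T₁ ⟶ T`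
(scheme-theoretic image of the graph). -/

set_option autoImplicit false
universe u

open CategoryTheory AlgebraicGeometry MorphismProperty Limits

namespace Groth.Agent.H37

variable {X Y Z : Scheme.{u}}

theorem isUnivHomeo_of_comp_surjective (g : X ⟶ Y) (h : Y ⟶ Z) [Surjective g]
    (hgh : FlatMor.IsUnivHomeo (g ≫ h)) : FlatMor.IsUnivHomeo h := by
  rw [isUnivHomeo_iff] at hgh ⊢
  obtain ⟨h1, h2, h3⟩ := hgh
  refine ⟨UniversallyClosed.of_comp_surjective g h, ?_, ?_⟩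
  · rw [universallyInjective_eq] at h2 ⊢
    intro X' Y' i₁ i₂ f' H
    have h4 : Function.Injective (pullback.fst i₁ g ≫ f') :=
      h2 _ _ _ ((IsPullback.of_hasPullback i₁ g).paste_horiz H)
    have h5 : Function.Surjective (pullback.fst i₁ g) :=
      (MorphismProperty.pullback_fst (P := @Surjective) _ _ ‹_›).1
    intro a b hab
    obtain ⟨a', rfl⟩ := h5 a
    obtain ⟨b', rfl⟩ := h5 b
    have : a' = b' := h4 (by simpa using hab)
    rw [this]
  · constructor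
    intro z
    obtain ⟨x, hx⟩ := h3.surj z
    exact ⟨g x, by simpa using hx⟩

theorem residueFieldsIso_of_comp_surjective (g : X ⟶ Y) (h : Y ⟶ Z) [Surjective g]
    (hgh : HTop.ResidueFieldsIso (g ≫ h)) : HTop.ResidueFieldsIso h := by
  intro y
  obtain ⟨x, rfl⟩ := Surjective.surj (f := g) y
  have h1 : IsIso ((g ≫ h).residueFieldMap x) := hgh x
  rw [Scheme.residueFieldMap_comp] at h1
  have h2 : IsIso (g.residueFieldMap x) := by
    rw [ConcreteCategory.isIso_iff_bijective]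
    refine ⟨(g.residueFieldMap x).hom.injective, ?_⟩
    have h3 := (ConcreteCategory.isIso_iff_bijective _).mp h1
    intro b
    obtain ⟨a, ha⟩ := h3.2 b
    exact ⟨h.residueFieldMap (g x) a, ha⟩
  exact @IsIso.of_isIso_comp_right _ _ _ _ _ (h.residueFieldMap (g x)) (g.residueFieldMap x) h2 h1

/-- Part 1: factor `g : T' ⟶ X` through the scheme-theoretic image of the graph. -/
theorem exists_factor_finite_univHomeo {S X T T' : Scheme.{u}} [X.IsSeparated]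
    (fX : X ⟶ S) [LocallyOfFiniteType fX] (fT : T ⟶ S) (ν : T' ⟶ T)
    (hν : FlatMor.IsUnivHomeo ν) (g : T' ⟶ X) (hg : g ≫ fX = ν ≫ fT) :
    ∃ (T₁ : Scheme.{u}) (π : T₁ ⟶ T) (_ : IsFinite π) (_ : FlatMor.IsUnivHomeo π) (g₁ : T₁ ⟶ X)
      (h : T' ⟶ T₁), Surjective h ∧ h ≫ π = ν ∧ g₁ ≫ fX = π ≫ fT ∧ h ≫ g₁ = g := by
  let γ : T' ⟶ pullback fT fX := pullback.lift ν g hg.symm
  have hγ1 : γ ≫ pullback.fst fT fX = ν := pullback.lift_fst _ _ _
  have hγ2 : γ ≫ pullback.snd fT fX = g := pullback.lift_snd _ _ _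
  have i1 : IsIntegralHom (γ ≫ pullback.fst fT fX) := by
    rw [hγ1]; exact isIntegralHom_of_isUnivHomeo hν
  have i2 : IsIntegralHom γ := IsIntegralHom.of_comp γ (pullback.fst fT fX)
  have i3 : IsIntegralHom (γ.toImage ≫ γ.imageι) := by rw [γ.toImage_imageι]; exact i2
  have i4 : IsIntegralHom γ.toImage := IsIntegralHom.of_comp γ.toImage γ.imageι
  have i5 : Surjective γ.toImage :=
    surjective_of_isDominant_of_isClosed_range γ.toImage γ.toImage.isClosedMap.isClosed_range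
  have e1 : γ.toImage ≫ (γ.imageι ≫ pullback.fst fT fX) = ν := by
    rw [← Category.assoc, γ.toImage_imageι, hγ1]
  have i6 : FlatMor.IsUnivHomeo (γ.imageι ≫ pullback.fst fT fX) :=
    isUnivHomeo_of_comp_surjective γ.toImage _ (by rw [e1]; exact hν)
  have i7 : IsIntegralHom (γ.imageι ≫ pullback.fst fT fX) := isIntegralHom_of_isUnivHomeo i6
  have i8 : IsFinite (γ.imageι ≫ pullback.fst fT fX) := by
    rw [IsFinite.iff_isIntegralHom_and_locallyOfFiniteType]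
    exact ⟨i7, inferInstance⟩
  refine ⟨γ.image, γ.imageι ≫ pullback.fst fT fX, i8, i6, γ.imageι ≫ pullback.snd fT fX,
    γ.toImage, i5, e1, ?_, ?_⟩
  · rw [Category.assoc, Category.assoc, pullback.condition]
  · rw [← Category.assoc, γ.toImage_imageι, hγ2]

/-- Part 2: two factorizations are dominated by the equalizer inside the fibre product. -/
theorem exists_dominating_finite_univHomeo {X T T' : Scheme.{u}} [X.IsSeparated]
    (ν : T' ⟶ T) (hν : FlatMor.IsUnivHomeo ν)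
    (T₁ T₂ : Scheme.{u}) (π₁ : T₁ ⟶ T) (π₂ : T₂ ⟶ T) [IsFinite π₁] [IsFinite π₂]
    (hπ₁ : FlatMor.IsUnivHomeo π₁) (hπ₂ : FlatMor.IsUnivHomeo π₂)
    (g₁ : T₁ ⟶ X) (g₂ : T₂ ⟶ X) (h₁ : T' ⟶ T₁) (h₂ : T' ⟶ T₂)
    (e₁ : h₁ ≫ π₁ = ν) (e₂ : h₂ ≫ π₂ = ν) (e : h₁ ≫ g₁ = h₂ ≫ g₂) :
    ∃ (T₃ : Scheme.{u}) (π₃ : T₃ ⟶ T) (_ : IsFinite π₃) (_ : FlatMor.IsUnivHomeo π₃)
      (a₁ : T₃ ⟶ T₁) (a₂ : T₃ ⟶ T₂) (k : T' ⟶ T₃), Surjective k ∧ k ≫ π₃ = ν ∧
        a₁ ≫ π₁ = π₃ ∧ a₂ ≫ π₂ = π₃ ∧ a₁ ≫ g₁ = a₂ ≫ g₂ := by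
  let h : T' ⟶ pullback π₁ π₂ := pullback.lift h₁ h₂ (by rw [e₁, e₂])
  have hh1 : h ≫ pullback.fst π₁ π₂ = h₁ := pullback.lift_fst _ _ _
  have hh2 : h ≫ pullback.snd π₁ π₂ = h₂ := pullback.lift_snd _ _ _
  let k : T' ⟶ equalizer (pullback.fst π₁ π₂ ≫ g₁) (pullback.snd π₁ π₂ ≫ g₂) :=
    equalizer.lift h (by rw [← Category.assoc, ← Category.assoc, hh1, hh2, e])
  have hk : k ≫ equalizer.ι (pullback.fst π₁ π₂ ≫ g₁) (pullback.snd π₁ π₂ ≫ g₂) = h :=
    equalizer.lift_ι _ _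
  -- `P ⟶ T` is a universal homeomorphism
  have u1 : FlatMor.IsUnivHomeo (pullback.fst π₁ π₂) :=
    MorphismProperty.pullback_fst (P := FlatMor.IsUnivHomeo) _ _ hπ₂
  have u2 : FlatMor.IsUnivHomeo (pullback.fst π₁ π₂ ≫ π₁) :=
    MorphismProperty.comp_mem _ _ _ u1 hπ₁
  have inj : Function.Injective (pullback.fst π₁ π₂ ≫ π₁) :=
    (isHomeomorph_of_isUnivHomeo' u2).injective
  have hνs : Function.Surjective ν := (isHomeomorph_of_isUnivHomeo' hν).surjective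
  have e3 : h ≫ pullback.fst π₁ π₂ ≫ π₁ = ν := by rw [← Category.assoc, hh1, e₁]
  have hsurj : Function.Surjective h := by
    intro p
    obtain ⟨t', ht'⟩ := hνs ((pullback.fst π₁ π₂ ≫ π₁) p)
    refine ⟨t', inj ?_⟩
    rw [← ht', ← e3]
    rfl
  have ksurj : Surjective k := by
    constructor
    intro x
    obtain ⟨t', ht'⟩ := hsurj (equalizer.ι (pullback.fst π₁ π₂ ≫ g₁) (pullback.snd π₁ π₂ ≫ g₂) x)
    refine ⟨t', ?_⟩
    apply (equalizer.ι (pullback.fst π₁ π₂ ≫ g₁)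
      (pullback.snd π₁ π₂ ≫ g₂)).isClosedEmbedding.injective
    rw [← ht', ← hk]
    rfl
  have e4 : k ≫ (equalizer.ι (pullback.fst π₁ π₂ ≫ g₁) (pullback.snd π₁ π₂ ≫ g₂) ≫
      pullback.fst π₁ π₂ ≫ π₁) = ν := by
    rw [← Category.assoc, hk, e3]
  refine ⟨equalizer (pullback.fst π₁ π₂ ≫ g₁) (pullback.snd π₁ π₂ ≫ g₂),
    equalizer.ι _ _ ≫ pullback.fst π₁ π₂ ≫ π₁, inferInstance,
    isUnivHomeo_of_comp_surjective k _ (by rw [e4]; exact hν),
    equalizer.ι _ _ ≫ pullback.fst π₁ π₂, equalizer.ι _ _ ≫ pullback.snd π₁ π₂, k, ksurj, e4,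
    by simp, ?_, ?_⟩
  · rw [Category.assoc, pullback.condition]
  · rw [Category.assoc, Category.assoc]
    exact equalizer.condition _ _

end Groth.Agent.H37
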