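import Groth.Agent.H37.AWNGlue3
import Groth.Agent.H37.UHFactor
import Groth.Agent.S7420
import Groth.Agent.S7421

/-! Seminormal schemes and universal homeomorphisms with trivial residue field extensions. -/

set_option autoImplicit false
universe u

open CategoryTheory Limits AlgebraicGeometry AlgebraicGeometry.Scheme

namespace Groth.Agent.H37

section residue

variable {X Y Z : Scheme.{u}}

theorem residueFieldsIso_comp (f : X ⟶ Y) (g : Y ⟶ Z) (hf : HTop.ResidueFieldsIso f)
    (hg : HTop.ResidueFieldsIso g) : HTop.ResidueFieldsIso (f ≫ g) := by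
  intro x
  rw [Scheme.residueFieldMap_comp]
  exact @IsIso.comp_isIso _ _ _ _ _ (g.residueFieldMap (f x)) (f.residueFieldMap x) (hg (f x))
    (hf x)

theorem residueFieldsIso_of_isOpenImmersion (f : X ⟶ Y) [IsOpenImmersion f] :
    HTop.ResidueFieldsIso f := fun _ => inferInstance

theorem residueFieldsIso_of_surjectiveOnStalks (f : X ⟶ Y) [SurjectiveOnStalks f] :
    HTop.ResidueFieldsIso f := by
  intro x
  rw [ConcreteCategory.isIso_iff_bijective]
  refine ⟨(f.residueFieldMap x).hom.injective, ?_⟩
  intro b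
  obtain ⟨s, rfl⟩ := X.residue_surjective x b
  obtain ⟨t, rfl⟩ := f.stalkMap_surjective x s
  refine ⟨Y.residue (f x) t, ?_⟩
  have := congrArg (fun φ => CommRingCat.Hom.hom φ t) (Scheme.residue_residueFieldMap f x)
  exact this

/-- cancel an open immersion on the right -/
theorem residueFieldsIso_of_comp_isOpenImmersion (f : X ⟶ Y) (g : Y ⟶ Z) [IsOpenImmersion g]
    (h : HTop.ResidueFieldsIso (f ≫ g)) : HTop.ResidueFieldsIso f := by
  intro x
  have h1 : IsIso ((f ≫ g).residueFieldMap x) := h x
  rw [Scheme.residueFieldMap_comp] at h1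
  have h2 : IsIso (g.residueFieldMap (f x)) := inferInstance
  exact @IsIso.of_isIso_comp_left _ _ _ _ _ (g.residueFieldMap (f x)) (f.residueFieldMap x) h2 h1

theorem residueFieldsIso_restrict (f : X ⟶ Y) (h : HTop.ResidueFieldsIso f) (U : Y.Opens) :
    HTop.ResidueFieldsIso (f ∣_ U) := by
  apply residueFieldsIso_of_comp_isOpenImmersion (f ∣_ U) U.ι
  rw [morphismRestrict_ι]
  exact residueFieldsIso_comp _ _ (residueFieldsIso_of_isOpenImmersion _) h

end residue

section ring

variable {A B W : Type u} [CommRing A] [CommRing B] [CommRing W]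

theorem residueFieldsIso_SpecMap_iff (φ : A →+* B) :
    HTop.ResidueFieldsIso (Spec.map (CommRingCat.ofHom φ)) ↔ ResSurj φ := by
  rw [← resSurj_iff]
  constructor
  · intro h x
    haveI := h x
    exact (ConcreteCategory.bijective_of_isIso _).2
  · intro h x
    rw [ConcreteCategory.isIso_iff_bijective]
    exact ⟨((Spec.map (CommRingCat.ofHom φ)).residueFieldMap x).hom.injective, h x⟩

/-- a universal homeomorphism with trivial residue field extensions from a seminormal ring to a
reduced ring is an isomorphism -/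
theorem bijective_of_ringUH_resSurj_of_isSeminormalRing (χ : B →+* W) (hχ : RingUH χ)
    (hres : ResSurj χ) (hB : HTop.IsSeminormalRing B) [IsReduced W] : Function.Bijective χ := by
  rw [isSeminormalRing_iff] at hB
  obtain ⟨hred, hsn⟩ := hB
  have hinj : Function.Injective χ := by
    rw [RingHom.injective_iff_ker_eq_bot, eq_bot_iff]
    refine hχ.ker_le_nilradical.trans ?_
    rw [nilradical_eq_zero]
    exact le_refl _
  refine ⟨hinj, ?_⟩
  letI : Algebra B W := χ.toAlgebra
  have hC : RingUH (algebraMap B W) := hχ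
  have hR : ResSurj (algebraMap B W) := hres
  have hcl : ∀ w, StepSC (⊥ : Subalgebra B W) w → w ∈ (⊥ : Subalgebra B W) := by
    rintro w ⟨h2, h3⟩
    obtain ⟨y, hy⟩ := Algebra.mem_bot.mp h2
    obtain ⟨x, hx⟩ := Algebra.mem_bot.mp h3
    have hy' : χ y = w ^ 2 := hy
    have hx' : χ x = w ^ 3 := hx
    have hxy : y ^ 3 = x ^ 2 := by
      apply hinj
      rw [map_pow, map_pow, hy', hx']
      ring
    obtain ⟨a, ha2, ha3⟩ := hsn y x hxy
    rw [Algebra.mem_bot]
    refine ⟨a, ?_⟩
    show χ a = w
    apply eq_of_sq_eq_cube_eq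
    · rw [← map_pow, ← ha2, hy']
    · rw [← map_pow, ← ha3, hx']
  have htop := stepClosed_eq_top stepSC_mono (reach_eq_top_of_ringUH_resSurj hC hR) _ hcl
  intro w
  have hw : w ∈ (⊥ : Subalgebra B W) := by rw [htop]; exact Algebra.mem_top
  obtain ⟨b, hb⟩ := Algebra.mem_bot.mp hw
  exact ⟨b, hb⟩

end ring

section scheme

variable {X Y Z : Scheme.{u}}

theorem isSeminormal_iff_forall (X : Scheme.{u}) :
    HTop.IsSeminormal X ↔ ∀ U : X.affineOpens, HTop.IsSeminormalRing Γ(X, U) :=
  (Groth.Agent.S7420.result X).1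

theorem isReduced_of_isSeminormal (hX : HTop.IsSeminormal X) : IsReduced X :=
  Groth.Agent.S7421.result.2 X hX

theorem resSurj_app (π : Y ⟶ X) [IsAffineHom π] (hπ : HTop.ResidueFieldsIso π) {U : X.Opens}
    (hU : IsAffineOpen U) : ResSurj (π.app U).hom := by
  have hV : IsAffineOpen (π ⁻¹ᵁ U) := hU.preimage π
  have h1 : HTop.ResidueFieldsIso (π ∣_ U) := residueFieldsIso_restrict π hπ U
  have h2 : Spec.map (π.app U) = hV.isoSpec.inv ≫ π ∣_ U ≫ hU.isoSpec.hom := by
    rw [Iso.eq_inv_comp]
    exact Scheme.Opens.toSpecΓ_naturality π U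
  have h3 : HTop.ResidueFieldsIso (Spec.map (π.app U)) := by
    rw [h2]
    exact residueFieldsIso_comp _ _ (residueFieldsIso_of_isOpenImmersion _)
      (residueFieldsIso_comp _ _ h1 (residueFieldsIso_of_isOpenImmersion _))
  exact (residueFieldsIso_SpecMap_iff _).mp h3

/-- a universal homeomorphism with trivial residue field extensions from a reduced scheme to a
seminormal scheme is an isomorphism -/
theorem isIso_of_isUnivHomeo_of_isSeminormal (h : Z ⟶ Y) (hh : FlatMor.IsUnivHomeo h)
    (hr : HTop.ResidueFieldsIso h) (hY : HTop.IsSeminormal Y) [IsReduced Z] : IsIso h := by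
  haveI := isAffineHom_of_isUnivHomeo hh
  have hY' := (isSeminormal_iff_forall Y).mp hY
  have key : ∀ U : Y.affineOpens, IsIso (h ∣_ U.1) := by
    intro U
    have hb := bijective_of_ringUH_resSurj_of_isSeminormalRing (h.app U.1).hom
      (ringUH_app h hh U.2) (resSurj_app h hr U.2) (hY' U)
    have h1 : IsIso (h.app U.1) := (ConcreteCategory.isIso_iff_bijective _).mpr hb
    exact (isIso_morphismRestrict_iff_isIso_app (f := h) U.2).mpr h1
  exact (IsZariskiLocalAtTarget.iff_of_iSup_eq_top (P := MorphismProperty.isomorphisms Scheme)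
    (fun U : Y.affineOpens => U.1) (iSup_affineOpens_eq_top Y)).mpr key

end scheme

end Groth.Agent.H37
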