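import Groth.Agent.H37.SNDescent

/-! Descent of functions along proper surjective morphisms onto seminormal schemes: the affine
core. -/

set_option autoImplicit false
universe u

open CategoryTheory Limits AlgebraicGeometry AlgebraicGeometry.Scheme

namespace Groth.Agent.H37

section core

variable {A : Type u} [CommRing A] {W : Scheme.{u}} (p : W ⟶ Spec (.of A)) (s : Γ(W, ⊤))

/-- pullback of functions `A → Γ(W)` -/
noncomputable def pullMap : A →+* Γ(W, ⊤) := ((Scheme.ΓSpecIso (.of A)).inv ≫ p.appTop).hom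

/-- the subring of `Γ(W)` generated by `A` and `s` -/
noncomputable def genSub : Subring Γ(W, ⊤) := Subring.closure (Set.range (pullMap p) ∪ {s})

noncomputable def genMap : A →+* genSub p s :=
  (pullMap p).codRestrict (genSub p s) (fun a => Subring.subset_closure (Or.inl ⟨a, rfl⟩))

noncomputable def genElt : genSub p s := ⟨s, Subring.subset_closure (Or.inr rfl)⟩

noncomputable def toGen : W ⟶ Spec (.of (genSub p s)) :=
  W.toSpecΓ ≫ Spec.map (CommRingCat.ofHom (genSub p s).subtype)

theorem toGen_comp : toGen p s ≫ Spec.map (CommRingCat.ofHom (genMap p s)) = p := by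
  unfold toGen
  rw [Category.assoc, ← Spec.map_comp]
  have h1 : CommRingCat.ofHom (genMap p s) ≫ CommRingCat.ofHom (genSub p s).subtype =
      (Scheme.ΓSpecIso (.of A)).inv ≫ p.appTop := by
    ext a
    rfl
  rw [h1, Spec.map_comp, ← Scheme.toSpecΓ_naturality_assoc, toSpecΓ_SpecMap_ΓSpecIso_inv,
    Category.comp_id]

theorem toGen_appTop (b : genSub p s) :
    (toGen p s).appTop ((Scheme.ΓSpecIso (.of (genSub p s))).inv b) = (b : Γ(W, ⊤)) := by
  have h1 : (toGen p s).appTop =
      (Scheme.ΓSpecIso (.of (genSub p s))).hom ≫ CommRingCat.ofHom (genSub p s).subtype := by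
    unfold toGen
    rw [Scheme.Hom.comp_appTop, Scheme.toSpecΓ_appTop]
    exact Scheme.ΓSpecIso_naturality (CommRingCat.ofHom (genSub p s).subtype)
  rw [h1]
  have h3 : (Scheme.ΓSpecIso (.of (genSub p s))).hom
      ((Scheme.ΓSpecIso (.of (genSub p s))).inv b) = b :=
    congrArg (fun φ => CommRingCat.Hom.hom φ b) (Scheme.ΓSpecIso (.of (genSub p s))).inv_hom_id
  show (genSub p s).subtype ((Scheme.ΓSpecIso (.of (genSub p s))).hom
      ((Scheme.ΓSpecIso (.of (genSub p s))).inv b)) = b
  rw [h3]
  rfl

theorem toGen_appTop_injective : Function.Injective (toGen p s).appTop := by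
  have h1 : (toGen p s).appTop =
      (Scheme.ΓSpecIso (.of (genSub p s))).hom ≫ CommRingCat.ofHom (genSub p s).subtype := by
    unfold toGen
    rw [Scheme.Hom.comp_appTop, Scheme.toSpecΓ_appTop]
    exact Scheme.ΓSpecIso_naturality (CommRingCat.ofHom (genSub p s).subtype)
  rw [h1]
  intro x y hxy
  have h2 : (genSub p s).subtype ((Scheme.ΓSpecIso (.of (genSub p s))).hom x) =
      (genSub p s).subtype ((Scheme.ΓSpecIso (.of (genSub p s))).hom y) := hxy
  exact (ConcreteCategory.bijective_of_isIso (Scheme.ΓSpecIso (.of (genSub p s))).hom).1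
    (Subtype.val_injective h2)

theorem genSub_induction (T : Subring (genSub p s)) (h1 : ∀ a, genMap p s a ∈ T)
    (h2 : genElt p s ∈ T) (b : genSub p s) : b ∈ T := by
  have h : genSub p s ≤ T.map (genSub p s).subtype := by
    refine (Subring.closure_le (t := T.map (genSub p s).subtype)).mpr ?_
    rintro x (⟨a, rfl⟩ | hx)
    · exact ⟨genMap p s a, h1 a, rfl⟩
    · have hx' : x = s := hx
      rw [hx']
      exact ⟨genElt p s, h2, rfl⟩
  obtain ⟨y, hy, hyb⟩ := h b.2
  have : y = b := Subtype.ext hyb
  rwa [← this]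

theorem genSub_hom_ext {K : Type u} [CommRing K] (σ₁ σ₂ : genSub p s →+* K)
    (h1 : σ₁.comp (genMap p s) = σ₂.comp (genMap p s))
    (h2 : σ₁ (genElt p s) = σ₂ (genElt p s)) : σ₁ = σ₂ := by
  ext b
  exact genSub_induction p s (σ₁.eqLocus σ₂) (fun a => RingHom.congr_fun h1 a) h2 b

section proper

variable [IsProper p]

instance isProper_toGen : IsProper (toGen p s) := by
  haveI : IsProper (toGen p s ≫ Spec.map (CommRingCat.ofHom (genMap p s))) := by
    rw [toGen_comp]; infer_instance
  exact IsProper.of_comp (toGen p s) (Spec.map (CommRingCat.ofHom (genMap p s)))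

include p in
theorem compactSpace_of_isProper : CompactSpace W :=
  (quasiCompact_iff_compactSpace p).mp inferInstance

instance surjective_toGen : Surjective (toGen p s) := by
  haveI := compactSpace_of_isProper p
  haveI : IsDominant (toGen p s) :=
    isDominant_of_of_appTop_injective (toGen_appTop_injective p s)
  infer_instance

theorem genMap_isIntegral : (genMap p s).IsIntegral := by
  rw [← universallyClosed_SpecMap_iff]
  haveI : UniversallyClosed (toGen p s ≫ Spec.map (CommRingCat.ofHom (genMap p s))) := by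
    rw [toGen_comp]; infer_instance
  exact UniversallyClosed.of_comp_surjective (toGen p s) _

end proper

theorem val_toGen {R : Type u} [CommRing R] (w : Spec (.of R) ⟶ W) (b : genSub p s) :
    val (w ≫ toGen p s) ((Scheme.ΓSpecIso (.of (genSub p s))).inv b) = val w (b : Γ(W, ⊤)) := by
  rw [val_comp, toGen_appTop]

theorem val_eq_of_toGen {R : Type u} [CommRing R] (w : Spec (.of R) ⟶ W) (σ : genSub p s →+* R)
    (h : w ≫ toGen p s = Spec.map (CommRingCat.ofHom σ)) (b : genSub p s) :
    val w (b : Γ(W, ⊤)) = σ b := by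
  rw [← val_toGen, h, val_SpecMap]

/-- the descent hypothesis on a function `s` -/
def DescHyp : Prop :=
  ∀ (R : Type u) [CommRing R] (w₁ w₂ : Spec (.of R) ⟶ W), w₁ ≫ p = w₂ ≫ p → val w₁ s = val w₂ s

theorem fieldInj_genMap [IsProper p] (hs : DescHyp p s) : FieldInj (genMap p s) := by
  intro K _ σ₁ σ₂ h
  apply genSub_hom_ext p s σ₁ σ₂ h
  obtain ⟨L₁, _, e₁, w₁, hw₁⟩ := exists_lift_point_of_surjective (toGen p s) K
    (Spec.map (CommRingCat.ofHom σ₁))
  obtain ⟨L₂, _, e₂, w₂, hw₂⟩ := exists_lift_point_of_surjective (toGen p s) L₁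
    (Spec.map (CommRingCat.ofHom e₁) ≫ Spec.map (CommRingCat.ofHom σ₂))
  have hw₁' : (Spec.map (CommRingCat.ofHom e₂) ≫ w₁) ≫ toGen p s =
      Spec.map (CommRingCat.ofHom ((e₂.comp e₁).comp σ₁)) := by
    rw [Category.assoc, hw₁, ← Spec.map_comp, ← Spec.map_comp]
    rfl
  have hw₂' : w₂ ≫ toGen p s = Spec.map (CommRingCat.ofHom ((e₂.comp e₁).comp σ₂)) := by
    rw [hw₂, ← Spec.map_comp, ← Spec.map_comp]
    rfl
  have hp : (Spec.map (CommRingCat.ofHom e₂) ≫ w₁) ≫ p = w₂ ≫ p := by
    rw [← toGen_comp p s, ← Category.assoc, ← Category.assoc, hw₁', hw₂', ← Spec.map_comp,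
      ← Spec.map_comp]
    congr 1
    ext a
    exact congrArg (e₂.comp e₁) (RingHom.congr_fun h a)
  have h3 := hs L₂ _ _ hp
  have h4 : val (Spec.map (CommRingCat.ofHom e₂) ≫ w₁) s = _ :=
    val_eq_of_toGen p s _ _ hw₁' (genElt p s)
  have h5 : val w₂ s = _ := val_eq_of_toGen p s _ _ hw₂' (genElt p s)
  rw [h4, h5] at h3
  exact (e₂.comp e₁).injective h3

open TensorProduct in
theorem val_mem_range_of_descHyp (hs : DescHyp p s) {K L : Type u} [Field K] [Field L]
    (e : K →+* L) (α : A →+* K) (w : Spec (.of L) ⟶ W)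
    (hw : w ≫ p = Spec.map (CommRingCat.ofHom e) ≫ Spec.map (CommRingCat.ofHom α)) :
    val w s ∈ e.range := by
  letI : Algebra K L := e.toAlgebra
  have heff : Algebra.IsEffective K L := Algebra.IsEffective.of_faithfullyFlat K L
  have hloc := heff.eqLocus_includeLeft_includeRight
  let i₁ : L →+* L ⊗[K] L := Algebra.TensorProduct.includeLeftRingHom
  let i₂ : L →+* L ⊗[K] L := (Algebra.TensorProduct.includeRight (R := K) (A := L) (B := L)).toRingHom
  have hi : i₁.comp e = i₂.comp e := by
    ext k
    show (algebraMap K L k) ⊗ₜ[K] (1 : L) = (1 : L) ⊗ₜ[K] (algebraMap K L k)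
    rw [Algebra.algebraMap_eq_smul_one, TensorProduct.smul_tmul]
  have hp : (Spec.map (CommRingCat.ofHom i₁) ≫ w) ≫ p = (Spec.map (CommRingCat.ofHom i₂) ≫ w) ≫ p := by
    rw [Category.assoc, Category.assoc, hw, ← Spec.map_comp, ← Spec.map_comp, ← Spec.map_comp]
    congr 1
    ext a
    exact RingHom.congr_fun hi (α a)
  have h3 := hs _ _ _ hp
  rw [val_comp_SpecMap, val_comp_SpecMap] at h3
  have h4 : val w s ∈ (i₁.eqLocus i₂ : Set L) := h3
  rw [hloc] at h4
  exact h4

theorem exists_extend_genMap [IsProper p] [Surjective p] (hs : DescHyp p s) (K : Type u) [Field K]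
    (α : A →+* K) : ∃ β : genSub p s →+* K, β.comp (genMap p s) = α := by
  obtain ⟨L, _, e, w, hw⟩ := exists_lift_point_of_surjective p K (Spec.map (CommRingCat.ofHom α))
  obtain ⟨βL', hβL⟩ := Spec.map_surjective (w ≫ toGen p s)
  have h1 : βL'.hom.comp (genMap p s) = e.comp α := by
    have : Spec.map (CommRingCat.ofHom (genMap p s) ≫ βL') =
        Spec.map (CommRingCat.ofHom α ≫ CommRingCat.ofHom e) := by
      rw [Spec.map_comp, Spec.map_comp, hβL, Category.assoc, toGen_comp, hw]
    have h := Spec.map_injective this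
    ext a
    exact congrArg (fun φ => CommRingCat.Hom.hom φ a) h
  have h2 : βL'.hom (genElt p s) = val w s :=
    (val_eq_of_toGen p s w βL'.hom hβL.symm (genElt p s)).symm
  have h3 : val w s ∈ e.range := val_mem_range_of_descHyp p s hs e α w hw
  have hmem : ∀ b, βL'.hom b ∈ e.range := by
    intro b
    refine genSub_induction p s (e.range.comap βL'.hom) ?_ ?_ b
    · intro a
      exact ⟨α a, (RingHom.congr_fun h1 a).symm⟩
    · show βL'.hom (genElt p s) ∈ e.range
      rw [h2]; exact h3
  let eq : K ≃+* e.range := RingEquiv.ofBijective e.rangeRestrict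
    ⟨fun x y hxy => e.injective (congrArg Subtype.val hxy), e.rangeRestrict_surjective⟩
  let β : genSub p s →+* K := eq.symm.toRingHom.comp (βL'.hom.codRestrict e.range hmem)
  have hβ : ∀ b, e (β b) = βL'.hom b := by
    intro b
    have : eq (β b) = βL'.hom.codRestrict e.range hmem b := eq.apply_symm_apply _
    exact congrArg Subtype.val this
  refine ⟨β, ?_⟩
  ext a
  apply e.injective
  rw [RingHom.comp_apply, hβ]
  exact RingHom.congr_fun h1 a

theorem ratBij_genMap [IsProper p] [Surjective p] (hs : DescHyp p s) :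
    RatBij (Spec.map (CommRingCat.ofHom (genMap p s))) := by
  intro K _
  constructor
  · intro a₁ a₂ h
    obtain ⟨σ₁, rfl⟩ := Spec.map_surjective a₁
    obtain ⟨σ₂, rfl⟩ := Spec.map_surjective a₂
    have h' : Spec.map (CommRingCat.ofHom (genMap p s) ≫ σ₁) =
        Spec.map (CommRingCat.ofHom (genMap p s) ≫ σ₂) := by
      rw [Spec.map_comp, Spec.map_comp]; exact h
    have h'' := Spec.map_injective h'
    have : σ₁.hom = σ₂.hom := fieldInj_genMap p s hs K σ₁.hom σ₂.hom (by
      ext a; exact congrArg (fun φ => CommRingCat.Hom.hom φ a) h'')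
    congr 1
    ext b
    exact RingHom.congr_fun this b
  · intro x
    obtain ⟨α, rfl⟩ := Spec.map_surjective x
    obtain ⟨β, hβ⟩ := exists_extend_genMap p s hs K α.hom
    refine ⟨Spec.map (CommRingCat.ofHom β), ?_⟩
    show Spec.map (CommRingCat.ofHom β) ≫ Spec.map (CommRingCat.ofHom (genMap p s)) = Spec.map α
    rw [← Spec.map_comp]
    congr 1
    ext a
    exact RingHom.congr_fun hβ a

/-- the affine core of descent of functions to a seminormal base -/
theorem exists_descend_affine [IsProper p] [Surjective p] [IsReduced W]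
    (hA : HTop.IsSeminormalRing A) (hs : DescHyp p s) : ∃ a : A, pullMap p a = s := by
  have hrb := ratBij_genMap p s hs
  have hres := residueFieldsIso_of_ratBij _ hrb
  haveI : Surjective (toGen p s ≫ Spec.map (CommRingCat.ofHom (genMap p s))) := by
    rw [toGen_comp]; infer_instance
  haveI : Surjective (Spec.map (CommRingCat.ofHom (genMap p s))) :=
    Surjective.of_comp (toGen p s) _
  have hUH : RingUH (genMap p s) := ⟨genMap_isIntegral p s, fieldInj_genMap p s hs,
    (surjective_SpecMap_iff _).mp inferInstance⟩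
  have hRS : ResSurj (genMap p s) := (residueFieldsIso_SpecMap_iff _).mp hres
  haveI : IsReduced (genSub p s) :=
    isReduced_of_injective (genSub p s).subtype Subtype.val_injective
  obtain ⟨a, ha⟩ := (bijective_of_ringUH_resSurj_of_isSeminormalRing (genMap p s) hUH hRS hA).2
    (genElt p s)
  exact ⟨a, congrArg Subtype.val ha⟩

end core

end Groth.Agent.H37
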