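import Groth.Agent.H37.SNDescent2

/-! Descent of functions along proper surjective morphisms onto seminormal schemes:
globalisation. -/

set_option autoImplicit false
universe u

open CategoryTheory Limits AlgebraicGeometry AlgebraicGeometry.Scheme Opposite

namespace Groth.Agent.H37

theorem exists_descend_of_isAffine {W Z : Scheme.{u}} [IsAffine Z] (p : W ⟶ Z) [IsProper p]
    [Surjective p] [IsReduced W] (hZ : HTop.IsSeminormalRing Γ(Z, ⊤)) (s : Γ(W, ⊤))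
    (hs : ∀ (R : Type u) [CommRing R] (w₁ w₂ : Spec (.of R) ⟶ W),
      w₁ ≫ p = w₂ ≫ p → val w₁ s = val w₂ s) :
    ∃ a : Γ(Z, ⊤), p.appTop a = s := by
  let p' : W ⟶ Spec (.of Γ(Z, ⊤)) := p ≫ Z.isoSpec.hom
  have hs' : DescHyp p' s := by
    intro R _ w₁ w₂ h
    apply hs
    rw [← cancel_mono Z.isoSpec.hom, Category.assoc, Category.assoc]
    exact h
  obtain ⟨a, ha⟩ := exists_descend_affine p' s hZ hs'
  refine ⟨a, ?_⟩
  rw [← ha]
  show p.appTop a = (p ≫ Z.isoSpec.hom).appTop ((Scheme.ΓSpecIso (.of Γ(Z, ⊤))).inv a)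
  rw [Scheme.Hom.comp_appTop]
  have h1 : Z.isoSpec.hom.appTop = (Scheme.ΓSpecIso Γ(Z, ⊤)).hom := by
    rw [Scheme.isoSpec_hom, Scheme.toSpecΓ_appTop]
  rw [h1]
  have h3 : (Scheme.ΓSpecIso Γ(Z, ⊤)).hom ((Scheme.ΓSpecIso Γ(Z, ⊤)).inv a) = a :=
    congrArg (fun φ => CommRingCat.Hom.hom φ a) (Scheme.ΓSpecIso Γ(Z, ⊤)).inv_hom_id
  show p.appTop a = p.appTop ((Scheme.ΓSpecIso Γ(Z, ⊤)).hom ((Scheme.ΓSpecIso Γ(Z, ⊤)).inv a))
  rw [h3]

theorem app_injective_of_surjective {X Y : Scheme.{u}} (π : Y ⟶ X) [Surjective π] [IsReduced X]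
    (U : X.Opens) : Function.Injective (π.app U) := by
  rw [injective_iff_map_eq_zero]
  intro t ht
  rw [← basicOpen_eq_bot_iff]
  have h1 : π ⁻¹ᵁ (X.basicOpen t) = ⊥ := by
    rw [Scheme.preimage_basicOpen, ht, Scheme.basicOpen_zero]
  rw [eq_bot_iff]
  intro x hx
  obtain ⟨y, rfl⟩ := π.surjective x
  have : y ∈ π ⁻¹ᵁ X.basicOpen t := hx
  rw [h1] at this
  exact this

theorem exists_descend_on_affineOpen {X Y : Scheme.{u}} (π : Y ⟶ X) [IsProper π] [Surjective π]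
    [IsReduced Y] (hX : HTop.IsSeminormal X) (s : Γ(Y, ⊤))
    (hs : (pullback.fst π π).appTop s = (pullback.snd π π).appTop s) (U : X.affineOpens) :
    ∃ a : Γ(X, U.1), π.app U.1 a = Y.presheaf.map (homOfLE le_top).op s := by
  haveI : IsAffine U.1.toScheme := U.2
  haveI : IsProper (π ∣_ U.1) := IsZariskiLocalAtTarget.restrict (P := @IsProper) ‹_› U.1
  haveI : Surjective (π ∣_ U.1) := IsZariskiLocalAtTarget.restrict (P := @Surjective) ‹_› U.1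
  haveI : IsReduced (π ⁻¹ᵁ U.1).toScheme := isReduced_of_isOpenImmersion (π ⁻¹ᵁ U.1).ι
  have hZ : HTop.IsSeminormalRing Γ(U.1.toScheme, ⊤) :=
    (isSeminormal_iff_forall U.1.toScheme).mp (isSeminormal_of_isOpenImmersion U.1.ι hX)
      ⟨⊤, isAffineOpen_top _⟩
  have hD : ∀ (R : Type u) [CommRing R] (w₁ w₂ : Spec (.of R) ⟶ (π ⁻¹ᵁ U.1).toScheme),
      w₁ ≫ π ∣_ U.1 = w₂ ≫ π ∣_ U.1 →
      val w₁ ((π ⁻¹ᵁ U.1).ι.appTop s) = val w₂ ((π ⁻¹ᵁ U.1).ι.appTop s) := by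
    intro R _ w₁ w₂ h
    have e : (w₁ ≫ (π ⁻¹ᵁ U.1).ι) ≫ π = (w₂ ≫ (π ⁻¹ᵁ U.1).ι) ≫ π := by
      rw [Category.assoc, Category.assoc, ← morphismRestrict_ι, ← Category.assoc, h,
        Category.assoc]
    rw [← val_comp, ← val_comp, ← pullback.lift_fst _ _ e, val_comp, hs, ← val_comp,
      pullback.lift_snd]
  obtain ⟨a', ha'⟩ := exists_descend_of_isAffine (π ∣_ U.1) hZ ((π ⁻¹ᵁ U.1).ι.appTop s) hD
  refine ⟨U.1.topIso.hom a', ?_⟩
  rw [morphismRestrict_appTop, Scheme.Opens.ι_appTop] at ha'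
  apply (ConcreteCategory.bijective_of_isIso (π ⁻¹ᵁ U.1).topIso.inv).1
  simp only [Scheme.Opens.topIso_hom, Scheme.Opens.topIso_inv]
  have h1 : ∀ (e₁ : op ((U.1).ι ''ᵁ ⊤) ⟶ op U.1)
      (e₂ : op (π ⁻¹ᵁ U.1) ⟶ op ((π ⁻¹ᵁ U.1).ι ''ᵁ ⊤))
      (e₃ : op (π ⁻¹ᵁ ((U.1).ι ''ᵁ ⊤)) ⟶ op ((π ⁻¹ᵁ U.1).ι ''ᵁ ⊤)),
      X.presheaf.map e₁ ≫ π.app U.1 ≫ Y.presheaf.map e₂ =
        π.app ((U.1).ι ''ᵁ ⊤) ≫ Y.presheaf.map e₃ := by
    intro e₁ e₂ e₃
    rw [π.naturality_assoc, ← Functor.map_comp]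
    rfl
  have h2 : ∀ (e₂ : op (π ⁻¹ᵁ U.1) ⟶ op ((π ⁻¹ᵁ U.1).ι ''ᵁ ⊤))
      (e₃ : op (⊤ : Y.Opens) ⟶ op (π ⁻¹ᵁ U.1)) (e₄ : op (⊤ : Y.Opens) ⟶ op ((π ⁻¹ᵁ U.1).ι ''ᵁ ⊤)),
      Y.presheaf.map e₃ ≫ Y.presheaf.map e₂ = Y.presheaf.map e₄ := by
    intro e₂ e₃ e₄
    rw [← Functor.map_comp]
    rfl
  have h3 := congrArg (fun φ => CommRingCat.Hom.hom φ a') (h1 (eqToHom (by rw [Scheme.Opens.ι_image_top])).op
    (eqToHom (by rw [Scheme.Opens.ι_image_top])).op (eqToHom (image_morphismRestrict_preimage π U.1 ⊤)).op)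
  have h4 := congrArg (fun φ => CommRingCat.Hom.hom φ s) (h2 (eqToHom (by rw [Scheme.Opens.ι_image_top])).op
    (homOfLE le_top).op (homOfLE le_top).op)
  exact h3.trans (ha'.trans h4.symm)

theorem app_res {X Y : Scheme.{u}} (π : Y ⟶ X) {U V : X.Opens} (i : V ⟶ U) (a : Γ(X, U))
    (j : π ⁻¹ᵁ V ⟶ π ⁻¹ᵁ U) :
    π.app V (X.presheaf.map i.op a) = Y.presheaf.map j.op (π.app U a) :=
  congrArg (fun φ => CommRingCat.Hom.hom φ a) (π.naturality i.op)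

theorem res_res {Y : Scheme.{u}} {U V W : Y.Opens} (i : V ⟶ U) (j : W ⟶ V) (k : W ⟶ U)
    (s : Γ(Y, U)) : Y.presheaf.map j.op (Y.presheaf.map i.op s) = Y.presheaf.map k.op s := by
  rw [← ConcreteCategory.comp_apply, ← Functor.map_comp]
  rfl

/-- descent of functions along a proper surjective morphism from a reduced scheme onto a
seminormal scheme -/
theorem existsUnique_descend {X Y : Scheme.{u}} (π : Y ⟶ X) [IsProper π] [Surjective π]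
    [IsReduced Y] (hX : HTop.IsSeminormal X) (s : Γ(Y, ⊤))
    (hs : (pullback.fst π π).appTop s = (pullback.snd π π).appTop s) :
    ∃! t : Γ(X, ⊤), π.appTop t = s := by
  haveI := isReduced_of_isSeminormal hX
  have hinj := app_injective_of_surjective π
  choose a ha using exists_descend_on_affineOpen π hX s hs
  have hcompat : TopCat.Presheaf.IsCompatible X.presheaf (fun U : X.affineOpens => U.1) a := by
    intro U V
    apply hinj
    rw [app_res π _ _ (homOfLE (π.preimage_mono inf_le_left) : π ⁻¹ᵁ (U.1 ⊓ V.1) ⟶ π ⁻¹ᵁ U.1),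
      app_res π _ _ (homOfLE (π.preimage_mono inf_le_right) : π ⁻¹ᵁ (U.1 ⊓ V.1) ⟶ π ⁻¹ᵁ V.1), ha, ha,
      res_res _ _ (homOfLE le_top), res_res _ _ (homOfLE le_top)]
  obtain ⟨t, ht, -⟩ := X.sheaf.existsUnique_gluing' (fun U : X.affineOpens => U.1) ⊤
    (fun U => homOfLE le_top) (by rw [iSup_affineOpens_eq_top]) a hcompat
  have hts : π.appTop t = s := by
    apply Y.sheaf.eq_of_locally_eq' (fun U : X.affineOpens => π ⁻¹ᵁ U.1) ⊤
      (fun U => homOfLE le_top) ?_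
    · intro U
      have h1 := app_res π (homOfLE le_top : U.1 ⟶ ⊤) t (homOfLE le_top)
      have h2 : X.presheaf.map (homOfLE le_top : U.1 ⟶ ⊤).op t = a U := ht U
      rw [h2, ha] at h1
      exact h1.symm
    · intro y _
      obtain ⟨_, ⟨V, hV, rfl⟩, hyV, -⟩ := X.isBasis_affineOpens.exists_subset_of_mem_open
        (Set.mem_univ (π y)) isOpen_univ
      exact TopologicalSpace.Opens.mem_iSup.mpr ⟨⟨V, hV⟩, hyV⟩
  exact ⟨t, hts, fun t' ht' => hinj ⊤ (ht'.trans hts.symm)⟩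

end Groth.Agent.H37
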