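import Groth.Agent.H37.SNOpens
import Mathlib.AlgebraicGeometry.Morphisms.SchemeTheoreticallyDominant
import Mathlib.AlgebraicGeometry.Noetherian
import Mathlib.AlgebraicGeometry.Morphisms.Finite

/-! Dominance and finiteness of the seminormalization under the normalization. -/

set_option autoImplicit false
universe u

open CategoryTheory Limits AlgebraicGeometry AlgebraicGeometry.Scheme

namespace Groth.Agent.H37

variable {S Sn X' : Scheme.{u}}

theorem isDominant_of_isIso_restrict (π : Sn ⟶ S) (U : S.Opens) (hU : Dense (U : Set S))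
    [IsIso (π ∣_ U)] : IsDominant π := by
  constructor
  apply hU.mono
  intro s hs
  obtain ⟨z, hz⟩ := (π ∣_ U).surjective ⟨s, hs⟩
  refine ⟨(π ⁻¹ᵁ U).ι z, ?_⟩
  have := congrArg (fun t => U.ι t) hz
  simp only at this
  rw [← Scheme.Hom.comp_apply, morphismRestrict_ι] at this
  exact this

theorem snDominant (π : Sn ⟶ S) [IsReduced S] (hdom : IsDominant π)
    (ν : X' ⟶ S) (hν : FlatMor.IsUnivHomeo ν) (hX' : IsReduced X')
    (g : Sn ⟶ X') (hg : g ≫ ν = π) :
    IsSchemeTheoreticallyDominant ν ∧ IsSchemeTheoreticallyDominant g := by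
  have hhomeo := isHomeomorph_of_isUnivHomeo' hν
  haveI : IsDominant ν := ⟨hhomeo.surjective.denseRange⟩
  refine ⟨IsSchemeTheoreticallyDominant.of_isDominant ν, ?_⟩
  haveI : IsDominant g := by
    constructor
    have h1 : Dense (ν ⁻¹' Set.range π) := hdom.denseRange.preimage hhomeo.isOpenMap
    apply h1.mono
    rintro x ⟨s, hs⟩
    refine ⟨s, hhomeo.injective ?_⟩
    rw [← hs, ← hg]
    rfl
  exact IsSchemeTheoreticallyDominant.of_isDominant g

theorem snFinite [IsNoetherian S] (π : Sn ⟶ S) [IsFinite π]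
    (ν : X' ⟶ S) (hν : FlatMor.IsUnivHomeo ν)
    (g : Sn ⟶ X') (hg : g ≫ ν = π) [IsSchemeTheoreticallyDominant g] :
    IsFinite ν ∧ IsFinite g := by
  subst hg
  haveI := isAffineHom_of_isUnivHomeo hν
  haveI hgf : IsFinite g := IsFinite.of_comp g ν
  refine ⟨?_, hgf⟩
  refine ⟨fun U hU => ?_⟩
  have hfin : ((g ≫ ν).app U).hom.Finite := (g ≫ ν).finite_app U hU
  haveI : IsNoetherianRing Γ(S, U) := IsLocallyNoetherian.component_noetherian ⟨U, hU⟩
  have hinj : Function.Injective (g.app (ν ⁻¹ᵁ U)).hom := g.app_injective (ν ⁻¹ᵁ U)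
  have hcomp : ((g ≫ ν).app U).hom = (g.app (ν ⁻¹ᵁ U)).hom.comp (ν.app U).hom := by
    rw [Scheme.Hom.comp_app]
    rfl
  rw [hcomp] at hfin
  -- a submodule of a finite module over a noetherian ring
  letI := (ν.app U).hom.toAlgebra
  letI : Algebra Γ(S, U) Γ(Sn, g ⁻¹ᵁ ν ⁻¹ᵁ U) :=
    ((g.app (ν ⁻¹ᵁ U)).hom.comp (ν.app U).hom).toAlgebra
  haveI : Module.Finite Γ(S, U) Γ(Sn, g ⁻¹ᵁ ν ⁻¹ᵁ U) := hfin
  let l : Γ(X', ν ⁻¹ᵁ U) →ₗ[Γ(S, U)] Γ(Sn, g ⁻¹ᵁ ν ⁻¹ᵁ U) :=
    { toFun := (g.app (ν ⁻¹ᵁ U)).hom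
      map_add' := map_add _
      map_smul' := by
        intro a b
        simp only [Algebra.smul_def, map_mul, RingHom.id_apply]
        rfl }
  exact Module.Finite.of_injective l hinj

end Groth.Agent.H37
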