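import Groth.Agent.H37.SNBasic

/-! A seminormalization of a seminormal scheme is an isomorphism; sections through
seminormalizations. -/

set_option autoImplicit false
universe u

open CategoryTheory Limits AlgebraicGeometry AlgebraicGeometry.Scheme

namespace Groth.Agent.H37

variable {X Y Z : Scheme.{u}}

theorem isReduced_nilradical_subscheme (X : Scheme.{u}) : IsReduced X.nilradical.subscheme := by
  have (U : X.affineOpens) : IsReduced (X.nilradical.subschemeCover.openCover.X U) := by
    show IsReduced (Spec (CommRingCat.of (Γ(X, U) ⧸ X.nilradical.ideal U)))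
    have : _root_.IsReduced (Γ(X, U) ⧸ X.nilradical.ideal U) := by
      rw [← Ideal.isRadical_iff_quotient_reduced]
      show ((⊥ : X.IdealSheafData).radical.ideal U).IsRadical
      exact Ideal.radical_isRadical _
    infer_instance
  exact IsReduced.of_openCover _ X.nilradical.subschemeCover.openCover

theorem surjective_nilradical_subschemeι (X : Scheme.{u}) :
    Surjective X.nilradical.subschemeι := by
  constructor
  intro x
  have h : Set.range X.nilradical.subschemeι = Set.univ := by
    rw [IdealSheafData.range_subschemeι, Scheme.support_nilradical]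
    rfl
  have hx : x ∈ Set.range X.nilradical.subschemeι := by rw [h]; trivial
  exact hx

theorem isUnivHomeo_of_isClosedImmersion_of_surjective (f : X ⟶ Y) [IsClosedImmersion f]
    [Surjective f] : FlatMor.IsUnivHomeo f := by
  rw [isUnivHomeo_iff]
  exact ⟨inferInstance, inferInstance, inferInstance⟩

/-- a seminormalization of a seminormal scheme is an isomorphism -/
theorem isIso_of_isSeminormalization_of_isSeminormal {X' : Scheme.{u}} (ν : X' ⟶ X)
    (hν : HTop.IsSeminormalization ν) (hX : HTop.IsSeminormal X) : IsIso ν := by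
  haveI := isReduced_nilradical_subscheme X'
  haveI := surjective_nilradical_subschemeι X'
  set r := X'.nilradical.subschemeι with hr
  have h1 : FlatMor.IsUnivHomeo r := isUnivHomeo_of_isClosedImmersion_of_surjective r
  have h2 : HTop.ResidueFieldsIso r := residueFieldsIso_of_surjectiveOnStalks r
  have h3 : FlatMor.IsUnivHomeo (r ≫ ν) := MorphismProperty.comp_mem _ _ _ h1 hν.1.1
  have h4 : HTop.ResidueFieldsIso (r ≫ ν) := residueFieldsIso_comp _ _ h2 hν.1.2
  haveI h5 : IsIso (r ≫ ν) := isIso_of_isUnivHomeo_of_isSeminormal (r ≫ ν) h3 h4 hX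
  obtain ⟨c, -, hc⟩ := hν.2 X' ν hν.1.1 hν.1.2
  -- `ν ≫ inv (r ≫ ν) ≫ r` and `𝟙` both factor `ν` through itself
  have e1 : (ν ≫ inv (r ≫ ν) ≫ r) = 𝟙 X' := by
    rw [hc (ν ≫ inv (r ≫ ν) ≫ r) (by
      show (ν ≫ inv (r ≫ ν) ≫ r) ≫ ν = ν
      rw [Category.assoc, Category.assoc, IsIso.inv_hom_id, Category.comp_id]),
      hc (𝟙 X') (Category.id_comp _)]
  have e2 : (inv (r ≫ ν) ≫ r) ≫ ν = 𝟙 X := by
    rw [Category.assoc, IsIso.inv_hom_id]
  exact ⟨inv (r ≫ ν) ≫ r, e1, e2⟩

end Groth.Agent.H37
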