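import Groth.Agent.H37.SNOpens
import Mathlib.AlgebraicGeometry.Morphisms.Proper

/-! A morphism from a seminormal scheme lifts through a universally closed, universally injective
morphism as soon as it lifts pointwise. -/

set_option autoImplicit false
universe u

open CategoryTheory Limits AlgebraicGeometry AlgebraicGeometry.Scheme

namespace Groth.Agent.H37

variable {X Y T : Scheme.{u}}

theorem exists_lift_of_pointwise_lift (hT : HTop.IsSeminormal T) (f : X ⟶ Y)
    [UniversallyClosed f] [UniversallyInjective f] (g : T ⟶ Y)
    (hlift : ∀ t : T, ∃ l : Spec (T.residueField t) ⟶ X, l ≫ f = T.fromSpecResidueField t ≫ g) :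
    ∃ h : T ⟶ X, h ≫ f = g := by
  have hpt : ∀ (K : Type u) [Field K] (c : Spec (.of K) ⟶ T),
      ∃ a : Spec (.of K) ⟶ pullback f g, a ≫ pullback.snd f g = c := by
    intro K _ c
    obtain ⟨l, hl⟩ := hlift (c (IsLocalRing.closedPoint K))
    refine ⟨Spec.map (T.descResidueField (Scheme.stalkClosedPointTo c)) ≫
      pullback.lift l (T.fromSpecResidueField _) hl, ?_⟩
    rw [Category.assoc, pullback.lift_snd]
    exact Scheme.descResidueField_stalkClosedPointTo_fromSpecResidueField K T c
  haveI hinj : UniversallyInjective (pullback.snd f g) :=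
    MorphismProperty.pullback_snd (P := @UniversallyInjective) f g inferInstance
  have hsurj : Surjective (pullback.snd f g) := by
    constructor
    intro t
    obtain ⟨a, ha⟩ := hpt (T.residueField t) (T.fromSpecResidueField t)
    refine ⟨a (IsLocalRing.closedPoint _), ?_⟩
    rw [← Scheme.Hom.comp_apply, ha, Scheme.fromSpecResidueField_apply]
  have hUH : FlatMor.IsUnivHomeo (pullback.snd f g) := by
    rw [isUnivHomeo_iff]
    exact ⟨inferInstance, inferInstance, hsurj⟩
  have hRB : RatBij (pullback.snd f g) := by
    intro K _
    refine ⟨?_, hpt K⟩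
    have hcrit := (tfae_universallyInjective (pullback.snd f g)).out 0 1
    exact hcrit.mp inferInstance K
  obtain ⟨s, hs, -⟩ := existsUnique_lift_of_isSeminormal (pullback.snd f g) hUH
    (residueFieldsIso_of_ratBij _ hRB) (𝟙 T) hT
  refine ⟨s ≫ pullback.fst f g, ?_⟩
  rw [Category.assoc, pullback.condition, ← Category.assoc, hs, Category.id_comp]

end Groth.Agent.H37
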