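import Groth.Agent.H37.SNIso
import Groth.Prelude.Def_Pi1
import Mathlib.RingTheory.IntegralClosure.IntegrallyClosed

/-! Normal rings and schemes are seminormal. -/

set_option autoImplicit false
universe u

open CategoryTheory Limits AlgebraicGeometry AlgebraicGeometry.Scheme Polynomial

namespace Groth.Agent.H37

section ring

variable {A : Type u} [CommRing A]

/-- in an integrally closed domain, `x^3 = y^2` has a common root -/
theorem exists_root_of_isIntegrallyClosed {D : Type u} [CommRing D] [IsDomain D]
    [IsIntegrallyClosed D] (x y : D) (hxy : x ^ 3 = y ^ 2) : ∃ a : D, a ^ 2 = x ∧ a ^ 3 = y := by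
  by_cases hx : x = 0
  · subst hx
    have hy : y = 0 := by
      have : y ^ 2 = 0 := by rw [← hxy]; ring
      exact pow_eq_zero_iff (two_ne_zero) |>.mp this
    exact ⟨0, by ring, by rw [hy]; ring⟩
  · let K := FractionRing D
    have hx' : algebraMap D K x ≠ 0 := by
      rwa [Ne, map_eq_zero_iff _ (IsFractionRing.injective D K)]
    set a' : K := algebraMap D K y / algebraMap D K x with ha'
    have hK : algebraMap D K y ^ 2 = algebraMap D K x ^ 3 := by
      rw [← map_pow, ← map_pow, hxy]
    have h2 : a' ^ 2 = algebraMap D K x := by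
      rw [ha', div_pow, div_eq_iff (pow_ne_zero 2 hx'), hK]
      ring
    have hint : IsIntegral D a' := by
      refine ⟨X ^ 2 - C x, monic_X_pow_sub_C x (by norm_num), ?_⟩
      rw [eval₂_sub, eval₂_pow, eval₂_X, eval₂_C, h2, sub_self]
    obtain ⟨a, ha⟩ := IsIntegrallyClosed.isIntegral_iff.mp hint
    have e2 : a ^ 2 = x := by
      apply IsFractionRing.injective D K
      rw [map_pow, ha, h2]
    refine ⟨a, e2, ?_⟩
    apply IsFractionRing.injective D K
    have h3 : a' * algebraMap D K x = algebraMap D K y := div_mul_cancel₀ _ hx'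
    rw [map_pow, ha, pow_succ, h2, mul_comm, h3]

/-- a ring all of whose localizations at primes are integrally closed domains is seminormal -/
theorem isSeminormalRing_of_forall_atPrime
    (h : ∀ (p : Ideal A) [p.IsPrime], IsDomain (Localization.AtPrime p) ∧
      IsIntegrallyClosed (Localization.AtPrime p)) : HTop.IsSeminormalRing A := by
  -- `A` is reduced
  have key : ∀ (I : Ideal A), (∀ (p : Ideal A) [p.IsPrime], ∃ t ∈ I, t ∉ p) → I = ⊤ := by
    intro I hI
    by_contra hne
    obtain ⟨m, hm, hIm⟩ := Ideal.exists_le_maximal I hne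
    obtain ⟨t, htI, htm⟩ := hI m
    exact htm (hIm htI)
  haveI hred : IsReduced A := by
    rw [isReduced_iff_pow_one_lt 2 (by norm_num)]
    intro z hz
    let I : Ideal A := LinearMap.ker (LinearMap.toSpanSingleton A A z)
    have hI : I = ⊤ := by
      apply key
      intro p _
      haveI := (h p).1
      have h0 : algebraMap A (Localization.AtPrime p) z = 0 := by
        have : (algebraMap A (Localization.AtPrime p) z) ^ 2 = 0 := by
          rw [← map_pow, hz, map_zero]
        exact pow_eq_zero_iff (two_ne_zero) |>.mp this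
      rw [← map_zero (algebraMap A (Localization.AtPrime p)),
        IsLocalization.eq_iff_exists p.primeCompl] at h0
      obtain ⟨⟨t, ht⟩, hc⟩ := h0
      refine ⟨t, ?_, ht⟩
      show (LinearMap.toSpanSingleton A A z) t = 0
      simpa using hc
    have h1 : (1 : A) ∈ I := by rw [hI]; trivial
    have : (LinearMap.toSpanSingleton A A z) 1 = 0 := h1
    simpa using this
  rw [isSeminormalRing_iff]
  refine ⟨hred, ?_⟩
  intro x y hxy
  have hJ : denomIdeal x y = ⊤ := by
    apply key
    intro p _
    haveI := (h p).1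
    haveI := (h p).2
    obtain ⟨a, ha2, ha3⟩ := exists_root_of_isIntegrallyClosed
      (algebraMap A (Localization.AtPrime p) x) (algebraMap A (Localization.AtPrime p) y) (by
        rw [← map_pow, ← map_pow, hxy])
    obtain ⟨⟨c, ⟨s, hs⟩⟩, hc⟩ := IsLocalization.surj p.primeCompl a
    simp only at hc
    have e2 : algebraMap A (Localization.AtPrime p) (c ^ 2) =
        algebraMap A (Localization.AtPrime p) (x * s ^ 2) := by
      rw [map_pow, ← hc, map_mul, ← ha2, map_pow]
      ring
    have e3 : algebraMap A (Localization.AtPrime p) (c ^ 3) =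
        algebraMap A (Localization.AtPrime p) (y * s ^ 3) := by
      rw [map_pow, ← hc, map_mul, ← ha3, map_pow]
      ring
    rw [IsLocalization.eq_iff_exists p.primeCompl] at e2 e3
    obtain ⟨⟨t, ht⟩, hm⟩ := e2
    obtain ⟨⟨t', ht'⟩, hm'⟩ := e3
    simp only at hm hm'
    refine ⟨t * t' * s, ?_, ?_⟩
    · rw [mem_denomIdeal]
      refine ⟨t * t' * c, ?_, ?_⟩
      · linear_combination (t * t' ^ 2) * hm
      · linear_combination (t ^ 3 * t' ^ 2) * hm'
    · exact p.primeCompl.mul_mem (p.primeCompl.mul_mem ht ht') hs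
  have h1 : (1 : A) ∈ denomIdeal x y := by rw [hJ]; trivial
  obtain ⟨b, hb2, hb3⟩ := h1
  exact ⟨b, by rw [hb2]; ring, by rw [hb3]; ring⟩

end ring

section scheme

variable {X : Scheme.{u}}

theorem isSeminormalRing_of_isNormalScheme (hX : Pi1.IsNormalScheme X) (U : X.affineOpens) :
    HTop.IsSeminormalRing Γ(X, U) := by
  apply isSeminormalRing_of_forall_atPrime
  intro p hp
  let y : PrimeSpectrum Γ(X, U) := ⟨p, hp⟩
  have hy : U.2.fromSpec y ∈ (U : X.Opens) := by
    have : U.2.fromSpec y ∈ Set.range U.2.fromSpec := ⟨y, rfl⟩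
    rw [U.2.range_fromSpec] at this
    exact this
  letI := TopCat.Presheaf.algebra_section_stalk X.presheaf ⟨U.2.fromSpec y, hy⟩
  haveI hloc : IsLocalization.AtPrime (X.presheaf.stalk (U.2.fromSpec y)) p :=
    U.2.isLocalization_stalk' y hy
  let e : X.presheaf.stalk (U.2.fromSpec y) ≃+* Localization.AtPrime p :=
    (IsLocalization.algEquiv p.primeCompl (X.presheaf.stalk (U.2.fromSpec y))
      (Localization.AtPrime p)).toRingEquiv
  obtain ⟨h1, h2⟩ := hX (U.2.fromSpec y)
  exact ⟨e.symm.toMulEquiv.isDomain _, IsIntegrallyClosed.of_equiv e⟩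

theorem isSeminormal_of_isNormalScheme (hX : Pi1.IsNormalScheme X) : HTop.IsSeminormal X :=
  (isSeminormal_iff_forall X).mpr (isSeminormalRing_of_isNormalScheme hX)

end scheme

end Groth.Agent.H37
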