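import Groth.Agent.H37.SNSection

/-! Seminormality passes to open subschemes; restriction of seminormalizations to opens. -/

set_option autoImplicit false
universe u

open CategoryTheory Limits AlgebraicGeometry AlgebraicGeometry.Scheme

namespace Groth.Agent.H37

variable {X Y : Scheme.{u}}

theorem isSeminormal_of_isOpenImmersion (f : Y ⟶ X) [IsOpenImmersion f]
    (hX : HTop.IsSeminormal X) : HTop.IsSeminormal Y := by
  have hX' := (isSeminormal_iff_forall X).mp hX
  intro y
  obtain ⟨_, ⟨W, hW, rfl⟩, hxW, hWV⟩ := X.isBasis_affineOpens.exists_subset_of_mem_open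
    (show f y ∈ (f.opensRange : Set X) from ⟨y, rfl⟩) f.opensRange.2
  have hU : IsAffineOpen (f ⁻¹ᵁ W) := hW.preimage_of_isOpenImmersion f hWV
  refine ⟨⟨f ⁻¹ᵁ W, hU⟩, hxW, ?_⟩
  have e : f ''ᵁ f ⁻¹ᵁ W = W := by
    rw [f.image_preimage_eq_opensRange_inf]
    exact inf_eq_right.mpr hWV
  have h1 : HTop.IsSeminormalRing Γ(X, f ''ᵁ f ⁻¹ᵁ W) := by
    rw [e]; exact hX' ⟨W, hW⟩
  exact isSeminormalRing_of_ringEquiv (f.appIso (f ⁻¹ᵁ W)).commRingCatIsoToRingEquiv h1

/-- the restriction of a seminormalization with seminormal source to an open is a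
seminormalization -/
theorem isSeminormalization_restrict {X' : Scheme.{u}} (ν : X' ⟶ X)
    (hν : HTop.IsSeminormalization ν) (hX' : HTop.IsSeminormal X') (U : X.Opens) :
    HTop.IsSeminormalization (ν ∣_ U) := by
  refine ⟨⟨IsZariskiLocalAtTarget.restrict hν.1.1 U, residueFieldsIso_restrict ν hν.1.2 U⟩, ?_⟩
  intro Y π hπ hr
  exact existsUnique_lift_of_isSeminormal π hπ hr (ν ∣_ U)
    (isSeminormal_of_isOpenImmersion (ν ⁻¹ᵁ U).ι hX')

end Groth.Agent.H37
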