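import Groth.Prelude.Def_HTop2
import Mathlib.RingTheory.LocalProperties.Reduced

set_option autoImplicit false
universe u

namespace Groth.Agent.H37

variable {A : Type u} [CommRing A]

theorem sq_zero_eq_zero [IsReduced A] {z : A} (h : z ^ 2 = 0) : z = 0 :=
  IsNilpotent.eq_zero ⟨2, h⟩

/-- in a reduced ring an element is determined by its square and its cube -/
theorem eq_of_sq_eq_cube_eq [IsReduced A] {a b : A} (h2 : a ^ 2 = b ^ 2) (h3 : a ^ 3 = b ^ 3) :
    a = b := by
  have h : (a - b) ^ 3 = 0 := by linear_combination 4 * h3 - 3 * (a + b) * h2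
  have := IsNilpotent.eq_zero ⟨3, h⟩
  exact sub_eq_zero.mp this

theorem isReduced_of_isSeminormalRing (hA : HTop.IsSeminormalRing A) : IsReduced A := by
  rw [isReduced_iff_pow_one_lt 2 (by norm_num)]
  intro z hz
  obtain ⟨a, _, huniq⟩ := hA 0 0 (by simp)
  have h0 : (0 : A) = a := huniq 0 ⟨by simp, by simp⟩
  have hz' : z = a := huniq z ⟨by rw [hz], by rw [pow_succ, hz, zero_mul]⟩
  rw [hz', ← h0]

theorem isSeminormalRing_iff :
    HTop.IsSeminormalRing A ↔
      IsReduced A ∧ ∀ x y : A, x ^ 3 = y ^ 2 → ∃ a : A, x = a ^ 2 ∧ y = a ^ 3 := by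
  constructor
  · intro h
    exact ⟨isReduced_of_isSeminormalRing h, fun x y hxy => (h x y hxy).exists⟩
  · rintro ⟨hred, h⟩ x y hxy
    obtain ⟨a, ha2, ha3⟩ := h x y hxy
    refine ⟨a, ⟨ha2, ha3⟩, ?_⟩
    rintro b ⟨hb2, hb3⟩
    exact eq_of_sq_eq_cube_eq (by rw [← hb2, ← ha2]) (by rw [← hb3, ← ha3])

/-- an ideal containing a power of each member of a finite spanning set is the unit ideal -/
theorem ideal_eq_top_of_pow_mem (I : Ideal A) (s : Finset A) (hs : Ideal.span (s : Set A) = ⊤)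
    (h : ∀ f ∈ s, ∃ n : ℕ, f ^ n ∈ I) : I = ⊤ := by
  classical
  choose! n hn using h
  let N := s.sup n
  have hN : ∀ f ∈ s, f ^ N ∈ I := by
    intro f hf
    have hle : n f ≤ N := Finset.le_sup hf
    obtain ⟨k, hk⟩ := Nat.exists_eq_add_of_le hle
    rw [hk, pow_add]
    exact I.mul_mem_right _ (hn f hf)
  have htop := Ideal.span_pow_eq_top (s : Set A) hs N
  rw [eq_top_iff, ← htop, Ideal.span_le]
  rintro _ ⟨f, hf, rfl⟩
  exact hN f hf

/-- localizations of seminormal rings are seminormal -/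
theorem isSeminormalRing_of_isLocalization (M : Submonoid A) (B : Type u) [CommRing B] [Algebra A B]
    [IsLocalization M B] (hA : HTop.IsSeminormalRing A) : HTop.IsSeminormalRing B := by
  rw [isSeminormalRing_iff]
  have hredA := isReduced_of_isSeminormalRing hA
  refine ⟨isReduced_localizationPreserves M B hredA, ?_⟩
  intro x y hxy
  obtain ⟨⟨a, s⟩, hx⟩ := IsLocalization.surj M x
  obtain ⟨⟨b, t⟩, hy⟩ := IsLocalization.surj M y
  simp only at hx hy
  -- x * σ = α, y * τ = β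
  set σ := algebraMap A B s with hσ
  set τ := algebraMap A B t with hτ
  have hσu : IsUnit σ := IsLocalization.map_units B s
  have hτu : IsUnit τ := IsLocalization.map_units B t
  -- a₁ = a s t², b₁ = b s³ t²
  have e1 : algebraMap A B ((a * s * t ^ 2) ^ 3) = algebraMap A B ((b * s ^ 3 * t ^ 2) ^ 2) := by
    simp only [map_mul, map_pow]
    rw [← hx, ← hy]
    linear_combination (σ ^ 6 * τ ^ 6) * hxy
  obtain ⟨v, hv⟩ := (IsLocalization.eq_iff_exists M B).mp e1
  obtain ⟨c, ⟨hc2, hc3⟩, -⟩ := hA ((v : A) ^ 2 * (a * s * t ^ 2)) ((v : A) ^ 3 * (b * s ^ 3 * t ^ 2)) (by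
    linear_combination ((v : A) ^ 5) * hv)
  have hνu : IsUnit (algebraMap A B v) := IsLocalization.map_units B v
  set ν := algebraMap A B v with hν
  have hwu : IsUnit (ν * σ * τ) := (hνu.mul hσu).mul hτu
  obtain ⟨w, hw⟩ := hwu
  have hc2' : algebraMap A B c ^ 2 = ν ^ 2 * (x * σ * σ * τ ^ 2) := by
    rw [← map_pow, ← hc2, hx]
    simp only [map_mul, map_pow]
    rfl
  have hc3' : algebraMap A B c ^ 3 = ν ^ 3 * (y * τ * σ ^ 3 * τ ^ 2) := by
    rw [← map_pow, ← hc3, hy]
    simp only [map_mul, map_pow]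
    rfl
  refine ⟨algebraMap A B c * ↑w⁻¹, ?_, ?_⟩
  · have h1 : x * (w : B) ^ 2 = algebraMap A B c ^ 2 := by
      rw [hc2', hw]; ring
    rw [mul_pow, ← h1, mul_assoc, ← mul_pow, Units.mul_inv, one_pow, mul_one]
  · have h1 : y * (w : B) ^ 3 = algebraMap A B c ^ 3 := by
      rw [hc3', hw]; ring
    rw [mul_pow, ← h1, mul_assoc, ← mul_pow, Units.mul_inv, one_pow, mul_one]

end Groth.Agent.H37
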