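import Groth.Agent.H37.Seminormal

set_option autoImplicit false
universe u

namespace Groth.Agent.H37

variable {A : Type u} [CommRing A]

theorem xb_eq_ry [IsReduced A] {x y r b : A} (h2 : b ^ 2 = r ^ 2 * x) (h3 : b ^ 3 = r ^ 3 * y) :
    x * b = r * y := by
  have k1 : r ^ 2 * (x * b - r * y) = 0 := by linear_combination -b * h2 + h3
  have k2 : r * (x * b - r * y) = 0 :=
    sq_zero_eq_zero (by linear_combination (x * b - r * y) * k1)
  have k3 : b * (x * b - r * y) = 0 :=
    sq_zero_eq_zero (by linear_combination (x * b - r * y) ^ 2 * h2 + x * r * (x * b - r * y) * k2)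
  have k4 : x * b - r * y = 0 := sq_zero_eq_zero (by linear_combination x * k3 - y * k2)
  exact sub_eq_zero.mp k4

/-- the ideal of "denominators" `r` for which `r^2 x`, `r^3 y` have a common root -/
def denomIdeal [IsReduced A] (x y : A) : Ideal A where
  carrier := {r | ∃ b, b ^ 2 = r ^ 2 * x ∧ b ^ 3 = r ^ 3 * y}
  zero_mem' := ⟨0, by ring, by ring⟩
  add_mem' := by
    rintro r r' ⟨b, h2, h3⟩ ⟨b', h2', h3'⟩
    have E1 : b * r' = b' * r :=
      eq_of_sq_eq_cube_eq (by linear_combination r' ^ 2 * h2 - r ^ 2 * h2')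
        (by linear_combination r' ^ 3 * h3 - r ^ 3 * h3')
    have E2 : b * b' - r * r' * x = 0 :=
      sq_zero_eq_zero (by
        linear_combination (b' ^ 2 - 2 * x * r' ^ 2) * h2 + r ^ 2 * x * h2' + 2 * x * b * r' * E1)
    have E3 := xb_eq_ry h2 h3
    have E3' := xb_eq_ry h2' h3'
    refine ⟨b + b', ?_, ?_⟩
    · linear_combination h2 + h2' + 2 * E2
    · linear_combination h3 + h3' + 3 * (b' * h2 + r ^ 2 * E3') + 3 * (b * h2' + r' ^ 2 * E3)
  smul_mem' := by
    rintro c r ⟨b, h2, h3⟩
    refine ⟨c * b, ?_, ?_⟩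
    · rw [smul_eq_mul]; linear_combination c ^ 2 * h2
    · rw [smul_eq_mul]; linear_combination c ^ 3 * h3

theorem mem_denomIdeal [IsReduced A] {x y r : A} :
    r ∈ denomIdeal x y ↔ ∃ b, b ^ 2 = r ^ 2 * x ∧ b ^ 3 = r ^ 3 * y := Iff.rfl

/-- reducedness can be checked on a finite cover by localizations -/
theorem isReduced_of_span (s : Finset A) (hs : Ideal.span (s : Set A) = ⊤)
    (h : ∀ f ∈ s, IsReduced (Localization.Away f)) : IsReduced A := by
  rw [isReduced_iff_pow_one_lt 2 (by norm_num)]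
  intro z hz
  let I : Ideal A := LinearMap.ker (LinearMap.toSpanSingleton A A z)
  have hI : I = ⊤ := by
    apply ideal_eq_top_of_pow_mem I s hs
    intro f hf
    haveI := h f hf
    have h0 : algebraMap A (Localization.Away f) z = 0 :=
      sq_zero_eq_zero (by rw [← map_pow, hz, map_zero])
    rw [← map_zero (algebraMap A (Localization.Away f)),
      IsLocalization.eq_iff_exists (Submonoid.powers f)] at h0
    obtain ⟨⟨_, n, rfl⟩, hc⟩ := h0
    refine ⟨n, ?_⟩
    show (LinearMap.toSpanSingleton A A z) (f ^ n) = 0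
    simpa using hc
  have h1 : (1 : A) ∈ I := by rw [hI]; trivial
  have : (LinearMap.toSpanSingleton A A z) 1 = 0 := h1
  simpa using this

/-- seminormality can be checked on a finite cover by localizations -/
theorem isSeminormalRing_of_span (s : Finset A) (hs : Ideal.span (s : Set A) = ⊤)
    (h : ∀ f ∈ s, HTop.IsSeminormalRing (Localization.Away f)) : HTop.IsSeminormalRing A := by
  rw [isSeminormalRing_iff]
  haveI hred : IsReduced A :=
    isReduced_of_span s hs (fun f hf => isReduced_of_isSeminormalRing (h f hf))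
  refine ⟨hred, ?_⟩
  intro x y hxy
  have hJ : denomIdeal x y = ⊤ := by
    apply ideal_eq_top_of_pow_mem _ s hs
    intro f hf
    obtain ⟨a, ⟨ha2, ha3⟩, -⟩ := h f hf (algebraMap A _ x) (algebraMap A _ y) (by
      rw [← map_pow, ← map_pow, hxy])
    obtain ⟨⟨c, ⟨_, k, rfl⟩⟩, hc⟩ := IsLocalization.surj (Submonoid.powers f) a
    simp only at hc
    have e2 : algebraMap A (Localization.Away f) (c ^ 2) =
        algebraMap A (Localization.Away f) (x * f ^ (2 * k)) := by
      rw [map_pow, ← hc, map_mul, ha2, map_pow, map_pow]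
      ring
    have e3 : algebraMap A (Localization.Away f) (c ^ 3) =
        algebraMap A (Localization.Away f) (y * f ^ (3 * k)) := by
      rw [map_pow, ← hc, map_mul, ha3, map_pow, map_pow]
      ring
    rw [IsLocalization.eq_iff_exists (Submonoid.powers f)] at e2 e3
    obtain ⟨⟨_, m, rfl⟩, hm⟩ := e2
    obtain ⟨⟨_, m', rfl⟩, hm'⟩ := e3
    simp only at hm hm'
    refine ⟨k + (m + m'), ?_⟩
    rw [mem_denomIdeal]
    refine ⟨f ^ (m + m') * c, ?_, ?_⟩
    · linear_combination (f ^ (m + 2 * m')) * hm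
    · linear_combination (f ^ (3 * m + 2 * m')) * hm'
  have h1 : (1 : A) ∈ denomIdeal x y := by rw [hJ]; trivial
  obtain ⟨b, hb2, hb3⟩ := h1
  exact ⟨b, by rw [hb2]; ring, by rw [hb3]; ring⟩

end Groth.Agent.H37
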