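import Mathlib
import Groth.Agent.H15.Quot

set_option autoImplicit false
universe u v

open AlgebraicGeometry CategoryTheory CategoryTheory.Limits

namespace Groth.Agent.H37

section
variable {X Y : Scheme.{u}} (f : X ⟶ Y)

/-- the box `pr₁⁻¹ U ∩ pr₂⁻¹ V` in `X ×_Y X`. -/
noncomputable def sepBox (U V : X.Opens) : (pullback f f).Opens :=
  (pullback.fst f f) ⁻¹ᵁ U ⊓ (pullback.snd f f) ⁻¹ᵁ V

lemma sepBox_le_fst (U V : X.Opens) : sepBox f U V ≤ (pullback.fst f f) ⁻¹ᵁ U := inf_le_left
lemma sepBox_le_snd (U V : X.Opens) : sepBox f U V ≤ (pullback.snd f f) ⁻¹ᵁ V := inf_le_right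

lemma isAffineOpen_sepBox [IsAffine Y] {U V : X.Opens} (hU : IsAffineOpen U)
    (hV : IsAffineOpen V) : IsAffineOpen (sepBox f U V) := by
  have H : IsPullback (pullback.fst f f) (pullback.snd f f) f f := IsPullback.of_hasPullback f f
  have hUS : IsAffineOpen (⊤ : Y.Opens) := isAffineOpen_top Y
  have : IsAffine (⊤ : Y.Opens) := hUS
  have : IsAffine U := hU
  have : IsAffine V := hV
  exact .of_isIso (Scheme.Hom.isPullback_resLE H (US := ⊤) (UT := V) (UX := U)
    (by simp) (by simp) (UY := sepBox f U V) rfl).isoPullback.hom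

lemma closure_sepBox [IsAffine Y] {U V : X.Opens} (hU : IsAffineOpen U)
    (hV : IsAffineOpen V) :
    Subring.closure (Set.range ((pullback.fst f f).appLE U (sepBox f U V) (sepBox_le_fst f U V)).hom ∪
      Set.range ((pullback.snd f f).appLE V (sepBox f U V) (sepBox_le_snd f U V)).hom) = ⊤ := by
  have H : IsPullback (pullback.fst f f) (pullback.snd f f) f f := IsPullback.of_hasPullback f f
  have hUS : IsAffineOpen (⊤ : Y.Opens) := isAffineOpen_top Y
  have h1 := isIso_pushoutSection_of_isAffineOpen H (US := ⊤) (UT := V) (UX := U)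
    (by simp) (by simp) (UY := sepBox f U V) rfl hUS hV hU
  have h2 := (isIso_pushoutSection_iff H (US := ⊤) (UT := V) (UX := U)
    (by simp) (by simp) (UY := sepBox f U V) rfl).mp h1
  exact CommRingCat.closure_range_union_range_eq_top_of_isPushout h2

lemma diagonal_preimage_sepBox (U V : X.Opens) :
    (pullback.diagonal f) ⁻¹ᵁ (sepBox f U V) = U ⊓ V := by
  unfold sepBox
  rw [Scheme.Hom.preimage_inf, ← Scheme.Hom.comp_preimage, ← Scheme.Hom.comp_preimage]
  simp

lemma appLE_of_eq_id {f' : X ⟶ X} (hf : f' = 𝟙 X) (U V : X.Opens) (e : V ≤ f' ⁻¹ᵁ U) :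
    f'.appLE U V e = X.presheaf.map (homOfLE (show V ≤ U by subst hf; exact e)).op := by
  subst hf
  exact Groth.Agent.H15.Quot.id_appLE U V e

lemma diagonal_le (U V : X.Opens) :
    U ⊓ V ≤ (pullback.diagonal f) ⁻¹ᵁ (sepBox f U V) := (diagonal_preimage_sepBox f U V).ge

lemma fst_appLE_diagonal_appLE (U V : X.Opens) :
    (pullback.fst f f).appLE U (sepBox f U V) (sepBox_le_fst f U V) ≫
      (pullback.diagonal f).appLE (sepBox f U V) (U ⊓ V) (diagonal_le f U V) =
    X.presheaf.map (homOfLE (inf_le_left : U ⊓ V ≤ U)).op := by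
  rw [Scheme.Hom.appLE_comp_appLE]
  exact appLE_of_eq_id (pullback.diagonal_fst f) _ _ _

lemma snd_appLE_diagonal_appLE (U V : X.Opens) :
    (pullback.snd f f).appLE V (sepBox f U V) (sepBox_le_snd f U V) ≫
      (pullback.diagonal f).appLE (sepBox f U V) (U ⊓ V) (diagonal_le f U V) =
    X.presheaf.map (homOfLE (inf_le_right : U ⊓ V ≤ V)).op := by
  rw [Scheme.Hom.appLE_comp_appLE]
  exact appLE_of_eq_id (pullback.diagonal_snd f) _ _ _

lemma surjective_appTop_morphismRestrict_iff {X Y : Scheme.{u}} (g : X ⟶ Y) (W : Y.Opens) :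
    Function.Surjective (g ∣_ W).appTop.hom ↔
      Function.Surjective (g.appLE W (g ⁻¹ᵁ W) le_rfl).hom := by
  have e : Arrow.mk ((g ∣_ W).appTop) ≅ Arrow.mk (g.appLE W (g ⁻¹ᵁ W) le_rfl) := by
    rw [← Scheme.Hom.resLE_eq_morphismRestrict]
    exact arrowResLEAppIso g W _ le_rfl
  exact RingHom.surjective_respectsIso.arrow_mk_iso_iff e

lemma iSup_sepBox {ι : Type v} (U : ι → X.Opens) (hcov : ⨆ i, U i = ⊤) :
    ⨆ p : ι × ι, sepBox f (U p.1) (U p.2) = ⊤ := by
  rw [eq_top_iff]
  intro z _
  have h1 : (pullback.fst f f) z ∈ ⨆ i, U i := by rw [hcov]; trivial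
  have h2 : (pullback.snd f f) z ∈ ⨆ i, U i := by rw [hcov]; trivial
  obtain ⟨i, hi⟩ := TopologicalSpace.Opens.mem_iSup.mp h1
  obtain ⟨j, hj⟩ := TopologicalSpace.Opens.mem_iSup.mp h2
  exact TopologicalSpace.Opens.mem_iSup.mpr ⟨(i, j), ⟨hi, hj⟩⟩

theorem isSeparated_iff_inter_affine_generated [IsAffine Y] {ι : Type v} (U : ι → X.Opens)
    (hU : ∀ i, IsAffineOpen (U i)) (hcov : ⨆ i, U i = ⊤) :
    IsSeparated f ↔ ∀ i j, IsAffineOpen (U i ⊓ U j) ∧
      Subring.closure (Set.range (X.presheaf.map (homOfLE (inf_le_left : U i ⊓ U j ≤ U i)).op).hom ∪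
        Set.range (X.presheaf.map (homOfLE (inf_le_right : U i ⊓ U j ≤ U j)).op).hom) = ⊤ := by
  constructor
  · intro hsep i j
    have hΔ : IsClosedImmersion (pullback.diagonal f) := hsep.isClosedImmersion_diagonal
    have hW := isAffineOpen_sepBox f (hU i) (hU j)
    have haff : IsAffineOpen ((pullback.diagonal f) ⁻¹ᵁ (sepBox f (U i) (U j))) :=
      hW.preimage (pullback.diagonal f)
    have haff' : IsAffineOpen (U i ⊓ U j) := by
      rw [← diagonal_preimage_sepBox f (U i) (U j)]; exact haff
    refine ⟨haff', ?_⟩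
    -- surjectivity of Δ.appLE
    have hsurj0 : Function.Surjective ((pullback.diagonal f).app (sepBox f (U i) (U j))).hom :=
      (pullback.diagonal f).app_surjective _ hW
    have hsurj : Function.Surjective ((pullback.diagonal f).appLE (sepBox f (U i) (U j))
        (U i ⊓ U j) (diagonal_le f _ _)).hom := by
      have hmap : (pullback.diagonal f).appLE (sepBox f (U i) (U j))
          (U i ⊓ U j) (diagonal_le f _ _) =
          (pullback.diagonal f).app (sepBox f (U i) (U j)) ≫
            X.presheaf.map (homOfLE (diagonal_le f (U i) (U j))).op := rfl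
      rw [hmap]
      have hiso : IsIso (X.presheaf.map (homOfLE (diagonal_le f (U i) (U j))).op) := by
        have : (homOfLE (diagonal_le f (U i) (U j))) =
            eqToHom (diagonal_preimage_sepBox f (U i) (U j)).symm := rfl
        rw [this]; infer_instance
      have hbij : Function.Bijective
          (X.presheaf.map (homOfLE (diagonal_le f (U i) (U j))).op).hom :=
        ConcreteCategory.bijective_of_isIso _
      simp only [CommRingCat.hom_comp, RingHom.coe_comp]
      exact hbij.surjective.comp hsurj0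
    have hcl := closure_sepBox f (hU i) (hU j)
    have hmapcl := congrArg (Subring.map ((pullback.diagonal f).appLE (sepBox f (U i) (U j))
        (U i ⊓ U j) (diagonal_le f _ _)).hom) hcl
    rw [RingHom.map_closure, Set.image_union, ← Set.range_comp, ← Set.range_comp,
      ← RingHom.range_eq_map, RingHom.range_eq_top.mpr hsurj,
      ← RingHom.coe_comp, ← RingHom.coe_comp, ← CommRingCat.hom_comp, ← CommRingCat.hom_comp,
      fst_appLE_diagonal_appLE, snd_appLE_diagonal_appLE] at hmapcl
    exact hmapcl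
  · intro h
    rw [isSeparated_iff]
    let W : ι × ι → (pullback f f).affineOpens := fun p =>
      ⟨sepBox f (U p.1) (U p.2), isAffineOpen_sepBox f (hU p.1) (hU p.2)⟩
    rw [HasAffineProperty.iff_of_iSup_eq_top (P := @IsClosedImmersion) W (iSup_sepBox f U hcov)]
    rintro ⟨i, j⟩
    obtain ⟨haff, hgen⟩ := h i j
    have haff' : IsAffineOpen ((pullback.diagonal f) ⁻¹ᵁ (sepBox f (U i) (U j))) := by
      rw [diagonal_preimage_sepBox f (U i) (U j)]; exact haff
    refine ⟨haff', ?_⟩
    change Function.Surjective ((pullback.diagonal f) ∣_ (sepBox f (U i) (U j))).appTop.hom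
    rw [surjective_appTop_morphismRestrict_iff]
    -- reduce to surjectivity onto `U i ⊓ U j`
    have hsurj : Function.Surjective ((pullback.diagonal f).appLE (sepBox f (U i) (U j))
        (U i ⊓ U j) (diagonal_le f _ _)).hom := by
      rw [← RingHom.range_eq_top, ← top_le_iff, ← hgen, Subring.closure_le]
      rintro x (⟨a, rfl⟩ | ⟨a, rfl⟩)
      · rw [← fst_appLE_diagonal_appLE f (U i) (U j)]
        exact ⟨_, rfl⟩
      · rw [← snd_appLE_diagonal_appLE f (U i) (U j)]
        exact ⟨_, rfl⟩
    have hfac : (pullback.diagonal f).appLE (sepBox f (U i) (U j))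
        (U i ⊓ U j) (diagonal_le f _ _) =
        (pullback.diagonal f).appLE (sepBox f (U i) (U j))
          ((pullback.diagonal f) ⁻¹ᵁ (sepBox f (U i) (U j))) le_rfl ≫
          X.presheaf.map (homOfLE (diagonal_le f (U i) (U j))).op := by
      rw [Scheme.Hom.appLE_map]
    rw [hfac] at hsurj
    simp only [CommRingCat.hom_comp, RingHom.coe_comp] at hsurj
    have hiso : IsIso (X.presheaf.map (homOfLE (diagonal_le f (U i) (U j))).op) := by
      have : (homOfLE (diagonal_le f (U i) (U j))) =
          eqToHom (diagonal_preimage_sepBox f (U i) (U j)).symm := rfl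
      rw [this]; infer_instance
    have hbij : Function.Bijective
        (X.presheaf.map (homOfLE (diagonal_le f (U i) (U j))).op).hom :=
      ConcreteCategory.bijective_of_isIso _
    intro y
    obtain ⟨x, hx⟩ := hsurj ((X.presheaf.map (homOfLE (diagonal_le f (U i) (U j))).op).hom y)
    exact ⟨x, hbij.injective hx⟩

end

end Groth.Agent.H37
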