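import Groth.Agent.H37.AffStage
import Groth.Agent.H24.LimitSeparatedStage

/-!
# Separatedness at a finite stage of a relative limit (Stacks 0A0U-style), and factorisation
of a morphism of qcqs schemes as affine followed by finite presentation (Stacks 09MV-corollary)
-/

set_option autoImplicit false
universe u

open CategoryTheory Limits Opposite AlgebraicGeometry

namespace Groth.Agent.H37.SepStage

open Groth.Agent.H37.AffStage

theorem isSeparated_from_of_eq {T Y : Scheme.{u}} (hT : IsTerminal T) {V V' : Y.Opens}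
    (h : V = V') (hV : IsSeparated (hT.from V.toScheme)) : IsSeparated (hT.from V'.toScheme) := by
  subst h; exact hV

section stage

attribute [local instance] IsCofiltered.isConnected

variable {X : Scheme.{u}} {K : Type u} [Preorder K] [IsDirected K (· ≤ ·)] [Nonempty K]
  (D : Kᵒᵖ ⥤ Over X) (c : Cone D) (hc : IsLimit c)
  (hqc : ∀ k, QuasiCompact (D.obj k).hom) (hqs : ∀ k, QuasiSeparatedSpace (D.obj k).left)
  (haff : ∀ (k k' : Kᵒᵖ) (a : k ⟶ k'), IsAffineHom (D.map a).left)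

include hc hqc hqs haff in
theorem exists_isSeparated_restrict [IsSeparated c.pt.hom] {W : X.Opens} (hW : IsAffineOpen W) :
    ∃ k₀ : K, ∀ k, k₀ ≤ k → IsSeparated ((D.obj (op k)).hom ∣_ W) := by
  haveI : IsFiltered K := isFiltered_of_directed_le_nonempty K
  let D' : Kᵒᵖ ⥤ Scheme.{u} := D ⋙ Over.forget X
  let c' : Cone D' := (Over.forget X).mapCone c
  have hc' : IsLimit c' := isLimitOfPreserves (Over.forget X) hc
  haveI : ∀ {i j : Kᵒᵖ} (a : i ⟶ j), IsAffineHom (D'.map a) := fun a => haff _ _ a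
  haveI : ∀ i, QuasiSeparatedSpace (D'.obj i) := fun i => hqs i
  obtain ⟨k₁⟩ := ‹Nonempty K›
  let i₀ : Kᵒᵖ := op k₁
  let t : ∀ i, D'.obj i ⟶ X := fun i => (D.obj i).hom
  let U : (D'.obj i₀).Opens := t i₀ ⁻¹ᵁ W
  have hU : IsCompact (U : Set (D'.obj i₀)) := by
    haveI : QuasiCompact (t i₀) := hqc i₀
    exact QuasiCompact.isCompact_preimage (f := t i₀) _ W.2 hW.isCompact
  haveI : ∀ j : Over i₀, CompactSpace ((opensDiagram D' i₀ U).obj j) := fun j =>
    isCompact_iff_compactSpace.mp (QuasiCompact.isCompact_preimage (f := D'.map j.hom) _ U.2 hU)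
  haveI : ∀ j : Over i₀, QuasiSeparatedSpace ((opensDiagram D' i₀ U).obj j) := fun j =>
    (isQuasiSeparated_iff_quasiSeparatedSpace _ (D'.map _ ⁻¹ᵁ _).2).mp (.of_quasiSeparatedSpace _)
  let T : Scheme.{u} := Spec (.of (ULift.{u} ℤ))
  have hT : IsTerminal T := specULiftZIsTerminal
  haveI : IsAffine W.toScheme := hW
  let tc : c'.pt ⟶ X := c.pt.hom
  haveI : IsSeparated tc := ‹IsSeparated c.pt.hom›
  haveI : IsSeparated (hT.from (opensCone D' c' i₀ U).pt) := by
    have e0 : tc ⁻¹ᵁ W = c'.π.app i₀ ⁻¹ᵁ U := by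
      change _ = c'.π.app i₀ ⁻¹ᵁ (t i₀ ⁻¹ᵁ W)
      rw [← Scheme.Hom.comp_preimage]
      have e : c'.π.app i₀ ≫ t i₀ = tc := Over.w (c.π.app i₀)
      rw [e]
    refine isSeparated_from_of_eq hT e0 ?_
    have e1 : hT.from (tc ⁻¹ᵁ W).toScheme = (tc ∣_ W) ≫ hT.from W.toScheme :=
      hT.hom_ext _ _
    rw [e1]
    infer_instance
  obtain ⟨j₀, hj₀⟩ := Groth.Agent.H24.exists_isSeparated_stage (opensDiagram D' i₀ U)
    (opensCone D' c' i₀ U) (isLimitOpensCone D' c' hc' i₀ U) hT
  have h10 : k₁ ≤ j₀.left.unop := leOfHom j₀.hom.unop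
  refine ⟨j₀.left.unop, fun k hk => ?_⟩
  let j : Over i₀ := Over.mk (Y := op k) (homOfLE (h10.trans hk)).op
  have a : j ⟶ j₀ := Over.homMk (homOfLE hk).op (Subsingleton.elim _ _)
  have h1 := hj₀ j a
  have e0 : D'.map j.hom ⁻¹ᵁ U = t (op k) ⁻¹ᵁ W := by
    change D'.map j.hom ⁻¹ᵁ (t i₀ ⁻¹ᵁ W) = _
    rw [← Scheme.Hom.comp_preimage]
    have e : D'.map j.hom ≫ t i₀ = t (op k) := Over.w (D.map j.hom)
    rw [e]
  have h2 := isSeparated_from_of_eq hT e0 h1
  have e1 : hT.from (t (op k) ⁻¹ᵁ W).toScheme = (t (op k) ∣_ W) ≫ hT.from W.toScheme :=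
    hT.hom_ext _ _
  rw [e1] at h2
  exact IsSeparated.of_comp (t (op k) ∣_ W) (hT.from W.toScheme)

include hc hqc hqs haff in
/-- if the limit is separated over the quasi-compact base, so are all late stages. -/
theorem exists_separated_stage [CompactSpace X] [IsSeparated c.pt.hom] :
    ∃ k₀ : K, ∀ k, k₀ ≤ k → IsSeparated (D.obj (op k)).hom := by
  classical
  have h1 : ∀ x : X, ∃ W : X.Opens, x ∈ W ∧ IsAffineOpen W := fun x => by
    obtain ⟨_, ⟨W, hW, rfl⟩, hxW, -⟩ :=
      X.isBasis_affineOpens.exists_subset_of_mem_open (Set.mem_univ x) isOpen_univ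
    exact ⟨W, hxW, hW⟩
  choose W hxW hW using h1
  have h2 : ∀ x : X, ∃ k₀ : K, ∀ k, k₀ ≤ k → IsSeparated ((D.obj (op k)).hom ∣_ W x) := fun x =>
    exists_isSeparated_restrict D c hc hqc hqs haff (hW x)
  choose κ hκ using h2
  obtain ⟨t, ht⟩ := isCompact_univ.elim_finite_subcover (fun x : X => ((W x : X.Opens) : Set X))
    (fun x => (W x).2) (fun x _ => Set.mem_iUnion.mpr ⟨x, hxW x⟩)
  obtain ⟨k₀, hk₀⟩ := (t.image κ).exists_le
  refine ⟨k₀, fun k hk => ?_⟩
  refine IsZariskiLocalAtTarget.of_iSup_eq_top (P := @IsSeparated) (fun x : t => W x.1) ?_ ?_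
  · rw [eq_top_iff]
    intro y _
    obtain ⟨x, hx⟩ := Set.mem_iUnion.mp (ht (Set.mem_univ y))
    obtain ⟨hxt, hyx⟩ := Set.mem_iUnion.mp hx
    exact TopologicalSpace.Opens.mem_iSup.mpr ⟨⟨x, hxt⟩, hyx⟩
  · intro x
    exact hκ x.1 k ((hk₀ _ (Finset.mem_image_of_mem κ x.2)).trans hk)

end stage

section main

attribute [local instance] IsCofiltered.isConnected

theorem separated_comp {X Y Z : Scheme.{u}} (f : X ⟶ Y) (g : Y ⟶ Z) (hf : IsSeparated f)
    (hg : IsSeparated g) : IsSeparated (f ≫ g) := by infer_instance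

/-- a morphism of qcqs schemes is an affine morphism followed by a morphism of finite presentation
(which can be taken separated if `f` is). -/
theorem exists_affine_fp_factorization {X Y : Scheme.{u}} (f : Y ⟶ X)
    [CompactSpace X] [QuasiSeparatedSpace X] [CompactSpace Y] [QuasiSeparatedSpace Y] :
    ∃ (Z : Scheme.{u}) (g : Y ⟶ Z) (h : Z ⟶ X), IsAffineHom g ∧ LocallyOfFinitePresentation h ∧
      QuasiCompact h ∧ QuasiSeparated h ∧ (IsSeparated f → IsSeparated h) ∧ g ≫ h = f := by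
  obtain ⟨K, _, _, _, D, c, hc, hprops, haff, ⟨e⟩⟩ := RelApx.exists_relative f
  have hqs : ∀ k, QuasiSeparatedSpace (D.obj k).left := fun k => by
    haveI := (hprops k).2.2
    exact quasiSeparatedSpace_of_quasiSeparated (D.obj k).hom
  have hk : ∃ k : K, IsSeparated f → IsSeparated (D.obj (op k)).hom := by
    by_cases hs : IsSeparated f
    · haveI : IsSeparated c.pt.hom := by
        have e1 : e.hom.left ≫ f = c.pt.hom := Over.w e.hom
        rw [← e1]
        haveI : IsIso e.hom.left := (Over.forget X).map_isIso e.hom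
        exact separated_comp _ _ inferInstance hs
      obtain ⟨k₀, hk₀⟩ := exists_separated_stage D c hc (fun k => (hprops k).2.1) hqs haff
      exact ⟨k₀, fun _ => hk₀ k₀ le_rfl⟩
    · exact ⟨Classical.arbitrary K, fun h => absurd h hs⟩
  obtain ⟨k, hk⟩ := hk
  haveI : IsFiltered K := isFiltered_of_directed_le_nonempty K
  let D' : Kᵒᵖ ⥤ Scheme.{u} := D ⋙ Over.forget X
  let c' : Cone D' := (Over.forget X).mapCone c
  have hc' : IsLimit c' := isLimitOfPreserves (Over.forget X) hc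
  haveI : ∀ {i j : Kᵒᵖ} (a : i ⟶ j), IsAffineHom (D'.map a) := fun a => haff _ _ a
  have hπ : IsAffineHom (c'.π.app (op k)) := isAffineHom_π_app D' c' hc' (op k)
  let t : ∀ i, D'.obj i ⟶ X := fun i => (D.obj i).hom
  let q : Y ⟶ c'.pt := e.inv.left
  haveI : IsIso q := (Over.forget X).map_isIso e.inv
  refine ⟨D'.obj (op k), q ≫ c'.π.app (op k), t (op k), ?_, (hprops _).1, (hprops _).2.1,
    (hprops _).2.2, hk, ?_⟩
  · exact affine_comp _ _ inferInstance hπ
  · rw [Category.assoc]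
    have e2 : c'.π.app (op k) ≫ t (op k) = c.pt.hom := Over.w (c.π.app (op k))
    rw [e2]
    exact Over.w e.inv

end main

end Groth.Agent.H37.SepStage
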