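import Groth.Agent.H37.UHScheme
import Mathlib.AlgebraicGeometry.Normalization
import Mathlib.AlgebraicGeometry.Geometrically.Connected
import Mathlib.AlgebraicGeometry.Morphisms.Proper
import Mathlib.RingTheory.Spectrum.Prime.Topology

/-! The Stein factor of a proper morphism with geometrically connected fibres is a universal
homeomorphism onto the base. -/

set_option autoImplicit false
universe u

open CategoryTheory AlgebraicGeometry MorphismProperty Limits Polynomial

namespace Groth.Agent.H37

section ring

variable {K B : Type u} [CommRing B]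

/-- two retractions of `ι : K → B` onto a domain agree when `B` has at most one prime -/
theorem retraction_unique_of_subsingleton_primeSpectrum [CommRing K] [IsDomain K]
    [Subsingleton (PrimeSpectrum B)] (ι : K →+* B) (φ ψ : B →+* K)
    (hφ : φ.comp ι = RingHom.id K) (hψ : ψ.comp ι = RingHom.id K) : φ = ψ := by
  have hker : RingHom.ker φ = RingHom.ker ψ := by
    have := Subsingleton.elim (⟨RingHom.ker φ, RingHom.ker_isPrime φ⟩ : PrimeSpectrum B)
      ⟨RingHom.ker ψ, RingHom.ker_isPrime ψ⟩
    exact congrArg PrimeSpectrum.asIdeal this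
  ext x
  have h1 : x - ι (φ x) ∈ RingHom.ker φ := by
    rw [RingHom.mem_ker, map_sub]
    have : φ (ι (φ x)) = φ x := RingHom.congr_fun hφ (φ x)
    rw [this, sub_self]
  rw [hker, RingHom.mem_ker, map_sub] at h1
  have : ψ (ι (φ x)) = φ x := RingHom.congr_fun hψ (φ x)
  rw [this, sub_eq_zero] at h1
  exact h1.symm

/-- the spectrum of a ring integral over a field is a point if it is (pre)connected -/
theorem subsingleton_primeSpectrum_of_isIntegral_of_preconnected [Field K] (ι : K →+* B)
    (hι : ι.IsIntegral) [PreconnectedSpace (PrimeSpectrum B)] :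
    Subsingleton (PrimeSpectrum B) := by
  -- key: `b ∈ p₁ → b ∈ p₂`
  have key : ∀ (p₁ p₂ : PrimeSpectrum B) (b : B), b ∈ p₁.asIdeal → b ∈ p₂.asIdeal := by
    intro p₁ p₂ b hb1
    by_contra hb2
    obtain ⟨P, hPm, hPb⟩ := hι b
    have hP0 : P ≠ 0 := hPm.ne_zero
    obtain ⟨Q, hPQ, hQ⟩ := Polynomial.exists_eq_pow_rootMultiplicity_mul_and_not_dvd P hP0 0
    set k := P.rootMultiplicity 0
    rw [C_0, sub_zero] at hPQ hQ
    have hQ0 : Q.coeff 0 ≠ 0 := by
      intro h0
      exact hQ (Polynomial.X_dvd_iff.mpr h0)
    have hbk : b ^ k * Q.eval₂ ι b = 0 := by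
      rw [hPQ, eval₂_mul, eval₂_pow, eval₂_X] at hPb
      exact hPb
    have hD : ∀ p : PrimeSpectrum B, b ∉ p.asIdeal ↔ Q.eval₂ ι b ∈ p.asIdeal := by
      intro p
      constructor
      · intro hb
        have h0 : b ^ k * Q.eval₂ ι b ∈ p.asIdeal := by rw [hbk]; exact zero_mem _
        rcases p.isPrime.mem_or_mem h0 with h | h
        · exact absurd (p.isPrime.mem_of_pow_mem _ h) hb
        · exact h
      · intro hQb hb
        have e : Q.eval₂ ι b = (Q.divX).eval₂ ι b * b + ι (Q.coeff 0) := by
          conv_lhs => rw [← Polynomial.divX_mul_X_add Q]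
          rw [eval₂_add, eval₂_mul, eval₂_X, eval₂_C]
        have h1 : ι (Q.coeff 0) ∈ p.asIdeal := by
          have : ι (Q.coeff 0) = Q.eval₂ ι b - (Q.divX).eval₂ ι b * b := by rw [e]; ring
          rw [this]
          exact sub_mem hQb (Ideal.mul_mem_left _ _ hb)
        have hu : IsUnit (ι (Q.coeff 0)) := (IsUnit.mk0 _ hQ0).map ι
        exact p.isPrime.ne_top (Ideal.eq_top_of_isUnit_mem _ h1 hu)
    have hclopen : IsClopen ((PrimeSpectrum.basicOpen b : TopologicalSpace.Opens (PrimeSpectrum B)) :
        Set (PrimeSpectrum B)) := by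
      refine ⟨?_, (PrimeSpectrum.basicOpen b).isOpen⟩
      have : ((PrimeSpectrum.basicOpen b : TopologicalSpace.Opens (PrimeSpectrum B)) :
          Set (PrimeSpectrum B)) = PrimeSpectrum.zeroLocus {Q.eval₂ ι b} := by
        ext p
        rw [PrimeSpectrum.mem_zeroLocus, Set.singleton_subset_iff]
        exact hD p
      rw [this]
      exact PrimeSpectrum.isClosed_zeroLocus _
    rcases isClopen_iff.mp hclopen with h | h
    · have : p₂ ∈ ((PrimeSpectrum.basicOpen b : TopologicalSpace.Opens (PrimeSpectrum B)) :
          Set (PrimeSpectrum B)) := hb2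
      rw [h] at this
      exact this
    · have : p₁ ∈ ((PrimeSpectrum.basicOpen b : TopologicalSpace.Opens (PrimeSpectrum B)) :
          Set (PrimeSpectrum B)) := by rw [h]; trivial
      exact this hb1
  constructor
  intro p₁ p₂
  ext b
  exact ⟨key p₁ p₂ b, key p₂ p₁ b⟩

end ring

section scheme

variable {X S : Scheme.{u}}

theorem isUnivHomeo_fromNormalization_of_geometricallyConnected (f : X ⟶ S) [IsProper f]
    [GeometricallyConnected f] : FlatMor.IsUnivHomeo f.fromNormalization := by
  rw [isUnivHomeo_iff]
  have h1 : UniversallyClosed (f.toNormalization ≫ f.fromNormalization) := by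
    rw [f.toNormalization_fromNormalization]; infer_instance
  have h2 : UniversallyClosed f.toNormalization :=
    MorphismProperty.of_postcomp (W := @UniversallyClosed) (W' := @IsSeparated)
      f.toNormalization f.fromNormalization inferInstance h1
  have h3 : Surjective f.toNormalization :=
    surjective_of_isDominant_of_isClosed_range _ f.toNormalization.isClosedMap.isClosed_range
  refine ⟨inferInstance, ?_, ?_⟩
  · have hcrit := (tfae_universallyInjective f.fromNormalization).out 0 1
    rw [hcrit]
    intro K _ a b hab
    replace hab : a ≫ f.fromNormalization = b ≫ f.fromNormalization := hab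
    set π := f.fromNormalization with hπ
    set t := f.toNormalization with ht
    have htπ : t ≫ π = f := f.toNormalization_fromNormalization
    let c : Spec (.of K) ⟶ S := a ≫ π
    let σa : Spec (.of K) ⟶ pullback π c := pullback.lift a (𝟙 _) (by simp [c])
    let σb : Spec (.of K) ⟶ pullback π c := pullback.lift b (𝟙 _) (by simp [c, hab])
    have hσa1 : σa ≫ pullback.fst π c = a := pullback.lift_fst _ _ _
    have hσb1 : σb ≫ pullback.fst π c = b := pullback.lift_fst _ _ _
    have hσa2 : σa ≫ pullback.snd π c = 𝟙 _ := pullback.lift_snd _ _ _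
    have hσb2 : σb ≫ pullback.snd π c = 𝟙 _ := pullback.lift_snd _ _ _
    suffices hσ : σa = σb by rw [← hσa1, ← hσb1, hσ]
    -- the fibre `F` is affine
    haveI : IsAffine (pullback π c) := isAffine_of_isAffineHom (pullback.snd π c)
    -- the fibre of `f` surjects onto `F`
    let τ : pullback f c ⟶ pullback π c :=
      pullback.map f c π c t (𝟙 _) (𝟙 _) (by simp [htπ]) (by simp)
    have hτ1 : τ ≫ pullback.fst π c = pullback.fst f c ≫ t := pullback.lift_fst _ _ _
    have hτ2 : τ ≫ pullback.snd π c = pullback.snd f c :=
      (pullback.lift_snd _ _ _).trans (Category.comp_id _)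
    have hbig : IsPullback (pullback.fst f c) (τ ≫ pullback.snd π c) (t ≫ π) c := by
      rw [hτ2, htπ]
      exact IsPullback.of_hasPullback f c
    have hleft : IsPullback τ (pullback.fst f c) (pullback.fst π c) t :=
      (IsPullback.of_right hbig.flip hτ1 (IsPullback.of_hasPullback π c).flip)
    have hτs : Surjective τ := MorphismProperty.of_isPullback (P := @Surjective) hleft.flip h3
    haveI : ConnectedSpace ↥(pullback f c : Scheme.{u}) :=
      pullback_of_geometrically (GeometricallyConnected.geometrically_connectedSpace (f := f)) K c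
    haveI : ConnectedSpace ↥(pullback π c : Scheme.{u}) :=
      Function.Surjective.connectedSpace hτs.surj τ.continuous
    haveI : PreconnectedSpace (PrimeSpectrum Γ(pullback π c, ⊤)) := by
      have hh := (pullback π c).isoSpec.hom.homeomorph
      haveI : ConnectedSpace (Spec Γ(pullback π c, ⊤)) :=
        Function.Surjective.connectedSpace hh.surjective hh.continuous
      exact (inferInstance : PreconnectedSpace (Spec Γ(pullback π c, ⊤)))
    -- integrality
    let ι : K →+* Γ(pullback π c, ⊤) :=
      ((Scheme.ΓSpecIso (.of K)).inv ≫ (pullback.snd π c).appTop).hom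
    have hι : ι.IsIntegral := by
      have e1 : ((pullback.snd π c).appTop).hom.IsIntegral :=
        (pullback.snd π c).isIntegral_app ⊤ (isAffineOpen_top _)
      have e2 : ((Scheme.ΓSpecIso (CommRingCat.of K)).inv).hom.IsIntegral :=
        RingHom.isIntegral_of_surjective _
          (ConcreteCategory.bijective_of_isIso (Scheme.ΓSpecIso (CommRingCat.of K)).inv).2
      exact RingHom.IsIntegral.trans _ _ e2 e1
    haveI := subsingleton_primeSpectrum_of_isIntegral_of_preconnected ι hι
    have key := retraction_unique_of_subsingleton_primeSpectrum ι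
      (σa.appTop ≫ (Scheme.ΓSpecIso (.of K)).hom).hom (σb.appTop ≫ (Scheme.ΓSpecIso (.of K)).hom).hom
      (by
        have : ((Scheme.ΓSpecIso (.of K)).inv ≫ (pullback.snd π c).appTop) ≫
            (σa.appTop ≫ (Scheme.ΓSpecIso (.of K)).hom) = 𝟙 _ := by
          rw [Category.assoc, ← Category.assoc (pullback.snd π c).appTop, ← Scheme.Hom.comp_appTop,
            hσa2]
          simp
        exact congrArg CommRingCat.Hom.hom this)
      (by
        have : ((Scheme.ΓSpecIso (.of K)).inv ≫ (pullback.snd π c).appTop) ≫
            (σb.appTop ≫ (Scheme.ΓSpecIso (.of K)).hom) = 𝟙 _ := by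
          rw [Category.assoc, ← Category.assoc (pullback.snd π c).appTop, ← Scheme.Hom.comp_appTop,
            hσb2]
          simp
        exact congrArg CommRingCat.Hom.hom this)
    have key2 : σa.appTop ≫ (Scheme.ΓSpecIso (.of K)).hom =
        σb.appTop ≫ (Scheme.ΓSpecIso (.of K)).hom := CommRingCat.hom_ext key
    exact ext_of_isAffine ((cancel_mono _).mp key2)
  · constructor
    intro s
    obtain ⟨x, hx⟩ := (inferInstance : Surjective f).surj s
    refine ⟨f.toNormalization x, ?_⟩
    rw [← Scheme.Hom.comp_apply, f.toNormalization_fromNormalization, hx]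

end scheme

end Groth.Agent.H37
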