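import Groth.Agent.H37.UHBasic
import Mathlib.RingTheory.Ideal.GoingUp
import Mathlib.FieldTheory.IsAlgClosed.AlgebraicClosure

set_option autoImplicit false
set_option linter.style.haveILetI false
universe u

open CategoryTheory AlgebraicGeometry

namespace Groth.Agent.H37

variable {A B C : Type u} [CommRing A] [CommRing B] [CommRing C]

/-- lying over for integral ring homomorphisms -/
theorem exists_prime_over (ψ : B →+* C) (hψ : ψ.IsIntegral) (p : Ideal B) [p.IsPrime]
    (hker : RingHom.ker ψ ≤ p) : ∃ q : Ideal C, q.IsPrime ∧ q.comap ψ = p := by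
  letI := ψ.toAlgebra
  haveI : Algebra.IsIntegral B C := ⟨hψ⟩
  obtain ⟨Q, -, hQ, hQ'⟩ := Ideal.exists_ideal_over_prime_of_isIntegral p (⊥ : Ideal C) (by
    rw [← RingHom.ker_eq_comap_bot]; exact hker)
  exact ⟨Q, hQ, hQ'⟩

/-- a homomorphism to an algebraically closed field extends along an injective integral map -/
theorem exists_extension_of_isIntegral {L : Type u} [Field L] [IsAlgClosed L]
    (ψ : B →+* C) (hψ : ψ.IsIntegral) (hinj : Function.Injective ψ) (σ : B →+* L) :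
    ∃ τ : C →+* L, τ.comp ψ = σ := by
  have hp : (RingHom.ker σ).IsPrime := RingHom.ker_isPrime σ
  obtain ⟨q, hq, hqp⟩ := exists_prime_over ψ hψ (RingHom.ker σ) (by
    rw [(RingHom.injective_iff_ker_eq_bot ψ).mp hinj]; exact bot_le)
  let g : B ⧸ RingHom.ker σ →+* C ⧸ q := Ideal.quotientMap q ψ hqp.ge
  have hg_inj : Function.Injective g := Ideal.quotientMap_injective' hqp.le
  have hg_int : g.IsIntegral := by
    intro x
    obtain ⟨c, rfl⟩ := Ideal.Quotient.mk_surjective x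
    obtain ⟨p, p_monic, hpx⟩ := hψ c
    refine ⟨p.map (Ideal.Quotient.mk _), p_monic.map _, ?_⟩
    have h1 := congr_arg (Ideal.Quotient.mk q) hpx
    rw [Polynomial.hom_eval₂, map_zero] at h1
    rw [Polynomial.eval₂_map]
    exact h1
  let σ' : B ⧸ RingHom.ker σ →+* L := RingHom.kerLift σ
  have hσ'_inj : Function.Injective σ' := RingHom.kerLift_injective σ
  letI : Algebra (B ⧸ RingHom.ker σ) (C ⧸ q) := g.toAlgebra
  letI : Algebra (B ⧸ RingHom.ker σ) L := σ'.toAlgebra
  haveI : IsDomain (B ⧸ RingHom.ker σ) := Ideal.Quotient.isDomain _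
  haveI : IsDomain (C ⧸ q) := Ideal.Quotient.isDomain _
  haveI : Module.IsTorsionFree (B ⧸ RingHom.ker σ) (C ⧸ q) :=
    Module.isTorsionFree_iff_algebraMap_injective.mpr hg_inj
  haveI : Module.IsTorsionFree (B ⧸ RingHom.ker σ) L :=
    Module.isTorsionFree_iff_algebraMap_injective.mpr hσ'_inj
  haveI : Algebra.IsIntegral (B ⧸ RingHom.ker σ) (C ⧸ q) := ⟨hg_int⟩
  haveI : Algebra.IsAlgebraic (B ⧸ RingHom.ker σ) (C ⧸ q) := Algebra.IsIntegral.isAlgebraic
  let l : (C ⧸ q) →ₐ[B ⧸ RingHom.ker σ] L := IsAlgClosed.lift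
  refine ⟨l.toRingHom.comp (Ideal.Quotient.mk q), ?_⟩
  ext b
  have : l (algebraMap _ _ (Ideal.Quotient.mk (RingHom.ker σ) b)) =
      algebraMap _ _ (Ideal.Quotient.mk (RingHom.ker σ) b) := l.commutes _
  exact this


theorem FieldInj.comp {φ : A →+* B} {ψ : B →+* C} (h1 : FieldInj φ) (h2 : FieldInj ψ) :
    FieldInj (ψ.comp φ) := by
  intro K _ σ₁ σ₂ e
  apply h2
  apply h1
  rw [RingHom.comp_assoc, RingHom.comp_assoc]
  exact e

theorem FieldInj.of_surjective {φ : A →+* B} (h : Function.Surjective φ) : FieldInj φ := by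
  intro K _ σ₁ σ₂ e
  ext b
  obtain ⟨a, rfl⟩ := h b
  exact congrArg (fun f => f a) e

/-- field-point injectivity descends to an intermediate ring -/
theorem FieldInj.of_comp (φ : A →+* B) (ψ : B →+* C) (hψ : ψ.IsIntegral)
    (hinj : Function.Injective ψ) (h : FieldInj (ψ.comp φ)) : FieldInj φ := by
  intro K _ σ₁ σ₂ e
  obtain ⟨τ₁, h₁⟩ := exists_extension_of_isIntegral ψ hψ hinj
    ((algebraMap K (AlgebraicClosure K)).comp σ₁)
  obtain ⟨τ₂, h₂⟩ := exists_extension_of_isIntegral ψ hψ hinj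
    ((algebraMap K (AlgebraicClosure K)).comp σ₂)
  have ht : τ₁ = τ₂ := h (AlgebraicClosure K) τ₁ τ₂ (by
    rw [← RingHom.comp_assoc, h₁, ← RingHom.comp_assoc, h₂, RingHom.comp_assoc,
      RingHom.comp_assoc, e])
  rw [ht, h₂] at h₁
  ext b
  have := congrArg (fun f => f b) h₁
  exact ((algebraMap K (AlgebraicClosure K)).injective this).symm

theorem FieldInj.of_comp_right {φ : A →+* B} {ψ : B →+* C} (h : FieldInj (ψ.comp φ)) :
    FieldInj ψ := by
  intro K _ σ₁ σ₂ e
  apply h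
  rw [← RingHom.comp_assoc, ← RingHom.comp_assoc, e]

theorem ResSurj.comp {φ : A →+* B} {ψ : B →+* C} (h1 : ResSurj φ) (h2 : ResSurj ψ) :
    ResSurj (ψ.comp φ) := by
  intro q hq c
  obtain ⟨b, t, ht, hc⟩ := h2 q c
  haveI : (q.comap ψ).IsPrime := Ideal.comap_isPrime ψ q
  obtain ⟨a, s, hs, hb⟩ := h1 (q.comap ψ) b
  obtain ⟨a', s', hs', hb'⟩ := h1 (q.comap ψ) t
  rw [Ideal.mem_comap] at hs hs' hb hb'
  rw [map_sub, map_mul] at hb hb'
  have hψa' : ψ (φ a') ∉ q := by
    intro hcon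
    have : ψ (φ s') * ψ t ∈ q := by
      have := q.add_mem hb' hcon
      simpa using this
    rcases hq.mem_or_mem this with h | h
    · exact hs' h
    · exact ht h
  refine ⟨a * s', s * a', ?_, ?_⟩
  · simp only [RingHom.comp_apply, map_mul]
    intro hcon
    rcases hq.mem_or_mem hcon with h | h
    · exact hs h
    · exact hψa' h
  · simp only [RingHom.comp_apply, map_mul]
    have e : ψ (φ s) * ψ (φ a') * c - ψ (φ a) * ψ (φ s') =
        ψ (φ s) * ψ (φ s') * (ψ t * c - ψ b) - ψ (φ s) * c * (ψ (φ s') * ψ t - ψ (φ a'))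
          + ψ (φ s') * (ψ (φ s) * ψ b - ψ (φ a)) := by ring
    rw [e]
    exact q.add_mem (q.sub_mem (q.mul_mem_left _ hc) (q.mul_mem_left _ hb')) (q.mul_mem_left _ hb)

/-- trivial residue field extensions descend to an intermediate ring -/
theorem ResSurj.of_comp (φ : A →+* B) (ψ : B →+* C) (hψ : ψ.IsIntegral)
    (hinj : Function.Injective ψ) (h : ResSurj (ψ.comp φ)) : ResSurj φ := by
  intro q' hq' b
  obtain ⟨q, hq, hqq'⟩ := exists_prime_over ψ hψ q' (by
    rw [(RingHom.injective_iff_ker_eq_bot ψ).mp hinj]; exact bot_le)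
  obtain ⟨a, s, hs, hb⟩ := h q (ψ b)
  refine ⟨a, s, ?_, ?_⟩
  · rw [← hqq', Ideal.mem_comap]; exact hs
  · rw [← hqq', Ideal.mem_comap, map_sub, map_mul]; exact hb

/-- `Spec φ` is a universal homeomorphism, in elementary terms -/
structure RingUH (φ : A →+* B) : Prop where
  isIntegral : φ.IsIntegral
  fieldInj : FieldInj φ
  surj : Function.Surjective (PrimeSpectrum.comap φ)

theorem isUnivHomeo_SpecMap_iff' (φ : A →+* B) :
    FlatMor.IsUnivHomeo (Spec.map (CommRingCat.ofHom φ)) ↔ RingUH φ := by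
  rw [isUnivHomeo_SpecMap_iff]
  exact ⟨fun h => ⟨h.1, h.2.1, h.2.2⟩, fun h => ⟨h.1, h.2, h.3⟩⟩

theorem comap_surjective_of_injective_of_isIntegral (φ : A →+* B) (hφ : φ.IsIntegral)
    (hinj : Function.Injective φ) : Function.Surjective (PrimeSpectrum.comap φ) := by
  intro p
  obtain ⟨q, hq, hqp⟩ := exists_prime_over φ hφ p.asIdeal (by
    rw [(RingHom.injective_iff_ker_eq_bot φ).mp hinj]; exact bot_le)
  exact ⟨⟨q, hq⟩, PrimeSpectrum.ext hqp⟩

theorem FieldInj.comap_injective {φ : A →+* B} (h : FieldInj φ) :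
    Function.Injective (PrimeSpectrum.comap φ) := by
  have := (universallyInjective_SpecMap_iff φ).mpr h
  exact (Spec.map (CommRingCat.ofHom φ)).injective

theorem RingUH.comp {φ : A →+* B} {ψ : B →+* C} (h1 : RingUH φ) (h2 : RingUH ψ) :
    RingUH (ψ.comp φ) where
  isIntegral := RingHom.IsIntegral.trans _ _ h1.isIntegral h2.isIntegral
  fieldInj := h1.fieldInj.comp h2.fieldInj
  surj := by
    intro p
    obtain ⟨q, rfl⟩ := h1.surj p
    obtain ⟨r, rfl⟩ := h2.surj q
    exact ⟨r, rfl⟩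

/-- the universal homeomorphism property descends to an intermediate ring -/
theorem RingUH.of_comp (φ : A →+* B) (ψ : B →+* C) (hinj : Function.Injective ψ)
    (h : RingUH (ψ.comp φ)) : RingUH φ where
  isIntegral := RingHom.IsIntegral.tower_bot φ ψ hinj h.isIntegral
  fieldInj := FieldInj.of_comp φ ψ (RingHom.IsIntegral.tower_top φ ψ h.isIntegral) hinj h.fieldInj
  surj := by
    intro p
    obtain ⟨q, rfl⟩ := h.surj p
    exact ⟨PrimeSpectrum.comap ψ q, rfl⟩

end Groth.Agent.H37
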