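import Groth.Agent.H37.UHRelNorm
import Groth.Agent.H37.AWN
import Groth.Agent.H37.Seminormal
import Groth.Prelude.Def_HTop2

/-! Existence of the absolute weak normalization of a ring. -/

set_option autoImplicit false
open CategoryTheory AlgebraicGeometry

namespace Groth.Agent.H37

universe u

variable {A B C : Type u} [CommRing A] [CommRing B] [CommRing C]

/-- a homomorphism to an algebraically closed field extends along an integral map whose kernel
it kills -/
theorem exists_extension_of_isIntegral' {L : Type u} [Field L] [IsAlgClosed L]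
    (ψ : B →+* C) (hψ : ψ.IsIntegral) (σ : B →+* L) (hker : RingHom.ker ψ ≤ RingHom.ker σ) :
    ∃ τ : C →+* L, τ.comp ψ = σ := by
  have hp : (RingHom.ker σ).IsPrime := RingHom.ker_isPrime σ
  obtain ⟨q, hq, hqp⟩ := exists_prime_over ψ hψ (RingHom.ker σ) hker
  let g : B ⧸ RingHom.ker σ →+* C ⧸ q := Ideal.quotientMap q ψ hqp.ge
  have hg_inj : Function.Injective g := Ideal.quotientMap_injective' hqp.le
  have hg_int : g.IsIntegral := by
    intro x
    obtain ⟨c, rfl⟩ := Ideal.Quotient.mk_surjective x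
    obtain ⟨p, p_monic, hpx⟩ := hψ c
    refine ⟨p.map (Ideal.Quotient.mk _), p_monic.map _, ?_⟩
    have h1 := congr_arg (Ideal.Quotient.mk q) hpx
    rw [Polynomial.hom_eval₂, map_zero] at h1
    rw [Polynomial.eval₂_map]
    exact h1
  let σ' : B ⧸ RingHom.ker σ →+* L := RingHom.kerLift σ
  have hσ'_inj : Function.Injective σ' := RingHom.kerLift_injective σ
  letI : Algebra (B ⧸ RingHom.ker σ) (C ⧸ q) := g.toAlgebra
  letI : Algebra (B ⧸ RingHom.ker σ) L := σ'.toAlgebra
  haveI : IsDomain (B ⧸ RingHom.ker σ) := Ideal.Quotient.isDomain _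
  haveI : IsDomain (C ⧸ q) := Ideal.Quotient.isDomain _
  haveI : Module.IsTorsionFree (B ⧸ RingHom.ker σ) (C ⧸ q) :=
    Module.isTorsionFree_iff_algebraMap_injective.mpr hg_inj
  haveI : Module.IsTorsionFree (B ⧸ RingHom.ker σ) L :=
    Module.isTorsionFree_iff_algebraMap_injective.mpr hσ'_inj
  haveI : Algebra.IsIntegral (B ⧸ RingHom.ker σ) (C ⧸ q) := ⟨hg_int⟩
  haveI : Algebra.IsAlgebraic (B ⧸ RingHom.ker σ) (C ⧸ q) := Algebra.IsIntegral.isAlgebraic
  let l : (C ⧸ q) →ₐ[B ⧸ RingHom.ker σ] L := IsAlgClosed.lift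
  refine ⟨l.toRingHom.comp (Ideal.Quotient.mk q), ?_⟩
  ext b
  have : l (algebraMap _ _ (Ideal.Quotient.mk (RingHom.ker σ) b)) =
      algebraMap _ _ (Ideal.Quotient.mk (RingHom.ker σ) b) := l.commutes _
  exact this

theorem equalizer_stepClosed' [Algebra A B] {R : Type u} [CommRing R] [IsReduced R] [Algebra A R]
    (τ₁ τ₂ : B →ₐ[A] R) (b : B)
    (hb : StepSCP (AlgHom.equalizer τ₁ τ₂) b) : b ∈ AlgHom.equalizer τ₁ τ₂ := by
  rw [AlgHom.mem_equalizer]
  rcases hb with ⟨h2, h3⟩ | ⟨p, hp, h1, h2⟩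
  · rw [AlgHom.mem_equalizer] at h2 h3
    apply eq_of_sq_eq_cube_eq
    · rw [← map_pow, ← map_pow, h2]
    · rw [← map_pow, ← map_pow, h3]
  · rw [AlgHom.mem_equalizer] at h1 h2
    apply eq_of_pow_eq_mul_eq hp
    · rw [← map_pow, ← map_pow, h2]
    · have e1 : τ₁ ((p : B) * b) = (p : R) * τ₁ b := by rw [map_mul, map_natCast]
      have e2 : τ₂ ((p : B) * b) = (p : R) * τ₂ b := by rw [map_mul, map_natCast]
      rw [← e1, ← e2, h1]

theorem RingUH.ker_le_nilradical {ψ : A →+* C} (h : RingUH ψ) :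
    RingHom.ker ψ ≤ nilradical A := by
  rw [nilradical_eq_sInf]
  refine le_sInf ?_
  intro p hp
  have hp' : p.IsPrime := hp
  obtain ⟨q, hq⟩ := h.surj ⟨p, hp'⟩
  have : p = q.asIdeal.comap ψ := by
    have := congrArg PrimeSpectrum.asIdeal hq
    exact this.symm
  rw [this]
  intro a ha
  rw [Ideal.mem_comap, RingHom.mem_ker.mp ha]
  exact zero_mem _

/-- the product of the algebraic closures of all residue fields -/
abbrev BigProd (A : Type u) [CommRing A] : Type u :=
  ∀ p : PrimeSpectrum A, AlgebraicClosure p.asIdeal.ResidueField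

theorem ker_algebraMap_bigProd : RingHom.ker (algebraMap A (BigProd A)) ≤ nilradical A := by
  rw [nilradical_eq_sInf]
  refine le_sInf ?_
  intro p hp
  have hp' : p.IsPrime := hp
  intro a ha
  rw [RingHom.mem_ker] at ha
  have h1 := congrFun ha ⟨p, hp'⟩
  have h2 : algebraMap A (AlgebraicClosure p.ResidueField) a = 0 := h1
  rw [IsScalarTower.algebraMap_apply A p.ResidueField (AlgebraicClosure p.ResidueField),
    map_eq_zero] at h2
  exact (Ideal.algebraMap_residueField_eq_zero).mp h2

end Groth.Agent.H37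

namespace Groth.Agent.H37

universe u

variable {A C : Type u} [CommRing A] [CommRing C]

/-- the absolute weak normalization as a subalgebra of `BigProd A` -/
noncomputable abbrev AWNz (A : Type u) [CommRing A] : Subalgebra A (BigProd A) :=
  reach (A := A) (B := BigProd A) StepSCP stepSCP_mono

theorem ringUH_AWNz : RingUH (algebraMap A (AWNz A)) :=
  ringUH_reachSCP ker_algebraMap_bigProd

/-- a universal homeomorphism out of `A` maps to `BigProd A` -/
theorem exists_algHom_bigProd [Algebra A C] (h : RingUH (algebraMap A C)) :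
    Nonempty (C →ₐ[A] BigProd A) := by
  have hτ : ∀ p : PrimeSpectrum A, ∃ τ : C →+* AlgebraicClosure p.asIdeal.ResidueField,
      τ.comp (algebraMap A C) = algebraMap A (AlgebraicClosure p.asIdeal.ResidueField) := by
    intro p
    apply exists_extension_of_isIntegral' _ h.isIntegral
    refine h.ker_le_nilradical.trans ?_
    rw [nilradical_eq_sInf]
    refine sInf_le ?_
    exact RingHom.ker_isPrime _
  choose τ hτ' using hτ
  exact ⟨{ RingHom.pi τ with
    commutes' := by
      intro a
      funext p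
      exact RingHom.congr_fun (hτ' p) a }⟩

theorem isRingAWN_AWNz : HTop.IsRingAWN (algebraMap A (AWNz A)) := by
  refine ⟨(isUnivHomeo_SpecMap_iff' _).mpr ringUH_AWNz, ?_⟩
  intro C _ ψ hψ
  rw [isUnivHomeo_SpecMap_iff'] at hψ
  letI : Algebra A C := ψ.toAlgebra
  have hC : RingUH (algebraMap A C) := hψ
  obtain ⟨g⟩ := exists_algHom_bigProd hC
  have hg : ∀ c, g c ∈ AWNz A := fun c => range_le_reachSCP g hC ⟨c, rfl⟩
  let χ : C →ₐ[A] AWNz A := g.codRestrict (AWNz A) hg
  refine ⟨χ.toRingHom, ?_, ?_⟩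
  · ext a : 1
    exact χ.commutes a
  · intro χ' hχ'
    let χ'' : C →ₐ[A] AWNz A := { χ' with
      commutes' := fun a => RingHom.congr_fun hχ' a }
    haveI : IsReduced (AWNz A) :=
      isReduced_of_injective (AWNz A).val Subtype.val_injective
    have hcl : ∀ c, StepSCP (AlgHom.equalizer χ'' χ) c → c ∈ AlgHom.equalizer χ'' χ :=
      fun c hc => equalizer_stepClosed' χ'' χ c hc
    have htop := stepClosed_eq_top stepSCP_mono (reach_eq_top_of_ringUH hC) _ hcl
    ext c : 1
    have : c ∈ AlgHom.equalizer χ'' χ := by rw [htop]; exact Algebra.mem_top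
    exact this

end Groth.Agent.H37
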