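import Groth.Agent.H37.UHAlg
import Mathlib.RingTheory.Polynomial.Basic
import Mathlib.RingTheory.Adjoin.Polynomial.Basic

set_option autoImplicit false
set_option linter.style.haveILetI false
universe u

open CategoryTheory AlgebraicGeometry Polynomial

namespace Groth.Agent.H37

variable {A B : Type u} [CommRing A] [CommRing B] [Algebra A B]

/-- integrality can be checked on generators -/
theorem isIntegral_of_adjoin (s : Set B) (hs : Algebra.adjoin A s = ⊤)
    (h : ∀ b ∈ s, IsIntegral A b) : (algebraMap A B).IsIntegral := by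
  have hle : Algebra.adjoin A s ≤ integralClosure A B := Algebra.adjoin_le h
  rw [hs] at hle
  intro b
  exact hle (Algebra.mem_top)

/-- field-point injectivity can be checked on generators -/
theorem fieldInj_of_adjoin (s : Set B) (hs : Algebra.adjoin A s = ⊤)
    (h : ∀ (K : Type u) [Field K] (σ₁ σ₂ : B →+* K),
      σ₁.comp (algebraMap A B) = σ₂.comp (algebraMap A B) → ∀ b ∈ s, σ₁ b = σ₂ b) :
    FieldInj (algebraMap A B) := by
  intro K _ σ₁ σ₂ e
  letI : Algebra A K := (σ₁.comp (algebraMap A B)).toAlgebra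
  let τ₁ : B →ₐ[A] K := { σ₁ with commutes' := fun a => rfl }
  let τ₂ : B →ₐ[A] K := { σ₂ with commutes' := fun a => (congrArg (fun f => f a) e).symm }
  have : τ₁ = τ₂ := AlgHom.ext_of_adjoin_eq_top hs (fun b hb => h K σ₁ σ₂ e b hb)
  ext b
  exact congrArg (fun f => f b) this

/-- triviality of residue field extensions can be checked on generators -/
theorem resSurj_of_adjoin (s : Set B) (hs : Algebra.adjoin A s = ⊤)
    (h : ∀ (q : Ideal B) [q.IsPrime], ∀ b ∈ s, ∃ a t : A,
      algebraMap A B t ∉ q ∧ algebraMap A B t * b - algebraMap A B a ∈ q) :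
    ResSurj (algebraMap A B) := by
  intro q hq b
  have hb : b ∈ Algebra.adjoin A s := by rw [hs]; exact Algebra.mem_top
  induction hb using Algebra.adjoin_induction with
  | mem x hx => exact h q x hx
  | algebraMap r =>
    exact ⟨r, 1, by rw [map_one]; exact hq.one_notMem, by rw [map_one, one_mul, sub_self]; exact q.zero_mem⟩
  | add x y _ _ hx hy =>
    obtain ⟨a₁, s₁, hs₁, h₁⟩ := hx
    obtain ⟨a₂, s₂, hs₂, h₂⟩ := hy
    refine ⟨a₁ * s₂ + a₂ * s₁, s₁ * s₂, ?_, ?_⟩
    · rw [map_mul]
      intro hcon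
      rcases hq.mem_or_mem hcon with h | h
      · exact hs₁ h
      · exact hs₂ h
    · have e : algebraMap A B (s₁ * s₂) * (x + y) - algebraMap A B (a₁ * s₂ + a₂ * s₁) =
          algebraMap A B s₂ * (algebraMap A B s₁ * x - algebraMap A B a₁) +
          algebraMap A B s₁ * (algebraMap A B s₂ * y - algebraMap A B a₂) := by
        simp only [map_mul, map_add]; ring
      rw [e]
      exact q.add_mem (q.mul_mem_left _ h₁) (q.mul_mem_left _ h₂)
  | mul x y _ _ hx hy =>
    obtain ⟨a₁, s₁, hs₁, h₁⟩ := hx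
    obtain ⟨a₂, s₂, hs₂, h₂⟩ := hy
    refine ⟨a₁ * a₂, s₁ * s₂, ?_, ?_⟩
    · rw [map_mul]
      intro hcon
      rcases hq.mem_or_mem hcon with h | h
      · exact hs₁ h
      · exact hs₂ h
    · have e : algebraMap A B (s₁ * s₂) * (x * y) - algebraMap A B (a₁ * a₂) =
          (algebraMap A B s₂ * y) * (algebraMap A B s₁ * x - algebraMap A B a₁) +
          algebraMap A B a₁ * (algebraMap A B s₂ * y - algebraMap A B a₂) := by
        simp only [map_mul]; ring
      rw [e]
      exact q.add_mem (q.mul_mem_left _ h₁) (q.mul_mem_left _ h₂)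

/-- surjectivity on spectra from field-valued points -/
theorem comap_surjective_of_field_points {A B : Type u} [CommRing A] [CommRing B] (φ : A →+* B)
    (h : ∀ p : PrimeSpectrum A, ∃ (K : Type u) (_ : Field K) (σ : B →+* K),
      RingHom.ker (σ.comp φ) = p.asIdeal) :
    Function.Surjective (PrimeSpectrum.comap φ) := by
  intro p
  obtain ⟨K, _, σ, hσ⟩ := h p
  refine ⟨⟨RingHom.ker σ, RingHom.ker_isPrime σ⟩, ?_⟩
  apply PrimeSpectrum.ext
  rw [← hσ]
  rfl

/-- a quotient of the polynomial ring is generated by the class of `X` -/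
theorem adjoin_mk_X (I : Ideal A[X]) :
    Algebra.adjoin A {(Ideal.Quotient.mk I (X : A[X]))} = ⊤ := by
  have h1 : Algebra.adjoin A {(X : A[X])} = ⊤ := Polynomial.adjoin_X
  have h2 := congrArg (Subalgebra.map (Ideal.Quotient.mkₐ A I)) h1
  rw [AlgHom.map_adjoin, Algebra.map_top, Set.image_singleton] at h2
  rw [(AlgHom.range_eq_top _).mpr (Ideal.Quotient.mkₐ_surjective A I)] at h2
  exact h2

end Groth.Agent.H37
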