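import Groth.Agent.H37.UHAwn
import Groth.Agent.H37.AWNScheme
import Groth.Agent.S7402
import Groth.Agent.S7403

/-! Properties of the absolute weak normalization of a ring. -/

set_option autoImplicit false
open CategoryTheory AlgebraicGeometry Polynomial

namespace Groth.Agent.H37

universe u

variable {A B C W : Type u} [CommRing A] [CommRing B] [CommRing C] [CommRing W]

theorem RingUH.of_comp_of_ringUH {φ : A →+* B} {ψ : B →+* C} (h1 : RingUH φ)
    (h : RingUH (ψ.comp φ)) : RingUH ψ where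
  isIntegral := RingHom.IsIntegral.tower_top φ ψ h.isIntegral
  fieldInj := h.fieldInj.of_comp_right
  surj := by
    intro q
    obtain ⟨r, hr⟩ := h.surj (PrimeSpectrum.comap φ q)
    refine ⟨r, ?_⟩
    apply h1.fieldInj.comap_injective
    rw [← hr]
    rfl

theorem ringUH_quotient_nilradical (W : Type u) [CommRing W] :
    RingUH (Ideal.Quotient.mk (nilradical W)) where
  isIntegral := RingHom.isIntegral_of_surjective _ Ideal.Quotient.mk_surjective
  fieldInj := FieldInj.of_surjective Ideal.Quotient.mk_surjective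
  surj := by
    apply comap_surjective_of_ker_le_nilradical _
      (RingHom.isIntegral_of_surjective _ Ideal.Quotient.mk_surjective)
    rw [Ideal.mk_ker]

theorem retract_of_isRingAWN {φ : A →+* W} (hφ : HTop.IsRingAWN φ) {W' : Type u} [CommRing W']
    (θ : W →+* W') (hθ : RingUH θ) : ∃ ρ : W' →+* W, ρ.comp θ = RingHom.id W := by
  have h1 : RingUH φ := (isUnivHomeo_SpecMap_iff' φ).mp hφ.1
  have h2 : RingUH (θ.comp φ) := h1.comp hθ
  obtain ⟨ρ, hρ, -⟩ := hφ.2 W' (θ.comp φ) ((isUnivHomeo_SpecMap_iff' _).mpr h2)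
  refine ⟨ρ, ?_⟩
  obtain ⟨χ, -, hχ⟩ := hφ.2 W φ hφ.1
  have e1 : ρ.comp θ = χ := hχ _ (by show (ρ.comp θ).comp φ = φ; rw [RingHom.comp_assoc, hρ])
  have e2 : RingHom.id W = χ := hχ _ (RingHom.id_comp φ)
  rw [e1, e2]

theorem isReduced_of_isRingAWN {φ : A →+* W} (hφ : HTop.IsRingAWN φ) : IsReduced W := by
  obtain ⟨ρ, hρ⟩ := retract_of_isRingAWN hφ _ (ringUH_quotient_nilradical W)
  constructor
  intro w hw
  have h1 : Ideal.Quotient.mk (nilradical W) w = 0 := by
    rw [Ideal.Quotient.eq_zero_iff_mem]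
    exact hw
  have h2 := RingHom.congr_fun hρ w
  rw [RingHom.comp_apply, h1, map_zero] at h2
  exact h2.symm

theorem isAWNRing_of_isRingAWN {φ : A →+* W} (hφ : HTop.IsRingAWN φ) : HTop.IsAWNRing W := by
  rw [isAWNRing_iff]
  refine ⟨isReduced_of_isRingAWN hφ, ?_, ?_⟩
  · intro x y hxy
    have hU := (Groth.Agent.S7402.result W x y hxy).1
    rw [isUnivHomeo_SpecMap_iff'] at hU
    obtain ⟨ρ, hρ⟩ := retract_of_isRingAWN hφ _ hU
    have hρ' : ∀ w : W, ρ (Ideal.Quotient.mk _ (C w)) = w := fun w => RingHom.congr_fun hρ w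
    refine ⟨ρ (Ideal.Quotient.mk _ X), ?_, ?_⟩
    · have e : Ideal.Quotient.mk (Ideal.span ({X ^ 2 - C x, X ^ 3 - C y} : Set W[X])) (C x) =
          (Ideal.Quotient.mk _ X) ^ 2 := by
        rw [← map_pow, eq_comm, Ideal.Quotient.eq]
        exact Ideal.subset_span (by simp)
      calc x = ρ (Ideal.Quotient.mk _ (C x)) := (hρ' x).symm
        _ = ρ ((Ideal.Quotient.mk _ X) ^ 2) := congrArg ρ e
        _ = _ := map_pow _ _ _
    · have e : Ideal.Quotient.mk (Ideal.span ({X ^ 2 - C x, X ^ 3 - C y} : Set W[X])) (C y) =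
          (Ideal.Quotient.mk _ X) ^ 3 := by
        rw [← map_pow, eq_comm, Ideal.Quotient.eq]
        exact Ideal.subset_span (by simp)
      calc y = ρ (Ideal.Quotient.mk _ (C y)) := (hρ' y).symm
        _ = ρ ((Ideal.Quotient.mk _ X) ^ 3) := congrArg ρ e
        _ = _ := map_pow _ _ _
  · intro p hp x y hxy
    have hU := Groth.Agent.S7403.result W p hp x y hxy
    rw [isUnivHomeo_SpecMap_iff'] at hU
    obtain ⟨ρ, hρ⟩ := retract_of_isRingAWN hφ _ hU
    have hρ' : ∀ w : W, ρ (Ideal.Quotient.mk _ (C w)) = w := fun w => RingHom.congr_fun hρ w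
    refine ⟨ρ (Ideal.Quotient.mk _ X), ?_, ?_⟩
    · have e : Ideal.Quotient.mk (Ideal.span ({X ^ p - C x, C (p : W) * X - C y} : Set W[X]))
          (C x) = (Ideal.Quotient.mk _ X) ^ p := by
        rw [← map_pow, eq_comm, Ideal.Quotient.eq]
        exact Ideal.subset_span (by simp)
      calc x = ρ (Ideal.Quotient.mk _ (C x)) := (hρ' x).symm
        _ = ρ ((Ideal.Quotient.mk _ X) ^ p) := congrArg ρ e
        _ = _ := map_pow _ _ _
    · have e : Ideal.Quotient.mk (Ideal.span ({X ^ p - C x, C (p : W) * X - C y} : Set W[X]))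
          (C y) = Ideal.Quotient.mk _ (C (p : W)) * (Ideal.Quotient.mk _ X) := by
        rw [← map_mul, eq_comm, Ideal.Quotient.eq]
        exact Ideal.subset_span (by simp)
      calc y = ρ (Ideal.Quotient.mk _ (C y)) := (hρ' y).symm
        _ = ρ (Ideal.Quotient.mk _ (C (p : W)) * (Ideal.Quotient.mk _ X)) := congrArg ρ e
        _ = ρ (Ideal.Quotient.mk _ (C (p : W))) * ρ (Ideal.Quotient.mk _ X) := map_mul _ _ _
        _ = _ := by rw [hρ']

/-- a universal homeomorphism from an absolutely weakly normal ring to a reduced ring is an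
isomorphism -/
theorem bijective_of_ringUH_of_isAWNRing (χ : B →+* W) (hχ : RingUH χ) (hB : HTop.IsAWNRing B)
    [IsReduced W] : Function.Bijective χ := by
  rw [isAWNRing_iff] at hB
  obtain ⟨hred, hsn, hpn⟩ := hB
  have hinj : Function.Injective χ := by
    rw [RingHom.injective_iff_ker_eq_bot, eq_bot_iff]
    refine hχ.ker_le_nilradical.trans ?_
    rw [nilradical_eq_zero]
    exact le_refl _
  refine ⟨hinj, ?_⟩
  letI : Algebra B W := χ.toAlgebra
  have hC : RingUH (algebraMap B W) := hχ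
  have hcl : ∀ w, StepSCP (⊥ : Subalgebra B W) w → w ∈ (⊥ : Subalgebra B W) := by
    intro w hw
    rcases hw with ⟨h2, h3⟩ | ⟨p, hp, h1, h2⟩
    · obtain ⟨y, hy⟩ := Algebra.mem_bot.mp h2
      obtain ⟨x, hx⟩ := Algebra.mem_bot.mp h3
      have hy' : χ y = w ^ 2 := hy
      have hx' : χ x = w ^ 3 := hx
      have hxy : y ^ 3 = x ^ 2 := by
        apply hinj
        rw [map_pow, map_pow, hy', hx']
        ring
      obtain ⟨a, ha2, ha3⟩ := hsn y x hxy
      rw [Algebra.mem_bot]
      refine ⟨a, ?_⟩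
      show χ a = w
      apply eq_of_sq_eq_cube_eq
      · rw [← map_pow, ← ha2, hy']
      · rw [← map_pow, ← ha3, hx']
    · obtain ⟨y, hy⟩ := Algebra.mem_bot.mp h1
      obtain ⟨x, hx⟩ := Algebra.mem_bot.mp h2
      have hy' : χ y = (p : W) * w := hy
      have hx' : χ x = w ^ p := hx
      have hxy : (p : B) ^ p * x = y ^ p := by
        apply hinj
        rw [map_mul, map_pow, map_pow, map_natCast, hy', hx']
        ring
      obtain ⟨a, ha1, ha2⟩ := hpn p hp x y hxy
      rw [Algebra.mem_bot]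
      refine ⟨a, ?_⟩
      show χ a = w
      apply eq_of_pow_eq_mul_eq hp
      · rw [← map_pow, ← ha1, hx']
      · rw [← hy', ha2, map_mul, map_natCast]
  have htop := stepClosed_eq_top stepSCP_mono (reach_eq_top_of_ringUH hC) _ hcl
  intro w
  have hw : w ∈ (⊥ : Subalgebra B W) := by rw [htop]; exact Algebra.mem_top
  obtain ⟨b, hb⟩ := Algebra.mem_bot.mp hw
  exact ⟨b, hb⟩

end Groth.Agent.H37
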