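import Groth.Agent.H37.UHAwn2
import Mathlib.RingTheory.Localization.Away.Basic
import Mathlib.RingTheory.Localization.Integral

/-! Functoriality of the absolute weak normalization of rings and its compatibility with
localization. -/

set_option autoImplicit false
open CategoryTheory AlgebraicGeometry

namespace Groth.Agent.H37

universe u

variable {A A' A'' C : Type u} [CommRing A] [CommRing A'] [CommRing A''] [CommRing C]

/-- a universally homeomorphic algebra is exhausted by any step-closed subring containing the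
image of the base -/
theorem RingUH.subring_eq_top {ψ : A →+* C} (hψ : RingUH ψ) (S : Subring C)
    (hA : ∀ a, ψ a ∈ S)
    (h23 : ∀ c, c ^ 2 ∈ S → c ^ 3 ∈ S → c ∈ S)
    (hp : ∀ (p : ℕ) (c : C), p.Prime → (p : C) * c ∈ S → c ^ p ∈ S → c ∈ S) : S = ⊤ := by
  letI : Algebra A C := ψ.toAlgebra
  have hC : RingUH (algebraMap A C) := hψ
  let S' : Subalgebra A C := { S with algebraMap_mem' := hA }
  have hcl : ∀ c, StepSCP S' c → c ∈ S' := by
    intro c hc
    rcases hc with ⟨h2, h3⟩ | ⟨p, hpp, h1, h2⟩
    · exact h23 c h2 h3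
    · exact hp p c hpp h1 h2
  have htop := stepClosed_eq_top stepSCP_mono (reach_eq_top_of_ringUH hC) S' hcl
  rw [eq_top_iff]
  intro c _
  have : c ∈ S' := by rw [htop]; exact Algebra.mem_top
  exact this

/-- ring maps to a reduced ring are determined on a universally homeomorphic base -/
theorem ringHom_ext_of_ringUH {ψ : A →+* C} (hψ : RingUH ψ) {R : Type u} [CommRing R]
    [IsReduced R] (g₁ g₂ : C →+* R) (h : g₁.comp ψ = g₂.comp ψ) : g₁ = g₂ := by
  have htop := hψ.subring_eq_top (RingHom.eqLocus g₁ g₂)
    (fun a => RingHom.congr_fun h a)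
    (fun c h2 h3 => by
      have h2' : g₁ (c ^ 2) = g₂ (c ^ 2) := h2
      have h3' : g₁ (c ^ 3) = g₂ (c ^ 3) := h3
      rw [map_pow, map_pow] at h2' h3'
      exact eq_of_sq_eq_cube_eq h2' h3')
    (fun p c hp h1 h2 => by
      have h1' : g₁ ((p : C) * c) = g₂ ((p : C) * c) := h1
      have h2' : g₁ (c ^ p) = g₂ (c ^ p) := h2
      rw [map_mul, map_mul, map_natCast, map_natCast] at h1'
      rw [map_pow, map_pow] at h2'
      exact eq_of_pow_eq_mul_eq hp h2' h1')
  ext c
  have : c ∈ RingHom.eqLocus g₁ g₂ := by rw [htop]; exact Subring.mem_top c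
  exact this

instance isReduced_AWNz (A : Type u) [CommRing A] : IsReduced (AWNz A) :=
  isReduced_of_injective (AWNz A).val Subtype.val_injective

/-- the structure map of the absolute weak normalization -/
noncomputable abbrev awnι (A : Type u) [CommRing A] : A →+* AWNz A := algebraMap A (AWNz A)

theorem exists_awnMap (f : A →+* A') :
    ∃ g : AWNz A →+* AWNz A', g.comp (awnι A) = (awnι A').comp f := by
  have hU : RingUH (awnι A) := ringUH_AWNz
  have hτ : ∀ p : PrimeSpectrum A', ∃ τ : AWNz A →+* AlgebraicClosure p.asIdeal.ResidueField,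
      τ.comp (awnι A) = (algebraMap A' (AlgebraicClosure p.asIdeal.ResidueField)).comp f := by
    intro p
    apply exists_extension_of_isIntegral' _ hU.isIntegral
    refine hU.ker_le_nilradical.trans ?_
    rw [nilradical_eq_sInf]
    refine sInf_le ?_
    exact RingHom.ker_isPrime _
  choose τ hτ' using hτ
  let G : AWNz A →+* BigProd A' := RingHom.pi τ
  have hG : ∀ a, G (awnι A a) = algebraMap A' (BigProd A') (f a) := by
    intro a
    funext p
    exact RingHom.congr_fun (hτ' p) a
  have htop := hU.subring_eq_top ((AWNz A').toSubring.comap G)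
    (fun a => by
      rw [Subring.mem_comap, hG]
      exact (AWNz A').algebraMap_mem (f a))
    (fun c h2 h3 => by
      rw [Subring.mem_comap, map_pow] at h2 h3
      rw [Subring.mem_comap]
      exact reach_closed stepSCP_mono stepSCP_fin _ (Or.inl ⟨h2, h3⟩))
    (fun p c hp h1 h2 => by
      rw [Subring.mem_comap] at h1 h2
      rw [map_mul, map_natCast] at h1
      rw [map_pow] at h2
      rw [Subring.mem_comap]
      exact reach_closed stepSCP_mono stepSCP_fin _ (Or.inr ⟨p, hp, h1, h2⟩))
  have hmem : ∀ c, G c ∈ AWNz A' := by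
    intro c
    have : c ∈ (AWNz A').toSubring.comap G := by rw [htop]; exact Subring.mem_top c
    exact this
  refine ⟨{ toFun := fun c => ⟨G c, hmem c⟩
            map_one' := Subtype.ext (map_one G)
            map_mul' := fun x y => Subtype.ext (map_mul G x y)
            map_zero' := Subtype.ext (map_zero G)
            map_add' := fun x y => Subtype.ext (map_add G x y) }, ?_⟩
  ext a : 1
  exact Subtype.ext (hG a)

/-- functoriality of the absolute weak normalization -/
noncomputable def awnMap (f : A →+* A') : AWNz A →+* AWNz A' := (exists_awnMap f).choose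

theorem awnMap_comp_awnι (f : A →+* A') : (awnMap f).comp (awnι A) = (awnι A').comp f :=
  (exists_awnMap f).choose_spec

theorem awnMap_awnι (f : A →+* A') (a : A) : awnMap f (awnι A a) = awnι A' (f a) :=
  RingHom.congr_fun (awnMap_comp_awnι f) a

theorem awnMap_unique (f : A →+* A') (g : AWNz A →+* AWNz A')
    (h : g.comp (awnι A) = (awnι A').comp f) : g = awnMap f :=
  ringHom_ext_of_ringUH ringUH_AWNz g (awnMap f) (by rw [h, awnMap_comp_awnι])

theorem awnMap_id (A : Type u) [CommRing A] : awnMap (RingHom.id A) = RingHom.id (AWNz A) :=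
  (awnMap_unique _ _ (by rw [RingHom.id_comp, RingHom.comp_id])).symm

theorem awnMap_comp (f : A →+* A') (g : A' →+* A'') :
    awnMap (g.comp f) = (awnMap g).comp (awnMap f) :=
  (awnMap_unique _ _ (by
    rw [RingHom.comp_assoc, awnMap_comp_awnι, ← RingHom.comp_assoc, awnMap_comp_awnι,
      RingHom.comp_assoc])).symm

end Groth.Agent.H37

namespace Groth.Agent.H37

universe u

variable {A A' C C' : Type u} [CommRing A] [CommRing A'] [CommRing C] [CommRing C']

/-- localizations of universal homeomorphisms are universal homeomorphisms -/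
theorem RingUH.localization {ψ : A →+* C} (hψ : RingUH ψ) (r : A)
    [Algebra A A'] [IsLocalization.Away r A'] [Algebra C C'] [IsLocalization.Away (ψ r) C']
    (θ : A' →+* C') (hθ : θ.comp (algebraMap A A') = (algebraMap C C').comp ψ) : RingUH θ where
  isIntegral := by
    intro c'
    obtain ⟨n, c, hc⟩ := IsLocalization.Away.surj (ψ r) c'
    -- c' * (algebraMap (ψ r))^n = algebraMap c
    have hunit : IsUnit (algebraMap A A' r) := IsLocalization.Away.algebraMap_isUnit r
    obtain ⟨u, hu⟩ := hunit
    have hθr : θ (algebraMap A A' r) = algebraMap C C' (ψ r) := RingHom.congr_fun hθ r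
    have h1 : θ.IsIntegralElem (algebraMap C C' c) := by
      obtain ⟨P, hP, hPc⟩ := hψ.isIntegral c
      refine ⟨P.map (algebraMap A A'), hP.map _, ?_⟩
      rw [Polynomial.eval₂_map, hθ, ← Polynomial.eval₂_map, Polynomial.eval₂_at_apply,
        Polynomial.eval_map, hPc, map_zero]
    have h2 : θ.IsIntegralElem (θ ((↑(u⁻¹) : A') ^ n)) := θ.isIntegralElem_map
    have h3 : c' = algebraMap C C' c * θ ((↑(u⁻¹) : A') ^ n) := by
      rw [← hc, map_pow, mul_assoc, ← mul_pow, ← hθr, ← map_mul, ← hu, Units.mul_inv, map_one,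
        one_pow, mul_one]
    rw [h3]
    exact RingHom.IsIntegralElem.mul θ h1 h2
  fieldInj := by
    intro K _ σ₁ σ₂ e
    have h1 : (σ₁.comp (algebraMap C C')).comp ψ = (σ₂.comp (algebraMap C C')).comp ψ := by
      rw [RingHom.comp_assoc, RingHom.comp_assoc, ← hθ, ← RingHom.comp_assoc,
        ← RingHom.comp_assoc, e]
    have h2 := hψ.fieldInj K _ _ h1
    exact IsLocalization.ringHom_ext (Submonoid.powers (ψ r)) h2
  surj := by
    intro p'
    have hp : PrimeSpectrum.comap (algebraMap A A') p' ∈ PrimeSpectrum.basicOpen r := by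
      rw [← SetLike.mem_coe, ← PrimeSpectrum.localization_away_comap_range A' r]
      exact ⟨p', rfl⟩
    obtain ⟨q, hq⟩ := hψ.surj (PrimeSpectrum.comap (algebraMap A A') p')
    have hq' : q ∈ PrimeSpectrum.basicOpen (ψ r) := by
      rw [PrimeSpectrum.mem_basicOpen]
      intro hmem
      rw [← hq, PrimeSpectrum.mem_basicOpen] at hp
      exact hp hmem
    rw [← SetLike.mem_coe, ← PrimeSpectrum.localization_away_comap_range C' (ψ r)] at hq'
    obtain ⟨q', rfl⟩ := hq'
    refine ⟨q', ?_⟩
    apply PrimeSpectrum.localization_comap_injective A' (Submonoid.powers r)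
    rw [← hq]
    show PrimeSpectrum.comap ((θ.comp (algebraMap A A'))) q' = _
    rw [hθ]
    rfl

end Groth.Agent.H37

namespace Groth.Agent.H37

universe u

variable {A A' : Type u} [CommRing A] [CommRing A']

/-- the absolute weak normalization commutes with localization at one element -/
theorem isLocalization_awnMap (f : A →+* A') (r : A)
    (hloc : letI := f.toAlgebra; IsLocalization.Away r A') :
    letI := (awnMap f).toAlgebra
    IsLocalization.Away (awnι A r) (AWNz A') := by
  letI : Algebra A A' := f.toAlgebra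
  haveI : IsLocalization.Away r A' := hloc
  letI : Algebra (AWNz A) (AWNz A') := (awnMap f).toAlgebra
  let L := Localization.Away (awnι A r)
  have hu1 : IsUnit (awnMap f (awnι A r)) := by
    rw [awnMap_awnι]
    exact (IsLocalization.Away.algebraMap_isUnit (S := A') r).map (awnι A')
  let lam : L →+* AWNz A' := IsLocalization.Away.lift (awnι A r) hu1
  have hlam : ∀ x, lam (algebraMap (AWNz A) L x) = awnMap f x :=
    IsLocalization.Away.lift_eq (awnι A r) hu1
  have hu2 : IsUnit (((algebraMap (AWNz A) L).comp (awnι A)) r) :=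
    IsLocalization.Away.algebraMap_isUnit (S := L) (awnι A r)
  let θ : A' →+* L := IsLocalization.Away.lift r hu2
  have hθ : θ.comp (algebraMap A A') = (algebraMap (AWNz A) L).comp (awnι A) :=
    IsLocalization.Away.lift_comp r hu2
  have hθU : RingUH θ := RingUH.localization ringUH_AWNz r θ hθ
  have hcomp : lam.comp θ = awnι A' := by
    apply IsLocalization.ringHom_ext (Submonoid.powers r)
    rw [RingHom.comp_assoc, hθ]
    ext a : 1
    have : lam (algebraMap (AWNz A) L (awnι A a)) = awnι A' (f a) := by
      rw [hlam, awnMap_awnι]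
    exact this
  have hlamU : RingUH lam := hθU.of_comp_of_ringUH (by rw [hcomp]; exact ringUH_AWNz)
  have hL : HTop.IsAWNRing L :=
    isAWNRing_of_isLocalization (Submonoid.powers (awnι A r)) L
      (isAWNRing_of_isRingAWN isRingAWN_AWNz)
  have hbij := bijective_of_ringUH_of_isAWNRing lam hlamU hL
  let e : L ≃ₐ[AWNz A] AWNz A' :=
    AlgEquiv.ofBijective { lam with commutes' := hlam } hbij
  exact IsLocalization.isLocalization_of_algEquiv (Submonoid.powers (awnι A r)) e

end Groth.Agent.H37

namespace Groth.Agent.H37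

universe u

variable {A A' C C' : Type u} [CommRing A] [CommRing A'] [CommRing C] [CommRing C']

theorem exists_awnLift (ψ : A →+* C) (hψ : RingUH ψ) :
    ∃ χ : C →+* AWNz A, χ.comp ψ = awnι A :=
  (isRingAWN_AWNz.2 C ψ ((isUnivHomeo_SpecMap_iff' ψ).mpr hψ)).exists

/-- the canonical map from a universally homeomorphic algebra to the absolute weak
normalization -/
noncomputable def awnLift (ψ : A →+* C) (hψ : RingUH ψ) : C →+* AWNz A :=
  (exists_awnLift ψ hψ).choose

theorem awnLift_comp (ψ : A →+* C) (hψ : RingUH ψ) : (awnLift ψ hψ).comp ψ = awnι A :=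
  (exists_awnLift ψ hψ).choose_spec

theorem awnLift_unique (ψ : A →+* C) (hψ : RingUH ψ) (χ : C →+* AWNz A)
    (h : χ.comp ψ = awnι A) : χ = awnLift ψ hψ :=
  ringHom_ext_of_ringUH hψ _ _ (by rw [h, awnLift_comp])

theorem awnLift_naturality (ψ : A →+* C) (hψ : RingUH ψ) (ψ' : A' →+* C') (hψ' : RingUH ψ')
    (f : A →+* A') (g : C →+* C') (h : g.comp ψ = ψ'.comp f) :
    (awnMap f).comp (awnLift ψ hψ) = (awnLift ψ' hψ').comp g := by
  apply ringHom_ext_of_ringUH hψ
  rw [RingHom.comp_assoc, awnLift_comp, awnMap_comp_awnι, RingHom.comp_assoc, h,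
    ← RingHom.comp_assoc, awnLift_comp]

end Groth.Agent.H37
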