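import Groth.Agent.H37.UHAwn3
import Mathlib.Algebra.CharP.Lemmas
import Mathlib.FieldTheory.IsPerfectClosure

/-! Universal homeomorphisms in characteristic `p`; perfect rings are absolutely weakly normal. -/

set_option autoImplicit false
open CategoryTheory AlgebraicGeometry

namespace Groth.Agent.H37

universe u

variable {A C : Type u} [CommRing A] [CommRing C]

theorem add_pow_prime_pow_of_zero {p : ℕ} (hp : p.Prime) (h0 : (p : C) = 0) (x y : C) (n : ℕ) :
    (x + y) ^ p ^ n = x ^ p ^ n + y ^ p ^ n := by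
  obtain ⟨r, hr⟩ := exists_add_pow_prime_pow_eq hp x y n
  rw [hr, h0]
  ring

/-- in a reduced ring killed by `p`, `p`-power roots are unique -/
theorem eq_of_pow_prime_pow_eq [IsReduced C] {p : ℕ} (hp : p.Prime) (h0 : (p : C) = 0) {x y : C}
    {n : ℕ} (h : x ^ p ^ n = y ^ p ^ n) : x = y := by
  have h1 : x = y + (x - y) := by ring
  have h2 := add_pow_prime_pow_of_zero hp h0 y (x - y) n
  rw [← h1, h] at h2
  have h3 : (x - y) ^ p ^ n = 0 := by
    have := h2
    linear_combination -this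
  exact sub_eq_zero.mp (IsNilpotent.eq_zero ⟨_, h3⟩)

/-- the elements having a `p`-power in a subring, when `p = 0` -/
def pRadSubring {p : ℕ} (hp : p.Prime) (h0 : (p : C) = 0) (R : Subring C) : Subring C where
  carrier := {c | ∃ n : ℕ, c ^ p ^ n ∈ R}
  mul_mem' := by
    rintro x y ⟨n, hx⟩ ⟨m, hy⟩
    refine ⟨n + m, ?_⟩
    rw [mul_pow, pow_add, pow_mul, pow_mul']
    exact R.mul_mem (R.pow_mem hx _) (R.pow_mem hy _)
  one_mem' := ⟨0, by simp [R.one_mem]⟩
  add_mem' := by
    rintro x y ⟨n, hx⟩ ⟨m, hy⟩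
    refine ⟨n + m, ?_⟩
    rw [add_pow_prime_pow_of_zero hp h0]
    refine R.add_mem ?_ ?_
    · rw [pow_add, pow_mul]; exact R.pow_mem hx _
    · rw [pow_add, mul_comm, pow_mul]; exact R.pow_mem hy _
  zero_mem' := ⟨0, by simp [R.zero_mem]⟩
  neg_mem' := by
    rintro x ⟨n, hx⟩
    refine ⟨n, ?_⟩
    rw [neg_pow]
    exact R.mul_mem (R.pow_mem (R.neg_mem R.one_mem) _) hx

theorem mem_pRadSubring {p : ℕ} (hp : p.Prime) (h0 : (p : C) = 0) (R : Subring C) (c : C) :
    c ∈ pRadSubring hp h0 R ↔ ∃ n : ℕ, c ^ p ^ n ∈ R := Iff.rfl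

end Groth.Agent.H37

namespace Groth.Agent.H37

universe u

variable {A C : Type u} [CommRing A] [CommRing C]

theorem exists_two_three (N : ℕ) (hN : 2 ≤ N) : ∃ i j : ℕ, N = 2 * i + 3 * j := by
  rcases Nat.even_or_odd N with ⟨k, hk⟩ | ⟨k, hk⟩
  · exact ⟨k, 0, by omega⟩
  · exact ⟨k - 1, 1, by omega⟩

/-- for a universal homeomorphism in characteristic `p`, every element has a `p`-power in the
image -/
theorem RingUH.exists_pow_mem_range {ψ : A →+* C} (hψ : RingUH ψ) {p : ℕ} (hp : p.Prime)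
    (h0 : (p : C) = 0) (c : C) : ∃ n : ℕ, c ^ p ^ n ∈ ψ.range := by
  have htop := hψ.subring_eq_top (pRadSubring hp h0 ψ.range)
    (fun a => ⟨0, by simp⟩)
    (fun c h2 h3 => by
      obtain ⟨n, hn⟩ := h2
      obtain ⟨m, hm⟩ := h3
      -- c^(2 p^n), c^(3 p^m) in range; use exponent p^(n+m+1)
      obtain ⟨i, j, hij⟩ := exists_two_three (p ^ 1) (by rw [pow_one]; exact hp.two_le)
      refine ⟨n + m + 1, ?_⟩
      have e : c ^ p ^ (n + m + 1) =
          ((c ^ 2) ^ p ^ n) ^ (p ^ m * i) * ((c ^ 3) ^ p ^ m) ^ (p ^ n * j) := by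
        rw [← pow_mul, ← pow_mul, ← pow_mul, ← pow_mul, ← pow_add]
        congr 1
        rw [pow_add, pow_add, hij]
        ring
      rw [e]
      exact Subring.mul_mem _ (Subring.pow_mem _ hn _) (Subring.pow_mem _ hm _))
    (fun ℓ c hℓ h1 h2 => by
      by_cases hℓp : ℓ = p
      · subst hℓp
        obtain ⟨n, hn⟩ := h2
        exact ⟨n + 1, by rw [pow_succ', pow_mul]; exact hn⟩
      · have hcop : Nat.Coprime ℓ p := (Nat.coprime_primes hℓ hp).mpr hℓp
        have hb := Nat.Coprime.gcd_eq_one hcop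
        have hbez := Nat.gcd_eq_gcd_ab ℓ p
        rw [hb] at hbez
        have hC : ((1 : ℕ) : ℤ) = (ℓ : ℤ) * Nat.gcdA ℓ p + (p : ℤ) * Nat.gcdB ℓ p := hbez
        have hC' := congrArg (Int.cast : ℤ → C) hC
        push_cast at hC'
        rw [h0, zero_mul, add_zero] at hC'
        have : c = ((Nat.gcdA ℓ p : ℤ) : C) * ((ℓ : C) * c) := by
          rw [← mul_assoc, mul_comm ((Nat.gcdA ℓ p : ℤ) : C), ← hC', one_mul]
        rw [this]
        exact Subring.mul_mem _ (intCast_mem _ _) h1)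
  have : c ∈ pRadSubring hp h0 ψ.range := by rw [htop]; exact Subring.mem_top c
  exact this

end Groth.Agent.H37

namespace Groth.Agent.H37

universe u

variable {A : Type u} [CommRing A]

theorem bijective_pow_prime_pow {p : ℕ} (hbij : Function.Bijective fun s : A => s ^ p) (k : ℕ) :
    Function.Bijective fun s : A => s ^ p ^ k := by
  induction k with
  | zero =>
    have : (fun s : A => s ^ p ^ 0) = id := by funext s; simp
    rw [this]
    exact Function.bijective_id
  | succ k ih =>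
    have : (fun s : A => s ^ p ^ (k + 1)) = (fun s : A => s ^ p) ∘ (fun s : A => s ^ p ^ k) := by
      funext s
      simp [pow_succ, pow_mul]
    rw [this]
    exact hbij.comp ih

theorem isReduced_of_perfect {p : ℕ} (hp : p.Prime)
    (hbij : Function.Bijective fun s : A => s ^ p) : IsReduced A := by
  constructor
  rintro x ⟨n, hn⟩
  have hk : n ≤ p ^ n := (Nat.lt_pow_self hp.one_lt).le
  have h1 : x ^ p ^ n = 0 := pow_eq_zero_of_le hk hn
  apply (bijective_pow_prime_pow hbij n).1
  simp only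
  rw [h1, zero_pow (pow_pos hp.pos n).ne']

theorem exists_unit_of_coprime {p ℓ : ℕ} (hp : p.Prime) (hℓ : ℓ.Prime) (hne : ℓ ≠ p)
    (h0 : (p : A) = 0) : ∃ u : A, u * (ℓ : A) = 1 := by
  have hcop : Nat.Coprime ℓ p := (Nat.coprime_primes hℓ hp).mpr hne
  have hb := Nat.Coprime.gcd_eq_one hcop
  have hbez := Nat.gcd_eq_gcd_ab ℓ p
  rw [hb] at hbez
  have hC : ((1 : ℕ) : ℤ) = (ℓ : ℤ) * Nat.gcdA ℓ p + (p : ℤ) * Nat.gcdB ℓ p := hbez
  have hC' := congrArg (Int.cast : ℤ → A) hC
  push_cast at hC'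
  rw [h0, zero_mul, add_zero] at hC'
  exact ⟨((Nat.gcdA ℓ p : ℤ) : A), by rw [mul_comm, ← hC']⟩

/-- perfect rings of characteristic `p` are absolutely weakly normal -/
theorem isAWNRing_of_perfect {p : ℕ} (hp : p.Prime) (h0 : (p : A) = 0)
    (hbij : Function.Bijective fun s : A => s ^ p) : HTop.IsAWNRing A := by
  haveI := isReduced_of_perfect hp hbij
  rw [isAWNRing_iff]
  refine ⟨inferInstance, ?_, ?_⟩
  · intro x y hxy
    obtain ⟨i, j, hij⟩ := exists_two_three p hp.two_le
    obtain ⟨a, ha⟩ := hbij.2 (y ^ j * x ^ i)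
    have ha' : a ^ p = y ^ j * x ^ i := ha
    refine ⟨a, ?_, ?_⟩
    · apply hbij.1
      show x ^ p = (a ^ 2) ^ p
      rw [← pow_mul, mul_comm, pow_mul, ha', mul_pow, ← pow_mul, ← pow_mul]
      have : y ^ (j * 2) = x ^ (3 * j) := by rw [mul_comm j 2, pow_mul, ← hxy, ← pow_mul]
      rw [this, ← pow_add]
      congr 1
      omega
    · apply hbij.1
      show y ^ p = (a ^ 3) ^ p
      rw [← pow_mul, mul_comm, pow_mul, ha', mul_pow, ← pow_mul, ← pow_mul]
      have : x ^ (i * 3) = y ^ (2 * i) := by rw [mul_comm i 3, pow_mul, hxy, ← pow_mul]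
      rw [this, ← pow_add]
      congr 1
      omega
  · intro ℓ hℓ x y hxy
    by_cases hℓp : ℓ = p
    · subst hℓp
      rw [h0, zero_pow hℓ.pos.ne', zero_mul] at hxy
      have hy : y = 0 := by
        apply hbij.1
        show y ^ ℓ = 0 ^ ℓ
        rw [← hxy, zero_pow hℓ.pos.ne']
      obtain ⟨a, ha⟩ := hbij.2 x
      exact ⟨a, ha.symm, by rw [hy, h0, zero_mul]⟩
    · obtain ⟨u, hu⟩ := exists_unit_of_coprime (A := A) hp hℓ hℓp h0
      refine ⟨u * y, ?_, ?_⟩
      · rw [mul_pow, ← hxy, ← mul_assoc, ← mul_pow, hu, one_pow, one_mul]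
      · rw [← mul_assoc, mul_comm (ℓ : A), hu, one_mul]

end Groth.Agent.H37

namespace Groth.Agent.H37

universe u

variable {A A' : Type u} [CommRing A] [CommRing A']

/-- a `p`-radical ring map in characteristic `p` is a universal homeomorphism -/
theorem ringUH_of_isPRadical (i : A →+* A') {p : ℕ} (hp : p.Prime) [IsPRadical i p]
    (h0 : (p : A') = 0) : RingUH i where
  isIntegral := by
    intro x
    obtain ⟨n, y, hy⟩ := IsPRadical.pow_mem i p x
    have h1 : i.IsIntegralElem (x ^ p ^ n) := by rw [← hy]; exact i.isIntegralElem_map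
    letI := i.toAlgebra
    exact IsIntegral.of_pow (pow_pos hp.pos n) h1
  fieldInj := by
    intro K _ σ₁ σ₂ e
    ext x
    obtain ⟨n, y, hy⟩ := IsPRadical.pow_mem i p x
    have h0K : (p : K) = 0 := by rw [← map_natCast σ₁, h0, map_zero]
    apply eq_of_pow_prime_pow_eq hp h0K (n := n)
    rw [← map_pow, ← map_pow, ← hy]
    exact RingHom.congr_fun e y
  surj := by
    apply comap_surjective_of_ker_le_nilradical
    · intro x
      obtain ⟨n, y, hy⟩ := IsPRadical.pow_mem i p x
      have h1 : i.IsIntegralElem (x ^ p ^ n) := by rw [← hy]; exact i.isIntegralElem_map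
      letI := i.toAlgebra
      exact IsIntegral.of_pow (pow_pos hp.pos n) h1
    · refine (IsPRadical.ker_le i p).trans ?_
      exact pNilradical_le_nilradical

/-- transporting an absolute weak normalization along an isomorphism -/
theorem isRingAWN_of_bijective {W B : Type u} [CommRing W] [CommRing B] {φ : A →+* W}
    (hφ : HTop.IsRingAWN φ) (ψ : A →+* B) (χ : B →+* W) (hχ : χ.comp ψ = φ)
    (hb : Function.Bijective χ) (hψ : FlatMor.IsUnivHomeo (Spec.map (CommRingCat.ofHom ψ))) :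
    HTop.IsRingAWN ψ := by
  refine ⟨hψ, ?_⟩
  intro C _ θ hθ
  obtain ⟨g, hg, huniq⟩ := hφ.2 C θ hθ
  let e : B ≃+* W := RingEquiv.ofBijective χ hb
  refine ⟨(e.symm : W →+* B).comp g, ?_, ?_⟩
  · show ((e.symm : W →+* B).comp g).comp θ = ψ
    rw [RingHom.comp_assoc, hg, ← hχ]
    ext a
    exact e.symm_apply_apply (ψ a)
  · intro g' hg'
    have hg'' : g'.comp θ = ψ := hg'
    have h1 : χ.comp g' = g := huniq _ (by
      show (χ.comp g').comp θ = φ
      rw [RingHom.comp_assoc, hg'', hχ])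
    ext c
    have h2 : χ (g' c) = g c := RingHom.congr_fun h1 c
    show g' c = e.symm (g c)
    rw [← h2]
    exact (e.symm_apply_apply (g' c)).symm

/-- the perfect closure is an absolute weak normalization -/
theorem isRingAWN_perfectClosure (p : ℕ) [Fact p.Prime] (A : Type u) [CommRing A] [CharP A p] :
    HTop.IsRingAWN (PerfectClosure.of A p) := by
  have hp : p.Prime := Fact.out
  have h0 : (p : PerfectClosure A p) = 0 := CharP.cast_eq_zero _ p
  have hU : RingUH (PerfectClosure.of A p) := ringUH_of_isPRadical _ hp h0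
  have hbij : Function.Bijective fun s : PerfectClosure A p => s ^ p :=
    (inferInstance : PerfectRing (PerfectClosure A p) p).bijective_frobenius
  have hawn := isAWNRing_of_perfect hp h0 hbij
  have hχ := awnLift_comp _ hU
  have hUχ : RingUH (awnLift _ hU) := hU.of_comp_of_ringUH (by rw [hχ]; exact ringUH_AWNz)
  exact isRingAWN_of_bijective isRingAWN_AWNz _ (awnLift _ hU) hχ
    (bijective_of_ringUH_of_isAWNRing _ hUχ hawn) ((isUnivHomeo_SpecMap_iff' _).mpr hU)

end Groth.Agent.H37
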