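import Groth.Agent.H37.UHAlg

set_option autoImplicit false
set_option linter.style.haveILetI false
universe u v

open CategoryTheory AlgebraicGeometry

namespace Groth.Agent.H37

variable {A B : Type u} [CommRing A] [CommRing B]

section Joint

variable {ι : Type v} {Bj : ι → Type u} [∀ j, CommRing (Bj j)]
  (φ : A →+* B) (φj : ∀ j, A →+* Bj j) (ψ : ∀ j, Bj j →+* B)

theorem isIntegral_of_jointly_surjective (hcomp : ∀ j, (ψ j).comp (φj j) = φ)
    (hsurj : ∀ b, ∃ j bj, ψ j bj = b) (h : ∀ j, (φj j).IsIntegral) : φ.IsIntegral := by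
  intro b
  obtain ⟨j, bj, rfl⟩ := hsurj b
  obtain ⟨p, hp, hpe⟩ := h j bj
  refine ⟨p, hp, ?_⟩
  have := congrArg (ψ j) hpe
  rw [Polynomial.hom_eval₂, map_zero, hcomp] at this
  exact this

theorem fieldInj_of_jointly_surjective (hcomp : ∀ j, (ψ j).comp (φj j) = φ)
    (hsurj : ∀ b, ∃ j bj, ψ j bj = b) (h : ∀ j, FieldInj (φj j)) : FieldInj φ := by
  intro K _ σ₁ σ₂ e
  ext b
  obtain ⟨j, bj, rfl⟩ := hsurj b
  have := h j K (σ₁.comp (ψ j)) (σ₂.comp (ψ j)) (by
    rw [RingHom.comp_assoc, RingHom.comp_assoc, hcomp, e])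
  exact congrArg (fun f => f bj) this

theorem resSurj_of_jointly_surjective (hcomp : ∀ j, (ψ j).comp (φj j) = φ)
    (hsurj : ∀ b, ∃ j bj, ψ j bj = b) (h : ∀ j, ResSurj (φj j)) : ResSurj φ := by
  intro q hq b
  obtain ⟨j, bj, rfl⟩ := hsurj b
  haveI : (q.comap (ψ j)).IsPrime := Ideal.comap_isPrime _ q
  obtain ⟨a, s, hs, hb⟩ := h j (q.comap (ψ j)) bj
  rw [Ideal.mem_comap] at hs hb
  have e : ∀ a, ψ j (φj j a) = φ a := fun a => congrArg (fun f => f a) (hcomp j)
  rw [e] at hs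
  rw [map_sub, map_mul, e, e] at hb
  exact ⟨a, s, hs, hb⟩

theorem comap_surjective_of_jointly
    (hker : ∀ a, φ a = 0 → ∃ j, φj j a = 0) (hint : φ.IsIntegral)
    (h : ∀ j, Function.Surjective (PrimeSpectrum.comap (φj j))) :
    Function.Surjective (PrimeSpectrum.comap φ) := by
  intro p
  obtain ⟨q, hq, hqp⟩ := exists_prime_over φ hint p.asIdeal (by
    intro a ha
    obtain ⟨j, hj⟩ := hker a ha
    obtain ⟨q', hq'⟩ := h j p
    rw [← hq']
    show φj j a ∈ q'.asIdeal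
    rw [hj]
    exact q'.asIdeal.zero_mem)
  exact ⟨⟨q, hq⟩, PrimeSpectrum.ext hqp⟩

theorem ringUH_of_jointly_surjective (hcomp : ∀ j, (ψ j).comp (φj j) = φ)
    (hsurj : ∀ b, ∃ j bj, ψ j bj = b) (hker : ∀ a, φ a = 0 → ∃ j, φj j a = 0)
    (h : ∀ j, RingUH (φj j)) : RingUH φ where
  isIntegral := isIntegral_of_jointly_surjective φ φj ψ hcomp hsurj (fun j => (h j).isIntegral)
  fieldInj := fieldInj_of_jointly_surjective φ φj ψ hcomp hsurj (fun j => (h j).fieldInj)
  surj := comap_surjective_of_jointly φ φj hker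
    (isIntegral_of_jointly_surjective φ φj ψ hcomp hsurj (fun j => (h j).isIntegral))
    (fun j => (h j).surj)

end Joint

end Groth.Agent.H37
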