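import Groth.Agent.H37.UHRoots
import Mathlib.FieldTheory.PurelyInseparable.Basic
import Mathlib.RingTheory.RingHom.PurelyInseparable

set_option autoImplicit false
set_option linter.style.haveILetI false
universe u

open CategoryTheory AlgebraicGeometry Polynomial

namespace Groth.Agent.H37

variable {A B : Type u} [CommRing A] [CommRing B]

/-- in a purely inseparable extension an element outside the base field has a power which is
outside the base field but whose `ℓ`-th power is inside, `ℓ` the characteristic -/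
theorem exists_prime_pow_of_isPurelyInseparable {k K : Type u} [Field k] [Field K] (f : k →+* K)
    (hf : f.IsPurelyInseparable) (z : K) (hz : z ∉ f.range) :
    ∃ ℓ : ℕ, ℓ.Prime ∧ (ℓ : k) = 0 ∧ ∃ m : ℕ, z ^ (ℓ ^ m) ∉ f.range ∧
      (z ^ (ℓ ^ m)) ^ ℓ ∈ f.range := by
  classical
  algebraize [f]
  obtain ⟨q, hq⟩ := ExpChar.exists k
  have hex : ∃ n : ℕ, z ^ q ^ n ∈ f.range := IsPurelyInseparable.pow_mem k q z
  cases hq with
  | zero =>
    exfalso
    obtain ⟨n, hn⟩ := hex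
    rw [one_pow, pow_one] at hn
    exact hz hn
  | prime hprime =>
    refine ⟨q, hprime, CharP.cast_eq_zero k _, ?_⟩
    have h0 : Nat.find hex ≠ 0 := by
      intro h0
      have := Nat.find_spec hex
      rw [h0, pow_zero, pow_one] at this
      exact hz this
    obtain ⟨m, hm⟩ := Nat.exists_eq_succ_of_ne_zero h0
    refine ⟨m, ?_, ?_⟩
    · exact Nat.find_min hex (by omega)
    · have := Nat.find_spec hex
      rw [hm, pow_succ, pow_mul] at this
      exact this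

theorem ev_mem_range_iff (φ : A →+* B) (x : Spec (CommRingCat.of B)) (b : B) :
    ev B x b ∈ ((Spec.map (CommRingCat.ofHom φ)).residueFieldMap x).hom.range ↔
      ∃ a s : A, φ s ∉ x.asIdeal ∧ φ s * b - φ a ∈ x.asIdeal := by
  have hn := ev_naturality φ x
  constructor
  · rintro ⟨w, hw⟩
    obtain ⟨a, s, hs, hws⟩ := exists_ev_mul A (Spec.map (CommRingCat.ofHom φ) x) w
    refine ⟨a, s, hs, ?_⟩
    have h1 := congrArg ((Spec.map (CommRingCat.ofHom φ)).residueFieldMap x).hom hws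
    rw [map_mul] at h1
    erw [hn, hn, hw] at h1
    have h2 : ev B x (φ s * b - φ a) = 0 := by
      rw [map_sub, map_mul, ← h1]; ring
    exact (ev_eq_zero_iff B x _).mp h2
  · rintro ⟨a, s, hs, hb⟩
    have e1 : ev B x (φ s) * ev B x b = ev B x (φ a) := by
      have := (ev_eq_zero_iff B x _).mpr hb
      rw [map_sub, map_mul] at this
      exact sub_eq_zero.mp this
    have n1 : ev B x (φ s) ≠ 0 := fun h0 => hs ((ev_eq_zero_iff B x _).mp h0)
    refine ⟨ev A _ a / ev A _ s, ?_⟩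
    rw [map_div₀]
    erw [hn, hn]
    rw [div_eq_iff n1, ← e1]
    ring

/-- a nontrivial residue field extension of a universally injective ring map produces a
`ℓ`-th root situation, `ℓ` the residue characteristic -/
theorem exists_prime_root_of_fieldInj (φ : A →+* B) (hφ : FieldInj φ) (q : Ideal B)
    [hq : q.IsPrime] (b₁ : B) (hb₁ : ∀ a s : A, φ s ∉ q → φ s * b₁ - φ a ∉ q) :
    ∃ (ℓ : ℕ) (b₂ : B), ℓ.Prime ∧ φ (ℓ : A) ∈ q ∧
      (∀ a s : A, φ s ∉ q → φ s * b₂ - φ a ∉ q) ∧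
      ∃ a s : A, φ s ∉ q ∧ φ s * b₂ ^ ℓ - φ a ∈ q := by
  let x : Spec (CommRingCat.of B) := ⟨q, hq⟩
  have hUI := (universallyInjective_SpecMap_iff φ).mpr hφ
  have hPI := ((tfae_universallyInjective (Spec.map (CommRingCat.ofHom φ))).out 0 2).mp hUI
  have hPIx := hPI.2 x
  have hz : ev B x b₁ ∉ ((Spec.map (CommRingCat.ofHom φ)).residueFieldMap x).hom.range := by
    rw [ev_mem_range_iff]
    rintro ⟨a, s, hs, hb⟩
    exact hb₁ a s hs hb
  obtain ⟨ℓ, hℓ, hℓ0, m, hm1, hm2⟩ := exists_prime_pow_of_isPurelyInseparable _ hPIx _ hz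
  refine ⟨ℓ, b₁ ^ (ℓ ^ m), hℓ, ?_, ?_, ?_⟩
  · have h1 : ev A (Spec.map (CommRingCat.ofHom φ) x) (ℓ : A) = 0 := by
      rw [map_natCast]; exact hℓ0
    exact (ev_eq_zero_iff A _ _).mp h1
  · intro a s hs hb
    apply hm1
    rw [← map_pow, ev_mem_range_iff]
    exact ⟨a, s, hs, hb⟩
  · rw [← map_pow, ← map_pow, ev_mem_range_iff] at hm2
    exact hm2

/-- finite case of the square-cube-or-prime lemma -/
theorem exists_sq_cube_or_prime_of_finite [Algebra A B] [Module.Finite A B]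
    (hUI : FieldInj (algebraMap A B))
    (hsurjS : Function.Surjective (PrimeSpectrum.comap (algebraMap A B)))
    (hns : ¬ Function.Surjective (algebraMap A B)) :
    (∃ b : B, b ∉ (algebraMap A B).range ∧ b ^ 2 ∈ (algebraMap A B).range ∧
      b ^ 3 ∈ (algebraMap A B).range) ∨
    ∃ (ℓ : ℕ) (b : B), ℓ.Prime ∧ b ∉ (algebraMap A B).range ∧
      (ℓ : B) * b ∈ (algebraMap A B).range ∧ b ^ ℓ ∈ (algebraMap A B).range := by
  have hinjS := hUI.comap_injective
  rcases sq_cube_or_local hinjS hsurjS hns with h | ⟨p, q, hp, hq, hqp, hloc⟩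
  · exact Or.inl h
  right
  haveI hpp : p.IsPrime := hp.1.1
  have hex : ∃ b₁ : B, ∀ a s : A, algebraMap A B s ∉ q →
      algebraMap A B s * b₁ - algebraMap A B a ∉ q := by
    by_contra hcon
    push Not at hcon
    exact false_of_local_mem_range hinjS p hp q hqp hloc hcon
  obtain ⟨b₁, hb₁⟩ := hex
  obtain ⟨ℓ, b₂, hℓ, hℓq, hb₂, a, s, hs, hb⟩ :=
    exists_prime_root_of_fieldInj (algebraMap A B) hUI q b₁ hb₁
  have hsp : s ∉ p := by rw [← hqp]; exact hs
  have hf₁ : algebraMap A B (ℓ : A) * b₂ ∈ q := q.mul_mem_right _ hℓq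
  obtain ⟨t₁, ht₁, n₁, hn₁⟩ :=
    exists_mul_pow_mem_map_conductor (algebraMap A B) hinjS p hp q hqp _ hf₁
  obtain ⟨c₁, hc₁⟩ := hloc _ hf₁ t₁ ht₁ ⟨n₁, hn₁⟩
  obtain ⟨t₂, ht₂, n₂, hn₂⟩ :=
    exists_mul_pow_mem_map_conductor (algebraMap A B) hinjS p hp q hqp _ hb
  obtain ⟨c₂, hc₂⟩ := hloc _ hb t₂ ht₂ ⟨n₂, hn₂⟩
  have htp : t₁ * t₂ * s ∉ p := fun h =>
    (hpp.mem_or_mem h).elim (fun h' => (hpp.mem_or_mem h').elim ht₁ ht₂) hsp
  have htq : algebraMap A B (t₁ * t₂ * s) ∉ q := by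
    intro h
    apply htp
    rw [← hqp]
    exact h
  refine ⟨ℓ, algebraMap A B (t₁ * t₂ * s) * b₂, hℓ, ?_, ?_, ?_⟩
  · rintro ⟨a', ha'⟩
    apply hb₂ a' (t₁ * t₂ * s) htq
    rw [ha', sub_self]
    exact q.zero_mem
  · refine ⟨t₂ * s * c₁, ?_⟩
    rw [map_mul, hc₁, ← map_natCast (algebraMap A B) ℓ]
    simp only [map_mul]
    ring
  · obtain ⟨k, rfl⟩ : ∃ k, ℓ = k + 1 := ⟨ℓ - 1, (Nat.sub_add_cancel hℓ.pos).symm⟩
    refine ⟨(t₁ * t₂ * s) ^ k * t₁ * (c₂ + t₂ * a), ?_⟩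
    rw [map_mul, map_add, hc₂]
    simp only [map_mul, map_pow]
    ring

end Groth.Agent.H37
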