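import Groth.Agent.H37.UHGen
import Mathlib.RingTheory.Ideal.MinimalPrime.Basic
import Mathlib.RingTheory.Finiteness.Basic

set_option autoImplicit false
set_option linter.style.haveILetI false
universe u

open CategoryTheory AlgebraicGeometry Polynomial

namespace Groth.Agent.H37

variable {A B : Type u} [CommRing A] [CommRing B]

/-- the conductor of `φ : A → B`: elements of `A` multiplying `B` into the image of `A` -/
def conductor (φ : A →+* B) : Ideal A where
  carrier := {a | ∀ b, φ a * b ∈ φ.range}
  add_mem' := by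
    intro a a' ha ha' b
    rw [map_add, add_mul]
    exact φ.range.add_mem (ha b) (ha' b)
  zero_mem' := by
    intro b
    rw [map_zero, zero_mul]
    exact φ.range.zero_mem
  smul_mem' := by
    intro c a ha b
    obtain ⟨a', h'⟩ := ha b
    exact ⟨c * a', by rw [smul_eq_mul, map_mul, map_mul, h', mul_assoc]⟩

theorem mem_conductor {φ : A →+* B} {a : A} : a ∈ conductor φ ↔ ∀ b, φ a * b ∈ φ.range := Iff.rfl

theorem conductor_ne_top {φ : A →+* B} (h : ¬ Function.Surjective φ) : conductor φ ≠ ⊤ := by
  intro htop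
  apply h
  intro b
  have h1 : (1 : A) ∈ conductor φ := by rw [htop]; trivial
  have := h1 b
  rwa [map_one, one_mul] at this

/-- the image of the conductor is closed under multiplication by `B` -/
theorem conductor_mul {φ : A →+* B} {a : A} (ha : a ∈ conductor φ) (b : B) :
    ∃ a' ∈ conductor φ, φ a' = φ a * b := by
  obtain ⟨a', h'⟩ := ha b
  refine ⟨a', ?_, h'⟩
  intro b'
  rw [h', mul_assoc]
  exact ha (b * b')

/-- the extension of the conductor to `B` lies in the image of `A` -/
theorem map_conductor_subset {φ : A →+* B} {z : B} (hz : z ∈ (conductor φ).map φ) :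
    ∃ a ∈ conductor φ, φ a = z := by
  unfold Ideal.map at hz
  induction hz using Submodule.span_induction with
  | mem x hx =>
    obtain ⟨a, ha, rfl⟩ := hx
    exact ⟨a, ha, rfl⟩
  | zero => exact ⟨0, (conductor φ).zero_mem, map_zero φ⟩
  | add x y _ _ hx hy =>
    obtain ⟨a, ha, rfl⟩ := hx
    obtain ⟨a', ha', rfl⟩ := hy
    exact ⟨a + a', (conductor φ).add_mem ha ha', map_add φ a a'⟩
  | smul c x _ hx =>
    obtain ⟨a, ha, rfl⟩ := hx
    obtain ⟨a', ha', h'⟩ := conductor_mul ha c
    exact ⟨a', ha', by rw [h', smul_eq_mul, mul_comm]⟩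

/-- if all large powers of `g ∉ R` lie in the subring `R` then some `b ∉ R` has `b², b³ ∈ R` -/
theorem exists_sq_cube_of_pow_mem (R : Subring B) (g : B) (hg : g ∉ R) (N : ℕ)
    (hN : ∀ m, N ≤ m → g ^ m ∈ R) : ∃ b : B, b ∉ R ∧ b ^ 2 ∈ R ∧ b ^ 3 ∈ R := by
  classical
  have hN1 : 1 ≤ N := by
    by_contra hcon
    have : N = 0 := by omega
    apply hg
    have := hN 1 (by omega)
    rwa [pow_one] at this
  let i := Nat.findGreatest (fun i => g ^ i ∉ R) N
  have hi : g ^ i ∉ R := Nat.findGreatest_spec (P := fun i => g ^ i ∉ R) hN1 (by rwa [pow_one])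
  have hi1 : 1 ≤ i := Nat.le_findGreatest hN1 (by rwa [pow_one])
  have hbig : ∀ j, i < j → g ^ j ∈ R := by
    intro j hj
    by_cases hjN : j ≤ N
    · by_contra hcon
      have := Nat.le_findGreatest (P := fun i => g ^ i ∉ R) hjN hcon
      omega
    · exact hN j (by omega)
  refine ⟨g ^ i, hi, ?_, ?_⟩
  · rw [← pow_mul]; exact hbig _ (by nlinarith)
  · rw [← pow_mul]; exact hbig _ (by nlinarith)

/-- near a minimal prime of the conductor, the prime above it is the radical of the extended
conductor -/
theorem exists_mul_pow_mem_map_conductor (φ : A →+* B)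
    (hinjS : Function.Injective (PrimeSpectrum.comap φ))
    (p : Ideal A) (hp : p ∈ (conductor φ).minimalPrimes) (q : Ideal B) [hq : q.IsPrime]
    (hqp : q.comap φ = p) (f : B) (hf : f ∈ q) :
    ∃ s : A, s ∉ p ∧ ∃ n : ℕ, φ s * f ^ n ∈ (conductor φ).map φ := by
  by_contra hcon
  push Not at hcon
  haveI hpp : p.IsPrime := hp.1.1
  let T : Submonoid B := Submonoid.map φ p.primeCompl ⊔ Submonoid.powers f
  have hdisj : Disjoint (((conductor φ).map φ : Ideal B) : Set B) (T : Set B) := by
    rw [Set.disjoint_left]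
    intro x hxJ hxT
    obtain ⟨y, hy, z, hz, rfl⟩ := Submonoid.mem_sup.mp hxT
    obtain ⟨s, hs, rfl⟩ := hy
    obtain ⟨n, rfl⟩ := hz
    exact hcon s hs n hxJ
  obtain ⟨Q, hQ, hJQ, hQT⟩ := Ideal.exists_le_prime_disjoint _ T hdisj
  haveI : (Q.comap φ).IsPrime := Ideal.comap_isPrime φ Q
  have h1 : conductor φ ≤ Q.comap φ := fun a ha => hJQ (Ideal.mem_map_of_mem φ ha)
  have h2 : Q.comap φ ≤ p := by
    intro a ha
    by_contra hap
    have hT : φ a ∈ T := Submonoid.mem_sup_left ⟨a, hap, rfl⟩
    exact Set.disjoint_left.mp hQT ha hT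
  have h3 : p ≤ Q.comap φ := hp.2 ⟨inferInstance, h1⟩ h2
  have h4 : Q.comap φ = q.comap φ := by rw [hqp]; exact le_antisymm h2 h3
  have h5 : (⟨Q, hQ⟩ : PrimeSpectrum B) = ⟨q, hq⟩ := hinjS (PrimeSpectrum.ext h4)
  have h6 : Q = q := congrArg PrimeSpectrum.asIdeal h5
  have hfT : f ∈ T := Submonoid.mem_sup_right (Submonoid.mem_powers f)
  exact Set.disjoint_left.mp hQT (h6 ▸ hf) hfT

/-- if the prime above a minimal prime of the conductor is locally contained in `A` and the
residue field extension is trivial, we get a contradiction -/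
theorem false_of_local_mem_range [Algebra A B] [Module.Finite A B]
    (hinjS : Function.Injective (PrimeSpectrum.comap (algebraMap A B)))
    (p : Ideal A) (hp : p ∈ (conductor (algebraMap A B)).minimalPrimes)
    (q : Ideal B) [hq : q.IsPrime] (hqp : q.comap (algebraMap A B) = p)
    (hloc : ∀ f ∈ q, ∀ s : A, s ∉ p →
      (∃ n : ℕ, algebraMap A B s * f ^ n ∈ (conductor (algebraMap A B)).map (algebraMap A B)) →
      algebraMap A B s * f ∈ (algebraMap A B).range)
    (hres : ∀ b : B, ∃ a s : A, algebraMap A B s ∉ q ∧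
      algebraMap A B s * b - algebraMap A B a ∈ q) : False := by
  classical
  haveI hpp : p.IsPrime := hp.1.1
  obtain ⟨S, hS⟩ := (Module.Finite.fg_top : (⊤ : Submodule A B).FG)
  -- each generator is multiplied into the image of `A` by some element outside `p`
  have hgen : ∀ b : B, ∃ u : A, u ∉ p ∧ algebraMap A B u * b ∈ (algebraMap A B).range := by
    intro b
    obtain ⟨a, s, hs, hb⟩ := hres b
    have hsp : s ∉ p := by rw [← hqp]; exact hs
    obtain ⟨t, ht, n, hn⟩ := exists_mul_pow_mem_map_conductor (algebraMap A B) hinjS p hp q hqp _ hb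
    obtain ⟨a', ha'⟩ := hloc _ hb t ht ⟨n, hn⟩
    refine ⟨t * s, fun h => (hpp.mem_or_mem h).elim ht hsp, a' + t * a, ?_⟩
    rw [map_add, ha', map_mul, map_mul]
    ring
  choose u hu hub using hgen
  let s : A := ∏ b ∈ S, u b
  have hsp : s ∉ p := by
    intro h
    obtain ⟨b, -, hb⟩ := (hpp.prod_mem_iff).mp h
    exact hu b hb
  have hsS : ∀ b ∈ S, algebraMap A B s * b ∈ (algebraMap A B).range := by
    intro b hb
    obtain ⟨a, ha⟩ := hub b
    refine ⟨(∏ x ∈ S.erase b, u x) * a, ?_⟩
    rw [map_mul, ha, ← mul_assoc, ← map_mul, Finset.prod_erase_mul S u hb]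
  have hsall : ∀ b : B, algebraMap A B s * b ∈ (algebraMap A B).range := by
    intro b
    have hb : b ∈ Submodule.span A (S : Set B) := by rw [hS]; trivial
    induction hb using Submodule.span_induction with
    | mem x hx => exact hsS x hx
    | zero => rw [mul_zero]; exact (algebraMap A B).range.zero_mem
    | add x y _ _ hx hy => rw [mul_add]; exact (algebraMap A B).range.add_mem hx hy
    | smul c x _ hx =>
      obtain ⟨a, ha⟩ := hx
      exact ⟨c * a, by rw [map_mul, ha, Algebra.smul_def]; ring⟩
  have : s ∈ conductor (algebraMap A B) := hsall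
  exact hsp (hp.1.2 this)

/-- the basic dichotomy for a finite ring map which is bijective on spectra and not surjective -/
theorem sq_cube_or_local [Algebra A B] [Module.Finite A B]
    (hinjS : Function.Injective (PrimeSpectrum.comap (algebraMap A B)))
    (hsurjS : Function.Surjective (PrimeSpectrum.comap (algebraMap A B)))
    (hns : ¬ Function.Surjective (algebraMap A B)) :
    (∃ b : B, b ∉ (algebraMap A B).range ∧ b ^ 2 ∈ (algebraMap A B).range ∧
      b ^ 3 ∈ (algebraMap A B).range) ∨
    ∃ (p : Ideal A) (q : Ideal B), p ∈ (conductor (algebraMap A B)).minimalPrimes ∧ q.IsPrime ∧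
      q.comap (algebraMap A B) = p ∧
      ∀ f ∈ q, ∀ s : A, s ∉ p →
        (∃ n : ℕ, algebraMap A B s * f ^ n ∈
          (conductor (algebraMap A B)).map (algebraMap A B)) →
        algebraMap A B s * f ∈ (algebraMap A B).range := by
  obtain ⟨⟨p, hp⟩⟩ := Ideal.nonempty_minimalPrimes (conductor_ne_top hns)
  haveI hpp : p.IsPrime := hp.1.1
  obtain ⟨⟨q, hq⟩, hqp'⟩ := hsurjS ⟨p, hpp⟩
  have hqp : q.comap (algebraMap A B) = p := congrArg PrimeSpectrum.asIdeal hqp'
  by_cases hloc : ∀ f ∈ q, ∀ s : A, s ∉ p →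
        (∃ n : ℕ, algebraMap A B s * f ^ n ∈
          (conductor (algebraMap A B)).map (algebraMap A B)) →
        algebraMap A B s * f ∈ (algebraMap A B).range
  · exact Or.inr ⟨p, q, hp, hq, hqp, hloc⟩
  · left
    push Not at hloc
    obtain ⟨f, hf, s, hs, ⟨n, hn⟩, hg⟩ := hloc
    apply exists_sq_cube_of_pow_mem (algebraMap A B).range (algebraMap A B s * f) hg (max n 1)
    intro m hm
    have hmn : n ≤ m := le_trans (le_max_left _ _) hm
    have hm1 : 1 ≤ m := le_trans (le_max_right _ _) hm
    have e : (algebraMap A B s * f) ^ m =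
        (algebraMap A B s * f ^ n) * (algebraMap A B s ^ (m - 1) * f ^ (m - n)) := by
      rw [mul_pow]
      have h1 : algebraMap A B s ^ m = algebraMap A B s * algebraMap A B s ^ (m - 1) := by
        rw [← pow_succ', Nat.sub_add_cancel hm1]
      have h2 : f ^ m = f ^ n * f ^ (m - n) := by
        rw [← pow_add, Nat.add_sub_cancel' hmn]
      rw [h1, h2]; ring
    have hJ : (algebraMap A B s * f) ^ m ∈ (conductor (algebraMap A B)).map (algebraMap A B) := by
      rw [e]
      exact Ideal.mul_mem_right _ _ hn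
    obtain ⟨a, -, ha⟩ := map_conductor_subset hJ
    exact ⟨a, ha⟩

/-- finite case of the square-cube lemma -/
theorem exists_sq_cube_of_finite [Algebra A B] [Module.Finite A B]
    (hinjS : Function.Injective (PrimeSpectrum.comap (algebraMap A B)))
    (hsurjS : Function.Surjective (PrimeSpectrum.comap (algebraMap A B)))
    (hres : ResSurj (algebraMap A B))
    (hns : ¬ Function.Surjective (algebraMap A B)) :
    ∃ b : B, b ∉ (algebraMap A B).range ∧ b ^ 2 ∈ (algebraMap A B).range ∧
      b ^ 3 ∈ (algebraMap A B).range := by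
  rcases sq_cube_or_local hinjS hsurjS hns with h | ⟨p, q, hp, hq, hqp, hloc⟩
  · exact h
  · exact (false_of_local_mem_range hinjS p hp q hqp hloc (fun b => hres q b)).elim

end Groth.Agent.H37
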