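import Mathlib.Algebra.Algebra.Subalgebra.Lattice
import Mathlib.RingTheory.Adjoin.Basic

set_option autoImplicit false
universe u

namespace Groth.Agent.H37

variable {A B : Type u} [CommRing A] [CommRing B] [Algebra A B]

/-- a list of elements of `B` is a tower for the step predicate `Step` -/
def TowerValid (Step : Subalgebra A B → B → Prop) (l : List B) : Prop :=
  ∀ i : Fin l.length,
    Step (Algebra.adjoin A {b : B | ∃ j : Fin l.length, j < i ∧ b = l.get j}) (l.get i)

/-- the subalgebra generated by the members of a list -/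
def listAdjoin (l : List B) : Subalgebra A B := Algebra.adjoin A {b : B | b ∈ l}

theorem listAdjoin_mono {l l' : List B} (h : ∀ b ∈ l, b ∈ l') :
    (listAdjoin l : Subalgebra A B) ≤ listAdjoin l' :=
  Algebra.adjoin_mono (fun b hb => h b hb)

variable {Step : Subalgebra A B → B → Prop}

theorem TowerValid.nil : TowerValid Step ([] : List B) := fun i => i.elim0

theorem TowerValid.append (hmono : ∀ S S' b, S ≤ S' → Step S b → Step S' b) {l₁ l₂ : List B}
    (h₁ : TowerValid Step l₁) (h₂ : TowerValid Step l₂) : TowerValid Step (l₁ ++ l₂) := by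
  intro k
  by_cases hk : k.val < l₁.length
  · have hget : (l₁ ++ l₂).get k = l₁.get ⟨k.val, hk⟩ := by
      simp only [List.get_eq_getElem]
      exact List.getElem_append_left hk
    rw [hget]
    refine hmono _ _ _ ?_ (h₁ ⟨k.val, hk⟩)
    apply Algebra.adjoin_mono
    rintro b ⟨j, hj, rfl⟩
    have hj' : j.val < (l₁ ++ l₂).length := by
      rw [List.length_append]; exact Nat.lt_add_right _ j.isLt
    refine ⟨⟨j.val, hj'⟩, hj, ?_⟩
    simp only [List.get_eq_getElem]
    exact (List.getElem_append_left j.isLt).symm
  · have hk' : l₁.length ≤ k.val := Nat.le_of_not_lt hk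
    have hlen : k.val - l₁.length < l₂.length := by
      have : k.val < l₁.length + l₂.length := lt_of_lt_of_eq k.isLt List.length_append
      omega
    have hget : (l₁ ++ l₂).get k = l₂.get ⟨k.val - l₁.length, hlen⟩ := by
      simp only [List.get_eq_getElem]
      exact List.getElem_append_right hk'
    rw [hget]
    refine hmono _ _ _ ?_ (h₂ ⟨k.val - l₁.length, hlen⟩)
    apply Algebra.adjoin_mono
    rintro b ⟨j, hj, rfl⟩
    have hj' : l₁.length + j.val < (l₁ ++ l₂).length := by
      rw [List.length_append]; exact Nat.add_lt_add_left j.isLt _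
    refine ⟨⟨l₁.length + j.val, hj'⟩, ?_, ?_⟩
    · have : j.val < k.val - l₁.length := hj
      show l₁.length + j.val < k.val
      omega
    · simp only [List.get_eq_getElem]
      rw [List.getElem_append_right (Nat.le_add_right _ _)]
      simp
  
theorem TowerValid.snoc (hmono : ∀ S S' b, S ≤ S' → Step S b → Step S' b) {l : List B} {b : B}
    (h : TowerValid Step l) (hb : Step (listAdjoin l) b) : TowerValid Step (l ++ [b]) := by
  intro k
  by_cases hk : k.val < l.length
  · have hget : (l ++ [b]).get k = l.get ⟨k.val, hk⟩ := by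
      simp only [List.get_eq_getElem]
      exact List.getElem_append_left hk
    rw [hget]
    refine hmono _ _ _ ?_ (h ⟨k.val, hk⟩)
    apply Algebra.adjoin_mono
    rintro x ⟨j, hj, rfl⟩
    have hj' : j.val < (l ++ [b]).length := by
      rw [List.length_append]; exact Nat.lt_add_right _ j.isLt
    refine ⟨⟨j.val, hj'⟩, hj, ?_⟩
    simp only [List.get_eq_getElem]
    exact (List.getElem_append_left j.isLt).symm
  · have hk' : k.val = l.length := by
      have : k.val < l.length + 1 :=
        lt_of_lt_of_eq k.isLt (by rw [List.length_append, List.length_singleton])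
      omega
    have hget : (l ++ [b]).get k = b := by
      simp only [List.get_eq_getElem]
      rw [List.getElem_append_right (by omega)]
      simp
    rw [hget]
    refine hmono _ _ _ ?_ hb
    apply Algebra.adjoin_mono
    intro x hx
    obtain ⟨j, rfl⟩ := List.mem_iff_get.mp hx
    have hj' : j.val < (l ++ [b]).length := by
      rw [List.length_append]; exact Nat.lt_add_right _ j.isLt
    refine ⟨⟨j.val, hj'⟩, ?_, ?_⟩
    · show j.val < k.val
      rw [hk']; exact j.isLt
    · simp only [List.get_eq_getElem]
      exact (List.getElem_append_left j.isLt).symm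

/-- a subalgebra closed under steps contains every tower -/
theorem TowerValid.listAdjoin_le (hmono : ∀ S S' b, S ≤ S' → Step S b → Step S' b)
    (S : Subalgebra A B) (hS : ∀ b, Step S b → b ∈ S) {l : List B} (h : TowerValid Step l) :
    listAdjoin l ≤ S := by
  have key : ∀ n : ℕ, ∀ i : Fin l.length, i.val = n → l.get i ∈ S := by
    intro n
    induction n using Nat.strong_induction_on with
    | _ n ih =>
      intro i hi
      apply hS
      refine hmono _ _ _ ?_ (h i)
      apply Algebra.adjoin_le
      rintro b ⟨j, hj, rfl⟩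
      exact ih j.val (by rw [← hi]; exact hj) j rfl
  apply Algebra.adjoin_le
  intro b hb
  obtain ⟨j, rfl⟩ := List.mem_iff_get.mp hb
  exact key j.val j rfl

/-- the elements reachable by towers -/
def reach (Step : Subalgebra A B → B → Prop)
    (hmono : ∀ S S' b, S ≤ S' → Step S b → Step S' b) : Subalgebra A B where
  carrier := {b | ∃ l : List B, TowerValid Step l ∧ b ∈ (listAdjoin l : Subalgebra A B)}
  mul_mem' := by
    rintro x y ⟨l₁, h₁, hx⟩ ⟨l₂, h₂, hy⟩
    refine ⟨l₁ ++ l₂, h₁.append hmono h₂, ?_⟩
    exact Subalgebra.mul_mem _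
      (listAdjoin_mono (fun b hb => List.mem_append_left _ hb) hx)
      (listAdjoin_mono (fun b hb => List.mem_append_right _ hb) hy)
  add_mem' := by
    rintro x y ⟨l₁, h₁, hx⟩ ⟨l₂, h₂, hy⟩
    refine ⟨l₁ ++ l₂, h₁.append hmono h₂, ?_⟩
    exact Subalgebra.add_mem _
      (listAdjoin_mono (fun b hb => List.mem_append_left _ hb) hx)
      (listAdjoin_mono (fun b hb => List.mem_append_right _ hb) hy)
  algebraMap_mem' := fun r => ⟨[], TowerValid.nil, Subalgebra.algebraMap_mem _ r⟩

theorem mem_reach {hmono : ∀ S S' b, S ≤ S' → Step S b → Step S' b} {b : B} :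
    b ∈ reach Step hmono ↔
      ∃ l : List B, TowerValid Step l ∧ b ∈ (listAdjoin l : Subalgebra A B) := Iff.rfl

/-- if steps are witnessed by two elements, the reachable subalgebra is closed under steps -/
theorem reach_closed (hmono : ∀ S S' b, S ≤ S' → Step S b → Step S' b)
    (hfin : ∀ S b, Step S b → ∃ u v : B, u ∈ S ∧ v ∈ S ∧
      ∀ S' : Subalgebra A B, u ∈ S' → v ∈ S' → Step S' b)
    (b : B) (hb : Step (reach Step hmono) b) : b ∈ reach Step hmono := by
  obtain ⟨u, v, ⟨l₁, h₁, hu⟩, ⟨l₂, h₂, hv⟩, huv⟩ := hfin _ _ hb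
  have hstep : Step (listAdjoin (l₁ ++ l₂)) b :=
    huv _ (listAdjoin_mono (fun b hb => List.mem_append_left _ hb) hu)
      (listAdjoin_mono (fun b hb => List.mem_append_right _ hb) hv)
  refine ⟨(l₁ ++ l₂) ++ [b], (h₁.append hmono h₂).snoc hmono hstep, ?_⟩
  exact Algebra.subset_adjoin (List.mem_append_right _ (List.mem_singleton.mpr rfl))

/-- if everything is reachable then finite sets lie in a single tower -/
theorem exists_tower_of_reach_eq_top (hmono : ∀ S S' b, S ≤ S' → Step S b → Step S' b)
    (htop : reach Step hmono = ⊤) (E : Finset B) :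
    ∃ l : List B, (↑E : Set B) ⊆ (listAdjoin l : Subalgebra A B) ∧ TowerValid Step l := by
  classical
  induction E using Finset.induction_on with
  | empty => exact ⟨[], by simp, TowerValid.nil⟩
  | insert e E _ ih =>
    obtain ⟨l₁, hE, h₁⟩ := ih
    have he : e ∈ reach Step hmono := by rw [htop]; exact Algebra.mem_top
    obtain ⟨l₂, h₂, he⟩ := he
    refine ⟨l₁ ++ l₂, ?_, h₁.append hmono h₂⟩
    intro x hx
    rw [Finset.coe_insert, Set.mem_insert_iff] at hx
    rcases hx with rfl | hx
    · exact listAdjoin_mono (fun b hb => List.mem_append_right _ hb) he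
    · exact listAdjoin_mono (fun b hb => List.mem_append_left _ hb) (hE hx)

end Groth.Agent.H37
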