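import Groth.Agent.H37.UHRes
import Groth.Agent.H37.UHTower
import Groth.Agent.H37.AWN

set_option autoImplicit false
set_option linter.style.haveILetI false
set_option linter.unusedVariables false
universe u

open CategoryTheory AlgebraicGeometry

namespace Groth.Agent.H37

variable {A B : Type u} [CommRing A] [CommRing B]

/-- the square-cube lemma for universal homeomorphisms with trivial residue field extensions -/
theorem exists_sq_cube (φ : A →+* B) (hU : RingUH φ) (hres : ResSurj φ)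
    (hns : ¬ Function.Surjective φ) :
    ∃ b : B, b ∉ φ.range ∧ b ^ 2 ∈ φ.range ∧ b ^ 3 ∈ φ.range := by
  letI := φ.toAlgebra
  obtain ⟨b₀, hb₀⟩ : ∃ b₀, b₀ ∉ φ.range := by
    by_contra h
    push Not at h
    exact hns (fun b => h b)
  have hint : IsIntegral A b₀ := hU.isIntegral b₀
  haveI : Module.Finite A (Algebra.adjoin A {b₀}) :=
    Algebra.finite_adjoin_simple_of_isIntegral hint
  have hcomp : φ = ((Algebra.adjoin A {b₀}).val : Algebra.adjoin A {b₀} →+* B).comp
      (algebraMap A (Algebra.adjoin A {b₀})) := rfl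
  have hvinj : Function.Injective
      ((Algebra.adjoin A {b₀}).val : Algebra.adjoin A {b₀} →+* B) := Subtype.val_injective
  have hU' : RingUH (algebraMap A (Algebra.adjoin A {b₀})) :=
    RingUH.of_comp _ _ hvinj (hcomp ▸ hU)
  have hres' : ResSurj (algebraMap A (Algebra.adjoin A {b₀})) :=
    ResSurj.of_comp _ _ (RingHom.IsIntegral.tower_top _ _ (hcomp ▸ hU.isIntegral)) hvinj
      (hcomp ▸ hres)
  have hns' : ¬ Function.Surjective (algebraMap A (Algebra.adjoin A {b₀})) := by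
    intro h
    obtain ⟨a, ha⟩ := h ⟨b₀, Algebra.subset_adjoin rfl⟩
    exact hb₀ ⟨a, congrArg Subtype.val ha⟩
  obtain ⟨b, hb, ⟨a2, hb2⟩, ⟨a3, hb3⟩⟩ :=
    exists_sq_cube_of_finite hU'.fieldInj.comap_injective hU'.surj hres' hns'
  refine ⟨b.val, ?_, ⟨a2, ?_⟩, ⟨a3, ?_⟩⟩
  · rintro ⟨a, ha⟩
    exact hb ⟨a, Subtype.ext ha⟩
  · exact congrArg Subtype.val hb2
  · exact congrArg Subtype.val hb3

/-- the square-cube-or-prime lemma for universal homeomorphisms -/
theorem exists_sq_cube_or_prime (φ : A →+* B) (hU : RingUH φ)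
    (hns : ¬ Function.Surjective φ) :
    (∃ b : B, b ∉ φ.range ∧ b ^ 2 ∈ φ.range ∧ b ^ 3 ∈ φ.range) ∨
      ∃ (p : ℕ) (b : B), p.Prime ∧ b ∉ φ.range ∧ (p : B) * b ∈ φ.range ∧ b ^ p ∈ φ.range := by
  letI := φ.toAlgebra
  obtain ⟨b₀, hb₀⟩ : ∃ b₀, b₀ ∉ φ.range := by
    by_contra h
    push Not at h
    exact hns (fun b => h b)
  have hint : IsIntegral A b₀ := hU.isIntegral b₀
  haveI : Module.Finite A (Algebra.adjoin A {b₀}) :=
    Algebra.finite_adjoin_simple_of_isIntegral hint
  have hcomp : φ = ((Algebra.adjoin A {b₀}).val : Algebra.adjoin A {b₀} →+* B).comp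
      (algebraMap A (Algebra.adjoin A {b₀})) := rfl
  have hvinj : Function.Injective
      ((Algebra.adjoin A {b₀}).val : Algebra.adjoin A {b₀} →+* B) := Subtype.val_injective
  have hU' : RingUH (algebraMap A (Algebra.adjoin A {b₀})) :=
    RingUH.of_comp _ _ hvinj (hcomp ▸ hU)
  have hns' : ¬ Function.Surjective (algebraMap A (Algebra.adjoin A {b₀})) := by
    intro h
    obtain ⟨a, ha⟩ := h ⟨b₀, Algebra.subset_adjoin rfl⟩
    exact hb₀ ⟨a, congrArg Subtype.val ha⟩
  rcases exists_sq_cube_or_prime_of_finite hU'.fieldInj hU'.surj hns' with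
    ⟨b, hb, ⟨a2, hb2⟩, ⟨a3, hb3⟩⟩ | ⟨ℓ, b, hℓ, hb, ⟨a2, hb2⟩, ⟨a3, hb3⟩⟩
  · left
    refine ⟨b.val, ?_, ⟨a2, ?_⟩, ⟨a3, ?_⟩⟩
    · rintro ⟨a, ha⟩
      exact hb ⟨a, Subtype.ext ha⟩
    · exact congrArg Subtype.val hb2
    · exact congrArg Subtype.val hb3
  · right
    refine ⟨ℓ, b.val, hℓ, ?_, ⟨a2, ?_⟩, ⟨a3, ?_⟩⟩
    · rintro ⟨a, ha⟩
      exact hb ⟨a, Subtype.ext ha⟩
    · have h1 := congrArg Subtype.val hb2
      have h2 : ((ℓ : Algebra.adjoin A {b₀}) * b : Algebra.adjoin A {b₀}).val =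
          (ℓ : B) * b.val := by simp
      exact h1.trans h2
    · exact congrArg Subtype.val hb3

theorem ResSurj.of_comp_right {C : Type u} [CommRing C] {φ : A →+* B} {ψ : B →+* C}
    (h : ResSurj (ψ.comp φ)) : ResSurj ψ := by
  intro q hq c
  obtain ⟨a, s, hs, hc⟩ := h q c
  exact ⟨φ a, φ s, hs, hc⟩

/-- two out of three: the second map of a composite universal homeomorphism, when injective -/
theorem RingUH.of_comp_right {C : Type u} [CommRing C] (φ : A →+* B) (ψ : B →+* C)
    (hinj : Function.Injective ψ) (h : RingUH (ψ.comp φ)) : RingUH ψ where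
  isIntegral := RingHom.IsIntegral.tower_top φ ψ h.isIntegral
  fieldInj := h.fieldInj.of_comp_right
  surj := comap_surjective_of_injective_of_isIntegral ψ
    (RingHom.IsIntegral.tower_top φ ψ h.isIntegral) hinj

variable [Algebra A B]

/-- square-cube steps -/
def StepSC (S : Subalgebra A B) (b : B) : Prop := b ^ 2 ∈ S ∧ b ^ 3 ∈ S

/-- square-cube or prime steps -/
def StepSCP (S : Subalgebra A B) (b : B) : Prop :=
  (b ^ 2 ∈ S ∧ b ^ 3 ∈ S) ∨ ∃ p : ℕ, p.Prime ∧ (p : B) * b ∈ S ∧ b ^ p ∈ S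

theorem stepSC_mono : ∀ (S S' : Subalgebra A B) (b : B), S ≤ S' → StepSC S b → StepSC S' b :=
  fun S S' b h hb => ⟨h hb.1, h hb.2⟩

theorem stepSCP_mono : ∀ (S S' : Subalgebra A B) (b : B), S ≤ S' → StepSCP S b → StepSCP S' b := by
  rintro S S' b h (hb | ⟨p, hp, h1, h2⟩)
  · exact Or.inl ⟨h hb.1, h hb.2⟩
  · exact Or.inr ⟨p, hp, h h1, h h2⟩

theorem stepSC_fin : ∀ (S : Subalgebra A B) (b : B), StepSC S b → ∃ u v : B, u ∈ S ∧ v ∈ S ∧
    ∀ S' : Subalgebra A B, u ∈ S' → v ∈ S' → StepSC S' b :=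
  fun S b hb => ⟨b ^ 2, b ^ 3, hb.1, hb.2, fun S' h1 h2 => ⟨h1, h2⟩⟩

theorem stepSCP_fin : ∀ (S : Subalgebra A B) (b : B), StepSCP S b → ∃ u v : B, u ∈ S ∧ v ∈ S ∧
    ∀ S' : Subalgebra A B, u ∈ S' → v ∈ S' → StepSCP S' b := by
  rintro S b (hb | ⟨p, hp, h1, h2⟩)
  · exact ⟨b ^ 2, b ^ 3, hb.1, hb.2, fun S' h1 h2 => Or.inl ⟨h1, h2⟩⟩
  · exact ⟨(p : B) * b, b ^ p, h1, h2, fun S' h1' h2' => Or.inr ⟨p, hp, h1', h2'⟩⟩

theorem mem_range_val_iff (C : Subalgebra A B) (b : B) :
    b ∈ (C.val : C →+* B).range ↔ b ∈ C :=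
  ⟨fun ⟨x, hx⟩ => hx ▸ x.2, fun h => ⟨⟨b, h⟩, rfl⟩⟩

theorem ringUH_val (hU : RingUH (algebraMap A B)) (C : Subalgebra A B) :
    RingUH (C.val : C →+* B) :=
  RingUH.of_comp_right (algebraMap A C) (C.val : C →+* B) Subtype.val_injective hU

/-- a universal homeomorphism is exhausted by square-cube-or-prime towers -/
theorem reach_eq_top_of_ringUH (hU : RingUH (algebraMap A B)) :
    reach (A := A) (B := B) StepSCP stepSCP_mono = ⊤ := by
  by_contra hne
  set C := reach (A := A) (B := B) StepSCP stepSCP_mono with hC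
  have hns : ¬ Function.Surjective (C.val : C →+* B) := by
    intro h
    apply hne
    rw [eq_top_iff]
    intro b _
    obtain ⟨x, rfl⟩ := h b
    exact x.2
  rcases exists_sq_cube_or_prime (C.val : C →+* B) (ringUH_val hU C) hns with
    ⟨b, hb, h2, h3⟩ | ⟨p, b, hp, hb, h2, h3⟩
  · rw [mem_range_val_iff] at hb h2 h3
    exact hb (reach_closed stepSCP_mono stepSCP_fin b (Or.inl ⟨h2, h3⟩))
  · rw [mem_range_val_iff] at hb h2 h3
    exact hb (reach_closed stepSCP_mono stepSCP_fin b (Or.inr ⟨p, hp, h2, h3⟩))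

/-- a universal homeomorphism with trivial residue field extensions is exhausted by
square-cube towers -/
theorem reach_eq_top_of_ringUH_resSurj (hU : RingUH (algebraMap A B))
    (hres : ResSurj (algebraMap A B)) :
    reach (A := A) (B := B) StepSC stepSC_mono = ⊤ := by
  by_contra hne
  set C := reach (A := A) (B := B) StepSC stepSC_mono with hC
  have hns : ¬ Function.Surjective (C.val : C →+* B) := by
    intro h
    apply hne
    rw [eq_top_iff]
    intro b _
    obtain ⟨x, rfl⟩ := h b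
    exact x.2
  have hres' : ResSurj (C.val : C →+* B) :=
    ResSurj.of_comp_right (φ := algebraMap A C) (ψ := (C.val : C →+* B)) hres
  obtain ⟨b, hb, h2, h3⟩ := exists_sq_cube (C.val : C →+* B) (ringUH_val hU C) hres' hns
  rw [mem_range_val_iff] at hb h2 h3
  exact hb (reach_closed stepSC_mono stepSC_fin b ⟨h2, h3⟩)

theorem stepClosed_eq_top {Step : Subalgebra A B → B → Prop}
    (hmono : ∀ S S' b, S ≤ S' → Step S b → Step S' b)
    (htop : reach Step hmono = ⊤) (S : Subalgebra A B) (hS : ∀ b, Step S b → b ∈ S) : S = ⊤ := by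
  rw [eq_top_iff]
  intro b _
  have hb : b ∈ reach Step hmono := by rw [htop]; exact Algebra.mem_top
  obtain ⟨l, hl, hbl⟩ := hb
  exact hl.listAdjoin_le hmono S hS hbl

theorem integralClosure_stepClosed (b : B) (hb : StepSCP (integralClosure A B) b) :
    b ∈ integralClosure A B := by
  rcases hb with ⟨h2, -⟩ | ⟨p, hp, -, h2⟩
  · exact IsIntegral.of_pow (by norm_num : 0 < 2) h2
  · exact IsIntegral.of_pow hp.pos h2

theorem equalizer_stepClosed {K : Type u} [Field K] [Algebra A K] (τ₁ τ₂ : B →ₐ[A] K) (b : B)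
    (hb : StepSCP (AlgHom.equalizer τ₁ τ₂) b) : b ∈ AlgHom.equalizer τ₁ τ₂ := by
  rw [AlgHom.mem_equalizer]
  rcases hb with ⟨h2, h3⟩ | ⟨p, hp, h1, h2⟩
  · rw [AlgHom.mem_equalizer] at h2 h3
    apply eq_of_sq_eq_cube_eq
    · rw [← map_pow, ← map_pow, h2]
    · rw [← map_pow, ← map_pow, h3]
  · rw [AlgHom.mem_equalizer] at h1 h2
    apply eq_of_pow_eq_mul_eq hp
    · rw [← map_pow, ← map_pow, h2]
    · have e1 : τ₁ ((p : B) * b) = (p : K) * τ₁ b := by rw [map_mul, map_natCast]
      have e2 : τ₂ ((p : B) * b) = (p : K) * τ₂ b := by rw [map_mul, map_natCast]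
      rw [← e1, ← e2, h1]

/-- a ring exhausted by square-cube-or-prime towers over a subring is a universal
homeomorphism -/
theorem ringUH_of_reach_eq_top (hinj : Function.Injective (algebraMap A B))
    {Step : Subalgebra A B → B → Prop} (hmono : ∀ S S' b, S ≤ S' → Step S b → Step S' b)
    (hstep : ∀ S b, Step S b → StepSCP S b)
    (htop : reach Step hmono = ⊤) : RingUH (algebraMap A B) := by
  have hint : (algebraMap A B).IsIntegral := by
    have h := stepClosed_eq_top hmono htop (integralClosure A B)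
      (fun b hb => integralClosure_stepClosed b (hstep _ _ hb))
    intro b
    have : b ∈ integralClosure A B := by rw [h]; exact Algebra.mem_top
    exact this
  refine ⟨hint, ?_, comap_surjective_of_injective_of_isIntegral _ hint hinj⟩
  intro K _ σ₁ σ₂ e
  letI : Algebra A K := (σ₁.comp (algebraMap A B)).toAlgebra
  let τ₁ : B →ₐ[A] K := { σ₁ with commutes' := fun a => rfl }
  let τ₂ : B →ₐ[A] K := { σ₂ with commutes' := fun a => (congrArg (fun f => f a) e).symm }
  have h := stepClosed_eq_top hmono htop (AlgHom.equalizer τ₁ τ₂)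
    (fun b hb => equalizer_stepClosed τ₁ τ₂ b (hstep _ _ hb))
  ext b
  have : b ∈ AlgHom.equalizer τ₁ τ₂ := by rw [h]; exact Algebra.mem_top
  exact this

/-- elements whose residue class at `x` comes from the residue field below -/
noncomputable def resSubalgebra (x : Spec (CommRingCat.of B)) : Subalgebra A B :=
  { (Subring.comap (ev B x)
      ((Spec.map (CommRingCat.ofHom (algebraMap A B))).residueFieldMap x).hom.range).toSubsemiring with
    algebraMap_mem' := fun r => ⟨ev A _ r, ev_naturality _ x r⟩ }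

theorem mem_resSubalgebra (x : Spec (CommRingCat.of B)) (b : B) :
    b ∈ resSubalgebra (A := A) x ↔ ev B x b ∈
      ((Spec.map (CommRingCat.ofHom (algebraMap A B))).residueFieldMap x).hom.range := Iff.rfl

theorem resSubalgebra_stepClosed (x : Spec (CommRingCat.of B)) (b : B)
    (hb : StepSC (resSubalgebra (A := A) x) b) : b ∈ resSubalgebra (A := A) x := by
  obtain ⟨h2, h3⟩ := hb
  rw [mem_resSubalgebra] at h2 h3 ⊢
  obtain ⟨u, hu⟩ := h2
  obtain ⟨v, hv⟩ := h3
  rw [map_pow] at hu hv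
  by_cases hz : ev B x b = 0
  · rw [hz]; exact Subring.zero_mem _
  · refine ⟨v / u, ?_⟩
    rw [map_div₀, hu, hv]
    field_simp

theorem resSurj_of_reach_eq_top (htop : reach (A := A) (B := B) StepSC stepSC_mono = ⊤) :
    ResSurj (algebraMap A B) := by
  intro q hq b
  let x : Spec (CommRingCat.of B) := ⟨q, hq⟩
  have h := stepClosed_eq_top stepSC_mono htop (resSubalgebra (A := A) x)
    (resSubalgebra_stepClosed x)
  have hb : b ∈ resSubalgebra (A := A) x := by rw [h]; exact Algebra.mem_top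
  exact (ev_mem_range_iff (algebraMap A B) x b).mp ((mem_resSubalgebra x b).mp hb)

end Groth.Agent.H37
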