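import Groth.Agent.H37.VCover2

set_option autoImplicit false
universe w w' u
open CategoryTheory CategoryTheory.Limits AlgebraicGeometry

namespace Groth.Agent.H37

/-- re-indexing a standard V covering along an equivalence -/
theorem standardV_reindex {T : Scheme.{u}} (E : PreZeroHypercover.{w} T) (hE : HTop.IsStandardV E)
    {ι : Type w'} (e : ι ≃ E.I₀) : HTop.IsStandardV (E.reindex e) := by
  have := hE.finite_index
  refine ⟨hE.isAffine, Finite.of_equiv _ e.symm, fun j => hE.isAffine_obj (e j), ?_⟩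
  intro V _ _ g
  obtain ⟨W, hW1, hW2, φ, hφ, j, g', hg'⟩ := hE.lift V g
  obtain ⟨j', rfl⟩ := e.surjective j
  exact ⟨W, hW1, hW2, φ, hφ, j', g', hg'⟩

/-- a standard V covering is a V covering -/
theorem standardV_isVCover {T : Scheme.{u}} (E : PreZeroHypercover.{w} T) (hE : HTop.IsStandardV E) :
    HTop.IsVCover E := by
  intro U
  haveI : IsAffine ((U : T.Opens) : Scheme.{u}) := U.2
  have hfin := hE.finite_index
  obtain ⟨n, ⟨e⟩⟩ := Finite.exists_equiv_fin E.I₀
  have h1 := standardV_pullback (U : T.Opens).ι E hE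
  refine ⟨(E.pullback₁ (U : T.Opens).ι).reindex (ι := Fin n) e.symm,
    standardV_reindex _ h1 _, ?_⟩
  intro j
  refine ⟨e.symm j, pullback.snd (U : T.Opens).ι (E.f (e.symm j)), ?_⟩
  show pullback.snd (U : T.Opens).ι (E.f (e.symm j)) ≫ E.f (e.symm j) =
    pullback.fst (U : T.Opens).ι (E.f (e.symm j)) ≫ (U : T.Opens).ι
  exact pullback.condition.symm

/-- a refinement of a V covering by a V covering: if a V covering `E` factors through `E'` then
`E'` is a V covering -/
theorem isVCover_of_hom {T : Scheme.{u}} (E : PreZeroHypercover.{w} T) (E' : PreZeroHypercover.{w'} T)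
    (hE : HTop.IsVCover E) (h : ∀ i, ∃ (i' : E'.I₀) (k : E.X i ⟶ E'.X i'), k ≫ E'.f i' = E.f i) :
    HTop.IsVCover E' := by
  intro U
  obtain ⟨G, hG1, hG2⟩ := hE U
  refine ⟨G, hG1, ?_⟩
  intro j
  obtain ⟨i, k, hk⟩ := hG2 j
  obtain ⟨i', k', hk'⟩ := h i
  exact ⟨i', k ≫ k', by rw [Category.assoc, hk', hk]⟩

/-- base change of a V covering -/
theorem isVCover_pullback {T T' : Scheme.{u}} (g : T' ⟶ T) (E : PreZeroHypercover.{w} T)
    (hE : HTop.IsVCover E) : HTop.IsVCover (E.pullback₁ g) := by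
  intro U'
  haveI : IsAffine ((U' : T'.Opens) : Scheme.{u}) := U'.2
  obtain ⟨H, hH1, hH2⟩ := exists_standardV_refinesOver ((U' : T'.Opens).ι ≫ g) E hE
  refine ⟨H, hH1, ?_⟩
  intro j
  obtain ⟨i, k, hk⟩ := hH2 j
  refine ⟨i, pullback.lift (H.f j ≫ (U' : T'.Opens).ι) k (by rw [hk, Category.assoc]), ?_⟩
  show pullback.lift (H.f j ≫ (U' : T'.Opens).ι) k _ ≫ pullback.fst g (E.f i) =
    H.f j ≫ (U' : T'.Opens).ι
  exact pullback.lift_fst _ _ _

/-- a jointly surjective family of open immersions can be refined by a standard V covering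
over any affine scheme -/
theorem exists_standardV_refinesOver_of_openImmersions {X T : Scheme.{u}} [IsAffine X] (f : X ⟶ T)
    (E : PreZeroHypercover.{w} T)
    (hopen : ∀ j, IsOpenImmersion (E.f j)) (hsurj : ∀ t : T, ∃ j, t ∈ Set.range (E.f j)) :
    ∃ H : PreZeroHypercover.{0} X, HTop.IsStandardV H ∧ HTop.RefinesOver f H E := by
  have h1 : ∀ x : X, ∃ (j : E.I₀) (D : X.affineOpens), x ∈ (D : X.Opens) ∧
      (D : X.Opens) ≤ f ⁻¹ᵁ (E.f j).opensRange := by
    intro x
    obtain ⟨j, hj⟩ := hsurj (f x)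
    obtain ⟨_, ⟨D, hD, rfl⟩, hxD, hDW⟩ := X.isBasis_affineOpens.exists_subset_of_mem_open
      (show x ∈ ((f ⁻¹ᵁ (E.f j).opensRange : X.Opens) : Set X) from hj)
      (f ⁻¹ᵁ (E.f j).opensRange).2
    exact ⟨j, ⟨D, hD⟩, hxD, hDW⟩
  choose jx D hxD hDW using h1
  obtain ⟨t, ht⟩ := isCompact_univ.elim_finite_subcover
    (fun x : X => ((D x : X.Opens) : Set X)) (fun x => (D x : X.Opens).2)
    (fun x _ => Set.mem_iUnion.mpr ⟨x, hxD x⟩)
  let e := t.equivFin.symm
  let pt : Fin t.card → X := fun a => (e a).1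
  let O : PreZeroHypercover.{0} X :=
    { I₀ := Fin t.card
      X := fun a => ((D (pt a) : X.Opens) : Scheme.{u})
      f := fun a => (D (pt a) : X.Opens).ι }
  have hOaff : ∀ a, IsAffine (O.X a) := fun a => (D (pt a)).2
  have hO : HTop.IsStandardV O := by
    refine standardV_of_openImmersions O inferInstance hOaff
      (fun a => (inferInstance : IsOpenImmersion (D (pt a) : X.Opens).ι)) ?_
    intro x
    have hx := ht (Set.mem_univ x)
    simp only [Set.mem_iUnion] at hx
    obtain ⟨y, hyt, hxy⟩ := hx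
    refine ⟨e.symm ⟨y, hyt⟩, ?_⟩
    show x ∈ Set.range (D (pt (e.symm ⟨y, hyt⟩)) : X.Opens).ι
    rw [Scheme.Opens.range_ι]
    have : pt (e.symm ⟨y, hyt⟩) = y := by
      show (e (e.symm ⟨y, hyt⟩)).1 = y
      rw [Equiv.apply_symm_apply]
    rw [this]
    exact hxy
  refine ⟨O, hO, ?_⟩
  intro a
  have := hopen (jx (pt a))
  have hrange : Set.range ((D (pt a) : X.Opens).ι ≫ f) ⊆ Set.range (E.f (jx (pt a))) := by
    rintro _ ⟨z, rfl⟩
    have hz : (D (pt a) : X.Opens).ι z ∈ (D (pt a) : X.Opens) := by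
      have := Set.mem_range_self (f := (D (pt a) : X.Opens).ι) z
      rwa [Scheme.Opens.range_ι] at this
    exact hDW (pt a) hz
  exact ⟨jx (pt a), IsOpenImmersion.lift (E.f (jx (pt a))) ((D (pt a) : X.Opens).ι ≫ f) hrange,
    IsOpenImmersion.lift_fac _ _ _⟩

/-- a jointly surjective family of open immersions is a V covering -/
theorem isVCover_of_openImmersions {T : Scheme.{u}} (E : PreZeroHypercover.{w} T)
    (hopen : ∀ j, IsOpenImmersion (E.f j)) (hsurj : ∀ t : T, ∃ j, t ∈ Set.range (E.f j)) :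
    HTop.IsVCover E := by
  intro U
  haveI : IsAffine ((U : T.Opens) : Scheme.{u}) := U.2
  exact exists_standardV_refinesOver_of_openImmersions (U : T.Opens).ι E hopen hsurj

end Groth.Agent.H37
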