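import Mathlib
import Groth.Prelude.Def_HTop
import Groth.Agent.H90.ValLift3

set_option autoImplicit false

universe w u

namespace Groth.Agent.H37.VLim

open CategoryTheory CategoryTheory.Limits AlgebraicGeometry IsLocalRing

section ring

variable {V C : Type*} [CommRing V] [IsLocalRing V] [CommRing C]

/-- `1 ∈ 𝔪 C + (V-torsion of C)`. -/
def Bad (φ : V →+* C) : Prop :=
  ∃ v : V, v ≠ 0 ∧ ∃ c ∈ Ideal.map φ (maximalIdeal V), φ v * (1 - c) = 0

/-- the ideal of `V`-torsion elements -/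
def torsIdeal [IsDomain V] (φ : V →+* C) : Ideal C where
  carrier := {c | ∃ v : V, v ≠ 0 ∧ φ v * c = 0}
  zero_mem' := ⟨1, one_ne_zero, by simp⟩
  add_mem' := by
    rintro a b ⟨v, hv, hva⟩ ⟨w, hw, hwb⟩
    refine ⟨v * w, mul_ne_zero hv hw, ?_⟩
    rw [map_mul, mul_add]
    have h1 : φ v * φ w * a = φ w * (φ v * a) := by ring
    have h2 : φ v * φ w * b = φ v * (φ w * b) := by ring
    rw [h1, h2, hva, hwb]; simp
  smul_mem' := by
    rintro x a ⟨v, hv, hva⟩
    refine ⟨v, hv, ?_⟩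
    rw [smul_eq_mul]
    have : φ v * (x * a) = x * (φ v * a) := by ring
    rw [this, hva, mul_zero]

theorem exists_primes_of_not_bad [IsDomain V] (φ : V →+* C) (h : ¬ Bad φ) :
    ∃ q' q : Ideal C, q'.IsPrime ∧ q.IsPrime ∧ q' ≤ q ∧ q.comap φ = maximalIdeal V ∧
      q'.comap φ = ⊥ := by
  classical
  set T := torsIdeal φ with hT
  set J := Ideal.map φ (maximalIdeal V) ⊔ T with hJ
  have hJne : J ≠ ⊤ := by
    intro htop
    have h1 : (1 : C) ∈ J := by rw [htop]; trivial
    obtain ⟨c, hc, t, ⟨v, hv, hvt⟩, hct⟩ := Submodule.mem_sup.mp h1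
    apply h
    refine ⟨v, hv, c, hc, ?_⟩
    have : (1 : C) - c = t := by rw [← hct]; ring
    rw [this, hvt]
  obtain ⟨q, hqmax, hJq⟩ := Ideal.exists_le_maximal J hJne
  have hqprime : q.IsPrime := hqmax.isPrime
  have hcomap : q.comap φ = maximalIdeal V := by
    have hle : maximalIdeal V ≤ q.comap φ := by
      rw [← Ideal.map_le_iff_le_comap]
      exact le_trans le_sup_left hJq
    have hne : q.comap φ ≠ ⊤ := (Ideal.IsPrime.comap φ).ne_top
    exact ((maximalIdeal.isMaximal V).eq_of_le hne hle).symm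
  let S : Submonoid C := Submonoid.map (φ : V →* C) (nonZeroDivisors V) ⊔ q.primeCompl
  have hdisj : Disjoint ((⊥ : Ideal C) : Set C) (S : Set C) := by
    rw [Set.disjoint_left]
    intro x hx hxS
    have hx0 : x = 0 := by simpa using hx
    subst hx0
    obtain ⟨y, ⟨v, hv, rfl⟩, z, hz, hyz⟩ := Submonoid.mem_sup.mp hxS
    have hv0 : v ≠ 0 := nonZeroDivisors.ne_zero hv
    have hzT : z ∈ T := ⟨v, hv0, hyz⟩
    exact hz (hJq (Ideal.mem_sup_right hzT))
  obtain ⟨q', hq'prime, -, hq'S⟩ := Ideal.exists_le_prime_disjoint ⊥ S hdisj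
  refine ⟨q', q, hq'prime, hqprime, ?_, hcomap, ?_⟩
  · intro x hx
    by_contra hxq
    have : x ∈ S := (le_sup_right : q.primeCompl ≤ S) hxq
    exact Set.disjoint_left.mp hq'S hx this
  · rw [eq_bot_iff]
    intro v hv
    by_contra hv0
    have hv0' : v ≠ 0 := by simpa using hv0
    have hmem : φ v ∈ S := (le_sup_left : Submonoid.map (φ : V →* C) (nonZeroDivisors V) ≤ S)
      ⟨v, mem_nonZeroDivisors_of_ne_zero hv0', rfl⟩
    exact Set.disjoint_left.mp hq'S hv hmem

theorem not_bad_of_hom {W : Type*} [CommRing W] [IsDomain W] [IsLocalRing W] (φ : V →+* C)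
    (l : C →+* W) (hinj : Function.Injective (l.comp φ)) (hloc : IsLocalHom (l.comp φ)) :
    ¬ Bad φ := by
  rintro ⟨v, hv, c, hc, hvc⟩
  have h1 : l (φ v) * (1 - l c) = 0 := by
    have := congrArg l hvc
    simpa using this
  have hne : l (φ v) ≠ 0 := by
    intro h0
    apply hv
    apply hinj
    simpa using h0
  have h2 : (1 : W) - l c = 0 := (mul_eq_zero.mp h1).resolve_left hne
  have h3 : l c ∈ maximalIdeal W := by
    have : l c ∈ Ideal.map l (Ideal.map φ (maximalIdeal V)) := Ideal.mem_map_of_mem l hc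
    rw [Ideal.map_map] at this
    exact IsLocalRing.map_maximalIdeal_le (l.comp φ) this
  have h4 : (1 : W) ∈ maximalIdeal W := by
    have : (1 : W) = l c := by linear_combination h2
    rw [this]; exact h3
  exact (Ideal.ne_top_iff_one _).mp (maximalIdeal.isMaximal W).ne_top h4

end ring

section scheme

variable {V : CommRingCat.{u}}

/-- the ring map `V → Γ(P, ⊤)` attached to `a : P ⟶ Spec V` -/
noncomputable def φOf {P : Scheme.{u}} (a : P ⟶ Spec V) : V →+* Γ(P, ⊤) :=
  ((Scheme.ΓSpecIso V).inv ≫ a.appTop).hom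

theorem φOf_comp {P Q : Scheme.{u}} (h : Q ⟶ P) (a : P ⟶ Spec V) :
    φOf (h ≫ a) = h.appTop.hom.comp (φOf a) := by
  unfold φOf
  rw [Scheme.Hom.comp_appTop]
  rfl

theorem φOf_specMap {W : CommRingCat.{u}} (φ : V ⟶ W) :
    φOf (Spec.map φ) = (Scheme.ΓSpecIso W).inv.hom.comp φ.hom := by
  unfold φOf
  rw [← Scheme.ΓSpecIso_inv_naturality]
  rfl

theorem isoSpec_inv_comp {P : Scheme.{u}} [IsAffine P] (a : P ⟶ Spec V) :
    P.isoSpec.inv ≫ a = Spec.map (CommRingCat.ofHom (φOf a)) := by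
  have h1 := Scheme.isoSpec_inv_naturality a
  rw [← h1, Scheme.isoSpec_Spec_inv, ← Spec.map_comp]
  rfl

theorem not_bad_of_lift [IsDomain V] [ValuationRing V] {P : Scheme.{u}} (a : P ⟶ Spec V)
    (W : CommRingCat.{u}) [IsDomain W] [ValuationRing W] (φ : V ⟶ W)
    (hφ : HTop.IsExtVal V W φ) (l : Spec W ⟶ P) (hl : l ≫ a = Spec.map φ) :
    ¬ Bad (φOf a) := by
  have key : ((l.appTop ≫ (Scheme.ΓSpecIso W).hom).hom).comp (φOf a) = φ.hom := by
    have h1 := φOf_comp l a
    rw [hl, φOf_specMap] at h1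
    ext v
    have h2 := congrArg (fun r : V →+* Γ(Spec W, ⊤) => (Scheme.ΓSpecIso W).hom.hom (r v)) h1
    simp only [RingHom.comp_apply] at h2
    simp only [RingHom.comp_apply, CommRingCat.hom_comp]
    rw [← h2]
    change ((Scheme.ΓSpecIso W).inv ≫ (Scheme.ΓSpecIso W).hom).hom (φ.hom v) = _
    rw [Iso.inv_hom_id]
    rfl
  apply not_bad_of_hom (φOf a) ((l.appTop ≫ (Scheme.ΓSpecIso W).hom).hom)
  · rw [key]; exact hφ.1
  · rw [key]; exact hφ.2

theorem exists_specializes_of_not_bad [IsDomain V] [IsLocalRing V] {P : Scheme.{u}} [IsAffine P]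
    (a : P ⟶ Spec V) (h : ¬ Bad (φOf a)) :
    ∃ p p' : P, p' ⤳ p ∧ a p = closedPoint V ∧
      a p' = (⟨⊥, Ideal.isPrime_bot⟩ : PrimeSpectrum V) := by
  obtain ⟨q', q, hq', hq, hle, hcq, hcq'⟩ := exists_primes_of_not_bad (φOf a) h
  let x : Spec Γ(P, ⊤) := (⟨q, hq⟩ : PrimeSpectrum Γ(P, ⊤))
  let x' : Spec Γ(P, ⊤) := (⟨q', hq'⟩ : PrimeSpectrum Γ(P, ⊤))
  have hxx : x' ⤳ x := (PrimeSpectrum.le_iff_specializes
    (⟨q', hq'⟩ : PrimeSpectrum Γ(P, ⊤)) ⟨q, hq⟩).mp hle
  refine ⟨P.isoSpec.inv x, P.isoSpec.inv x', hxx.map P.isoSpec.inv.continuous, ?_, ?_⟩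
  · rw [← Scheme.Hom.comp_apply, isoSpec_inv_comp]
    apply PrimeSpectrum.ext
    exact hcq
  · rw [← Scheme.Hom.comp_apply, isoSpec_inv_comp]
    apply PrimeSpectrum.ext
    exact hcq'

section colim

variable {I : Type u} [SmallCategory I] [IsCofiltered I] (D : I ⥤ Over (Spec V))
  [∀ i, IsAffine (D.obj i).left] (c : Cone D) (hc : IsLimit ((Over.forget (Spec V)).mapCone c))

theorem φOf_π (i : I) :
    (c.π.app i).left.appTop.hom.comp (φOf (D.obj i).hom) = φOf c.pt.hom := by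
  rw [← φOf_comp, Over.w]
  rfl

theorem φOf_map {i j : I} (f : j ⟶ i) :
    (D.map f).left.appTop.hom.comp (φOf (D.obj i).hom) = φOf (D.obj j).hom := by
  rw [← φOf_comp, Over.w]

theorem π_map_apply {i j : I} (f : j ⟶ i) (y : Γ((D.obj i).left, ⊤)) :
    (c.π.app j).left.appTop ((D.map f).left.appTop y) = (c.π.app i).left.appTop y := by
  have h1 : c.π.app j ≫ D.map f = c.π.app i := c.w f
  have h2 : (c.π.app j).left ≫ (D.map f).left = (c.π.app i).left := by
    rw [← Over.comp_left, h1]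
  rw [← h2, Scheme.Hom.comp_appTop]
  rfl

variable [IsLocalRing V]

theorem mem_map_of_map {i j : I} (f : j ⟶ i) (y : Γ((D.obj i).left, ⊤))
    (hy : y ∈ Ideal.map (φOf (D.obj i).hom) (maximalIdeal V)) :
    (D.map f).left.appTop y ∈ Ideal.map (φOf (D.obj j).hom) (maximalIdeal V) := by
  have := Ideal.mem_map_of_mem (D.map f).left.appTop.hom hy
  rw [Ideal.map_map, φOf_map] at this
  exact this

include hc in
theorem exists_lift_mem_map (x : Γ(c.pt.left, ⊤))
    (hx : x ∈ Ideal.map (φOf c.pt.hom) (maximalIdeal V)) :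
    ∃ (i : I) (y : Γ((D.obj i).left, ⊤)), y ∈ Ideal.map (φOf (D.obj i).hom) (maximalIdeal V) ∧
      (c.π.app i).left.appTop y = x := by
  obtain ⟨i₀⟩ := IsCofiltered.nonempty (C := I)
  haveI : ∀ i, IsAffine ((D ⋙ Over.forget (Spec V)).obj i) := fun i =>
    inferInstanceAs (IsAffine (D.obj i).left)
  unfold Ideal.map at hx
  induction hx using Submodule.span_induction with
  | mem x hx =>
    obtain ⟨v, hv, rfl⟩ := hx
    refine ⟨i₀, φOf (D.obj i₀).hom v, Ideal.mem_map_of_mem _ hv, ?_⟩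
    have := congrArg (fun r : V →+* Γ(c.pt.left, ⊤) => r v) (φOf_π D c i₀)
    exact this
  | zero => exact ⟨i₀, 0, Ideal.zero_mem _, map_zero _⟩
  | add x y _ _ hx hy =>
    obtain ⟨i, x', hx', rfl⟩ := hx
    obtain ⟨j, y', hy', rfl⟩ := hy
    refine ⟨IsCofiltered.min i j,
      (D.map (IsCofiltered.minToLeft i j)).left.appTop x' +
        (D.map (IsCofiltered.minToRight i j)).left.appTop y',
      Ideal.add_mem _ (mem_map_of_map D _ _ hx') (mem_map_of_map D _ _ hy'), ?_⟩
    rw [map_add, π_map_apply, π_map_apply]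
  | smul a x _ hx =>
    obtain ⟨i, x', hx', rfl⟩ := hx
    obtain ⟨j, a'', ha''⟩ := exists_appTop_π_eq_of_isAffine_of_isLimit
      (D ⋙ Over.forget (Spec V)) _ hc a
    let a' : Γ((D.obj j).left, ⊤) := a''
    have ha' : (c.π.app j).left.appTop a' = a := ha''
    refine ⟨IsCofiltered.min i j,
      (D.map (IsCofiltered.minToRight i j)).left.appTop a' *
        (D.map (IsCofiltered.minToLeft i j)).left.appTop x',
      Ideal.mul_mem_left _ _ (mem_map_of_map D _ _ hx'), ?_⟩
    rw [map_mul, π_map_apply, π_map_apply, ha']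
    rfl

include hc in
theorem exists_bad_stage (hbad : Bad (φOf c.pt.hom)) : ∃ i, Bad (φOf (D.obj i).hom) := by
  obtain ⟨v, hv, x, hx, hvx⟩ := hbad
  haveI : ∀ i, IsAffine ((D ⋙ Over.forget (Spec V)).obj i) := fun i =>
    inferInstanceAs (IsAffine (D.obj i).left)
  obtain ⟨i, y, hy, rfl⟩ := exists_lift_mem_map D c hc x hx
  let e : Γ((D.obj i).left, ⊤) := φOf (D.obj i).hom v * (1 - y)
  have he : (c.π.app i).left.appTop e = 0 := by
    have h1 : (c.π.app i).left.appTop (φOf (D.obj i).hom v) = φOf c.pt.hom v :=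
      congrArg (fun r : V →+* Γ(c.pt.left, ⊤) => r v) (φOf_π D c i)
    simp only [e, map_mul, map_sub, map_one]
    rw [h1]
    exact hvx
  obtain ⟨j, f, hj⟩ := exists_appTop_map_eq_zero_of_isAffine_of_isLimit
    (D ⋙ Over.forget (Spec V)) _ hc i e he
  refine ⟨j, v, hv, (D.map f).left.appTop y, mem_map_of_map D f y hy, ?_⟩
  have h2 : (D.map f).left.appTop (φOf (D.obj i).hom v) = φOf (D.obj j).hom v :=
    congrArg (fun r : V →+* Γ((D.obj j).left, ⊤) => r v) (φOf_map D f)
  have hj' : (D.map f).left.appTop e = 0 := hj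
  simp only [e, map_mul, map_sub, map_one] at hj'
  rw [h2] at hj'
  exact hj'

end colim

end scheme

section main

variable {Y : Scheme.{u}} {I : Type u} [SmallCategory I] [IsCofiltered I]
  (D : I ⥤ Over Y) [∀ i, IsAffine (D.obj i).left] (c : Cone D)
  (hc : IsLimit ((Over.forget Y).mapCone c))

include hc in
/-- valuation lifting passes to cofiltered limits of affine schemes over an affine base -/
theorem vl_of_stages [IsAffine Y] (H : ∀ i, H90.VL (D.obj i).hom) : H90.VL c.pt.hom := by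
  intro V _ _ g
  haveI : IsConnected I := IsCofiltered.isConnected I
  have hcO : IsLimit c := isLimitOfReflects (Over.forget Y) hc
  let D' : I ⥤ Over (Spec V) := D ⋙ Over.pullback g
  let c' : Cone D' := (Over.pullback g).mapCone c
  have hc' : IsLimit c' := isLimitOfPreserves (Over.pullback g) hcO
  have hc'' : IsLimit ((Over.forget (Spec V)).mapCone c') :=
    isLimitOfPreserves (Over.forget (Spec V)) hc'
  haveI : ∀ i, IsAffine (D'.obj i).left := fun i =>
    inferInstanceAs (IsAffine (pullback (D.obj i).hom g))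
  have hstage : ∀ i, ¬ Bad (φOf (D'.obj i).hom) := by
    intro i
    obtain ⟨W, hW1, hW2, φ, hφ, g', hg'⟩ := H i V g
    exact not_bad_of_lift (D'.obj i).hom W φ hφ (pullback.lift g' (Spec.map φ) hg')
      (pullback.lift_snd _ _ _)
  have hlim : ¬ Bad (φOf c'.pt.hom) := fun hb => by
    obtain ⟨i, hi⟩ := exists_bad_stage D' c' hc'' hb
    exact hstage i hi
  haveI : ∀ i, IsAffine ((D' ⋙ Over.forget (Spec V)).obj i) := fun i =>
    inferInstanceAs (IsAffine (D'.obj i).left)
  haveI : IsAffine c'.pt.left :=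
    Scheme.isAffine_of_isLimit ((Over.forget (Spec V)).mapCone c') hc''
  obtain ⟨p, p', hpp, hp, hp'⟩ := exists_specializes_of_not_bad c'.pt.hom hlim
  obtain ⟨W, hW1, hW2, φ, h, hφ, hh, -⟩ :=
    H90.exists_extVal_lift V c'.pt.hom p p' hpp hp hp'
  let h' : Spec W ⟶ pullback c.pt.hom g := h
  have hh' : h' ≫ pullback.snd c.pt.hom g = Spec.map φ := hh
  refine ⟨W, hW1, hW2, φ, hφ, h' ≫ pullback.fst c.pt.hom g, ?_⟩
  rw [Category.assoc, pullback.condition, ← Category.assoc, hh']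

end main

end Groth.Agent.H37.VLim
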