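import Groth.Agent.H37.VCover3
import Mathlib.AlgebraicGeometry.Sites.BigZariski

set_option autoImplicit false
set_option linter.deprecated false
universe w w' u
open CategoryTheory CategoryTheory.Limits AlgebraicGeometry Opposite

namespace Groth.Agent.H37

/-- the presieve of all affine opens of a scheme -/
def affPresieve (Y : Scheme.{u}) : Presieve Y :=
  Presieve.ofArrows (fun U : Y.affineOpens => ((U : Y.Opens) : Scheme.{u}))
    (fun U => (U : Y.Opens).ι)

theorem generate_affPresieve_mem (Y : Scheme.{u}) :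
    Sieve.generate (affPresieve Y) ∈ Scheme.zariskiTopology Y :=
  (Y.openCoverOfIsOpenCover _ (iSup_affineOpens_eq_top Y)).mem_grothendieckTopology

variable (F : Scheme.{u}ᵒᵖ ⥤ Type w)

/-- the sheaf condition for standard V coverings indexed in any universe -/
theorem standardV_isSheafFor
    (hV : ∀ (T : Scheme.{u}) (E : PreZeroHypercover.{u} T), HTop.IsStandardV E →
      Presieve.IsSheafFor F E.presieve₀)
    {T : Scheme.{u}} (G : PreZeroHypercover.{w'} T) (hG : HTop.IsStandardV G) :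
    Presieve.IsSheafFor F G.presieve₀ := by
  have hfin := hG.finite_index
  obtain ⟨n, ⟨e⟩⟩ := Finite.exists_equiv_fin G.I₀
  let e' : ULift.{u} (Fin n) ≃ G.I₀ := Equiv.ulift.trans e.symm
  have := hV T (G.reindex e') (standardV_reindex G hG e')
  rwa [PreZeroHypercover.presieve₀_reindex] at this

theorem famElem_congr {Y : Scheme.{u}} {R : Presieve Y} (x : Presieve.FamilyOfElements F R)
    {Z : Scheme.{u}} {f₁ f₂ : Z ⟶ Y} (e : f₁ = f₂) (h₁ : R f₁) (h₂ : R f₂) : x f₁ h₁ = x f₂ h₂ := by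
  subst e
  rfl

/-- separatedness for sieves containing a V covering -/
theorem isSeparatedFor_of_isVCover (hZ : Presieve.IsSheaf Scheme.zariskiTopology F)
    (hV : ∀ (T : Scheme.{u}) (E : PreZeroHypercover.{u} T), HTop.IsStandardV E →
      Presieve.IsSheafFor F E.presieve₀)
    {Z : Scheme.{u}} (E : PreZeroHypercover.{w'} Z) (hE : HTop.IsVCover E) (S : Sieve Z)
    (hS : ∀ i, S (E.f i)) : Presieve.IsSeparatedFor F (S : Presieve Z) := by
  intro x t₁ t₂ h₁ h₂
  have hsepZ : Presieve.IsSeparatedFor F (affPresieve Z) :=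
    ((Presieve.isSheafFor_iff_generate _).mpr (hZ _ (generate_affPresieve_mem Z))).isSeparatedFor
  apply hsepZ.ext
  rintro _ _ ⟨U⟩
  obtain ⟨G, hG1, hG2⟩ := hE U
  have hsepG := (standardV_isSheafFor F hV G hG1).isSeparatedFor
  apply hsepG.ext
  rintro _ _ ⟨j⟩
  obtain ⟨i, k, hk⟩ := hG2 j
  have key : ∀ t, x.IsAmalgamation t →
      F.map (G.f j).op (F.map (U : Z.Opens).ι.op t) = F.map k.op (x (E.f i) (hS i)) := by
    intro t ht
    rw [← FunctorToTypes.map_comp_apply, ← op_comp, ← hk, op_comp,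
      FunctorToTypes.map_comp_apply, ht (E.f i) (hS i)]
  rw [key t₁ h₁, key t₂ h₂]

/-- the sheaf condition for sieves containing a V covering -/
theorem isSheafFor_of_isVCover (hZ : Presieve.IsSheaf Scheme.zariskiTopology F)
    (hV : ∀ (T : Scheme.{u}) (E : PreZeroHypercover.{u} T), HTop.IsStandardV E →
      Presieve.IsSheafFor F E.presieve₀)
    {Y₀ : Scheme.{u}} (E : PreZeroHypercover.{w'} Y₀) (hE : HTop.IsVCover E) (S : Sieve Y₀)
    (hS : ∀ i, S (E.f i)) : Presieve.IsSheafFor F (S : Presieve Y₀) := by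
  rw [← Presieve.isSeparatedFor_and_exists_isAmalgamation_iff_isSheafFor]
  refine ⟨isSeparatedFor_of_isVCover F hZ hV E hE S hS, ?_⟩
  intro x hx
  have step1 : ∀ U : Y₀.affineOpens, ∃ s : F.obj (op ((U : Y₀.Opens) : Scheme.{u})),
      ∀ (Z : Scheme.{u}) (f : Z ⟶ ((U : Y₀.Opens) : Scheme.{u}))
        (hf : S (f ≫ (U : Y₀.Opens).ι)), F.map f.op s = x (f ≫ (U : Y₀.Opens).ι) hf := by
    intro U
    obtain ⟨G, hG1, hG2⟩ := hE U
    choose i k hk using hG2
    have hGS : ∀ j, S (G.f j ≫ (U : Y₀.Opens).ι) := fun j => by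
      rw [← hk j]
      exact S.downward_closed (hS (i j)) (k j)
    have hsh := standardV_isSheafFor F hV G hG1
    rw [PreZeroHypercover.presieve₀, Presieve.isSheafFor_arrows_iff] at hsh
    obtain ⟨s, hs, -⟩ := hsh (fun j => x (G.f j ≫ (U : Y₀.Opens).ι) (hGS j)) (by
      intro j₁ j₂ Z g₁ g₂ hg
      exact hx g₁ g₂ (hGS j₁) (hGS j₂) (by rw [← Category.assoc, hg, Category.assoc]))
    refine ⟨s, ?_⟩
    intro Z f hf
    have hsep := isSeparatedFor_of_isVCover F hZ hV (G.pullback₁ f)
      (isVCover_pullback f G (standardV_isVCover G hG1))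
      ((Sieve.generate G.presieve₀).pullback f) (by
        intro j
        show (Sieve.generate G.presieve₀) (pullback.fst f (G.f j) ≫ f)
        rw [pullback.condition]
        have hj : (Sieve.generate G.presieve₀) (G.f j) :=
          ⟨_, 𝟙 _, G.f j, G.presieve₀_f j, Category.id_comp _⟩
        exact (Sieve.generate G.presieve₀).downward_closed hj _)
    apply hsep.ext
    rintro Z' g ⟨W, k', l, ⟨j⟩, hkl⟩
    rw [← FunctorToTypes.map_comp_apply, ← op_comp, ← hkl, op_comp,
      FunctorToTypes.map_comp_apply, hs j]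
    exact hx k' g (hGS j) hf (by rw [← Category.assoc, hkl, Category.assoc])
  choose s hs using step1
  have hshZ : Presieve.IsSheafFor F (affPresieve Y₀) :=
    (Presieve.isSheafFor_iff_generate _).mpr (hZ _ (generate_affPresieve_mem Y₀))
  rw [affPresieve, Presieve.isSheafFor_arrows_iff] at hshZ
  obtain ⟨t, ht, -⟩ := hshZ s (by
    intro U₁ U₂ Z g₁ g₂ hg
    have hsep := isSeparatedFor_of_isVCover F hZ hV (E.pullback₁ (g₁ ≫ (U₁ : Y₀.Opens).ι))
      (isVCover_pullback _ E hE) (S.pullback (g₁ ≫ (U₁ : Y₀.Opens).ι)) (by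
        intro i
        show S (pullback.fst (g₁ ≫ (U₁ : Y₀.Opens).ι) (E.f i) ≫ g₁ ≫ (U₁ : Y₀.Opens).ι)
        rw [pullback.condition]
        exact S.downward_closed (hS i) _)
    apply hsep.ext
    intro Z' g hg'
    have hg1 : S ((g ≫ g₁) ≫ (U₁ : Y₀.Opens).ι) := by
      rw [Category.assoc]; exact hg'
    have hg2 : S ((g ≫ g₂) ≫ (U₂ : Y₀.Opens).ι) := by
      rw [Category.assoc, ← hg]; exact hg'
    rw [← FunctorToTypes.map_comp_apply, ← op_comp, ← FunctorToTypes.map_comp_apply, ← op_comp,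
      hs U₁ Z' (g ≫ g₁) hg1, hs U₂ Z' (g ≫ g₂) hg2]
    exact famElem_congr F x (by rw [Category.assoc, Category.assoc, hg]) _ _)
  refine ⟨t, ?_⟩
  intro Z f hf
  have hsep : Presieve.IsSeparatedFor F
      ((Sieve.generate (affPresieve Y₀)).pullback f : Presieve Z) :=
    (hZ _ (Scheme.zariskiTopology.pullback_stable f (generate_affPresieve_mem Y₀))).isSeparatedFor
  apply hsep.ext
  rintro Z' g ⟨W, h, _, ⟨U⟩, hgh⟩
  have hS' : S (h ≫ (U : Y₀.Opens).ι) := by
    rw [hgh]; exact S.downward_closed hf g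
  rw [← FunctorToTypes.map_comp_apply, ← op_comp, ← hgh, op_comp,
    FunctorToTypes.map_comp_apply, ht U, hs U Z' h hS']
  have := hx (𝟙 Z') g hS' hf (by rw [Category.id_comp, hgh])
  simpa using this

end Groth.Agent.H37
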