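import Groth.Agent.H37.VSheaf

set_option autoImplicit false
set_option linter.deprecated false
universe w w' u
open CategoryTheory CategoryTheory.Limits AlgebraicGeometry Opposite

namespace Groth.Agent.H37

/-- the coproduct of a standard V covering is a one-member standard V covering -/
theorem standardV_sigma {T : Scheme.{u}} (E : PreZeroHypercover.{u} T) (hE : HTop.IsStandardV E) :
    HTop.IsStandardV (PreZeroHypercover.singleton.{w'} (Sigma.desc E.f)) := by
  have hfin := hE.finite_index
  have haff := hE.isAffine_obj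
  refine ⟨hE.isAffine, ?_, ?_, ?_⟩
  · show Finite PUnit
    infer_instance
  · intro _
    show IsAffine (∐ E.X)
    infer_instance
  · intro V _ _ g
    obtain ⟨W, hW1, hW2, φ, hφ, j, g', hg'⟩ := hE.lift V g
    refine ⟨W, hW1, hW2, φ, hφ, PUnit.unit, ?_, ?_⟩
    · exact g' ≫ Sigma.ι E.X j
    · show (g' ≫ Sigma.ι E.X j) ≫ Sigma.desc E.f = Spec.map φ ≫ g
      rw [Category.assoc, Sigma.ι_desc, hg']

/-- for a Zariski sheaf the sheaf condition for a finite family is equivalent to that of its
coproduct -/
theorem isSheafFor_sigma_iff {F : Scheme.{u}ᵒᵖ ⥤ Type w}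
    (hF : Presieve.IsSheaf Scheme.zariskiTopology F)
    {S : Scheme.{u}} (E : PreZeroHypercover.{u} S) [Finite E.I₀] :
    Presieve.IsSheafFor F (Presieve.singleton (Sigma.desc E.f)) ↔
      Presieve.IsSheafFor F E.presieve₀ := by
  have : PreservesLimitsOfShape (Discrete (E.I₀ × E.I₀)) F :=
    preservesLimitsOfShape_discrete_of_isSheaf_zariskiTopology hF
  have : PreservesLimitsOfShape (Discrete E.I₀) F :=
    preservesLimitsOfShape_discrete_of_isSheaf_zariskiTopology hF
  rw [PreZeroHypercover.presieve₀,
    ← Presieve.isSheafFor_sigmaDesc_iff E.f (coproductIsCoproduct _)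
    (FinitaryExtensive.isVanKampen_finiteCoproducts (coproductIsCoproduct _)).isUniversal]
  rfl

end Groth.Agent.H37
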