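import Mathlib.CategoryTheory.Sites.IsSheafFor
import Mathlib.CategoryTheory.Limits.Types.Filtered
import Mathlib.CategoryTheory.Filtered.Basic

set_option autoImplicit false
set_option linter.deprecated false
universe w v u v' u'
open CategoryTheory CategoryTheory.Limits Opposite

namespace Groth.Agent.H37.VSheafOver

variable {C : Type u'} [Category.{v'} C]

/-- the sheaf condition for a one-member family, spelled out -/
theorem isSheafFor_singleton_iff (F : Cᵒᵖ ⥤ Type w) {X Y : C} (f : X ⟶ Y) :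
    Presieve.IsSheafFor F (Presieve.singleton f) ↔
      ∀ x : F.obj (op X), (∀ (Z : C) (a a' : Z ⟶ X), a ≫ f = a' ≫ f →
        F.map a.op x = F.map a'.op x) → ∃! t : F.obj (op Y), F.map f.op t = x := by
  rw [← Presieve.ofArrows_pUnit.{0} f, Presieve.isSheafFor_arrows_iff]
  constructor
  · intro h x hx
    obtain ⟨t, ht, ht'⟩ := h (fun _ => x) (fun _ _ Z a a' haa => hx Z a a' haa)
    exact ⟨t, ht PUnit.unit, fun t' h' => ht' t' (fun _ => h')⟩
  · intro h x hx
    obtain ⟨t, ht, ht'⟩ := h (x PUnit.unit) (fun Z a a' haa => hx PUnit.unit PUnit.unit Z a a' haa)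
    exact ⟨t, fun _ => ht, fun t' h' => ht' t' (h' PUnit.unit)⟩

/-- precomposing with an isomorphism does not change the sheaf condition of a one-member
family -/
theorem isSheafFor_singleton_iso_comp (F : Cᵒᵖ ⥤ Type w) {X X' Y : C} (e : X' ≅ X) (f : X ⟶ Y) :
    Presieve.IsSheafFor F (Presieve.singleton (e.hom ≫ f)) ↔
      Presieve.IsSheafFor F (Presieve.singleton f) := by
  rw [Presieve.isSheafFor_iff_generate, Presieve.isSheafFor_iff_generate (Presieve.singleton f)]
  have : Sieve.generate (Presieve.singleton (e.hom ≫ f)) = Sieve.generate (Presieve.singleton f) := by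
    ext Z g
    constructor
    · rintro ⟨W, h, _, ⟨⟩, rfl⟩
      exact ⟨X, h ≫ e.hom, f, Presieve.singleton.mk, by simp⟩
    · rintro ⟨W, h, _, ⟨⟩, rfl⟩
      exact ⟨X', h ≫ e.inv, e.hom ≫ f, Presieve.singleton.mk, by simp⟩
  rw [this]

/-- **Filtered colimit of equalizers.**  If `f : X ⟶ Y` is a cofiltered limit of `g i : X i ⟶ Y`,
compatibly with "squares" `P i ⇉ X i` weakly universal among pairs equalized by `g i`, and the
presheaf `F` turns both limits into colimits, then the sheaf condition for all `{g i}` implies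
the sheaf condition for `{f}`. -/
theorem isSheafFor_singleton_of_limit (F : Cᵒᵖ ⥤ Type w)
    {I : Type u} [Category.{v} I] [IsCofiltered I] {Y : C}
    (D1 D2 : I ⥤ C) (c1 : Cone D1) (c2 : Cone D2)
    (f : c1.pt ⟶ Y) (p₁ p₂ : c2.pt ⟶ c1.pt) (hp : p₁ ≫ f = p₂ ≫ f)
    (g : ∀ i, D1.obj i ⟶ Y) (hg : ∀ i, c1.π.app i ≫ g i = f)
    (hgnat : ∀ {i j : I} (φ : i ⟶ j), D1.map φ ≫ g j = g i)
    (q₁ q₂ : D2 ⟶ D1)
    (hq₁ : ∀ i, c2.π.app i ≫ q₁.app i = p₁ ≫ c1.π.app i)
    (hq₂ : ∀ i, c2.π.app i ≫ q₂.app i = p₂ ≫ c1.π.app i)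
    (huniv : ∀ (i : I) (Z : C) (a a' : Z ⟶ D1.obj i), a ≫ g i = a' ≫ g i →
      ∃ m : Z ⟶ D2.obj i, m ≫ q₁.app i = a ∧ m ≫ q₂.app i = a')
    (hcol1 : IsColimit (F.mapCocone c1.op)) (hcol2 : IsColimit (F.mapCocone c2.op))
    (hsh : ∀ i, Presieve.IsSheafFor F (Presieve.singleton (g i))) :
    Presieve.IsSheafFor F (Presieve.singleton f) := by
  rw [isSheafFor_singleton_iff]
  intro x hx
  -- `x` comes from some stage
  obtain ⟨⟨i⟩, xi, hxi⟩ := Types.jointly_surjective_of_isColimit hcol1 x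
  change F.map (c1.π.app i).op xi = x at hxi
  -- the two pullbacks of `xi` agree in the colimit
  have h12 : (F.mapCocone c2.op).ι.app (op i) (F.map (q₁.app i).op xi) =
      (F.mapCocone c2.op).ι.app (op i) (F.map (q₂.app i).op xi) := by
    change F.map (c2.π.app i).op (F.map (q₁.app i).op xi) =
      F.map (c2.π.app i).op (F.map (q₂.app i).op xi)
    rw [← FunctorToTypes.map_comp_apply, ← FunctorToTypes.map_comp_apply, ← op_comp, ← op_comp,
      hq₁, hq₂, op_comp, op_comp, FunctorToTypes.map_comp_apply, FunctorToTypes.map_comp_apply, hxi]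
    exact hx _ p₁ p₂ hp
  obtain ⟨⟨j⟩, φ, hφ⟩ := (Types.FilteredColimit.isColimit_eq_iff' hcol2 _ _).mp h12
  change F.map (D2.map φ.unop).op (F.map (q₁.app i).op xi) =
    F.map (D2.map φ.unop).op (F.map (q₂.app i).op xi) at hφ
  set ψ : j ⟶ i := φ.unop with hψ
  set xj := F.map (D1.map ψ).op xi with hxj
  have hxjx : F.map (c1.π.app j).op xj = x := by
    rw [hxj, ← FunctorToTypes.map_comp_apply, ← op_comp, c1.w ψ, hxi]
  have hcompat : F.map (q₁.app j).op xj = F.map (q₂.app j).op xj := by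
    rw [hxj, ← FunctorToTypes.map_comp_apply, ← FunctorToTypes.map_comp_apply, ← op_comp, ← op_comp,
      ← q₁.naturality ψ, ← q₂.naturality ψ, op_comp, op_comp, FunctorToTypes.map_comp_apply,
      FunctorToTypes.map_comp_apply]
    exact hφ
  have hshj := (isSheafFor_singleton_iff F (g j)).mp (hsh j) xj (by
    intro Z a a' haa
    obtain ⟨m, hm1, hm2⟩ := huniv j Z a a' haa
    rw [← hm1, ← hm2, op_comp, op_comp, FunctorToTypes.map_comp_apply,
      FunctorToTypes.map_comp_apply, hcompat])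
  obtain ⟨t, ht, -⟩ := hshj
  refine ⟨t, ?_, ?_⟩
  · show F.map f.op t = x
    rw [← hg j, op_comp, FunctorToTypes.map_comp_apply, ht, hxjx]
  · intro t' ht'
    change F.map f.op t' = x at ht'
    -- compare `t` and `t'` at stage `j`, then further down
    have h12' : (F.mapCocone c1.op).ι.app (op j) (F.map (g j).op t') =
        (F.mapCocone c1.op).ι.app (op j) (F.map (g j).op t) := by
      change F.map (c1.π.app j).op (F.map (g j).op t') = F.map (c1.π.app j).op (F.map (g j).op t)
      rw [← FunctorToTypes.map_comp_apply, ← FunctorToTypes.map_comp_apply, ← op_comp, hg j, ht',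
        ← hxjx, ← ht, ← FunctorToTypes.map_comp_apply, ← op_comp, hg j]
    obtain ⟨⟨l⟩, χ, hχ⟩ := (Types.FilteredColimit.isColimit_eq_iff' hcol1 _ _).mp h12'
    change F.map (D1.map χ.unop).op (F.map (g j).op t') =
      F.map (D1.map χ.unop).op (F.map (g j).op t) at hχ
    rw [← FunctorToTypes.map_comp_apply, ← FunctorToTypes.map_comp_apply, ← op_comp,
      hgnat χ.unop] at hχ
    exact (hsh l).isSeparatedFor.ext (by
      rintro _ _ ⟨⟩
      exact hχ)

end Groth.Agent.H37.VSheafOver
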