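import Mathlib.CategoryTheory.Comma.Over.Pullback
import Mathlib.CategoryTheory.Limits.Shapes.Pullback.HasPullback
import Mathlib.CategoryTheory.Limits.Connected

set_option autoImplicit false
set_option linter.deprecated false
universe w v u v' u'
open CategoryTheory CategoryTheory.Limits Opposite

namespace Groth.Agent.H37.VSheafOver

section Sq
variable {C : Type u'} [Category.{v'} C] [HasPullbacks C] (Y : C)

/-- the map `A ×_Y A ⟶ B ×_Y B` induced by `φ : A ⟶ B` over `Y` -/
noncomputable def sqMap {A B : Over Y} (φ : A ⟶ B) : pullback A.hom A.hom ⟶ pullback B.hom B.hom :=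
  pullback.lift (pullback.fst A.hom A.hom ≫ φ.left) (pullback.snd A.hom A.hom ≫ φ.left) (by
    rw [Category.assoc, Category.assoc, Over.w φ, pullback.condition])

theorem sqMap_fst {A B : Over Y} (φ : A ⟶ B) :
    sqMap Y φ ≫ pullback.fst B.hom B.hom = pullback.fst A.hom A.hom ≫ φ.left :=
  pullback.lift_fst _ _ _

theorem sqMap_snd {A B : Over Y} (φ : A ⟶ B) :
    sqMap Y φ ≫ pullback.snd B.hom B.hom = pullback.snd A.hom A.hom ≫ φ.left :=
  pullback.lift_snd _ _ _

/-- `A ↦ A ×_Y A` as a functor on `Over Y` -/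
noncomputable def Sq : Over Y ⥤ Over Y where
  obj A := Over.mk (pullback.fst A.hom A.hom ≫ A.hom)
  map {A B} φ := Over.homMk (sqMap Y φ) (by
      show _ ≫ _ ≫ B.hom = _ ≫ A.hom
      rw [← Category.assoc, sqMap_fst, Category.assoc, Over.w])
  map_id A := by
    ext
    apply pullback.hom_ext
    · show sqMap Y (𝟙 A) ≫ _ = 𝟙 _ ≫ _
      rw [sqMap_fst, Over.id_left, Category.comp_id, Category.id_comp]
    · show sqMap Y (𝟙 A) ≫ _ = 𝟙 _ ≫ _
      rw [sqMap_snd, Over.id_left, Category.comp_id, Category.id_comp]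
  map_comp φ ψ := by
    ext
    apply pullback.hom_ext
    · show sqMap Y (φ ≫ ψ) ≫ _ = (sqMap Y φ ≫ sqMap Y ψ) ≫ _
      rw [sqMap_fst, Category.assoc, sqMap_fst, ← Category.assoc, sqMap_fst, Category.assoc,
        Over.comp_left]
    · show sqMap Y (φ ≫ ψ) ≫ _ = (sqMap Y φ ≫ sqMap Y ψ) ≫ _
      rw [sqMap_snd, Category.assoc, sqMap_snd, ← Category.assoc, sqMap_snd, Category.assoc,
        Over.comp_left]

theorem Sq_obj_left (A : Over Y) : ((Sq Y).obj A).left = pullback A.hom A.hom := rfl

theorem Sq_obj_hom (A : Over Y) :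
    ((Sq Y).obj A).hom = pullback.fst A.hom A.hom ≫ A.hom := rfl

theorem Sq_map_left {A B : Over Y} (φ : A ⟶ B) : ((Sq Y).map φ).left = sqMap Y φ := rfl

/-- first projection `A ×_Y A ⟶ A` -/
noncomputable def sqFst : Sq Y ⟶ 𝟭 (Over Y) where
  app A := Over.homMk (pullback.fst A.hom A.hom) rfl
  naturality A B φ := by
    ext
    exact sqMap_fst Y φ

/-- second projection `A ×_Y A ⟶ A` -/
noncomputable def sqSnd : Sq Y ⟶ 𝟭 (Over Y) where
  app A := Over.homMk (pullback.snd A.hom A.hom) (by
    show pullback.snd A.hom A.hom ≫ A.hom = pullback.fst A.hom A.hom ≫ A.hom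
    exact pullback.condition.symm)
  naturality A B φ := by
    ext
    exact sqMap_snd Y φ

theorem sqFst_app_left (A : Over Y) : ((sqFst Y).app A).left = pullback.fst A.hom A.hom := rfl
theorem sqSnd_app_left (A : Over Y) : ((sqSnd Y).app A).left = pullback.snd A.hom A.hom := rfl

variable {Y}

section lim
variable {I : Type u} [Category.{v} I] (D : I ⥤ Over Y)

/-- a compatible family of maps into the squares (raw form of a cone) -/
structure SqFam (W : C) where
  π : ∀ i, W ⟶ pullback (D.obj i).hom (D.obj i).hom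
  w : ∀ {i j : I} (φ : i ⟶ j), π i ≫ sqMap Y (D.map φ) = π j

variable {D}

/-- first-projection cone of a compatible family into the squares -/
noncomputable def SqFam.coneFst {W : C} (s : SqFam D W) : Cone (D ⋙ Over.forget Y) where
  pt := W
  π :=
    { app := fun i => s.π i ≫ pullback.fst (D.obj i).hom (D.obj i).hom
      naturality := fun i j φ => by
        have h2 : s.π j ≫ pullback.fst (D.obj j).hom (D.obj j).hom =
            (s.π i ≫ pullback.fst (D.obj i).hom (D.obj i).hom) ≫ (D.map φ).left := by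
          rw [← s.w φ, Category.assoc, sqMap_fst, Category.assoc]
        exact (Category.id_comp _).trans h2 }

/-- second-projection cone of a compatible family into the squares -/
noncomputable def SqFam.coneSnd {W : C} (s : SqFam D W) : Cone (D ⋙ Over.forget Y) where
  pt := W
  π :=
    { app := fun i => s.π i ≫ pullback.snd (D.obj i).hom (D.obj i).hom
      naturality := fun i j φ => by
        have h2 : s.π j ≫ pullback.snd (D.obj j).hom (D.obj j).hom =
            (s.π i ≫ pullback.snd (D.obj i).hom (D.obj i).hom) ≫ (D.map φ).left := by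
          rw [← s.w φ, Category.assoc, sqMap_snd, Category.assoc]
        exact (Category.id_comp _).trans h2 }

variable (c : Cone D) (hc : IsLimit ((Over.forget Y).mapCone c))

/-- the projections of a cone, with clean types -/
def cπ (i : I) : c.pt ⟶ D.obj i := c.π.app i

omit [HasPullbacks C] in
theorem cπ_w {i j : I} (φ : i ⟶ j) : cπ c i ≫ D.map φ = cπ c j := c.w φ

omit [HasPullbacks C] in
include hc in
theorem cπ_hom_ext {W : C} {m m' : W ⟶ c.pt.left}
    (h : ∀ i, m ≫ (cπ c i).left = m' ≫ (cπ c i).left) : m = m' :=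
  hc.hom_ext (fun i => h i)

/-- lift of the first projections -/
noncomputable def SqFam.lF {W : C} (s : SqFam D W) : W ⟶ c.pt.left := hc.lift s.coneFst

/-- lift of the second projections -/
noncomputable def SqFam.lS {W : C} (s : SqFam D W) : W ⟶ c.pt.left := hc.lift s.coneSnd

theorem SqFam.facF {W : C} (s : SqFam D W) (i : I) :
    s.lF c hc ≫ (cπ c i).left = s.π i ≫ pullback.fst (D.obj i).hom (D.obj i).hom :=
  hc.fac s.coneFst i

theorem SqFam.facS {W : C} (s : SqFam D W) (i : I) :
    s.lS c hc ≫ (cπ c i).left = s.π i ≫ pullback.snd (D.obj i).hom (D.obj i).hom :=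
  hc.fac s.coneSnd i

theorem SqFam.key [Nonempty I] {W : C} (s : SqFam D W) :
    s.lF c hc ≫ c.pt.hom = s.lS c hc ≫ c.pt.hom := by
  obtain ⟨i⟩ := ‹Nonempty I›
  have e1 : (cπ c i).left ≫ (D.obj i).hom = c.pt.hom := Over.w (cπ c i)
  rw [← e1, ← Category.assoc, ← Category.assoc, s.facF c hc, s.facS c hc, Category.assoc,
    Category.assoc, pullback.condition]

/-- the induced map into the square of the limit -/
noncomputable def SqFam.lift [Nonempty I] {W : C} (s : SqFam D W) : W ⟶ pullback c.pt.hom c.pt.hom :=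
  pullback.lift (s.lF c hc) (s.lS c hc) (s.key c hc)

theorem SqFam.lift_fac [Nonempty I] {W : C} (s : SqFam D W) (i : I) :
    s.lift c hc ≫ sqMap Y (cπ c i) = s.π i := by
  apply pullback.hom_ext
  · rw [Category.assoc, sqMap_fst, ← Category.assoc, SqFam.lift, pullback.lift_fst, s.facF c hc]
  · rw [Category.assoc, sqMap_snd, ← Category.assoc, SqFam.lift, pullback.lift_snd, s.facS c hc]

theorem SqFam.lift_uniq [Nonempty I] {W : C} (s : SqFam D W) (m : W ⟶ pullback c.pt.hom c.pt.hom)
    (hm : ∀ i, m ≫ sqMap Y (cπ c i) = s.π i) : m = s.lift c hc := by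
  apply pullback.hom_ext
  · rw [SqFam.lift, pullback.lift_fst]
    apply cπ_hom_ext c hc
    intro i
    rw [s.facF c hc, ← hm i, Category.assoc, Category.assoc, sqMap_fst]
  · rw [SqFam.lift, pullback.lift_snd]
    apply cπ_hom_ext c hc
    intro i
    rw [s.facS c hc, ← hm i, Category.assoc, Category.assoc, sqMap_snd]

/-- a cone over the squares as a compatible family -/
def SqFam.ofCone (s : Cone ((D ⋙ Sq Y) ⋙ Over.forget Y)) : SqFam D s.pt where
  π i := s.π.app i
  w φ := s.w φ

/-- `A ↦ A ×_Y A` commutes with nonempty limits computed in `C` -/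
noncomputable def isLimitSq [Nonempty I] :
    IsLimit ((Over.forget Y).mapCone ((Sq Y).mapCone c)) where
  lift s := (SqFam.ofCone s).lift c hc
  fac s i := (SqFam.ofCone s).lift_fac c hc i
  uniq s m hm := (SqFam.ofCone s).lift_uniq c hc m hm

end lim

end Sq

end Groth.Agent.H37.VSheafOver
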