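import Groth.Agent.H37.VSheafOverA
import Groth.Agent.H37.VSheafOverB

set_option autoImplicit false
set_option linter.deprecated false
universe w v u v' u'
open CategoryTheory CategoryTheory.Limits Opposite

namespace Groth.Agent.H37.VSheafOver

section over
variable {C : Type u'} [Category.{v'} C] [HasPullbacks C] {S : C} (Y : Over S)

/-- the structure map of `A` as a morphism to `Y` in `Over S` -/
def toBase (A : Over Y.left) : (Over.map Y.hom).obj A ⟶ Y := Over.homMk A.hom rfl

omit [HasPullbacks C] in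
theorem toBase_left (A : Over Y.left) : (toBase Y A).left = A.hom := rfl

omit [HasPullbacks C] in
theorem map_comp_toBase {A B : Over Y.left} (φ : A ⟶ B) :
    (Over.map Y.hom).map φ ≫ toBase Y B = toBase Y A := by
  ext
  exact Over.w φ

/-- first projections, transported to `Over S` -/
noncomputable def q₁ {I : Type u} [Category.{v} I] (D : I ⥤ Over Y.left) :
    D ⋙ Sq Y.left ⋙ Over.map Y.hom ⟶ D ⋙ Over.map Y.hom where
  app i := (Over.map Y.hom).map ((sqFst Y.left).app (D.obj i))
  naturality i j φ := by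
    show (Over.map Y.hom).map ((Sq Y.left).map (D.map φ)) ≫ _ = _ ≫ (Over.map Y.hom).map (D.map φ)
    rw [← Functor.map_comp, ← Functor.map_comp]
    congr 1
    exact (sqFst Y.left).naturality (D.map φ)

/-- second projections, transported to `Over S` -/
noncomputable def q₂ {I : Type u} [Category.{v} I] (D : I ⥤ Over Y.left) :
    D ⋙ Sq Y.left ⋙ Over.map Y.hom ⟶ D ⋙ Over.map Y.hom where
  app i := (Over.map Y.hom).map ((sqSnd Y.left).app (D.obj i))
  naturality i j φ := by
    show (Over.map Y.hom).map ((Sq Y.left).map (D.map φ)) ≫ _ = _ ≫ (Over.map Y.hom).map (D.map φ)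
    rw [← Functor.map_comp, ← Functor.map_comp]
    congr 1
    exact (sqSnd Y.left).naturality (D.map φ)

theorem exists_lift_sq (A : Over Y.left) (Z : Over S) (a a' : Z ⟶ (Over.map Y.hom).obj A)
    (haa : a ≫ toBase Y A = a' ≫ toBase Y A) :
    ∃ m : Z ⟶ (Over.map Y.hom).obj ((Sq Y.left).obj A),
      m ≫ (Over.map Y.hom).map ((sqFst Y.left).app A) = a ∧
      m ≫ (Over.map Y.hom).map ((sqSnd Y.left).app A) = a' := by
  have h : a.left ≫ A.hom = a'.left ≫ A.hom := congrArg (fun t => t.left) haa
  have hw : a.left ≫ A.hom ≫ Y.hom = Z.hom := Over.w a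
  refine ⟨Over.homMk (pullback.lift a.left a'.left h) ?_, ?_, ?_⟩
  · show pullback.lift a.left a'.left h ≫ (pullback.fst A.hom A.hom ≫ A.hom) ≫ Y.hom = Z.hom
    rw [Category.assoc, pullback.lift_fst_assoc, hw]
  · ext
    exact pullback.lift_fst _ _ _
  · ext
    exact pullback.lift_snd _ _ _

/-- **Filtered colimit of equalizers, over a base.** -/
theorem isSheafFor_singleton_of_limit_over (F : (Over S)ᵒᵖ ⥤ Type w)
    {I : Type u} [Category.{v} I] [IsCofiltered I] (D : I ⥤ Over Y.left) (c : Cone D)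
    (hcol1 : IsColimit (F.mapCocone ((Over.map Y.hom).mapCone c).op))
    (hcol2 : IsColimit (F.mapCocone ((Sq Y.left ⋙ Over.map Y.hom).mapCone c).op))
    (hsh : ∀ i, Presieve.IsSheafFor F (Presieve.singleton (toBase Y (D.obj i)))) :
    Presieve.IsSheafFor F (Presieve.singleton (toBase Y c.pt)) := by
  refine isSheafFor_singleton_of_limit F (D ⋙ Over.map Y.hom) (D ⋙ Sq Y.left ⋙ Over.map Y.hom)
    ((Over.map Y.hom).mapCone c) ((Sq Y.left ⋙ Over.map Y.hom).mapCone c) (toBase Y c.pt)
    ((Over.map Y.hom).map ((sqFst Y.left).app c.pt)) ((Over.map Y.hom).map ((sqSnd Y.left).app c.pt))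
    ?_ (fun i => toBase Y (D.obj i)) ?_ ?_ (q₁ Y D) (q₂ Y D) ?_ ?_ ?_ hcol1 hcol2 hsh
  · ext
    exact pullback.condition
  · intro i
    exact map_comp_toBase Y (c.π.app i)
  · intro i j φ
    exact map_comp_toBase Y (D.map φ)
  · intro i
    show (Over.map Y.hom).map ((Sq Y.left).map (c.π.app i)) ≫
      (Over.map Y.hom).map ((sqFst Y.left).app (D.obj i)) =
      (Over.map Y.hom).map ((sqFst Y.left).app c.pt) ≫ (Over.map Y.hom).map (c.π.app i)
    rw [← Functor.map_comp, ← Functor.map_comp]
    congr 1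
    exact (sqFst Y.left).naturality (c.π.app i)
  · intro i
    show (Over.map Y.hom).map ((Sq Y.left).map (c.π.app i)) ≫
      (Over.map Y.hom).map ((sqSnd Y.left).app (D.obj i)) =
      (Over.map Y.hom).map ((sqSnd Y.left).app c.pt) ≫ (Over.map Y.hom).map (c.π.app i)
    rw [← Functor.map_comp, ← Functor.map_comp]
    congr 1
    exact (sqSnd Y.left).naturality (c.π.app i)
  · intro i Z a a' haa
    exact exists_lift_sq Y (D.obj i) Z a a' haa

end over

end Groth.Agent.H37.VSheafOver
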