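import Groth.Agent.H37.VSheafOverC
import Groth.Agent.H37.IntLim
import Groth.Agent.H90.ValLift3

set_option autoImplicit false
set_option linter.deprecated false
universe w w' v u v' u'
open CategoryTheory CategoryTheory.Limits Opposite AlgebraicGeometry

namespace Groth.Agent.H37.VSheafOver

section scheme
variable {S : Scheme.{u}} (F : (Over S)ᵒᵖ ⥤ Type w)

/-- the limit-preservation hypothesis of S7293 -/
def LimPres : Prop :=
  ∀ (I : Type u) [SmallCategory I] [IsCofiltered I] (D : I ⥤ Over S),
    (∀ i, IsAffine (D.obj i).left) → ∀ (c : Cone D), IsLimit ((Over.forget S).mapCone c) →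
      Nonempty (IsColimit (F.mapCocone c.op))

variable {F}

theorem isSheafFor_toBase_of_vl (h1 : HTop.IsHSheafOver S F) (h2 : LimPres F) (Y : Over S)
    [IsAffine Y.left] {I : Type u} [SmallCategory I] [IsCofiltered I] (D : I ⥤ Over Y.left)
    (c : Cone D) (hc : IsLimit ((Over.forget Y.left).mapCone c))
    (hD : ∀ k, IsAffineHom (D.obj k).hom ∧ LocallyOfFinitePresentation (D.obj k).hom)
    (hV : H90.VL c.pt.hom) : Presieve.IsSheafFor F (Presieve.singleton (toBase Y c.pt)) := by
  have haffD : ∀ k, IsAffine (D.obj k).left := fun k => by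
    haveI := (hD k).1
    exact isAffine_of_isAffineHom (D.obj k).hom
  haveI : Nonempty I := IsCofiltered.nonempty
  have hl1 : IsLimit ((Over.forget S).mapCone ((Over.map Y.hom).mapCone c)) := hc
  have hl2 : IsLimit ((Over.forget S).mapCone ((Sq Y.left ⋙ Over.map Y.hom).mapCone c)) :=
    isLimitSq c hc
  obtain ⟨hcol1⟩ := h2 I (D ⋙ Over.map Y.hom) haffD _ hl1
  obtain ⟨hcol2⟩ := h2 I (D ⋙ Sq Y.left ⋙ Over.map Y.hom) (fun k => by
    haveI := haffD k
    show IsAffine (pullback (D.obj k).hom (D.obj k).hom)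
    infer_instance) _ hl2
  refine isSheafFor_singleton_of_limit_over Y F D c hcol1 hcol2 ?_
  intro k
  apply h1
  have hmem : (PreZeroHypercover.singleton.{u} (D.obj k).hom).presieve₀ ∈
      HTop.hPrecoverage Y.left := by
    rw [HTop.presieve₀_mem_hPrecoverage_iff]
    haveI := (hD k).1
    refine ⟨fun _ => (hD k).2, H90.isVCover_of_vl _ ?_⟩
    intro V _ _ g
    obtain ⟨W, hW1, hW2, φ, hφ, g', hg'⟩ := hV V g
    refine ⟨W, hW1, hW2, φ, hφ, g' ≫ (c.π.app k).left, ?_⟩
    rw [← hg', Category.assoc]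
    congr 1
    exact Over.w (c.π.app k)
  rw [PreZeroHypercover.presieve₀_singleton] at hmem
  rw [Presieve.map_singleton]
  exact hmem

/-- **A limit-preserving h-sheaf over `S` satisfies the sheaf condition for one-member standard
V coverings.** -/
theorem isSheafFor_singleton_of_standardV (h1 : HTop.IsHSheafOver S F) (h2 : LimPres F)
    {X Y : Over S} (f : X ⟶ Y)
    (hf : HTop.IsStandardV (PreZeroHypercover.singleton.{w'} f.left)) :
    Presieve.IsSheafFor F (Presieve.singleton f) := by
  haveI : IsAffine Y.left := hf.isAffine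
  haveI : IsAffine X.left := hf.isAffine_obj PUnit.unit
  obtain ⟨K, _, _, _, D, c, hc, hD, ⟨e⟩⟩ := IntLim.exists_affine_system f.left
  haveI : IsConnected Kᵒᵖ := IsCofiltered.isConnected _
  have hc₀ : IsLimit ((Over.forget Y.left).mapCone c) := isLimitOfPreserves (Over.forget Y.left) hc
  have hVf : H90.VL f.left := (H90.hasValLift_singleton_iff _).mp hf.lift
  have hVc : H90.VL c.pt.hom := by
    intro V _ _ g
    obtain ⟨W, hW1, hW2, φ, hφ, g', hg'⟩ := hVf V g
    refine ⟨W, hW1, hW2, φ, hφ, g' ≫ e.inv.left, ?_⟩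
    rw [Category.assoc, Over.w e.inv]
    exact hg'
  have key := isSheafFor_toBase_of_vl h1 h2 Y D c hc₀ hD hVc
  let e' : (Over.map Y.hom).obj c.pt ≅ X := Over.isoMk ((Over.forget Y.left).mapIso e) (by
    show e.hom.left ≫ X.hom = c.pt.hom ≫ Y.hom
    rw [← Over.w f, ← Category.assoc]
    congr 1
    exact Over.w e.hom)
  have hf' : toBase Y c.pt = e'.hom ≫ f := by
    ext
    exact (Over.w e.hom).symm
  rw [hf', isSheafFor_singleton_iso_comp] at key
  exact key

end scheme

end Groth.Agent.H37.VSheafOver
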