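import Groth.Agent.H37.VSheaf2
import Mathlib.CategoryTheory.Sites.Over

set_option autoImplicit false
set_option linter.deprecated false
universe w w' v u v' u'
open CategoryTheory CategoryTheory.Limits Opposite AlgebraicGeometry

namespace Groth.Agent.H37.VSheafOver

section general
variable {C : Type u'} [Category.{v'} C]

/-- separatedness passes to larger presieves -/
theorem isSeparatedFor_mono (F : Cᵒᵖ ⥤ Type w) {X : C} {P' R' : Presieve X} (h : P' ≤ R')
    (hs : Presieve.IsSeparatedFor F P') : Presieve.IsSeparatedFor F R' := by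
  intro x t₁ t₂ h₁ h₂
  exact hs (x.restrict h) t₁ t₂ (Presieve.isAmalgamation_restrict h x t₁ h₁)
    (Presieve.isAmalgamation_restrict h x t₂ h₂)

variable {S : C}

/-- lift a family over `Z.left` to a family over `Z` in `Over S` -/
def liftFam (Z : Over S) (G : PreZeroHypercover.{w'} Z.left) : PreZeroHypercover.{w'} Z where
  I₀ := G.I₀
  X i := Over.mk (G.f i ≫ Z.hom)
  f i := Over.homMk (G.f i)

theorem liftFam_map (Z : Over S) (G : PreZeroHypercover.{w'} Z.left) :
    (liftFam Z G).map (Over.forget S) = G := rfl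

variable [HasPullbacks C]

/-- base change of a family in `Over S` along `f`, built from pullbacks in `C` -/
noncomputable def pbFam {Z Z' : Over S} (f : Z' ⟶ Z) (E : PreZeroHypercover.{w'} Z) :
    PreZeroHypercover.{w'} Z' :=
  liftFam Z' ((E.map (Over.forget S)).pullback₁ f.left)

theorem pbFam_map {Z Z' : Over S} (f : Z' ⟶ Z) (E : PreZeroHypercover.{w'} Z) :
    (pbFam f E).map (Over.forget S) = (E.map (Over.forget S)).pullback₁ f.left := rfl

/-- the projection from the base-changed family to the original one -/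
noncomputable def pbFamSnd {Z Z' : Over S} (f : Z' ⟶ Z) (E : PreZeroHypercover.{w'} Z) (i : E.I₀) :
    (pbFam f E).X i ⟶ E.X i :=
  Over.homMk (pullback.snd f.left (E.f i).left) (by
    show pullback.snd f.left (E.f i).left ≫ (E.X i).hom =
      pullback.fst f.left (E.f i).left ≫ Z'.hom
    rw [← Over.w (E.f i), ← Over.w f, ← Category.assoc, ← Category.assoc, pullback.condition])

theorem pbFam_comm {Z Z' : Over S} (f : Z' ⟶ Z) (E : PreZeroHypercover.{w'} Z) (i : E.I₀) :
    (pbFam f E).f i ≫ f = pbFamSnd f E i ≫ E.f i := by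
  ext
  exact pullback.condition

theorem pbFam_mem_pullback {Z Z' : Over S} (f : Z' ⟶ Z) (E : PreZeroHypercover.{w'} Z)
    (R : Sieve Z) (hR : ∀ i, R (E.f i)) (i : E.I₀) : (R.pullback f) ((pbFam f E).f i) := by
  show R ((pbFam f E).f i ≫ f)
  rw [pbFam_comm]
  exact R.downward_closed (hR i) _

end general

section scheme
variable {S : Scheme.{u}} (F : (Over S)ᵒᵖ ⥤ Type w)

/-- an h-sheaf over `S` satisfies the sheaf condition for (lifted) open coverings -/
theorem isSheafFor_liftFam_of_openImmersions (h1 : HTop.IsHSheafOver S F) (Z : Over S)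
    (𝒰 : PreZeroHypercover.{w'} Z.left) (hopen : ∀ i, IsOpenImmersion (𝒰.f i))
    (hsurj : ∀ z : Z.left, ∃ i, z ∈ Set.range (𝒰.f i)) :
    Presieve.IsSheafFor F (liftFam Z 𝒰).presieve₀ := by
  apply h1
  rw [← PreZeroHypercover.presieve₀_map, liftFam_map]
  refine (HTop.presieve₀_mem_hPrecoverage_iff 𝒰).mpr ?_
  exact ⟨fun i => by haveI := hopen i; infer_instance, isVCover_of_openImmersions 𝒰 hopen hsurj⟩

/-- an h-sheaf over `S` satisfies the sheaf condition for sieves containing an open covering -/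
theorem isSheafFor_of_openImmersions (h1 : HTop.IsHSheafOver S F) (Z : Over S)
    (𝒰 : PreZeroHypercover.{w'} Z.left) (hopen : ∀ i, IsOpenImmersion (𝒰.f i))
    (hsurj : ∀ z : Z.left, ∃ i, z ∈ Set.range (𝒰.f i)) (R : Sieve Z)
    (hR : ∀ i, R ((liftFam Z 𝒰).f i)) : Presieve.IsSheafFor F (R : Presieve Z) := by
  refine Presieve.isSheafFor_subsieve_aux F (S := Sieve.generate (liftFam Z 𝒰).presieve₀) ?_ ?_ ?_
  · rintro Y g ⟨W, a, b, ⟨i⟩, rfl⟩
    exact R.downward_closed (hR i) a
  · rw [← Presieve.isSheafFor_iff_generate]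
    exact isSheafFor_liftFam_of_openImmersions F h1 Z 𝒰 hopen hsurj
  · intro Z' f _
    have h2 : Presieve.IsSheafFor F (pbFam f (liftFam Z 𝒰)).presieve₀ := by
      refine isSheafFor_liftFam_of_openImmersions F h1 Z' (𝒰.pullback₁ f.left) ?_ ?_
      · intro i
        haveI := hopen i
        show IsOpenImmersion (pullback.fst f.left (𝒰.f i))
        infer_instance
      · intro z
        obtain ⟨i, y, hy⟩ := hsurj (f.left z)
        obtain ⟨t, ht1, ht2⟩ := Scheme.Pullback.exists_preimage_pullback z y hy.symm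
        exact ⟨i, t, ht1⟩
    refine isSeparatedFor_mono F ?_ h2.isSeparatedFor
    rintro _ _ ⟨i⟩
    exact pbFam_mem_pullback f (liftFam Z 𝒰) (Sieve.generate (liftFam Z 𝒰).presieve₀) (fun i =>
      ⟨_, 𝟙 _, (liftFam Z 𝒰).f i, (liftFam Z 𝒰).presieve₀_f i, Category.id_comp _⟩) i

/-- base change of an open covering is an open covering -/
theorem openCover_pullback {Z Z' : Scheme.{u}} (f : Z' ⟶ Z) (𝒰 : PreZeroHypercover.{w'} Z)
    (hopen : ∀ i, IsOpenImmersion (𝒰.f i)) (hsurj : ∀ z : Z, ∃ i, z ∈ Set.range (𝒰.f i)) :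
    (∀ i, IsOpenImmersion ((𝒰.pullback₁ f).f i)) ∧
      ∀ z : Z', ∃ i, z ∈ Set.range ((𝒰.pullback₁ f).f i) := by
  refine ⟨?_, ?_⟩
  · intro i
    haveI := hopen i
    show IsOpenImmersion (pullback.fst f (𝒰.f i))
    infer_instance
  · intro z
    obtain ⟨i, y, hy⟩ := hsurj (f z)
    obtain ⟨t, ht1, ht2⟩ := Scheme.Pullback.exists_preimage_pullback z y hy.symm
    exact ⟨i, t, ht1⟩

/-- the Zariski sheaf condition over `S`, in the form used below -/
def ZarOver : Prop :=
  ∀ (Z : Over S) (𝒰 : PreZeroHypercover.{u} Z.left), (∀ i, IsOpenImmersion (𝒰.f i)) →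
    (∀ z : Z.left, ∃ i, z ∈ Set.range (𝒰.f i)) → ∀ R : Sieve Z, (∀ i, R ((liftFam Z 𝒰).f i)) →
      Presieve.IsSheafFor F (R : Presieve Z)

/-- the sheaf condition for standard V coverings over `S` -/
def StdVOver : Prop :=
  ∀ (T : Over S) (E : PreZeroHypercover.{u} T), HTop.IsStandardV (E.map (Over.forget S)) →
    Presieve.IsSheafFor F E.presieve₀

theorem zarOver_of_isHSheafOver (h1 : HTop.IsHSheafOver S F) : ZarOver F :=
  fun Z 𝒰 hopen hsurj R hR => isSheafFor_of_openImmersions F h1 Z 𝒰 hopen hsurj R hR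

variable {F}

/-- the affine opens of a scheme, as a family -/
def affFam (Y : Scheme.{u}) : PreZeroHypercover.{u} Y where
  I₀ := Y.affineOpens
  X U := ((U : Y.Opens) : Scheme.{u})
  f U := (U : Y.Opens).ι

theorem affFam_open (Y : Scheme.{u}) : ∀ i, IsOpenImmersion ((affFam Y).f i) :=
  fun (U : Y.affineOpens) => (inferInstance : IsOpenImmersion (U : Y.Opens).ι)

theorem affFam_surj (Y : Scheme.{u}) : ∀ y : Y, ∃ i, y ∈ Set.range ((affFam Y).f i) := by
  intro y
  obtain ⟨_, ⟨U, hU, rfl⟩, hyU, -⟩ := Y.isBasis_affineOpens.exists_subset_of_mem_open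
    (Set.mem_univ y) isOpen_univ
  refine ⟨⟨U, hU⟩, ?_⟩
  show y ∈ Set.range (Scheme.Opens.ι U)
  rw [Scheme.Opens.range_ι]
  exact hyU

/-- separatedness for the pullback of a sieve containing an open covering -/
theorem ZarOver.isSeparatedFor_pullback (hZ : ZarOver F) (Z : Over S)
    (𝒰 : PreZeroHypercover.{u} Z.left) (hopen : ∀ i, IsOpenImmersion (𝒰.f i))
    (hsurj : ∀ z : Z.left, ∃ i, z ∈ Set.range (𝒰.f i)) (R : Sieve Z)
    (hR : ∀ i, R ((liftFam Z 𝒰).f i)) {Z' : Over S} (f : Z' ⟶ Z) :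
    Presieve.IsSeparatedFor F (R.pullback f : Presieve Z') := by
  obtain ⟨h1, h2⟩ := openCover_pullback f.left 𝒰 hopen hsurj
  exact (hZ Z' (𝒰.pullback₁ f.left) h1 h2 (R.pullback f)
    (pbFam_mem_pullback f (liftFam Z 𝒰) R hR)).isSeparatedFor

/-- the sheaf condition for standard V coverings indexed in any universe -/
theorem StdVOver.isSheafFor (hV : StdVOver F) {T : Over S} (G : PreZeroHypercover.{w'} T)
    (hG : HTop.IsStandardV (G.map (Over.forget S))) : Presieve.IsSheafFor F G.presieve₀ := by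
  have hfin : Finite G.I₀ := hG.finite_index
  obtain ⟨n, ⟨e⟩⟩ := Finite.exists_equiv_fin G.I₀
  let e' : ULift.{u} (Fin n) ≃ G.I₀ := Equiv.ulift.trans e.symm
  have := hV T (G.reindex e') (standardV_reindex (G.map (Over.forget S)) hG e')
  rwa [PreZeroHypercover.presieve₀_reindex] at this

end scheme

end Groth.Agent.H37.VSheafOver
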