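import Groth.Agent.H37.VSheafOverE

set_option autoImplicit false
set_option linter.deprecated false
universe w w' v u v' u'
open CategoryTheory CategoryTheory.Limits Opposite AlgebraicGeometry

namespace Groth.Agent.H37.VSheafOver

theorem famElem_congr' {C : Type u'} [Category.{v'} C] (F : Cᵒᵖ ⥤ Type w) {Y : C} {R : Presieve Y}
    (x : Presieve.FamilyOfElements F R) {Z : C} {f₁ f₂ : Z ⟶ Y} (e : f₁ = f₂) (h₁ : R f₁)
    (h₂ : R f₂) : x f₁ h₁ = x f₂ h₂ := by
  subst e
  rfl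

variable {S : Scheme.{u}} {F : (Over S)ᵒᵖ ⥤ Type w}

theorem ZarOver.isSheafFor_affFam (hZ : ZarOver F) (Z : Over S) :
    Presieve.IsSheafFor F (liftFam Z (affFam Z.left)).presieve₀ :=
  (Presieve.isSheafFor_iff_generate _).mpr (hZ Z (affFam Z.left) (affFam_open _) (affFam_surj _) _
    (fun i => ⟨_, 𝟙 _, _, (liftFam Z (affFam Z.left)).presieve₀_f i, Category.id_comp _⟩))

/-- lifting a refinement to `Over S` -/
theorem exists_lift_refine {Z : Over S} (E : PreZeroHypercover.{w'} Z) (U : Z.left.affineOpens)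
    (G : PreZeroHypercover.{0} ((U : Z.left.Opens) : Scheme.{u}))
    (hG2 : HTop.RefinesOver (U : Z.left.Opens).ι G (E.map (Over.forget S))) (j : G.I₀) :
    ∃ (i : E.I₀) (k' : (liftFam ((liftFam Z (affFam Z.left)).X U) G).X j ⟶ E.X i),
      k' ≫ E.f i = (liftFam ((liftFam Z (affFam Z.left)).X U) G).f j ≫
        (liftFam Z (affFam Z.left)).f U := by
  obtain ⟨i, k, hk⟩ := hG2 j
  let k2 : G.X j ⟶ (E.X i).left := k
  have hk2 : k2 ≫ (E.f i).left = G.f j ≫ (U : Z.left.Opens).ι := hk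
  have e1 : (E.f i).left ≫ Z.hom = (E.X i).hom := Over.w (E.f i)
  refine ⟨i, Over.homMk k2 ?_, ?_⟩
  · show k2 ≫ (E.X i).hom = G.f j ≫ (U : Z.left.Opens).ι ≫ Z.hom
    rw [← e1, ← Category.assoc k2, hk2, Category.assoc]
  · ext
    exact hk2

/-- separatedness for sieves containing a V covering -/
theorem isSeparatedFor_of_isVCover (hZ : ZarOver F) (hV : StdVOver F)
    {Z : Over S} (E : PreZeroHypercover.{w'} Z) (hE : HTop.IsVCover (E.map (Over.forget S)))
    (R : Sieve Z) (hR : ∀ i, R (E.f i)) : Presieve.IsSeparatedFor F (R : Presieve Z) := by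
  intro x t₁ t₂ h₁ h₂
  apply (hZ.isSheafFor_affFam Z).isSeparatedFor.ext
  rintro _ _ ⟨U⟩
  obtain ⟨G, hG1, hG2⟩ := hE U
  have hsepG := (hV.isSheafFor (liftFam ((liftFam Z (affFam Z.left)).X U) G) hG1).isSeparatedFor
  apply hsepG.ext
  rintro _ _ ⟨j⟩
  obtain ⟨i, k', hk'⟩ := exists_lift_refine E U G hG2 j
  have key : ∀ t, x.IsAmalgamation t →
      F.map ((liftFam ((liftFam Z (affFam Z.left)).X U) G).f j).op
        (F.map ((liftFam Z (affFam Z.left)).f U).op t) = F.map k'.op (x (E.f i) (hR i)) := by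
    intro t ht
    rw [← FunctorToTypes.map_comp_apply, ← op_comp, ← hk', op_comp,
      FunctorToTypes.map_comp_apply, ht (E.f i) (hR i)]
  rw [key t₁ h₁, key t₂ h₂]

/-- the sheaf condition for sieves containing a V covering -/
theorem isSheafFor_of_isVCover (hZ : ZarOver F) (hV : StdVOver F)
    {Y₀ : Over S} (E : PreZeroHypercover.{w'} Y₀) (hE : HTop.IsVCover (E.map (Over.forget S)))
    (R : Sieve Y₀) (hR : ∀ i, R (E.f i)) : Presieve.IsSheafFor F (R : Presieve Y₀) := by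
  rw [← Presieve.isSeparatedFor_and_exists_isAmalgamation_iff_isSheafFor]
  refine ⟨isSeparatedFor_of_isVCover hZ hV E hE R hR, ?_⟩
  intro x hx
  have step1 : ∀ U : Y₀.left.affineOpens,
      ∃ s : F.obj (op ((liftFam Y₀ (affFam Y₀.left)).X U)),
      ∀ (Z : Over S) (f : Z ⟶ (liftFam Y₀ (affFam Y₀.left)).X U)
        (hf : R (f ≫ (liftFam Y₀ (affFam Y₀.left)).f U)),
        F.map f.op s = x (f ≫ (liftFam Y₀ (affFam Y₀.left)).f U) hf := by
    intro U
    obtain ⟨G, hG1, hG2⟩ := hE U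
    choose i k' hk' using exists_lift_refine E U G hG2
    have hGS : ∀ j, R ((liftFam ((liftFam Y₀ (affFam Y₀.left)).X U) G).f j ≫
        (liftFam Y₀ (affFam Y₀.left)).f U) := fun j => by
      rw [← hk' j]
      exact R.downward_closed (hR (i j)) (k' j)
    have hsh := hV.isSheafFor (liftFam ((liftFam Y₀ (affFam Y₀.left)).X U) G) hG1
    rw [PreZeroHypercover.presieve₀, Presieve.isSheafFor_arrows_iff] at hsh
    obtain ⟨s, hs, -⟩ := hsh (fun j => x _ (hGS j)) (by
      intro j₁ j₂ Z g₁ g₂ hg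
      exact hx g₁ g₂ (hGS j₁) (hGS j₂) (by rw [← Category.assoc, hg, Category.assoc]))
    refine ⟨s, ?_⟩
    intro Z f hf
    have hsep := isSeparatedFor_of_isVCover hZ hV
      (pbFam f (liftFam ((liftFam Y₀ (affFam Y₀.left)).X U) G))
      (isVCover_pullback f.left G (standardV_isVCover G hG1))
      ((Sieve.generate (liftFam ((liftFam Y₀ (affFam Y₀.left)).X U) G).presieve₀).pullback f)
      (pbFam_mem_pullback f _ _ (fun j => ⟨_, 𝟙 _, _,
        (liftFam ((liftFam Y₀ (affFam Y₀.left)).X U) G).presieve₀_f j, Category.id_comp _⟩))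
    apply hsep.ext
    rintro Z' g ⟨W, k'', l, ⟨j⟩, hkl⟩
    rw [← FunctorToTypes.map_comp_apply, ← op_comp, ← hkl, op_comp,
      FunctorToTypes.map_comp_apply, hs j]
    exact hx k'' g (hGS j) hf (by rw [← Category.assoc, hkl, Category.assoc])
  choose s hs using step1
  have hshZ := hZ.isSheafFor_affFam Y₀
  rw [PreZeroHypercover.presieve₀, Presieve.isSheafFor_arrows_iff] at hshZ
  obtain ⟨t, ht, -⟩ := hshZ s (by
    intro U₁ U₂ Z g₁ g₂ hg
    have hsep := isSeparatedFor_of_isVCover hZ hV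
      (pbFam (g₁ ≫ (liftFam Y₀ (affFam Y₀.left)).f U₁) E)
      (isVCover_pullback _ _ hE) (R.pullback (g₁ ≫ (liftFam Y₀ (affFam Y₀.left)).f U₁))
      (pbFam_mem_pullback _ E R hR)
    apply hsep.ext
    intro Z' g hg'
    have hg1 : R ((g ≫ g₁) ≫ (liftFam Y₀ (affFam Y₀.left)).f U₁) := by
      rw [Category.assoc]; exact hg'
    have hg2 : R ((g ≫ g₂) ≫ (liftFam Y₀ (affFam Y₀.left)).f U₂) := by
      rw [Category.assoc, ← hg]; exact hg'
    rw [← FunctorToTypes.map_comp_apply, ← op_comp, ← FunctorToTypes.map_comp_apply, ← op_comp,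
      hs U₁ Z' (g ≫ g₁) hg1, hs U₂ Z' (g ≫ g₂) hg2]
    exact famElem_congr' F x (by rw [Category.assoc, Category.assoc, hg]) _ _)
  refine ⟨t, ?_⟩
  intro Z f hf
  have hsep : Presieve.IsSeparatedFor F
      ((Sieve.generate (liftFam Y₀ (affFam Y₀.left)).presieve₀).pullback f : Presieve Z) :=
    hZ.isSeparatedFor_pullback Y₀ (affFam Y₀.left) (affFam_open _) (affFam_surj _)
      (Sieve.generate (liftFam Y₀ (affFam Y₀.left)).presieve₀)
      (fun i => ⟨_, 𝟙 _, _, (liftFam Y₀ (affFam Y₀.left)).presieve₀_f i, Category.id_comp _⟩) f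
  apply hsep.ext
  rintro Z' g ⟨W, h, _, ⟨U⟩, hgh⟩
  have hS' : R (h ≫ (liftFam Y₀ (affFam Y₀.left)).f U) := by
    rw [hgh]; exact R.downward_closed hf g
  rw [← FunctorToTypes.map_comp_apply, ← op_comp, ← hgh, op_comp,
    FunctorToTypes.map_comp_apply, ht U, hs U Z' h hS']
  have := hx (𝟙 Z') g hS' hf (by rw [Category.id_comp, hgh])
  simpa using this

end Groth.Agent.H37.VSheafOver
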