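import Groth.Agent.H37.VSheafOverF
import Groth.Agent.H37.VSheafOverD

set_option autoImplicit false
set_option linter.deprecated false
universe w w' v u v' u'
open CategoryTheory CategoryTheory.Limits Opposite AlgebraicGeometry

namespace Groth.Agent.H37.VSheafOver

variable {S : Scheme.{u}} {F : (Over S)ᵒᵖ ⥤ Type w}

theorem sigmaι_surj {ι : Type u} (f : ι → Scheme.{u}) (z : (∐ f : Scheme.{u})) :
    ∃ i, z ∈ Set.range (Sigma.ι f i) := by
  obtain ⟨⟨i, x⟩, rfl⟩ := (sigmaMk f).surjective z
  exact ⟨i, x, (sigmaMk_mk f i x).symm⟩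

/-- reduction of finite standard V coverings to one-member ones -/
theorem stdVOver_of_singleton (hZ : ZarOver F)
    (hV1 : ∀ {X Y : Over S} (f : X ⟶ Y),
      HTop.IsStandardV (PreZeroHypercover.singleton.{u} f.left) →
        Presieve.IsSheafFor F (Presieve.singleton f)) :
    StdVOver F := by
  intro T E hE
  have hfin : Finite E.I₀ := hE.finite_index
  have haff : ∀ i, IsAffine (E.X i).left := hE.isAffine_obj
  let σ : (∐ fun i => (E.X i).left) ⟶ T.left := Sigma.desc fun i => (E.f i).left
  let SigO : Over S := Over.mk (σ ≫ T.hom)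
  let σO : SigO ⟶ T := Over.homMk σ
  have hσ : HTop.IsStandardV (PreZeroHypercover.singleton.{u} σO.left) :=
    standardV_sigma (E.map (Over.forget S)) hE
  have hR' := hV1 σO hσ
  rw [Presieve.isSheafFor_iff_generate] at hR' ⊢
  have hιw : ∀ i, Sigma.ι (fun i => (E.X i).left) i ≫ σ = (E.f i).left := fun i =>
    Sigma.ι_desc _ _
  let ιO : ∀ i, E.X i ⟶ SigO := fun i => Over.homMk (Sigma.ι (fun i => (E.X i).left) i) (by
    show Sigma.ι (fun i => (E.X i).left) i ≫ σ ≫ T.hom = (E.X i).hom
    rw [← Category.assoc, hιw, Over.w])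
  have hι : ∀ i, ιO i ≫ σO = E.f i := fun i => by
    ext
    exact hιw i
  refine Presieve.isSheafFor_trans F (Sieve.generate (Presieve.singleton σO))
    (Sieve.generate E.presieve₀) hR' ?_ ?_
  · rintro Y f ⟨W, a, _, ⟨i⟩, rfl⟩
    have : (Sieve.generate (Presieve.singleton σO)).pullback (a ≫ E.f i) = ⊤ := by
      apply Sieve.pullback_eq_top_of_mem
      exact ⟨_, a ≫ ιO i, σO, Presieve.singleton.mk, by rw [Category.assoc, hι]⟩
    rw [this]
    exact Presieve.isSeparatedFor_top F
  · intro Y f hf
    obtain ⟨W, g, s, hs, rfl⟩ := hf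
    cases hs
    let 𝒱 : PreZeroHypercover.{u} SigO.left :=
      ⟨E.I₀, fun i => (E.X i).left, fun i => Sigma.ι (fun i => (E.X i).left) i⟩
    obtain ⟨h1, h2⟩ := openCover_pullback g.left 𝒱
      (fun i => (inferInstance : IsOpenImmersion (Sigma.ι (fun i => (E.X i).left) i)))
      (fun z => sigmaι_surj _ z)
    refine hZ Y (𝒱.pullback₁ g.left) h1 h2 _ ?_
    intro i
    show (Sieve.generate E.presieve₀) ((liftFam Y (𝒱.pullback₁ g.left)).f i ≫ g ≫ σO)
    have hcond : pullback.fst g.left (Sigma.ι (fun i => (E.X i).left) i) ≫ g.left =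
        pullback.snd g.left (Sigma.ι (fun i => (E.X i).left) i) ≫
          Sigma.ι (fun i => (E.X i).left) i := pullback.condition
    refine ⟨E.X i, Over.homMk (pullback.snd g.left (Sigma.ι (fun i => (E.X i).left) i)) ?_,
      E.f i, E.presieve₀_f i, ?_⟩
    · show pullback.snd g.left (Sigma.ι (fun i => (E.X i).left) i) ≫ (E.X i).hom =
        pullback.fst g.left (Sigma.ι (fun i => (E.X i).left) i) ≫ Y.hom
      have e1 : (ιO i).left ≫ SigO.hom = (E.X i).hom := Over.w (ιO i)
      have e2 : g.left ≫ SigO.hom = Y.hom := Over.w g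
      rw [← e1, ← e2, ← Category.assoc, ← Category.assoc, hcond]
      rfl
    · ext
      show pullback.snd g.left (Sigma.ι (fun i => (E.X i).left) i) ≫ (E.f i).left =
        pullback.fst g.left (Sigma.ι (fun i => (E.X i).left) i) ≫ g.left ≫ σ
      rw [← hιw i, ← Category.assoc, ← Category.assoc, hcond]

/-- **S7293**: a limit-preserving h-sheaf over `S` is a V-sheaf over `S`. -/
theorem isVSheafOver (h1 : HTop.IsHSheafOver S F) (h2 : LimPres F) : HTop.IsVSheafOver S F := by
  have hZ : ZarOver F := zarOver_of_isHSheafOver F h1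
  have hV : StdVOver F := stdVOver_of_singleton hZ
    (fun f hf => isSheafFor_singleton_of_standardV h1 h2 f hf)
  intro X R hR
  rw [← Presieve.presieve₀_preZeroHypercover R, ← PreZeroHypercover.presieve₀_map] at hR
  have hE := (HTop.presieve₀_mem_vPrecoverage_iff _).mp hR
  rw [Presieve.isSheafFor_iff_generate]
  have := isSheafFor_of_isVCover hZ hV R.preZeroHypercover hE (Sieve.generate R) (fun i => by
    have h : R (R.preZeroHypercover.f i) := by
      have := R.preZeroHypercover.presieve₀_f i
      rwa [Presieve.presieve₀_preZeroHypercover] at this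
    exact ⟨_, 𝟙 _, _, h, Category.id_comp _⟩)
  exact this

end Groth.Agent.H37.VSheafOver
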